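import Cfsg.Agent.GTwoOdd.TrZero
set_option linter.all false

/-!
# The torus of a four-group

`L.Frame s D1 D2 n1 n2`: `s` is an involution of `C(t)`, different from `t`, with matrices `D1`, `D2`;
`n1`, `n2` in `SL(2,F1)`, `SL(2,F2)` anticommute with `D1`, `D2`.
`L.tor D1 D2`: the torus `T` of the elements whose matrices commute with `D1` and `D2`.
-/

set_option autoImplicit false

namespace Cfsg.Agent.GTwoOdd

open Matrix

namespace LocalSL

variable {G : Type*} [Group G] {t : G} {F1 F2 : Type*} [Field F1] [Field F2]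

/-- the torus -/
def tor (L : LocalSL t F1 F2) (D1 : M2 F1) (D2 : M2 F2) : Subgroup G where
  carrier := {c | ∃ A B, L.Rep c A B ∧ A * D1 = D1 * A ∧ B * D2 = D2 * B}
  mul_mem' := by
    rintro a b ⟨A, B, h, h1, h2⟩ ⟨A', B', h', h1', h2'⟩
    refine ⟨A * A', B * B', h.mul h', ?_, ?_⟩
    · rw [mul_assoc, h1', ← mul_assoc, h1, mul_assoc]
    · rw [mul_assoc, h2', ← mul_assoc, h2, mul_assoc]
  one_mem' := ⟨1, 1, Rep.one L, by simp, by simp⟩
  inv_mem' := by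
    rintro a ⟨A, B, h, h1, h2⟩
    refine ⟨_, _, h.inv, ?_, ?_⟩
    · rw [adjugate_eq, sub_mul, mul_sub, h1]; simp
    · rw [adjugate_eq, sub_mul, mul_sub, h2]; simp

theorem mem_tor {L : LocalSL t F1 F2} {D1 : M2 F1} {D2 : M2 F2} {c : G} :
    c ∈ L.tor D1 D2 ↔ ∃ A B, L.Rep c A B ∧ A * D1 = D1 * A ∧ B * D2 = D2 * B := Iff.rfl

/-- the part of the torus in `L1` -/
def tor1 (L : LocalSL t F1 F2) (D1 : M2 F1) : Subgroup G where
  carrier := {c | ∃ x : SL2 F1, (x : M2 F1) * D1 = D1 * x ∧ c = L.e1 x}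
  mul_mem' := by
    rintro a b ⟨x, h1, rfl⟩ ⟨y, h2, rfl⟩
    refine ⟨x * y, ?_, by rw [map_mul]⟩
    rw [Matrix.SpecialLinearGroup.coe_mul, mul_assoc, h2, ← mul_assoc, h1, mul_assoc]
  one_mem' := ⟨1, by simp, by simp⟩
  inv_mem' := by
    rintro a ⟨x, h1, rfl⟩
    refine ⟨x⁻¹, ?_, by rw [map_inv]⟩
    rw [sl_inv_coe, adjugate_eq, sub_mul, mul_sub, h1]; simp

/-- the part of the torus in `L2` -/
def tor2 (L : LocalSL t F1 F2) (D2 : M2 F2) : Subgroup G where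
  carrier := {c | ∃ x : SL2 F2, (x : M2 F2) * D2 = D2 * x ∧ c = L.e2 x}
  mul_mem' := by
    rintro a b ⟨x, h1, rfl⟩ ⟨y, h2, rfl⟩
    refine ⟨x * y, ?_, by rw [map_mul]⟩
    rw [Matrix.SpecialLinearGroup.coe_mul, mul_assoc, h2, ← mul_assoc, h1, mul_assoc]
  one_mem' := ⟨1, by simp, by simp⟩
  inv_mem' := by
    rintro a ⟨x, h1, rfl⟩
    refine ⟨x⁻¹, ?_, by rw [map_inv]⟩
    rw [sl_inv_coe, adjugate_eq, sub_mul, mul_sub, h1]; simp

theorem mem_tor1 {L : LocalSL t F1 F2} {D1 : M2 F1} {c : G} :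
    c ∈ L.tor1 D1 ↔ ∃ x : SL2 F1, (x : M2 F1) * D1 = D1 * x ∧ c = L.e1 x := Iff.rfl

theorem mem_tor2 {L : LocalSL t F1 F2} {D2 : M2 F2} {c : G} :
    c ∈ L.tor2 D2 ↔ ∃ x : SL2 F2, (x : M2 F2) * D2 = D2 * x ∧ c = L.e2 x := Iff.rfl

/-- an involution `s` of `C(t)`, different from `t`, its matrices, and elements anticommuting with them -/
structure Frame (L : LocalSL t F1 F2) (s : G) (D1 : M2 F1) (D2 : M2 F2) (n1 : SL2 F1) (n2 : SL2 F2) : Prop where
  hyp : L.Hyp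
  rep : L.Rep s D1 D2
  tr1 : D1.trace = 0
  tr2 : D2.trace = 0
  anti1 : (n1 : M2 F1) * D1 = -(D1 * n1)
  anti2 : (n2 : M2 F2) * D2 = -(D2 * n2)

theorem Hyp.exists_frame [Finite F1] [Finite F2] {L : LocalSL t F1 F2} (H : L.Hyp) {s : G} (hs : s * t = t * s)
    (h : s * s = 1) (h1 : s ≠ 1) (h2 : s ≠ t) : ∃ D1 D2 n1 n2, L.Frame s D1 D2 n1 n2 := by
  obtain ⟨A, B, hr, hA, hB⟩ := H.rep_of_invol hs h h1 h2
  obtain ⟨n1, hn1⟩ := exists_anti H.two_ne1 hr.det1 hA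
  obtain ⟨n2, hn2⟩ := exists_anti H.two_ne2 hr.det2 hB
  exact ⟨A, B, n1, n2, H, hr, hA, hB, hn1, hn2⟩

theorem Hyp.rep_of_mul [Finite F1] [Finite F2] {L : LocalSL t F1 F2} (H : L.Hyp) {c : G} (hc : c * t = t * c)
    (h : c * c = 1) : ∃ A B, L.Rep c A B := by
  by_cases h1 : c = 1
  · rw [h1]; exact ⟨1, 1, Rep.one L⟩
  by_cases h2 : c = t
  · rw [h2]; exact ⟨1, 1, Rep.rep_t L⟩
  · obtain ⟨A, B, hr, hA, hB⟩ := H.rep_of_invol hc h h1 h2
    exact ⟨A, B, hr⟩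

namespace Frame

variable [Finite F1] [Finite F2] {L : LocalSL t F1 F2} {s : G} {D1 : M2 F1} {D2 : M2 F2} {n1 : SL2 F1} {n2 : SL2 F2}
  (F : L.Frame s D1 D2 n1 n2)
include F

theorem two1 : (2 : F1) ≠ 0 := F.hyp.two_ne1
theorem two2 : (2 : F2) ≠ 0 := F.hyp.two_ne2
theorem det1 : D1.det ≠ 0 := F.rep.det1
theorem det2 : D2.det ≠ 0 := F.rep.det2
theorem ss : s * s = 1 := F.hyp.invol F.rep F.tr1 F.tr2
omit F in
theorem tt (L : LocalSL t F1 F2) : t * t = 1 := L.t_sq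
theorem st : s * t = t * s := F.rep.comm
theorem t_ne : t ≠ 1 := F.hyp.t_ne_one

theorem s_ne_one : s ≠ 1 := by
  intro h
  have h1 := F.rep
  rw [h] at h1
  obtain ⟨⟨a, ha, ha'⟩, -⟩ := (Rep.one L).prop h1
  exact not_scalar F.two1 F.det1 F.tr1 a ha'

theorem s_ne_t : s ≠ t := by
  intro h
  have h1 := F.rep
  rw [h] at h1
  obtain ⟨⟨a, ha, ha'⟩, -⟩ := (Rep.rep_t L).prop h1
  exact not_scalar F.two1 F.det1 F.tr1 a ha'

theorem st_ne_one : s * t ≠ 1 := by
  intro h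
  apply F.s_ne_t
  rw [mul_eq_one_iff_eq_inv] at h
  rw [h, inv_eq_iff_mul_eq_one]
  exact L.t_sq

theorem n1_trace : (n1 : M2 F1).trace = 0 := trace_of_anti F.two1 F.det1 F.anti1

theorem n2_trace : (n2 : M2 F2).trace = 0 := trace_of_anti F.two2 F.det2 F.anti2

theorem n1_sq : n1 * n1 = -1 := by
  apply Subtype.ext
  change (n1 : M2 F1) * n1 = -1
  rw [m2_sq_of_trace F.n1_trace, sl_coe_det]
  simp

theorem n2_sq : n2 * n2 = -1 := by
  apply Subtype.ext
  change (n2 : M2 F2) * n2 = -1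
  rw [m2_sq_of_trace F.n2_trace, sl_coe_det]
  simp

theorem w_rep : L.Rep (L.e1 n1 * L.e2 n2) n1 n2 := Rep.e12 L n1 n2

theorem ww : (L.e1 n1 * L.e2 n2) * (L.e1 n1 * L.e2 n2) = 1 := F.hyp.invol F.w_rep F.n1_trace F.n2_trace

theorem t_mem : t ∈ L.tor D1 D2 := ⟨1, 1, Rep.rep_t L, by simp, by simp⟩

theorem s_mem : s ∈ L.tor D1 D2 := ⟨D1, D2, F.rep, rfl, rfl⟩

theorem tor_comm {c d : G} (hc : c ∈ L.tor D1 D2) (hd : d ∈ L.tor D1 D2) : c * d = d * c := by
  obtain ⟨A, B, h, h1, h2⟩ := hc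
  obtain ⟨A', B', h', h1', h2'⟩ := hd
  exact F.hyp.commute_of h h' (cent_comm F.two1 F.det1 F.tr1 h1 h1') (cent_comm F.two2 F.det2 F.tr2 h2 h2')

omit F in
theorem tor1_le (L : LocalSL t F1 F2) (D1 : M2 F1) (D2 : M2 F2) : L.tor1 D1 ≤ L.tor D1 D2 := by
  rintro c ⟨x, hx, rfl⟩
  exact ⟨x, 1, Rep.e1 L x, hx, by simp⟩

omit F in
theorem tor2_le (L : LocalSL t F1 F2) (D1 : M2 F1) (D2 : M2 F2) : L.tor2 D2 ≤ L.tor D1 D2 := by
  rintro c ⟨x, hx, rfl⟩
  exact ⟨1, x, Rep.e2 L x, by simp, hx⟩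

/-- elements of `tor1` given by `A²/det A` -/
theorem w_inv {c : G} (hc : c ∈ L.tor D1 D2) : L.e1 n1 * L.e2 n2 * c = c⁻¹ * (L.e1 n1 * L.e2 n2) := by
  obtain ⟨A, B, h, h1, h2⟩ := hc
  obtain ⟨x, hx⟩ := exists_sq h.inv.det1
  obtain ⟨y, hy⟩ := exists_sq h.inv.det2
  have e1 := F.hyp.sq h.inv hx hy
  have k1 : (x : M2 F1) * (A * n1) = n1 * A := by
    rw [anti_mul F.two1 F.det1 F.tr1 h1 F.anti1, ← mul_assoc]
    congr 1
    apply smul_cancel h.inv.det1
    rw [← Matrix.smul_mul, hx, mul_assoc, Matrix.adjugate_mul]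
    rw [Matrix.det_adjugate]; simp
  have k2 : (y : M2 F2) * (B * n2) = n2 * B := by
    rw [anti_mul F.two2 F.det2 F.tr2 h2 F.anti2, ← mul_assoc]
    congr 1
    apply smul_cancel h.inv.det2
    rw [← Matrix.smul_mul, hy, mul_assoc, Matrix.adjugate_mul]
    rw [Matrix.det_adjugate]; simp
  have e2 := F.hyp.commutator F.w_rep h k1 k2
  rw [e2, ← e1]
  group

theorem w_not_mem : L.e1 n1 * L.e2 n2 ∉ L.tor D1 D2 := by
  rintro ⟨A, B, h, h1, h2⟩
  obtain ⟨⟨a, ha, rfl⟩, -⟩ := F.w_rep.prop h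
  rw [Matrix.smul_mul, Matrix.mul_smul] at h1
  have h3 := smul_cancel ha h1
  rw [F.anti1] at h3
  have h4 : (2 : F1) • (D1 * (n1 : M2 F1)) = 0 := by
    rw [two_smul]
    nth_rw 1 [← h3]
    simp
  have h5 : D1 * (n1 : M2 F1) = 0 := by
    have := smul_cancel F.two1 (h4.trans (smul_zero _).symm)
    exact this
  have h6 : (D1 * (n1 : M2 F1)).det = D1.det := by rw [Matrix.det_mul, sl_coe_det, mul_one]
  rw [h5] at h6
  apply F.det1
  rw [← h6]
  simp

theorem mul_w_sq {c : G} (hc : c ∈ L.tor D1 D2) :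
    c * (L.e1 n1 * L.e2 n2) * (c * (L.e1 n1 * L.e2 n2)) = 1 := by
  calc c * (L.e1 n1 * L.e2 n2) * (c * (L.e1 n1 * L.e2 n2))
      = c * (L.e1 n1 * L.e2 n2 * c) * (L.e1 n1 * L.e2 n2) := by group
    _ = c * (c⁻¹ * (L.e1 n1 * L.e2 n2)) * (L.e1 n1 * L.e2 n2) := by rw [F.w_inv hc]
    _ = (L.e1 n1 * L.e2 n2) * (L.e1 n1 * L.e2 n2) := by group
    _ = 1 := F.ww

theorem w_s : L.e1 n1 * L.e2 n2 * s = s * (L.e1 n1 * L.e2 n2) := by
  rw [F.w_inv F.s_mem, inv_eq_of_mul_eq_one_left F.ss]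

theorem w_t : L.e1 n1 * L.e2 n2 * t = t * (L.e1 n1 * L.e2 n2) := F.w_rep.comm

theorem tor_s {c : G} (hc : c ∈ L.tor D1 D2) : c * s = s * c := F.tor_comm hc F.s_mem

theorem tor_t {c : G} (hc : c ∈ L.tor D1 D2) : c * t = t * c := F.tor_comm hc F.t_mem

/-- elements of `C0` which centralise `s` -/
theorem of_comm_s {c : G} {A : M2 F1} {B : M2 F2} (h : L.Rep c A B) (hs : c * s = s * c) :
    (A * D1 = D1 * A ∧ B * D2 = D2 * B) ∨ (A * D1 = -(D1 * A) ∧ B * D2 = -(D2 * B)) := by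
  have hd1 : (A * D1).det = (D1 * A).det := by rw [Matrix.det_mul, Matrix.det_mul, mul_comm]
  have hd2 : (B * D2).det = (D2 * B).det := by rw [Matrix.det_mul, Matrix.det_mul, mul_comm]
  have hn1 : (D1 * A).det ≠ 0 := by rw [Matrix.det_mul]; exact mul_ne_zero F.det1 h.det1
  have hn2 : (D2 * B).det ≠ 0 := by rw [Matrix.det_mul]; exact mul_ne_zero F.det2 h.det2
  obtain ⟨x, hx⟩ := exists_sl_mul_eq hd1 hn1
  obtain ⟨y, hy⟩ := exists_sl_mul_eq hd2 hn2
  have e := F.hyp.commutator h F.rep hx hy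
  rw [hs] at e
  have e' : L.e1 x * L.e2 y = 1 := by
    have : L.e1 x * L.e2 y * (s * c) = 1 * (s * c) := by rw [one_mul, ← mul_assoc]; exact e.symm
    exact mul_right_cancel this
  rcases e12_eq_one e' with ⟨h1, h2⟩ | ⟨h1, h2⟩
  · left
    rw [h1] at hx
    rw [h2] at hy
    exact ⟨by simpa using hx.symm, by simpa using hy.symm⟩
  · right
    rw [h1] at hx
    rw [h2] at hy
    exact ⟨by simpa using hx.symm, by simpa using hy.symm⟩

/-- elements of `C0` which centralise `s` are in `T ⟨w⟩` -/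
theorem mem_or_of_comm_s {c : G} {A : M2 F1} {B : M2 F2} (h : L.Rep c A B) (hs : c * s = s * c) :
    c ∈ L.tor D1 D2 ∨ c * (L.e1 n1 * L.e2 n2) ∈ L.tor D1 D2 := by
  rcases F.of_comm_s h hs with ⟨h1, h2⟩ | ⟨h1, h2⟩
  · left
    exact ⟨A, B, h, h1, h2⟩
  · right
    exact ⟨_, _, h.mul F.w_rep, comm_of_anti_anti h1 F.anti1, comm_of_anti_anti h2 F.anti2⟩

/-- the involutions of `C_G(t, s)` are in `T ⟨w⟩` -/
theorem invol_mem {c : G} (ht : c * t = t * c) (hs : c * s = s * c) (hc : c * c = 1) :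
    c ∈ L.tor D1 D2 ∨ c * (L.e1 n1 * L.e2 n2) ∈ L.tor D1 D2 := by
  obtain ⟨A, B, h⟩ := F.hyp.rep_of_mul ht hc
  exact F.mem_or_of_comm_s h hs

/-- the involutions of `T` -/
theorem tor_invol {c : G} (hc : c ∈ L.tor D1 D2) (h : c * c = 1) : c = 1 ∨ c = t ∨ c = s ∨ c = s * t := by
  by_cases h1 : c = 1
  · exact Or.inl h1
  by_cases h2 : c = t
  · exact Or.inr (Or.inl h2)
  right; right
  obtain ⟨A, B, hr, hA, hB⟩ := hc
  obtain ⟨A', B', hr', hA', hB'⟩ := F.hyp.rep_of_invol hr.comm h h1 h2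
  obtain ⟨⟨u, hu, rfl⟩, ⟨v, hv, rfl⟩⟩ := hr.prop hr'
  rw [Matrix.trace_smul, smul_eq_mul] at hA' hB'
  have htA : A.trace = 0 := by
    rcases mul_eq_zero.1 hA' with h | h
    · exact absurd h hu
    · exact h
  have htB : B.trace = 0 := by
    rcases mul_eq_zero.1 hB' with h | h
    · exact absurd h hv
    · exact h
  obtain ⟨a, b, hab⟩ := cent_form F.two1 F.det1 F.tr1 hA
  obtain ⟨a', b', hab'⟩ := cent_form F.two2 F.det2 F.tr2 hB
  have ha : a = 0 := by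
    rw [hab, cent_trace F.tr1] at htA
    rcases mul_eq_zero.1 htA with h | h
    · exact absurd h F.two1
    · exact h
  have ha' : a' = 0 := by
    rw [hab', cent_trace F.tr2] at htB
    rcases mul_eq_zero.1 htB with h | h
    · exact absurd h F.two2
    · exact h
  exact F.rep.unique hr (a := b) (b := b') (by rw [hab, ha]; simp) (by rw [hab', ha']; simp)

end Frame

end LocalSL

/-- the set `{1, t, s, st}` -/
def InV {G : Type*} [Group G] (t s x : G) : Prop := x = 1 ∨ x = t ∨ x = s ∨ x = s * t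

/-- the torus as a set depending only on the four-group -/
def CanT {G : Type*} [Group G] (t s x : G) : Prop :=
  InV t s x ∨ (x * x ≠ 1 ∧ ∃ c d : G, c * t = t * c ∧ c * s = s * c ∧ c * c = 1 ∧ d * t = t * d ∧ d * s = s * d ∧
    d * d = 1 ∧ x = c * d)

namespace LocalSL

namespace Frame

variable {G : Type*} [Group G] {t : G} {F1 F2 : Type*} [Field F1] [Field F2]
variable [Finite F1] [Finite F2] {L : LocalSL t F1 F2} {s : G} {D1 : M2 F1} {D2 : M2 F2} {n1 : SL2 F1} {n2 : SL2 F2}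
  (F : L.Frame s D1 D2 n1 n2)
include F

/-- `T` depends only on the four-group -/
theorem mem_iff_can {x : G} : x ∈ L.tor D1 D2 ↔ CanT t s x := by
  constructor
  · intro hx
    by_cases h : x * x = 1
    · exact Or.inl (F.tor_invol hx h)
    · right
      refine ⟨h, x * (L.e1 n1 * L.e2 n2), L.e1 n1 * L.e2 n2, ?_, ?_, F.mul_w_sq hx, F.w_t, F.w_s, F.ww, ?_⟩
      · rw [mul_assoc, F.w_t, ← mul_assoc, F.tor_t hx, mul_assoc]
      · rw [mul_assoc, F.w_s, ← mul_assoc, F.tor_s hx, mul_assoc]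
      · rw [mul_assoc, F.ww, mul_one]
  · rintro (h | ⟨h, c, d, hct, hcs, hcc, hdt, hds, hdd, rfl⟩)
    · rcases h with rfl | rfl | rfl | rfl
      · exact one_mem _
      · exact F.t_mem
      · exact F.s_mem
      · exact mul_mem F.s_mem F.t_mem
    · -- `c`, `d` in `T ⟨w⟩`
      have key : ∀ {c d : G}, (c ∈ L.tor D1 D2 ∨ c * (L.e1 n1 * L.e2 n2) ∈ L.tor D1 D2) →
          (d ∈ L.tor D1 D2 ∨ d * (L.e1 n1 * L.e2 n2) ∈ L.tor D1 D2) →
          (c * d ∈ L.tor D1 D2 ∨ (c * d) * (L.e1 n1 * L.e2 n2) ∈ L.tor D1 D2) := by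
        intro c d hc hd
        have hw : ∀ {y : G}, y ∈ L.tor D1 D2 →
            (L.e1 n1 * L.e2 n2)⁻¹ * y * (L.e1 n1 * L.e2 n2) ∈ L.tor D1 D2 := by
          intro y hy
          have h1 := F.w_inv (inv_mem hy)
          have : (L.e1 n1 * L.e2 n2)⁻¹ * y * (L.e1 n1 * L.e2 n2) = y⁻¹ := by
            rw [inv_inv] at h1
            calc (L.e1 n1 * L.e2 n2)⁻¹ * y * (L.e1 n1 * L.e2 n2)
                = (L.e1 n1 * L.e2 n2)⁻¹ * (y * (L.e1 n1 * L.e2 n2)) := by group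
              _ = y⁻¹ := by rw [← h1]; group
          rw [this]
          exact inv_mem hy
        rcases hc with hc | hc <;> rcases hd with hd | hd
        · left; exact mul_mem hc hd
        · right; rw [mul_assoc]; exact mul_mem hc hd
        · right
          have : c * d * (L.e1 n1 * L.e2 n2) =
              (c * (L.e1 n1 * L.e2 n2)) * ((L.e1 n1 * L.e2 n2)⁻¹ * d * (L.e1 n1 * L.e2 n2)) := by group
          rw [this]
          exact mul_mem hc (hw hd)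
        · left
          have : c * d = (c * (L.e1 n1 * L.e2 n2)) *
              ((L.e1 n1 * L.e2 n2)⁻¹ * (d * (L.e1 n1 * L.e2 n2)) * (L.e1 n1 * L.e2 n2)) *
              ((L.e1 n1 * L.e2 n2) * (L.e1 n1 * L.e2 n2))⁻¹ := by group
          rw [this, F.ww, inv_one, mul_one]
          exact mul_mem hc (hw hd)
      rcases key (F.invol_mem hct hcs hcc) (F.invol_mem hdt hds hdd) with h3 | h3
      · exact h3
      · exfalso
        apply h
        have h4 := F.mul_w_sq h3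
        have e : c * d * (L.e1 n1 * L.e2 n2) * (L.e1 n1 * L.e2 n2) = c * d := by
          rw [mul_assoc, F.ww, mul_one]
        rw [e] at h4
        exact h4

end Frame

end LocalSL

section can

variable {G : Type*} [Group G]

theorem InV.conj {t s x : G} (g : G) (h : InV t s x) : InV (g * t * g⁻¹) (g * s * g⁻¹) (g * x * g⁻¹) := by
  rcases h with rfl | rfl | rfl | rfl
  · left; group
  · right; left; rfl
  · right; right; left; rfl
  · right; right; right; group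

theorem CanT.conj {t s x : G} (g : G) (h : CanT t s x) : CanT (g * t * g⁻¹) (g * s * g⁻¹) (g * x * g⁻¹) := by
  rcases h with h | ⟨h, c, d, h1, h2, h3, h4, h5, h6, rfl⟩
  · exact Or.inl (h.conj g)
  · right
    have cj : ∀ {a b : G}, a * b = b * a → g * a * g⁻¹ * (g * b * g⁻¹) = g * b * g⁻¹ * (g * a * g⁻¹) := by
      intro a b hab
      calc g * a * g⁻¹ * (g * b * g⁻¹) = g * (a * b) * g⁻¹ := by group
        _ = g * (b * a) * g⁻¹ := by rw [hab]
        _ = _ := by group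
    have cj1 : ∀ {a : G}, a * a = 1 → g * a * g⁻¹ * (g * a * g⁻¹) = 1 := by
      intro a ha
      calc g * a * g⁻¹ * (g * a * g⁻¹) = g * (a * a) * g⁻¹ := by group
        _ = 1 := by rw [ha]; group
    refine ⟨?_, g * c * g⁻¹, g * d * g⁻¹, cj h1, cj h2, cj1 h3, cj h4, cj h5, cj1 h6, by group⟩
    intro h7
    apply h
    calc c * d * (c * d) = g⁻¹ * (g * (c * d) * g⁻¹ * (g * (c * d) * g⁻¹)) * g := by group
      _ = 1 := by rw [h7]; group

theorem InV.swap {t s x : G} (hst : s * t = t * s) (h : InV t s x) : InV s t x := by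
  rcases h with rfl | rfl | rfl | rfl
  · left; rfl
  · right; right; left; rfl
  · right; left; rfl
  · right; right; right; exact hst

theorem CanT.swap {t s x : G} (hst : s * t = t * s) (h : CanT t s x) : CanT s t x := by
  rcases h with h | ⟨h, c, d, h1, h2, h3, h4, h5, h6, rfl⟩
  · exact Or.inl (h.swap hst)
  · exact Or.inr ⟨h, c, d, h2, h1, h3, h5, h4, h6, rfl⟩

/-- replace `s` by `s t` -/
theorem CanT.right {t s x : G} (ht : t * t = 1) (h : CanT t s x) : CanT t (s * t) x := by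
  rcases h with h | ⟨h, c, d, h1, h2, h3, h4, h5, h6, rfl⟩
  · left
    rcases h with rfl | rfl | rfl | rfl
    · left; rfl
    · right; left; rfl
    · right; right; right; rw [mul_assoc, ht, mul_one]
    · right; right; left; rfl
  · refine Or.inr ⟨h, c, d, h1, ?_, h3, h4, ?_, h6, rfl⟩
    · rw [← mul_assoc, h2, mul_assoc, h1, mul_assoc]
    · rw [← mul_assoc, h5, mul_assoc, h4, mul_assoc]

theorem CanT.right_iff {t s x : G} (ht : t * t = 1) : CanT t (s * t) x ↔ CanT t s x := by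
  constructor
  · intro h
    have := h.right ht
    rwa [mul_assoc, ht, mul_one] at this
  · exact fun h => h.right ht

theorem CanT.swap_iff {t s x : G} (hst : s * t = t * s) : CanT s t x ↔ CanT t s x :=
  ⟨fun h => h.swap hst.symm, fun h => h.swap hst⟩

end can

end Cfsg.Agent.GTwoOdd
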