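import Cfsg.Agent.GTwoOdd.Setup
set_option linter.all false

-- part: GTwoOdd/Calc
section
/-!
# Calculus in `C0`: existence of elements, squares and commutators
-/

set_option autoImplicit false

namespace Cfsg.Agent.GTwoOdd

open Matrix

section squares

variable {F : Type*} [Field F]

theorem mul_isSquare_of_not [Finite F] {a b : F} (ha : ¬ IsSquare a) (hb : ¬ IsSquare b) : IsSquare (a * b) := by
  classical
  have := Fintype.ofFinite F
  have ha0 : a ≠ 0 := by rintro rfl; exact ha (IsSquare.zero)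
  have hb0 : b ≠ 0 := by rintro rfl; exact hb (IsSquare.zero)
  have h1 : quadraticChar F a = -1 := quadraticChar_neg_one_iff_not_isSquare.2 ha
  have h2 : quadraticChar F b = -1 := quadraticChar_neg_one_iff_not_isSquare.2 hb
  rw [← quadraticChar_one_iff_isSquare (mul_ne_zero ha0 hb0), map_mul, h1, h2]
  norm_num

theorem not_isSquare_mul {a b : F} (ha : IsSquare a) (ha0 : a ≠ 0) (hb : ¬ IsSquare b) : ¬ IsSquare (a * b) := by
  intro h
  apply hb
  have : b = a⁻¹ * (a * b) := by field_simp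
  rw [this]
  exact (IsSquare.inv ha).mul h

theorem isSquare_mul_iff [Finite F] {a b : F} (ha0 : a ≠ 0) (hb0 : b ≠ 0) :
    IsSquare (a * b) ↔ (IsSquare a ↔ IsSquare b) := by
  constructor
  · intro h
    constructor
    · intro ha
      by_contra hb
      exact not_isSquare_mul ha ha0 hb h
    · intro hb
      by_contra ha
      rw [mul_comm] at h
      exact not_isSquare_mul hb hb0 ha h
  · intro h
    by_cases ha : IsSquare a
    · exact ha.mul (h.1 ha)
    · exact mul_isSquare_of_not ha (fun hb => ha (h.2 hb))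

/-- a matrix whose determinant is in the class of `det D` is `a x D`, `x` in `SL(2,F)` -/
theorem exists_sl_mul {A D : M2 F} (hA : A.det ≠ 0) (hD : D.det ≠ 0) (h : IsSquare (A.det * D.det)) :
    ∃ (a : F) (x : SL2 F), a ≠ 0 ∧ A = a • ((x : M2 F) * D) := by
  obtain ⟨a, ha⟩ := h
  have ha0 : a ≠ 0 := by
    rintro rfl
    simp at ha
    tauto
  have h1 : (A * D.adjugate).det = a * a := by
    rw [Matrix.det_mul, Matrix.det_adjugate, ← ha]
    simp
  obtain ⟨x, hx⟩ := exists_sl_of_sq ha0 h1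
  refine ⟨a * (D.det)⁻¹, x, mul_ne_zero ha0 (inv_ne_zero hD), ?_⟩
  have h2 : A * D.adjugate * D = (a • (x : M2 F)) * D := by rw [hx]
  rw [mul_assoc, Matrix.adjugate_mul] at h2
  have h3 : D.det • A = a • ((x : M2 F) * D) := by simpa using h2
  have h4 := congrArg (fun Z => (D.det)⁻¹ • Z) h3
  simp only [smul_smul, inv_mul_cancel₀ hD, one_smul] at h4
  rw [h4, mul_comm]

/-- `A²` scalar and `A` not scalar: trace `0` -/
theorem trace_of_sq_scalar {A : M2 F} {a : F} (h : A * A = a • (1 : M2 F)) (hn : ∀ b : F, A ≠ b • (1 : M2 F)) :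
    A.trace = 0 := by
  rw [m2_sq] at h
  by_contra h0
  apply hn ((A.trace)⁻¹ * (a + A.det))
  have h1 : A.trace • A = (a + A.det) • (1 : M2 F) := by
    rw [add_smul, ← h]
    simp
  have h4 := congrArg (fun Z => (A.trace)⁻¹ • Z) h1
  simpa only [smul_smul, inv_mul_cancel₀ h0, one_smul] using h4

theorem isSquare_det_scalar (a : F) : IsSquare ((a • (1 : M2 F)).det) := by
  rw [det_smul2]
  simp

end squares

namespace LocalSL

variable {G : Type*} [Group G] {t : G} {F1 F2 : Type*} [Field F1] [Field F2] {L : LocalSL t F1 F2}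

theorem Rep.comm_t {c : G} {A : M2 F1} {B : M2 F2} (h : L.Rep c A B) : c * t = t * c := h.comm

/-- elements of `C0` whose determinants are squares are in `L1 L2` -/
theorem Rep.inner {c : G} {A : M2 F1} {B : M2 F2} (h : L.Rep c A B) (hA : IsSquare A.det) (hB : IsSquare B.det) :
    ∃ (x : SL2 F1) (y : SL2 F2) (a : F1) (b : F2), a ≠ 0 ∧ b ≠ 0 ∧ A = a • (x : M2 F1) ∧ B = b • (y : M2 F2) ∧
      c = L.e1 x * L.e2 y := by
  obtain ⟨a, ha⟩ := hA
  obtain ⟨b, hb⟩ := hB
  have ha0 : a ≠ 0 := by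
    rintro rfl
    exact h.det1 (by rw [ha]; simp)
  have hb0 : b ≠ 0 := by
    rintro rfl
    exact h.det2 (by rw [hb]; simp)
  obtain ⟨x, hx⟩ := exists_sl_of_sq ha0 ha
  obtain ⟨y, hy⟩ := exists_sl_of_sq hb0 hb
  rcases (Rep.e12 L x y).unique h hx hy with h1 | h1
  · exact ⟨x, y, a, b, ha0, hb0, hx, hy, h1⟩
  · refine ⟨-x, y, -a, b, neg_ne_zero.2 ha0, hb0, ?_, hy, ?_⟩
    · rw [hx]
      simp
    · have e : L.e1 (-x) = L.e1 x * t := by
        conv_rhs => rw [show L.e1 x * t = L.e1 x * L.e1 (-1) by rw [L.neg1]]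
        rw [← map_mul]
        simp
      rw [e, h1, mul_assoc, e2_t, mul_assoc]

theorem Rep.e1_neg (L : LocalSL t F1 F2) (x : SL2 F1) : L.e1 (-x) = L.e1 x * t := by
  have e : L.e1 x * t = L.e1 x * L.e1 (-1) := by rw [L.neg1]
  rw [e, ← map_mul]
  simp

theorem Rep.e2_neg (L : LocalSL t F1 F2) (x : SL2 F2) : L.e2 (-x) = L.e2 x * t := by
  have e : L.e2 x * t = L.e2 x * L.e2 (-1) := by rw [L.neg2]
  rw [e, ← map_mul]
  simp

theorem Rep.neg_neg (L : LocalSL t F1 F2) (x : SL2 F1) (y : SL2 F2) : L.e1 (-x) * L.e2 (-y) = L.e1 x * L.e2 y := by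
  rw [Rep.e1_neg, Rep.e2_neg, mul_assoc, ← mul_assoc t, ← e2_t y, mul_assoc (L.e2 y), L.t_sq, mul_one]

section hyp

variable (H : L.Hyp)
include H

/-- the outer involution -/
theorem Hyp.outer' : ∃ g D1 D2, L.Rep g D1 D2 ∧ ¬ IsSquare D1.det ∧ ¬ IsSquare D2.det ∧ g * g = 1 ∧
    D1.trace = 0 ∧ D2.trace = 0 := by
  obtain ⟨g, D1, D2, h1, h2, h3, h4⟩ := H.outer
  have h5 := h1.mul h1
  rw [h4] at h5
  obtain ⟨⟨a, ha, ha'⟩, ⟨b, hb, hb'⟩⟩ := (Rep.one L).prop h5
  refine ⟨g, D1, D2, h1, h2, h3, h4, trace_of_sq_scalar ha' ?_, trace_of_sq_scalar hb' ?_⟩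
  · rintro c rfl
    exact h2 (isSquare_det_scalar c)
  · rintro c rfl
    exact h3 (isSquare_det_scalar c)

/-- all pairs of matrices with determinants of the same quadratic character occur -/
theorem Hyp.exists_rep [Finite F1] [Finite F2] {A : M2 F1} {B : M2 F2} (hA : A.det ≠ 0) (hB : B.det ≠ 0)
    (h : IsSquare A.det ↔ IsSquare B.det) : ∃ c, L.Rep c A B := by
  by_cases hs : IsSquare A.det
  · obtain ⟨a, ha⟩ := hs
    obtain ⟨b, hb⟩ := h.1 ⟨a, ha⟩
    have ha0 : a ≠ 0 := by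
      rintro rfl
      exact hA (by rw [ha]; simp)
    have hb0 : b ≠ 0 := by
      rintro rfl
      exact hB (by rw [hb]; simp)
    obtain ⟨x, hx⟩ := exists_sl_of_sq ha0 ha
    obtain ⟨y, hy⟩ := exists_sl_of_sq hb0 hb
    refine ⟨L.e1 x * L.e2 y, ?_⟩
    rw [hx, hy]
    exact (Rep.e12 L x y).smul ha0 hb0
  · obtain ⟨g, D1, D2, h1, h2, h3, h4⟩ := H.outer
    have hs' : ¬ IsSquare B.det := fun k => hs (h.2 k)
    obtain ⟨a, x, ha0, hx⟩ := exists_sl_mul hA h1.det1 (mul_isSquare_of_not hs h2)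
    obtain ⟨b, y, hb0, hy⟩ := exists_sl_mul hB h1.det2 (mul_isSquare_of_not hs' h3)
    refine ⟨L.e1 x * L.e2 y * g, ?_⟩
    rw [hx, hy]
    exact ((Rep.e12 L x y).mul h1).smul ha0 hb0

/-- the elements of `C0` whose determinants are not squares -/
theorem Hyp.outer_form [Finite F1] [Finite F2] {g : G} {D1 : M2 F1} {D2 : M2 F2} (h1 : L.Rep g D1 D2)
    (h2 : ¬ IsSquare D1.det) {c : G} {A : M2 F1} {B : M2 F2}
    (h : L.Rep c A B) (hA : ¬ IsSquare A.det) :
    ∃ (x : SL2 F1) (y : SL2 F2) (a : F1) (b : F2), a ≠ 0 ∧ b ≠ 0 ∧ A = a • ((x : M2 F1) * D1) ∧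
      B = b • ((y : M2 F2) * D2) ∧ c = L.e1 x * L.e2 y * g := by
  have h3 : ¬ IsSquare D2.det := fun k => h2 ((H.square_iff _ _ _ h1).2 k)
  have hB : ¬ IsSquare B.det := fun k => hA ((H.square_iff _ _ _ h).2 k)
  obtain ⟨a, x, ha0, hx⟩ := exists_sl_mul h.det1 h1.det1 (mul_isSquare_of_not hA h2)
  obtain ⟨b, y, hb0, hy⟩ := exists_sl_mul h.det2 h1.det2 (mul_isSquare_of_not hB h3)
  rcases ((Rep.e12 L x y).mul h1).unique h hx hy with h5 | h5
  · exact ⟨x, y, a, b, ha0, hb0, hx, hy, h5⟩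
  · refine ⟨-x, y, -a, b, neg_ne_zero.2 ha0, hb0, ?_, hy, ?_⟩
    · rw [hx]
      simp
    · rw [h5, Rep.e1_neg]
      calc L.e1 x * L.e2 y * g * t = L.e1 x * (L.e2 y * (g * t)) := by group
        _ = L.e1 x * ((L.e2 y * t) * g) := by rw [h1.comm, mul_assoc (L.e2 y)]
        _ = _ := by rw [e2_t]; group

/-- `c² = e1 (A²/det A) e2 (B²/det B)` -/
theorem Hyp.sq [Finite F1] [Finite F2] {c : G} {A : M2 F1} {B : M2 F2} (h : L.Rep c A B) {x : SL2 F1} {y : SL2 F2}
    (hx : A.det • (x : M2 F1) = A * A) (hy : B.det • (y : M2 F2) = B * B) : c * c = L.e1 x * L.e2 y := by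
  by_cases hs : IsSquare A.det
  · have hs' := (H.square_iff _ _ _ h).1 hs
    obtain ⟨x0, y0, a, b, ha, hb, hA, hB, hc⟩ := h.inner hs hs'
    have e1 : x = x0 * x0 := by
      apply Subtype.ext
      change (x : M2 F1) = (x0 : M2 F1) * x0
      rw [hA, det_smul2, sl_coe_det, Matrix.mul_smul, Matrix.smul_mul, smul_smul] at hx
      rw [mul_one] at hx
      exact smul_cancel (mul_ne_zero ha ha) hx
    have e2 : y = y0 * y0 := by
      apply Subtype.ext
      change (y : M2 F2) = (y0 : M2 F2) * y0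
      rw [hB, det_smul2, sl_coe_det, Matrix.mul_smul, Matrix.smul_mul, smul_smul] at hy
      rw [mul_one] at hy
      exact smul_cancel (mul_ne_zero hb hb) hy
    rw [hc, e1, e2, map_mul, map_mul]
    calc L.e1 x0 * L.e2 y0 * (L.e1 x0 * L.e2 y0) = L.e1 x0 * (L.e2 y0 * L.e1 x0) * L.e2 y0 := by group
      _ = _ := by rw [← L.comm]; group
  · obtain ⟨g, D1, D2, h1, h2, h3, h4, h5, h6⟩ := H.outer'
    obtain ⟨x0, y0, a, b, ha, hb, hA, hB, hc⟩ := H.outer_form h1 h2 h hs
    obtain ⟨x1, hx1⟩ := exists_cj h1.det1 x0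
    obtain ⟨y1, hy1⟩ := exists_cj h1.det2 y0
    have e1 : x = -(x0 * x1) := by
      apply Subtype.ext
      have hxx : (a * a * D1.det) • (x : M2 F1) = (a * a * D1.det) • (-((x0 : M2 F1) * x1)) := by
        rw [hA, det_smul2, Matrix.det_mul, sl_coe_det, one_mul] at hx
        rw [hx, Matrix.mul_smul, Matrix.smul_mul, smul_smul]
        have : (x0 : M2 F1) * D1 * ((x0 : M2 F1) * D1) = x0 * (x1 * (D1 * D1)) := by
          rw [← mul_assoc (x1 : M2 F1), hx1]
          simp only [mul_assoc]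
        rw [this, m2_sq_of_trace h5]
        simp [smul_smul]
      exact smul_cancel (mul_ne_zero (mul_ne_zero ha ha) h1.det1) hxx
    have e2 : y = -(y0 * y1) := by
      apply Subtype.ext
      have hyy : (b * b * D2.det) • (y : M2 F2) = (b * b * D2.det) • (-((y0 : M2 F2) * y1)) := by
        rw [hB, det_smul2, Matrix.det_mul, sl_coe_det, one_mul] at hy
        rw [hy, Matrix.mul_smul, Matrix.smul_mul, smul_smul]
        have : (y0 : M2 F2) * D2 * ((y0 : M2 F2) * D2) = y0 * (y1 * (D2 * D2)) := by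
          rw [← mul_assoc (y1 : M2 F2), hy1]
          simp only [mul_assoc]
        rw [this, m2_sq_of_trace h6]
        simp [smul_smul]
      exact smul_cancel (mul_ne_zero (mul_ne_zero hb hb) h1.det2) hyy
    have k1 := h1.acts1.2 x0 x1 hx1
    have k2 := h1.acts2.2 y0 y1 hy1
    rw [hc, e1, e2, Rep.neg_neg, map_mul, map_mul]
    calc L.e1 x0 * L.e2 y0 * g * (L.e1 x0 * L.e2 y0 * g)
        = L.e1 x0 * L.e2 y0 * (g * L.e1 x0) * L.e2 y0 * g := by group
      _ = L.e1 x0 * L.e2 y0 * L.e1 x1 * (g * L.e2 y0) * g := by rw [k1]; group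
      _ = L.e1 x0 * (L.e2 y0 * L.e1 x1) * L.e2 y1 * (g * g) := by rw [k2]; group
      _ = _ := by rw [← L.comm, h4]; group

/-- the commutator formula -/
def Cm (L : LocalSL t F1 F2) (c : G) (A : M2 F1) (B : M2 F2) (c' : G) (A' : M2 F1) (B' : M2 F2) : Prop :=
  ∀ (x : SL2 F1) (y : SL2 F2), (x : M2 F1) * (A' * A) = A * A' → (y : M2 F2) * (B' * B) = B * B' →
    c * c' = L.e1 x * L.e2 y * c' * c

omit H in
theorem Cm.symm {c : G} {A : M2 F1} {B : M2 F2} {c' : G} {A' : M2 F1} {B' : M2 F2} (h : L.Rep c A B)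
    (h' : L.Rep c' A' B') (k : Cm L c A B c' A' B') : Cm L c' A' B' c A B := by
  intro x y hx hy
  have e1 : ((x⁻¹ : SL2 F1) : M2 F1) * (A' * A) = A * A' := by
    rw [← hx, ← mul_assoc, sl_inv_mul, one_mul]
  have e2 : ((y⁻¹ : SL2 F2) : M2 F2) * (B' * B) = B * B' := by
    rw [← hy, ← mul_assoc, sl_inv_mul, one_mul]
  have h1 := k x⁻¹ y⁻¹ e1 e2
  rw [map_inv, map_inv] at h1
  have h2 : L.e1 x * L.e2 y = L.e2 y * L.e1 x := L.comm x y
  calc c' * c = L.e1 x * L.e2 y * ((L.e2 y)⁻¹ * (L.e1 x)⁻¹ * c' * c) := by group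
    _ = L.e1 x * L.e2 y * ((L.e1 x)⁻¹ * (L.e2 y)⁻¹ * c' * c) := by
      rw [← _root_.mul_inv_rev, ← _root_.mul_inv_rev, h2]
    _ = L.e1 x * L.e2 y * (c * c') := by rw [h1]
    _ = _ := by group

omit H in
/-- the commutator formula for `e1 x0 * e2 y0 * d` -/
theorem Cm.mul {d : G} {A : M2 F1} {B : M2 F2} {c' : G} {A' : M2 F1} {B' : M2 F2} (h : L.Rep d A B)
    (h' : L.Rep c' A' B') (k : Cm L d A B c' A' B') (x0 : SL2 F1) (y0 : SL2 F2) {a : F1} {b : F2} (ha : a ≠ 0)
    (hb : b ≠ 0) : Cm L (L.e1 x0 * L.e2 y0 * d) (a • ((x0 : M2 F1) * A)) (b • ((y0 : M2 F2) * B)) c' A' B' := by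
  intro x y hx hy
  obtain ⟨x1, hx1⟩ := exists_cj h'.det1 x0
  obtain ⟨y1, hy1⟩ := exists_cj h'.det2 y0
  have k1 := h'.acts1.2 x0 x1 hx1
  have k2 := h'.acts2.2 y0 y1 hy1
  -- the pair for `d`
  have e1 : ((x0⁻¹ * x * x1 : SL2 F1) : M2 F1) * (A' * A) = A * A' := by
    have h1 : (x : M2 F1) * (x1 * (A' * A)) = (x0 : M2 F1) * (A * A') := by
      rw [Matrix.mul_smul, Matrix.mul_smul, Matrix.smul_mul] at hx
      have := smul_cancel ha hx
      rw [← mul_assoc A', ← hx1] at this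
      rw [mul_assoc (x1 : M2 F1)] at this
      rw [this, mul_assoc]
    have h2 : ((x0⁻¹ * x * x1 : SL2 F1) : M2 F1) = ((x0⁻¹ : SL2 F1) : M2 F1) * x * x1 := rfl
    rw [h2, mul_assoc, mul_assoc, h1, ← mul_assoc, sl_inv_mul, one_mul]
  have e2 : ((y0⁻¹ * y * y1 : SL2 F2) : M2 F2) * (B' * B) = B * B' := by
    have h1 : (y : M2 F2) * (y1 * (B' * B)) = (y0 : M2 F2) * (B * B') := by
      rw [Matrix.mul_smul, Matrix.mul_smul, Matrix.smul_mul] at hy
      have := smul_cancel hb hy
      rw [← mul_assoc B', ← hy1] at this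
      rw [mul_assoc (y1 : M2 F2)] at this
      rw [this, mul_assoc]
    have h2 : ((y0⁻¹ * y * y1 : SL2 F2) : M2 F2) = ((y0⁻¹ : SL2 F2) : M2 F2) * y * y1 := rfl
    rw [h2, mul_assoc, mul_assoc, h1, ← mul_assoc, sl_inv_mul, one_mul]
  have h1 := k _ _ e1 e2
  have cm1 := L.comm x0 y0
  have cm2 := L.comm x1 y0
  have cm3 := L.comm x y0
  have cm4 := L.comm x1 y
  calc L.e1 x0 * L.e2 y0 * d * c' = L.e1 x0 * L.e2 y0 * (d * c') := by group
    _ = L.e1 x0 * L.e2 y0 * (L.e1 (x0⁻¹ * x * x1) * L.e2 (y0⁻¹ * y * y1) * c' * d) := by rw [h1]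
    _ = L.e1 x0 * (L.e2 y0 * L.e1 (x0⁻¹ * x * x1)) * L.e2 (y0⁻¹ * y * y1) * c' * d := by group
    _ = L.e1 x0 * (L.e1 (x0⁻¹ * x * x1) * L.e2 y0) * L.e2 (y0⁻¹ * y * y1) * c' * d := by rw [L.comm]
    _ = L.e1 (x0 * (x0⁻¹ * x * x1)) * L.e2 (y0 * (y0⁻¹ * y * y1)) * c' * d := by
      rw [map_mul L.e1 x0, map_mul L.e2 y0]; group
    _ = L.e1 (x * x1) * L.e2 (y * y1) * c' * d := by
      have q1 : x0 * (x0⁻¹ * x * x1) = x * x1 := by group
      have q2 : y0 * (y0⁻¹ * y * y1) = y * y1 := by group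
      rw [q1, q2]
    _ = L.e1 x * (L.e1 x1 * L.e2 y) * L.e2 y1 * c' * d := by rw [map_mul, map_mul]; group
    _ = L.e1 x * L.e2 y * L.e1 x1 * (L.e2 y1 * c') * d := by rw [cm4]; group
    _ = L.e1 x * L.e2 y * (L.e1 x1 * c') * L.e2 y0 * d := by rw [← k2]; group
    _ = L.e1 x * L.e2 y * c' * (L.e1 x0 * L.e2 y0 * d) := by rw [← k1]; group

omit H in
theorem Cm.one {c' : G} {A' : M2 F1} {B' : M2 F2} (h' : L.Rep c' A' B') : Cm L 1 1 1 c' A' B' := by
  intro x y hx hy
  have e1 : x = 1 := Subtype.ext (cancel_right h'.det1 (by simpa using hx))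
  have e2 : y = 1 := Subtype.ext (cancel_right h'.det2 (by simpa using hy))
  rw [e1, e2]
  simp

omit H in
theorem Cm.self {g : G} {A : M2 F1} {B : M2 F2} (h : L.Rep g A B) : Cm L g A B g A B := by
  intro x y hx hy
  have hA : (A * A).det ≠ 0 := by rw [Matrix.det_mul]; exact mul_ne_zero h.det1 h.det1
  have hB : (B * B).det ≠ 0 := by rw [Matrix.det_mul]; exact mul_ne_zero h.det2 h.det2
  have e1 : x = 1 := Subtype.ext (cancel_right hA (by simpa using hx))
  have e2 : y = 1 := Subtype.ext (cancel_right hB (by simpa using hy))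
  rw [e1, e2]
  simp

/-- the commutator formula holds for all elements of `C0` -/
theorem Hyp.commutator [Finite F1] [Finite F2] {c c' : G} {A A' : M2 F1} {B B' : M2 F2} (h : L.Rep c A B)
    (h' : L.Rep c' A' B') {x : SL2 F1} {y : SL2 F2} (hx : (x : M2 F1) * (A' * A) = A * A')
    (hy : (y : M2 F2) * (B' * B) = B * B') : c * c' = L.e1 x * L.e2 y * c' * c := by
  -- elements of `L1 L2`
  have inn : ∀ {c : G} {A : M2 F1} {B : M2 F2} {c' : G} {A' : M2 F1} {B' : M2 F2}, L.Rep c A B → L.Rep c' A' B' →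
      IsSquare A.det → Cm L c A B c' A' B' := by
    intro c A B c' A' B' h h' hs
    obtain ⟨x0, y0, a, b, ha, hb, hA, hB, hc⟩ := h.inner hs ((H.square_iff _ _ _ h).1 hs)
    have := (Cm.one h').mul (Rep.one L) h' x0 y0 ha hb
    rw [mul_one, mul_one, mul_one, ← hc, ← hA, ← hB] at this
    exact this
  have key : Cm L c A B c' A' B' := by
    by_cases hs : IsSquare A.det
    · exact inn h h' hs
    by_cases hs' : IsSquare A'.det
    · exact (inn h' h hs').symm h' h
    obtain ⟨g, D1, D2, h1, h2, h3, h4⟩ := H.outer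
    obtain ⟨x0, y0, a, b, ha, hb, hA, hB, hc⟩ := H.outer_form h1 h2 h hs
    obtain ⟨x1, y1, a', b', ha', hb', hA', hB', hc'⟩ := H.outer_form h1 h2 h' hs'
    have k1 : Cm L c A B g D1 D2 := by
      have := (Cm.self h1).mul h1 h1 x0 y0 ha hb
      rw [← hc, ← hA, ← hB] at this
      exact this
    have k2 := (k1.symm h h1).mul h1 h x1 y1 ha' hb'
    rw [← hc', ← hA', ← hB'] at k2
    exact k2.symm h' h
  exact key x y hx hy

/-- elements of `C0` whose matrices commute, commute -/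
theorem Hyp.commute_of [Finite F1] [Finite F2] {c c' : G} {A A' : M2 F1} {B B' : M2 F2} (h : L.Rep c A B)
    (h' : L.Rep c' A' B') (h1 : A * A' = A' * A) (h2 : B * B' = B' * B) : c * c' = c' * c := by
  have := H.commutator h h' (x := 1) (y := 1) (by simp [h1]) (by simp [h2])
  simpa using this

/-- elements of `C0` whose matrices anticommute, commute -/
theorem Hyp.commute_of_anti [Finite F1] [Finite F2] {c c' : G} {A A' : M2 F1} {B B' : M2 F2} (h : L.Rep c A B)
    (h' : L.Rep c' A' B') (h1 : A * A' = -(A' * A)) (h2 : B * B' = -(B' * B)) : c * c' = c' * c := by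
  have := H.commutator h h' (x := -1) (y := -1) (by simp [h1]) (by simp [h2])
  rw [Rep.neg_neg] at this
  simpa using this

/-- an element of `C0` with matrices of trace `0` is an involution -/
theorem Hyp.invol [Finite F1] [Finite F2] {c : G} {A : M2 F1} {B : M2 F2} (h : L.Rep c A B)
    (h1 : A.trace = 0) (h2 : B.trace = 0) : c * c = 1 := by
  have := H.sq h (x := -1) (y := -1) (by simp [m2_sq_of_trace h1]) (by simp [m2_sq_of_trace h2])
  rw [this, Rep.neg_neg]
  simp

theorem Hyp.two_ne1 [Finite F1] : (2 : F1) ≠ 0 := by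
  intro h
  obtain ⟨g, A, B, h1, h2, h3, h4⟩ := H.outer
  apply h2
  have := Fintype.ofFinite F1
  apply FiniteField.isSquare_of_char_two
  exact CharP.ringChar_of_prime_eq_zero Nat.prime_two (by exact_mod_cast h)

theorem Hyp.two_ne2 [Finite F2] : (2 : F2) ≠ 0 := by
  intro h
  obtain ⟨g, A, B, h1, h2, h3, h4⟩ := H.outer
  apply h3
  have := Fintype.ofFinite F2
  apply FiniteField.isSquare_of_char_two
  exact CharP.ringChar_of_prime_eq_zero Nat.prime_two (by exact_mod_cast h)

theorem Hyp.t_ne_one [Finite F1] : t ≠ 1 := by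
  intro h
  have h1 : L.e1 (-1) = L.e1 1 := by rw [map_one]; exact L.neg1.trans h
  have h2 := congrArg (fun z : SL2 F1 => (z : M2 F1) 0 0) (L.inj1 h1)
  simp at h2
  apply H.two_ne1
  linear_combination -h2

/-- the involutions of `C(t)` different from `t` -/
theorem Hyp.rep_of_invol [Finite F1] [Finite F2] {c : G} (hc : c * t = t * c) (h : c * c = 1) (h1 : c ≠ 1) (h2 : c ≠ t) :
    ∃ A B, L.Rep c A B ∧ A.trace = 0 ∧ B.trace = 0 := by
  obtain ⟨A, B, hr⟩ := H.sq_mem c hc ⟨1, 1, by rw [h]; exact Rep.one L⟩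
  have h5 := hr.mul hr
  rw [h] at h5
  obtain ⟨⟨a, ha, ha'⟩, ⟨b, hb, hb'⟩⟩ := (Rep.one L).prop h5
  refine ⟨A, B, hr, ?_⟩
  by_cases hA : ∃ u : F1, A = u • (1 : M2 F1)
  · exfalso
    obtain ⟨u, rfl⟩ := hA
    by_cases hB : ∃ v : F2, B = v • (1 : M2 F2)
    · obtain ⟨v, rfl⟩ := hB
      rcases hr.eq_or with h6 | h6
      · exact h1 h6
      · exact h2 h6
    · push Not at hB
      have hBt := trace_of_sq_scalar hb' hB
      have h7 := H.sq hr (x := 1) (y := -1) (by simp [smul_smul, det_smul2, pow_two]) (by simp [m2_sq_of_trace hBt])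
      rw [h, map_one, one_mul, L.neg2] at h7
      exact H.t_ne_one h7.symm
  · push Not at hA
    by_cases hB : ∃ v : F2, B = v • (1 : M2 F2)
    · exfalso
      obtain ⟨v, rfl⟩ := hB
      have hAt := trace_of_sq_scalar ha' hA
      have h7 := H.sq hr (x := -1) (y := 1) (by simp [m2_sq_of_trace hAt]) (by simp [smul_smul, det_smul2, pow_two])
      rw [h, map_one, mul_one, L.neg1] at h7
      exact H.t_ne_one h7.symm
    · push Not at hB
      exact ⟨trace_of_sq_scalar ha' hA, trace_of_sq_scalar hb' hB⟩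

end hyp

end LocalSL

end Cfsg.Agent.GTwoOdd
end

-- part: GTwoOdd/TrZero
section
/-!
# Matrices of trace zero
-/

set_option autoImplicit false

namespace Cfsg.Agent.GTwoOdd

open Matrix

section

variable {F : Type*} [Field F]

/-- the entries of a matrix of trace `0` -/
theorem trace_zero_iff {D : M2 F} : D.trace = 0 ↔ D 1 1 = - D 0 0 := by
  rw [Matrix.trace_fin_two]
  constructor
  · intro h; linear_combination h
  · intro h; rw [h]; ring

theorem m2_mul_00 (A B : M2 F) : (A * B) 0 0 = A 0 0 * B 0 0 + A 0 1 * B 1 0 := by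
  simp [Matrix.mul_apply, Fin.sum_univ_two]
theorem m2_mul_01 (A B : M2 F) : (A * B) 0 1 = A 0 0 * B 0 1 + A 0 1 * B 1 1 := by
  simp [Matrix.mul_apply, Fin.sum_univ_two]
theorem m2_mul_10 (A B : M2 F) : (A * B) 1 0 = A 1 0 * B 0 0 + A 1 1 * B 1 0 := by
  simp [Matrix.mul_apply, Fin.sum_univ_two]
theorem m2_mul_11 (A B : M2 F) : (A * B) 1 1 = A 1 0 * B 0 1 + A 1 1 * B 1 1 := by
  simp [Matrix.mul_apply, Fin.sum_univ_two]

theorem m2_eq_iff {A B : M2 F} : A = B ↔ A 0 0 = B 0 0 ∧ A 0 1 = B 0 1 ∧ A 1 0 = B 1 0 ∧ A 1 1 = B 1 1 := by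
  constructor
  · rintro rfl
    exact ⟨rfl, rfl, rfl, rfl⟩
  · rintro ⟨h1, h2, h3, h4⟩
    exact m2_ext h1 h2 h3 h4

/-- `A + adj A = tr A` -/
theorem add_adjugate (A : M2 F) : A + A.adjugate = A.trace • (1 : M2 F) := by
  rw [Matrix.adjugate_fin_two]
  apply m2_ext <;> simp [Matrix.trace_fin_two] <;> ring

theorem adjugate_eq (A : M2 F) : A.adjugate = A.trace • (1 : M2 F) - A := by
  rw [← add_adjugate A]; simp

theorem adjugate_of_trace {D : M2 F} (h : D.trace = 0) : D.adjugate = -D := by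
  rw [adjugate_eq, h]; simp

theorem sl_inv_coe (x : SL2 F) : ((x⁻¹ : SL2 F) : M2 F) = (x : M2 F).adjugate := by
  rw [Matrix.SpecialLinearGroup.coe_inv]

/-- the trace of an anticommuting matrix is `0` -/
theorem trace_of_anti (h2 : (2 : F) ≠ 0) {N D : M2 F} (hD : D.det ≠ 0) (h : N * D = -(D * N)) : N.trace = 0 := by
  have h1 : N.trace = (D.adjugate * (D * N)).trace * (D.det)⁻¹ := by
    rw [← mul_assoc, Matrix.adjugate_mul]
    simp [Matrix.trace_smul]
    field_simp
  have h3 : (D.adjugate * (D * N)).trace = - (D.adjugate * (N * D)).trace := by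
    rw [h]; simp
  have h4 : (D.adjugate * (N * D)).trace = (D.adjugate * (D * N)).trace := by
    rw [Matrix.trace_mul_comm, mul_assoc, Matrix.mul_adjugate, ← mul_assoc D.adjugate, Matrix.adjugate_mul]
    simp
  have h5 : 2 * N.trace = 0 := by
    have : N.trace = - N.trace := by
      conv_lhs => rw [h1, h3, h4]
      rw [h1]; ring
    linear_combination this
  exact (mul_eq_zero.1 h5).resolve_left h2

section dd

variable (h2 : (2 : F) ≠ 0) {D : M2 F} (hD : D.det ≠ 0) (ht : D.trace = 0)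
include h2 hD ht

theorem not_scalar (b : F) : D ≠ b • (1 : M2 F) := by
  rintro rfl
  rw [Matrix.trace_fin_two] at ht
  simp at ht
  have : 2 * b = 0 := by linear_combination ht
  rcases mul_eq_zero.1 this with h | h
  · exact h2 h
  · apply hD; rw [h]; simp

omit hD in
theorem not_scalar' (hD' : D ≠ 0) (b : F) : D ≠ b • (1 : M2 F) := by
  rintro rfl
  rw [Matrix.trace_fin_two] at ht
  simp at ht
  have : 2 * b = 0 := by linear_combination ht
  rcases mul_eq_zero.1 this with h | h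
  · exact h2 h
  · apply hD'; rw [h]; simp

/-- the centraliser of `D` -/
theorem cent_form {A : M2 F} (h : A * D = D * A) : ∃ a b : F, A = a • (1 : M2 F) + b • D := by
  have hd := trace_zero_iff.1 ht
  rw [m2_eq_iff] at h
  simp only [m2_mul_00, m2_mul_01, m2_mul_10, m2_mul_11] at h
  obtain ⟨e1, e2, e3, e4⟩ := h
  rw [Matrix.det_fin_two, hd] at hD
  -- write `D = (p q; r -p)`
  have key : ∃ b : F, A 0 1 = b * D 0 1 ∧ A 1 0 = b * D 1 0 ∧ A 0 0 - A 1 1 = 2 * b * D 0 0 := by
    by_cases hq : D 0 1 = 0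
    · by_cases hr : D 1 0 = 0
      · have hp : D 0 0 ≠ 0 := by
          intro hp
          apply hD
          rw [hp, hq]; ring
        refine ⟨(A 0 0 - A 1 1) / (2 * D 0 0), ?_, ?_, ?_⟩
        · rw [hq, mul_zero]
          rw [hq, hd] at e2
          have : 2 * D 0 0 * A 0 1 = 0 := by linear_combination -e2
          simpa [h2, hp] using this
        · rw [hr, mul_zero]
          rw [hr, hd] at e3
          have : 2 * D 0 0 * A 1 0 = 0 := by linear_combination e3
          simpa [h2, hp] using this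
        · field_simp
      · refine ⟨A 1 0 / D 1 0, ?_, ?_, ?_⟩
        · rw [div_mul_eq_mul_div, eq_div_iff hr]
          linear_combination e1
        · field_simp
        · rw [hd] at e3
          field_simp
          linear_combination -e3
    · refine ⟨A 0 1 / D 0 1, ?_, ?_, ?_⟩
      · field_simp
      · rw [div_mul_eq_mul_div, eq_div_iff hq]
        linear_combination -e1
      · rw [hd] at e2
        field_simp
        linear_combination e2
  obtain ⟨b, hb1, hb2, hb3⟩ := key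
  refine ⟨A 0 0 - b * D 0 0, b, m2_ext ?_ ?_ ?_ ?_⟩
  · simp
  · simp [hb1]
  · simp [hb2]
  · simp [hd]
    linear_combination -hb3

theorem cent_comm {A B : M2 F} (hA : A * D = D * A) (hB : B * D = D * B) : A * B = B * A := by
  obtain ⟨a, b, rfl⟩ := cent_form h2 hD ht hA
  obtain ⟨c, d, rfl⟩ := cent_form h2 hD ht hB
  simp only [add_mul, mul_add, Matrix.smul_mul, Matrix.mul_smul, one_mul, mul_one, smul_smul]
  rw [mul_comm a c, mul_comm a d, mul_comm b c, mul_comm b d]
  abel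

omit h2 hD in
theorem cent_det (a b : F) : (a • (1 : M2 F) + b • D).det = a * a + D.det * (b * b) := by
  have hd := trace_zero_iff.1 ht
  simp only [Matrix.det_fin_two]
  simp [hd]
  ring

omit h2 hD in
theorem cent_trace (a b : F) : (a • (1 : M2 F) + b • D).trace = 2 * a := by
  have hd := trace_zero_iff.1 ht
  simp only [Matrix.trace_fin_two]
  simp [hd]
  ring

/-- `N A = adj(A) N` for `N` anticommuting with `D` and `A` commuting with `D` -/
theorem anti_mul {A N : M2 F} (hA : A * D = D * A) (hN : N * D = -(D * N)) : N * A = A.adjugate * N := by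
  obtain ⟨a, b, rfl⟩ := cent_form h2 hD ht hA
  rw [adjugate_eq, cent_trace ht]
  simp only [mul_add, add_mul, sub_mul, Matrix.smul_mul, Matrix.mul_smul, one_mul, mul_one, hN, smul_neg]
  rw [two_mul, add_smul]
  abel

omit hD h2 ht in
theorem comm_of_anti_anti {M N : M2 F} (hM : M * D = -(D * M)) (hN : N * D = -(D * N)) : (M * N) * D = D * (M * N) := by
  rw [mul_assoc, hN, mul_neg, ← mul_assoc, hM]
  simp [mul_assoc]

/-- a matrix normalising `D` up to a scalar commutes or anticommutes with `D` -/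
theorem comm_or_anti {A : M2 F} (hA : A.det ≠ 0) {u : F} (h : A * D = u • (D * A)) : A * D = D * A ∨ A * D = -(D * A) := by
  have h1 : A.det * D.det = u * u * (D.det * A.det) := by
    have := congrArg Matrix.det h
    rw [Matrix.det_mul, det_smul2, Matrix.det_mul] at this
    exact this
  have h3 : u * u = 1 := by
    have h4 : A.det * D.det * (u * u - 1) = 0 := by linear_combination -h1
    rcases mul_eq_zero.1 h4 with h5 | h5
    · exact absurd h5 (mul_ne_zero hA hD)
    · linear_combination h5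
  rcases mul_self_eq_one_iff.1 h3 with rfl | rfl
  · left; rw [h, one_smul]
  · right; rw [h, neg_one_smul]

end dd

section finite

variable [Finite F] (h2 : (2 : F) ≠ 0)
include h2

/-- the norm is surjective on the centraliser of `D` -/
theorem exists_cent_det {D : M2 F} (hD : D.det ≠ 0) (ht : D.trace = 0) (c : F) :
    ∃ A : M2 F, A * D = D * A ∧ A.det = c := by
  obtain ⟨a, b, h⟩ := norm_universal h2 hD c
  refine ⟨a • (1 : M2 F) + b • D, ?_, ?_⟩
  · simp [add_mul, mul_add]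
  · rw [cent_det ht]
    exact h

/-- companion matrix -/
theorem exists_companion {D : M2 F} (hD : D.det ≠ 0) (ht : D.trace = 0) :
    ∃ P : M2 F, P.det ≠ 0 ∧ D * P = P * !![0, -D.det; 1, 0] := by
  have hd := trace_zero_iff.1 ht
  have hdet : D.det = -(D 0 0 * D 0 0) - D 0 1 * D 1 0 := by
    rw [Matrix.det_fin_two, hd]; ring
  by_cases hr : D 1 0 = 0
  · by_cases hq : D 0 1 = 0
    · refine ⟨!![1, D 0 0 + D 0 1; 1, D 1 0 - D 0 0], ?_, ?_⟩
      · rw [Matrix.det_fin_two]
        simp [hr, hq]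
        intro h
        have : 2 * D 0 0 = 0 := by linear_combination -h
        rcases mul_eq_zero.1 this with h3 | h3
        · exact h2 h3
        · apply hD; rw [hdet, h3, hr]; ring
      · rw [m2_eq_iff]
        simp only [m2_mul_00, m2_mul_01, m2_mul_10, m2_mul_11, hdet]
        simp [hr, hq, hd]
    · refine ⟨!![0, D 0 1; 1, -D 0 0], ?_, ?_⟩
      · rw [Matrix.det_fin_two]
        simpa using hq
      · rw [m2_eq_iff]
        simp only [m2_mul_00, m2_mul_01, m2_mul_10, m2_mul_11, hdet]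
        simp [hd]
        refine ⟨by ring, by ring⟩
  · refine ⟨!![1, D 0 0; 0, D 1 0], ?_, ?_⟩
    · rw [Matrix.det_fin_two]
      simpa using hr
    · rw [m2_eq_iff]
      simp only [m2_mul_00, m2_mul_01, m2_mul_10, m2_mul_11, hdet]
      simp [hd]
      ring_nf
      simp

/-- matrices of trace `0` with the same determinant are conjugate under `SL(2,F)` -/
theorem exists_sl_conj {D D' : M2 F} (hD : D.det ≠ 0) (ht : D.trace = 0) (ht' : D'.trace = 0) (h : D'.det = D.det) :
    ∃ P : SL2 F, (P : M2 F) * D = D' * P := by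
  have hD' : D'.det ≠ 0 := by rw [h]; exact hD
  obtain ⟨P, hP, hP'⟩ := exists_companion h2 hD ht
  obtain ⟨Q, hQ, hQ'⟩ := exists_companion h2 hD' ht'
  rw [h] at hQ'
  have hR : (Q * P.adjugate) * D = D' * (Q * P.adjugate) := by
    apply cancel_right hP
    have e1 : P.adjugate * (D * P) = P.det • !![0, -D.det; 1, 0] := by
      rw [hP', ← mul_assoc, Matrix.adjugate_mul]
      simp
    calc Q * P.adjugate * D * P = Q * (P.adjugate * (D * P)) := by simp only [mul_assoc]
      _ = P.det • (Q * !![0, -D.det; 1, 0]) := by rw [e1, Matrix.mul_smul]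
      _ = P.det • (D' * Q) := by rw [hQ']
      _ = D' * Q * (P.adjugate * P) := by rw [Matrix.adjugate_mul]; simp
      _ = D' * (Q * P.adjugate) * P := by simp only [mul_assoc]
  have hRd : (Q * P.adjugate).det ≠ 0 := by
    rw [Matrix.det_mul, Matrix.det_adjugate]
    simpa using ⟨hQ, hP⟩
  obtain ⟨A, hA, hA'⟩ := exists_cent_det h2 hD ht ((Q * P.adjugate).det)⁻¹
  refine ⟨⟨Q * P.adjugate * A, ?_⟩, ?_⟩
  · rw [Matrix.det_mul, hA', mul_inv_cancel₀ hRd]
  · change Q * P.adjugate * A * D = D' * (Q * P.adjugate * A)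
    rw [mul_assoc, hA, ← mul_assoc, hR, mul_assoc]

/-- an element of `SL(2,F)` which anticommutes with `D` -/
theorem exists_anti {D : M2 F} (hD : D.det ≠ 0) (ht : D.trace = 0) : ∃ n : SL2 F, (n : M2 F) * D = -(D * n) := by
  have h1 : (-D).det = D.det := by
    rw [Matrix.det_neg]; simp
  have h3 : (-D).trace = 0 := by simp [ht]
  obtain ⟨P, hP⟩ := exists_sl_conj h2 hD ht h3 h1
  refine ⟨P, ?_⟩
  rw [hP]
  simp

end finite

theorem exists_sl_mul_eq {X Y : M2 F} (h : X.det = Y.det) (hY : Y.det ≠ 0) : ∃ x : SL2 F, (x : M2 F) * Y = X := by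
  refine ⟨⟨X * ((Y.det)⁻¹ • Y.adjugate), ?_⟩, ?_⟩
  · rw [Matrix.det_mul, det_smul2, Matrix.det_adjugate, h]
    simp
    field_simp
  · change X * ((Y.det)⁻¹ • Y.adjugate) * Y = X
    rw [mul_assoc, Matrix.smul_mul, Matrix.adjugate_mul, smul_smul, inv_mul_cancel₀ hY]
    simp

section hilbert

variable (h2 : (2 : F) ≠ 0)
include h2

/-- Hilbert 90 -/
theorem hilbert90 {D : M2 F} (hD : D.det ≠ 0) (ht : D.trace = 0) {x : SL2 F} (hx : (x : M2 F) * D = D * x) :
    ∃ A : M2 F, A * D = D * A ∧ A.det ≠ 0 ∧ A.det • (x : M2 F) = A * A := by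
  have hxx := m2_sq (x : M2 F)
  rw [sl_coe_det, one_smul] at hxx
  have hdet : (1 + (x : M2 F)).det = 2 + (x : M2 F).trace := by
    have := sl_coe_det x
    rw [Matrix.det_fin_two] at this ⊢
    rw [Matrix.trace_fin_two]
    simp
    linear_combination this
  by_cases h : 2 + (x : M2 F).trace = 0
  · obtain ⟨a, b, hab⟩ := cent_form h2 hD ht hx
    have ha : a = -1 := by
      rw [hab, cent_trace ht] at h
      have : 2 * (a + 1) = 0 := by linear_combination h
      rcases mul_eq_zero.1 this with h3 | h3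
      · exact absurd h3 h2
      · linear_combination h3
    have hb : b = 0 := by
      have := sl_coe_det x
      rw [hab, cent_det ht, ha] at this
      have h3 : D.det * (b * b) = 0 := by linear_combination this
      rcases mul_eq_zero.1 h3 with h4 | h4
      · exact absurd h4 hD
      · simpa using h4
    refine ⟨D, rfl, hD, ?_⟩
    rw [hab, ha, hb, m2_sq_of_trace ht]
    simp
  · refine ⟨1 + (x : M2 F), ?_, by rw [hdet]; exact h, ?_⟩
    · rw [add_mul, mul_add, hx]; simp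
    · rw [hdet, add_mul, mul_add, mul_add, hxx, add_smul, two_smul]
      simp
      abel

end hilbert

end

end Cfsg.Agent.GTwoOdd
end
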