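import Cfsg.Agent.GTwoOdd.Torus
set_option linter.all false

/-!
# Counting matrices of trace zero (for the class sum formula on the Borel subgroup)
-/

set_option autoImplicit false

namespace Cfsg.Agent.GTwoOdd

open Matrix

section nf

variable {F : Type*} [Field F]

/-- `diag(1,-1)` -/
def dg (F : Type*) [Field F] : M2 F := !![1, 0; 0, -1]

theorem dg_trace : (dg F).trace = 0 := by
  rw [Matrix.trace_fin_two]; simp [dg]

theorem dg_det : (dg F).det = -1 := by
  rw [Matrix.det_fin_two]; simp [dg]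

theorem comm_dg (h2 : (2 : F) ≠ 0) {A : M2 F} (h : A * dg F = dg F * A) : A 0 1 = 0 ∧ A 1 0 = 0 := by
  rw [m2_eq_iff] at h
  simp only [m2_mul_00, m2_mul_01, m2_mul_10, m2_mul_11] at h
  simp [dg] at h
  obtain ⟨h3, h4⟩ := h
  constructor
  · have : 2 * A 0 1 = 0 := by linear_combination -h3
    simpa [h2] using this
  · have : 2 * A 1 0 = 0 := by linear_combination h4
    simpa [h2] using this

theorem dg_comm_of {A : M2 F} (h : A 0 1 = 0) (h' : A 1 0 = 0) : A * dg F = dg F * A := by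
  rw [m2_eq_iff]
  simp only [m2_mul_00, m2_mul_01, m2_mul_10, m2_mul_11]
  simp [dg, h, h']

/-- normal forms of matrices of trace `0` up to scalars -/
abbrev NF (F : Type*) := F ⊕ (F × F)

/-- the matrix -/
def NF.mat : NF F → M2 F
  | .inl y => !![1, y; 0, -1]
  | .inr p => !![p.1, p.2; 1, -p.1]

theorem NF.mat_inl (y : F) : NF.mat (.inl y) = !![1, y; 0, -1] := rfl
theorem NF.mat_inr (p : F × F) : NF.mat (.inr p) = !![p.1, p.2; 1, -p.1] := rfl

theorem NF.trace (n : NF F) : n.mat.trace = 0 := by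
  rcases n with y | p
  · rw [NF.mat_inl, Matrix.trace_fin_two]; simp
  · rw [NF.mat_inr, Matrix.trace_fin_two]; simp

theorem NF.exists_of {D : M2 F} (h : D.trace = 0) (hd : D.det ≠ 0) : ∃ (n : NF F) (c : F), c ≠ 0 ∧ D = c • n.mat := by
  have h1 := trace_zero_iff.1 h
  by_cases hz : D 1 0 = 0
  · have hx : D 0 0 ≠ 0 := by
      intro hx
      apply hd
      rw [Matrix.det_fin_two, hx, hz]; ring
    refine ⟨.inl (D 0 1 / D 0 0), D 0 0, hx, ?_⟩
    rw [NF.mat_inl, m2_eq_iff]
    simp [hz, h1]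
    field_simp
  · refine ⟨.inr (D 0 0 / D 1 0, D 0 1 / D 1 0), D 1 0, hz, ?_⟩
    rw [NF.mat_inr, m2_eq_iff]
    simp [h1]
    refine ⟨by field_simp, by field_simp, by field_simp⟩

theorem NF.inj {n m : NF F} {c : F} (h : n.mat = c • m.mat) : n = m := by
  rcases n with y | p <;> rcases m with y' | p'
  · rw [NF.mat_inl, NF.mat_inl, m2_eq_iff] at h
    simp at h
    obtain ⟨h1, h2, h3⟩ := h
    rw [h2, ← h1]; simp
  · rw [NF.mat_inl, NF.mat_inr, m2_eq_iff] at h
    simp at h
    obtain ⟨h1, h2, h3, h4⟩ := h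
    rw [← h3] at h1
    simp at h1
  · rw [NF.mat_inr, NF.mat_inl, m2_eq_iff] at h
    simp at h
  · rw [NF.mat_inr, NF.mat_inr, m2_eq_iff] at h
    simp at h
    obtain ⟨h1, h2, h3, h4⟩ := h
    rw [← h3] at h1 h2
    rw [one_mul] at h1 h2
    rw [Prod.ext h1 h2]

end nf

section count

variable {F : Type*} [Field F] [Finite F]

/-- number of nonzero elements of a given quadratic class -/
theorem two_mul_card_class (h2 : (2 : F) ≠ 0) (b : Prop) :
    2 * Nat.card {x : F // x ≠ 0 ∧ (IsSquare x ↔ b)} = Nat.card F - 1 := by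
  classical
  have := Fintype.ofFinite F
  have hc : ringChar F ≠ 2 := by
    intro h
    apply h2
    have := ringChar.Nat.cast_ringChar (R := F)
    rw [h] at this
    exact_mod_cast this
  have hs := quadraticChar_sum_zero (F := F) hc
  -- the sets of squares and nonsquares
  set A := (Finset.univ : Finset F).filter (fun x => x ≠ 0 ∧ IsSquare x) with hA
  set B := (Finset.univ : Finset F).filter (fun x => x ≠ 0 ∧ ¬ IsSquare x) with hB
  have hAB : A.card = B.card := by
    have h1 : ∀ x : F, quadraticChar F x = (if x ∈ A then 1 else 0) - (if x ∈ B then 1 else 0) := by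
      intro x
      by_cases hx : x = 0
      · subst hx
        simp [hA, hB]
      · by_cases hq : IsSquare x
        · rw [(quadraticChar_one_iff_isSquare hx).2 hq]
          simp [hA, hB, hx, hq]
        · rw [quadraticChar_neg_one_iff_not_isSquare.2 hq]
          simp [hA, hB, hx, hq]
    rw [Finset.sum_congr rfl (fun x _ => h1 x), Finset.sum_sub_distrib] at hs
    simp only [Finset.sum_ite_mem, Finset.univ_inter, Finset.sum_const, nsmul_eq_mul, mul_one] at hs
    exact_mod_cast (sub_eq_zero.1 hs)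
  have hsum : A.card + B.card = Nat.card F - 1 := by
    have h3 : A ∪ B = Finset.univ.erase 0 := by
      ext x
      simp only [hA, hB, Finset.mem_union, Finset.mem_filter, Finset.mem_univ, true_and, Finset.mem_erase, and_true]
      tauto
    have h4 : Disjoint A B := by
      rw [Finset.disjoint_left]
      intro x h5 h6
      simp [hA] at h5
      simp [hB] at h6
      exact h6.2 h5.2
    rw [← Finset.card_union_of_disjoint h4, h3, Finset.card_erase_of_mem (Finset.mem_univ _), Finset.card_univ,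
      Nat.card_eq_fintype_card]
  by_cases hb : b
  · have : Nat.card {x : F // x ≠ 0 ∧ (IsSquare x ↔ b)} = A.card := by
      rw [Nat.card_eq_fintype_card, Fintype.card_subtype]
      congr 1
      ext x
      simp [hA, hb]
    rw [this]; omega
  · have : Nat.card {x : F // x ≠ 0 ∧ (IsSquare x ↔ b)} = B.card := by
      rw [Nat.card_eq_fintype_card, Fintype.card_subtype]
      congr 1
      ext x
      simp [hB, hb]
    rw [this]; omega

/-- pairs `(s, D)` with `tr (D A u(s)) = 0` and `det D` in a given class -/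
def Dat (A : M2 F) (b : Prop) : Type _ :=
  {p : F × NF F // (p.2.mat * (A * ((up p.1 : SL2 F) : M2 F))).trace = 0 ∧ p.2.mat.det ≠ 0 ∧ (IsSquare p.2.mat.det ↔ b)}

omit [Finite F] in
theorem trace_inl {A : M2 F} (h01 : A 0 1 = 0) (h10 : A 1 0 = 0) (s y : F) :
    ((NF.mat (.inl y) : M2 F) * (A * ((up s : SL2 F) : M2 F))).trace = A 0 0 - A 1 1 := by
  rw [NF.mat_inl, up_coe, Matrix.trace_fin_two]
  simp only [m2_mul_00, m2_mul_01, m2_mul_10, m2_mul_11]
  simp [h01, h10]
  ring

omit [Finite F] in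
theorem trace_inr {A : M2 F} (h01 : A 0 1 = 0) (h10 : A 1 0 = 0) (s : F) (p : F × F) :
    ((NF.mat (.inr p) : M2 F) * (A * ((up s : SL2 F) : M2 F))).trace = p.1 * (A 0 0 - A 1 1) + A 0 0 * s := by
  rw [NF.mat_inr, up_coe, Matrix.trace_fin_two]
  simp only [m2_mul_00, m2_mul_01, m2_mul_10, m2_mul_11]
  simp [h01, h10]
  ring

omit [Finite F] in
theorem det_inl (y : F) : (NF.mat (.inl y) : M2 F).det = -1 := by
  rw [NF.mat_inl, Matrix.det_fin_two]; simp

omit [Finite F] in
theorem det_inr (p : F × F) : (NF.mat (.inr p) : M2 F).det = -(p.1 * p.1) - p.2 := by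
  rw [NF.mat_inr, Matrix.det_fin_two]; simp

omit [Finite F] in
/-- the two kinds of data -/
def datEquiv {A : M2 F} (h01 : A 0 1 = 0) (h10 : A 1 0 = 0) (h00 : A 0 0 ≠ 0) (b : Prop) :
    Dat A b ≃ {p : F × F // A 0 0 = A 1 1 ∧ (IsSquare (-1 : F) ↔ b)} ⊕ (F × {x : F // x ≠ 0 ∧ (IsSquare x ↔ b)}) where
  toFun
    | ⟨(s, .inl y), h⟩ => .inl ⟨(s, y), by
        have h1 := h.1
        rw [trace_inl h01 h10] at h1
        have h2 := h.2.2
        rw [det_inl] at h2
        exact ⟨sub_eq_zero.1 h1, h2⟩⟩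
    | ⟨(s, .inr p), h⟩ => .inr (p.1, ⟨-(p.1 * p.1) - p.2, by
        have h2 := h.2
        rw [det_inr] at h2
        exact h2⟩)
  invFun
    | .inl ⟨(s, y), h⟩ => ⟨(s, .inl y), by
        rw [trace_inl h01 h10, det_inl]
        exact ⟨sub_eq_zero.2 h.1, neg_ne_zero.2 one_ne_zero, h.2⟩⟩
    | .inr (x, ⟨d, h⟩) => ⟨(-(x * (A 0 0 - A 1 1)) / A 0 0, .inr (x, -(x * x) - d)), by
        rw [trace_inr h01 h10, det_inr]
        have e : -(x * x) - (-(x * x) - d) = d := by ring
        refine ⟨?_, ?_, ?_⟩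
        · change x * (A 0 0 - A 1 1) + A 0 0 * (-(x * (A 0 0 - A 1 1)) / A 0 0) = 0
          field_simp
          ring
        · change -(x * x) - (-(x * x) - d) ≠ 0
          rw [e]; exact h.1
        · change IsSquare (-(x * x) - (-(x * x) - d)) ↔ b
          rw [e]; exact h.2⟩
  left_inv := by
    rintro ⟨⟨s, y | p⟩, h⟩
    · rfl
    · apply Subtype.ext
      have h1 := h.1
      rw [trace_inr h01 h10] at h1
      change ((-(p.1 * (A 0 0 - A 1 1)) / A 0 0, Sum.inr (p.1, -(p.1 * p.1) - (-(p.1 * p.1) - p.2))) : F × NF F) = (s, Sum.inr p)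
      have e1 : -(p.1 * (A 0 0 - A 1 1)) / A 0 0 = s := by
        rw [div_eq_iff h00]
        linear_combination -h1
      have e2 : -(p.1 * p.1) - (-(p.1 * p.1) - p.2) = p.2 := by ring
      rw [e1, e2]
  right_inv := by
    rintro (⟨⟨s, y⟩, h⟩ | ⟨x, ⟨d, h⟩⟩)
    · rfl
    · change Sum.inr (x, (⟨-(x * x) - (-(x * x) - d), _⟩ : {x : F // x ≠ 0 ∧ (IsSquare x ↔ b)})) = _
      congr 2
      apply Subtype.ext
      change -(x * x) - (-(x * x) - d) = d
      ring

open Classical in
theorem two_mul_card_dat (h2 : (2 : F) ≠ 0) {A : M2 F} (h01 : A 0 1 = 0) (h10 : A 1 0 = 0) (h00 : A 0 0 ≠ 0) (b : Prop) :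
    2 * Nat.card (Dat A b) = Nat.card F * (Nat.card F - 1) +
      (if A 0 0 = A 1 1 ∧ (IsSquare (-1 : F) ↔ b) then 2 * (Nat.card F * Nat.card F) else 0) := by
  rw [Nat.card_congr (datEquiv h01 h10 h00 b), Nat.card_sum, Nat.card_prod, mul_add, mul_left_comm,
    two_mul_card_class h2 b, add_comm]
  congr 1
  split_ifs with h
  · congr 1
    have : Nat.card {p : F × F // A 0 0 = A 1 1 ∧ (IsSquare (-1 : F) ↔ b)} = Nat.card (F × F) := by
      apply Nat.card_congr
      exact Equiv.subtypeUnivEquiv (fun _ => h)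
    rw [this, Nat.card_prod]
  · have : IsEmpty {p : F × F // A 0 0 = A 1 1 ∧ (IsSquare (-1 : F) ↔ b)} := ⟨fun x => h x.2⟩
    rw [Nat.card_of_isEmpty, mul_zero]

end count

end Cfsg.Agent.GTwoOdd
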