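import Mathlib
import Cfsg.Agent.TitsThree.RankTwoIdx
import Cfsg.Agent.GTwoOdd.TrZero
import Mathlib.GroupTheory.Transfer
import Cfsg.Agent.GTwoOdd.Torus
import Cfsg.Agent.GTwoOdd.Core.Defs
import Cfsg.Agent.Lib.Cores
import Cfsg.Agent.GTwoOdd.Core.ConfBasic_mg
import Cfsg.Agent.GTwoOdd.Hexa
import Cfsg.Agent.TwoFusion.FpfAbelian
import Cfsg.Agent.TwoFusion.RankTwoWreath
import Cfsg.Agent.GTwoOdd.CentDef
import Cfsg.Agent.TwoFusion.PSL3Inv
import Cfsg.Agent.S0243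
import Cfsg.Agent.ClassificationK.GTwoSylow
import Cfsg.Agent.MTwelveType.SylowModel
import Cfsg.Agent.OddOrderCharacters.IndRes
import Cfsg.Agent.OddOrderCharacters.PF9.MackeyIrr
import Cfsg.Agent.Characters.ClassMul
import Cfsg.Agent.Characters.CentralCharacter
import Cfsg.Agent.OddOrderCharacters.CyclicTI
import Cfsg.Agent.Ree.VecDef
import Cfsg.Agent.S0944
import Cfsg.Agent.GTwoOdd.BridgeAct
import Cfsg.Agent.ClassificationK.GTwoModelConf_m3
import Cfsg.Agent.S0276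
import Cfsg.Agent.GTwoOdd.Setup
import Cfsg.Prelude.Def_CaseTheorems
import Cfsg.Prelude.Def_LieTwisted
import Cfsg.Prelude.Def_Spor_Mathieu
import Cfsg.Agent.GTwoOdd.SLNormal
import Cfsg.Agent.Lib.MinNormalNonabelian
import Cfsg.Agent.Lib.SubnormalJoin
import Cfsg.Agent.GTwoOdd.SLMore
import Cfsg.Agent.Lib.LocalCore
import Cfsg.Agent.S0215
import Cfsg.Agent.Lib.KleinGen
import Cfsg.Agent.Lib.KleinOrder
import Cfsg.Agent.FastGrp
import Cfsg.Agent.Prune
set_option linter.all false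

section
prune_inst 0x7ff8a8f88ba8a9dfdfff7e35aed8ddf831800fffe6dff943ffe061bf0b9f030009c5638d09e010fc0ed6409410a87803f97eca3fe86bdc7ffffd5ff41ffbee0fe5f7350851d488340f380ff603f0678a6f3ffffffffffffffffffff7ffffffbefffff3feffff

-- part: GTwoOdd/HexField
section
prune_inst 0x80000000000000c010000
set_option linter.all false
open scoped Cfsg.Agent.FastGrp

/-!
# Multiplicative quadratic maps on finite fields, and cubic norms
-/

set_option autoImplicit false

namespace Cfsg.Agent.GTwoOdd.HexField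

open Module

/-- an additive map with the trace identity contains a field automorphism -/
theorem exists_alg {F K : Type*} [Field F] [Field K] [Algebra F K] [FiniteDimensional F K] [IsGalois F K]
    (two : (2 : K) ≠ 0) (sh : K → K) (s : K →ₗ[F] K) (h1 : s 1 = 2)
    (hs : ∀ a b, s (a * (b * b)) = s b * s (a * b) - sh b * s a) :
    ∃ σ : K →ₐ[F] K, ∀ b, σ b * σ b - s b * σ b + sh b = 0 := by
  classical
  have li := linearIndependent_toLinearMap F K K
  have hcard : Fintype.card (K →ₐ[F] K) = finrank K (K →ₗ[F] K) := by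
    rw [Module.finrank_linearMap_self, ← IsGalois.card_aut_eq_finrank F K, ← Nat.card_eq_fintype_card]
    exact Nat.card_congr (algEquivEquivAlgHom F K).symm.toEquiv
  have hspan := li.span_eq_top_of_card_eq_finrank' hcard
  obtain ⟨c, hc⟩ := (Submodule.mem_span_range_iff_exists_fun K).1 (hspan ▸ Submodule.mem_top (x := s))
  have hs' : ∀ a, s a = ∑ σ : K →ₐ[F] K, c σ * σ a := by
    intro a
    conv_lhs => rw [← hc]
    simp [LinearMap.sum_apply]
  have hne : ∃ σ, c σ ≠ 0 := by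
    by_contra hcon
    push Not at hcon
    apply two
    rw [← h1, hs' 1]
    exact Finset.sum_eq_zero fun σ _ => by rw [hcon, zero_mul]
  obtain ⟨σ, hσ⟩ := hne
  refine ⟨σ, fun b => ?_⟩
  have key : ∑ τ : K →ₐ[F] K, (c τ * (τ b * τ b - s b * τ b + sh b)) • AlgHom.toLinearMap τ = 0 := by
    ext a
    have h := hs a b
    rw [hs' (a * (b * b)), hs' (a * b), hs' a, Finset.mul_sum, Finset.mul_sum] at h
    rw [LinearMap.sum_apply, LinearMap.zero_apply]
    have : ∀ τ : K →ₐ[F] K, ((c τ * (τ b * τ b - s b * τ b + sh b)) • AlgHom.toLinearMap τ) a =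
        c τ * τ (a * (b * b)) - s b * (c τ * τ (a * b)) + sh b * (c τ * τ a) := by
      intro τ
      simp only [LinearMap.smul_apply, AlgHom.toLinearMap_apply, smul_eq_mul, map_mul]
      ring
    rw [Finset.sum_congr rfl fun τ _ => this τ, Finset.sum_add_distrib, Finset.sum_sub_distrib, h]
    ring
  have h2 := Fintype.linearIndependent_iff.1 li _ key σ
  rcases mul_eq_zero.1 h2 with h3 | h3
  · exact absurd h3 hσ
  · exact h3

/-- two ring homomorphisms covering a third -/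
theorem eq_or_eq {K : Type*} [Field K] (α β γ : K →+* K) (h : ∀ a, α a = β a ∨ α a = γ a) : α = β ∨ α = γ := by
  by_contra hcon
  push Not at hcon
  obtain ⟨h1, h2⟩ := hcon
  obtain ⟨a, ha⟩ : ∃ a, α a ≠ β a := by
    by_contra h3
    push Not at h3
    exact h1 (RingHom.ext h3)
  obtain ⟨b, hb⟩ : ∃ b, α b ≠ γ b := by
    by_contra h3
    push Not at h3
    exact h2 (RingHom.ext h3)
  have h3 : α a = γ a := (h a).resolve_left ha
  have h4 : α b = β b := (h b).resolve_right hb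
  rcases h (a + b) with h5 | h5
  · rw [map_add, map_add, h4] at h5
    exact ha (add_right_cancel h5)
  · rw [map_add, map_add, h3] at h5
    exact hb (add_left_cancel h5)

/-- The structure of a cubic norm over a field embedding -/
structure Cubic (F K : Type*) [Field F] [Field K] where
  β : F →+* K
  N : K → F
  T : K → K → F
  sh : K → K
  cr : K → K → K
  two : (2 : K) ≠ 0
  N_mul : ∀ a b, N (a * b) = N a * N b
  N_one : N 1 = 1
  N_zero : N 0 = 0
  N_β : ∀ u, N (β u) = u * u * u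
  N_ne : ∀ a, a ≠ 0 → N a ≠ 0
  N_neg : ∀ a, N (-a) = -N a
  sh_def : ∀ a, sh a = β (N a) * a⁻¹
  sh_add : ∀ a b, sh (a + b) = sh a + sh b + cr a b
  cr_add_right : ∀ a b c, cr a (b + c) = cr a b + cr a c
  cr_smul_left : ∀ u a b, cr (β u * a) b = β u * cr a b
  cr_comm : ∀ a b, cr a b = cr b a
  N_add : ∀ a b, N (a + b) = N a + N b + T a (sh b) + T b (sh a)
  T_smul_right : ∀ u a b, T a (β u * b) = u * T a b
  T_neg_left : ∀ a b, T (-a) b = -T a b
  T_zero_right : ∀ a, T a 0 = 0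

namespace Cubic

variable {F K : Type*} [Field F] [Field K] (C : Cubic F K)

theorem β_inj : Function.Injective C.β := C.β.injective

theorem sh_mul (a b : K) : C.sh (a * b) = C.sh a * C.sh b := by
  rw [C.sh_def, C.sh_def, C.sh_def, C.N_mul, map_mul, mul_inv]
  ring

theorem sh_one : C.sh 1 = 1 := by
  rw [C.sh_def, C.N_one, map_one, inv_one, one_mul]

theorem mul_sh {a : K} (ha : a ≠ 0) : a * C.sh a = C.β (C.N a) := by
  rw [C.sh_def]
  field_simp

theorem cr_mul (c a b : K) : C.cr (c * a) (c * b) = C.sh c * C.cr a b := by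
  have h1 := C.sh_add (c * a) (c * b)
  have h2 := C.sh_add a b
  rw [← mul_add, C.sh_mul, C.sh_mul, C.sh_mul] at h1
  linear_combination -h1 + C.sh c * h2

/-- the trace of `sh` -/
def s (a : K) : K := C.cr 1 a

theorem cr_add_left (a b c : K) : C.cr (a + b) c = C.cr a c + C.cr b c := by
  rw [C.cr_comm, C.cr_add_right, C.cr_comm c a, C.cr_comm c b]

theorem s_add (a b : K) : C.s (a + b) = C.s a + C.s b := C.cr_add_right _ _ _

theorem s_smul (u : F) (a : K) : C.s (C.β u * a) = C.β u * C.s a := by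
  rw [s, s, C.cr_comm, C.cr_smul_left, C.cr_comm]

theorem sh_β (u : F) : C.sh (C.β u) = C.β u * C.β u := by
  by_cases hu : u = 0
  · rw [hu, map_zero, C.sh_def, C.N_zero, map_zero, zero_mul, zero_mul]
  have : C.β u ≠ 0 := by rwa [Ne, map_eq_zero]
  rw [C.sh_def, C.N_β, map_mul, map_mul]
  field_simp

theorem s_one : C.s 1 = 2 := by
  have h := C.sh_add 1 1
  have h2 : (1 : K) + 1 = C.β 2 := by
    rw [one_add_one_eq_two, map_ofNat]
  rw [h2, C.sh_β, C.sh_one, map_ofNat] at h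
  have : C.s 1 = C.cr 1 1 := rfl
  rw [this]
  linear_combination -h

theorem cr_eq (a b : K) : C.cr a b = C.s a * C.s b - C.s (a * b) := by
  have h1 := C.sh_mul (1 + a) (1 + b)
  have h2 := C.sh_add 1 a
  have h3 := C.sh_add 1 b
  have e : (1 + a) * (1 + b) = 1 + (a + b + a * b) := by ring
  have h4 := C.sh_add 1 (a + b + a * b)
  have h5 := C.sh_add (a + b) (a * b)
  have h6 := C.sh_add a b
  have h7 := C.sh_mul a b
  have h8 : C.cr (a + b) (a * b) = C.sh a * C.cr 1 b + C.sh b * C.cr 1 a := by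
    rw [C.cr_add_left]
    congr 1
    · have := C.cr_mul a 1 b
      rwa [mul_one] at this
    · have := C.cr_mul b 1 a
      rwa [mul_one, mul_comm b a] at this
  have h9 : C.cr 1 (a + b + a * b) = C.cr 1 a + C.cr 1 b + C.cr 1 (a * b) := by
    rw [C.cr_add_right, C.cr_add_right]
  rw [e, h4, h5, h6, h7, h8, h9, h2, h3, C.sh_one] at h1
  simp only [s]
  linear_combination h1

theorem s_rel (a b : K) : C.s (a * (b * b)) = C.s b * C.s (a * b) - C.sh b * C.s a := by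
  have h1 := C.cr_mul b a 1
  rw [mul_one, C.cr_eq, C.cr_comm a 1] at h1
  have e : b * a * b = a * (b * b) := by ring
  rw [e, mul_comm b a] at h1
  have : C.cr 1 a = C.s a := rfl
  rw [this] at h1
  linear_combination -h1

/-- `sh` is a product of two automorphisms -/
theorem exists_pair [Finite K] : ∃ σ τ : K →+* K, (∀ u, σ (C.β u) = C.β u) ∧ (∀ u, τ (C.β u) = C.β u) ∧
    (∀ a, C.sh a = σ a * τ a) ∧ ∀ a, C.s a = σ a + τ a := by
  have : Finite F := Finite.of_injective C.β C.β_inj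
  let _ := C.β.toAlgebra
  have hfd : FiniteDimensional F K := inferInstance
  have hsmul : ∀ (u : F) (a : K), u • a = C.β u * a := fun u a => rfl
  let sl : K →ₗ[F] K :=
    { toFun := C.s
      map_add' := C.s_add
      map_smul' := fun u a => by
        rw [hsmul, C.s_smul]
        rfl }
  obtain ⟨σ, hσ⟩ := exists_alg C.two C.sh sl C.s_one C.s_rel
  have hσ' : ∀ b, C.sh b = σ b * (C.s b - σ b) := fun b => by
    have : σ b * σ b - C.s b * σ b + C.sh b = 0 := hσ b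
    linear_combination this
  have hmul : ∀ a b, C.s (a * b) - σ (a * b) = (C.s a - σ a) * (C.s b - σ b) := by
    intro a b
    by_cases ha : a = 0
    · rw [ha, zero_mul, map_zero, sub_zero]
      have : C.s 0 = 0 := by
        have := C.s_add 0 0
        rw [add_zero] at this
        linear_combination -this
      rw [this, zero_mul]
    by_cases hb : b = 0
    · rw [hb, mul_zero, map_zero, sub_zero]
      have : C.s 0 = 0 := by
        have := C.s_add 0 0
        rw [add_zero] at this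
        linear_combination -this
      rw [this, mul_zero]
    have h1 := C.sh_mul a b
    rw [hσ' (a * b), hσ' a, hσ' b, map_mul] at h1
    have hsa : σ a ≠ 0 := by rwa [Ne, map_eq_zero]
    have hsb : σ b ≠ 0 := by rwa [Ne, map_eq_zero]
    apply mul_left_cancel₀ (mul_ne_zero hsa hsb)
    rw [map_mul, h1]
    ring
  let τ : K →+* K :=
    { toFun := fun b => C.s b - σ b
      map_one' := by
        rw [C.s_one, map_one]; ring
      map_mul' := hmul
      map_zero' := by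
        have : C.s 0 = 0 := by
          have := C.s_add 0 0
          rw [add_zero] at this
          linear_combination -this
        rw [this, map_zero, sub_zero]
      map_add' := fun a b => by
        rw [C.s_add, map_add]; ring }
  have hσβ : ∀ u, σ (C.β u) = C.β u := fun u => σ.commutes u
  refine ⟨σ.toRingHom, τ, hσβ, ?_, fun a => hσ' a, fun a => ?_⟩
  · intro u
    have h1 : τ (C.β u) = C.s (C.β u) - σ (C.β u) := rfl
    have h2 := C.s_smul u 1
    rw [mul_one] at h2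
    rw [h1, h2, C.s_one, hσβ]
    ring
  · have h1 : τ a = C.s a - σ a := rfl
    rw [h1]
    have h2 : σ.toRingHom a = σ a := rfl
    rw [h2]
    ring

/-- the main result: `N` is the norm of a cubic (or trivial) extension -/
theorem exists_auto [Finite K] : ∃ φ : K ≃+* K, (∀ u, φ (C.β u) = C.β u) ∧ (∀ t, φ (φ (φ t)) = t) ∧
    (∀ t, φ t = t → ∃ u, C.β u = t) ∧ (∀ a, C.sh a = φ a * φ (φ a)) ∧
    (∀ a, C.β (C.N a) = a * φ a * φ (φ a)) ∧
    (∀ a b, C.β (C.T a b) = a * b + φ (a * b) + φ (φ (a * b))) ∧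
    ∀ a b, C.cr a b = φ a * φ (φ b) + φ (φ a) * φ b := by
  obtain ⟨σ, τ, hσ, hτ, hsh, hs⟩ := C.exists_pair
  have hN : ∀ a, C.β (C.N a) = a * (σ a * τ a) := by
    intro a
    by_cases ha : a = 0
    · rw [ha, C.N_zero, map_zero, zero_mul]
    rw [← C.mul_sh ha, hsh]
  -- the linear part
  have hT : ∀ a b, C.β (C.T a (C.sh b)) = a * (σ b * τ b) + b * (σ a * τ b + σ b * τ a) := by
    intro a b
    have h1 := congrArg C.β (C.N_add a b)
    have h2 := congrArg C.β (C.N_add (-a) b)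
    have e1 : C.T b (C.sh (-a)) = C.T b (C.sh a) := by
      rw [C.sh_def, C.sh_def, C.N_neg, map_neg, inv_neg, neg_mul_neg]
    rw [C.T_neg_left, C.N_neg, e1, map_add, map_add, map_add, map_neg, map_neg, hN, hN, hN] at h2
    rw [map_add, map_add, map_add, hN, hN, hN] at h1
    simp only [map_add, map_neg] at h1 h2
    apply mul_left_cancel₀ C.two
    linear_combination -h1 + h2
  have htr : ∀ a, C.β (C.T a 1) = a + σ a + τ a := by
    intro a
    have h := hT a 1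
    rw [C.sh_one, map_one, map_one] at h
    rw [h]; ring
  -- the automorphisms fix `β F`
  have e1 : ∀ a, σ (σ a) + σ (τ a) = a + τ a := by
    intro a
    have h1 := hσ (C.T a 1)
    rw [htr, map_add, map_add] at h1
    linear_combination h1
  have e2 : ∀ a, σ (σ a) * σ (τ a) = a * τ a := by
    intro a
    by_cases ha : a = 0
    · rw [ha]; simp
    have h1 := hσ (C.N a)
    rw [hN, map_mul, map_mul] at h1
    have h2 : σ a ≠ 0 := by rwa [Ne, map_eq_zero]
    apply mul_left_cancel₀ h2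
    linear_combination h1
  have e3 : ∀ a, τ (σ a) + τ (τ a) = a + σ a := by
    intro a
    have h1 := hτ (C.T a 1)
    rw [htr, map_add, map_add] at h1
    linear_combination h1
  have key : (∀ a, σ (σ (σ a)) = a) ∧ ∀ a, τ a = σ (σ a) := by
    rcases eq_or_eq (σ.comp σ) (RingHom.id K) τ (fun a => by
      have h1 : (σ (σ a) - a) * (σ (σ a) - τ a) = 0 := by
        have h3 : (σ (σ a) - a) * (σ (σ a) - τ a) = σ (σ a) * σ (σ a) - (a + τ a) * σ (σ a) + a * τ a := by ring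
        rw [h3, ← e1 a, ← e2 a]
        ring
      rcases mul_eq_zero.1 h1 with h2 | h2
      · left
        exact sub_eq_zero.1 h2
      · right
        exact sub_eq_zero.1 h2) with h | h
    · -- `σ² = 1`
      have h1 : ∀ a, σ (σ a) = a := fun a => RingHom.congr_fun h a
      have h2 : ∀ a, σ (τ a) = τ a := by
        intro a
        have := e1 a
        rw [h1 a] at this
        exact add_left_cancel this
      have hsurj : Function.Surjective τ := Finite.surjective_of_injective τ.injective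
      have h3 : ∀ a, σ a = a := by
        intro a
        obtain ⟨b, rfl⟩ := hsurj a
        exact h2 b
      have h4 : ∀ a, τ (τ a) + τ a = a + a := by
        intro a
        have := e3 a
        rw [h3 a] at this
        rw [← this]; ring
      have h5 : ∀ a, τ a = a := by
        rcases eq_or_eq (τ.comp τ) (RingHom.id K) (RingHom.id K) (fun a => by
          have h6 := h4 a
          have h7 := h4 (a * a)
          simp only [map_mul] at h7
          have h8 : (τ (τ a) - a) * (τ (τ a) - a) = 0 := by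
            have h9 : τ a = a + a - τ (τ a) := by rw [← h6]; ring
            rw [h9, ← h9] at h7
            have h10 : τ (τ a) * τ (τ a) + (a + a - τ (τ a)) * (a + a - τ (τ a)) = a * a + a * a := by
              rw [← h9]; exact h7
            apply mul_left_cancel₀ C.two
            linear_combination h10
          left
          exact sub_eq_zero.1 (mul_self_eq_zero.1 h8)) with h6 | h6 <;>
        · intro a
          have h7 : τ (τ a) = a := RingHom.congr_fun h6 a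
          have h8 := h4 a
          rw [h7] at h8
          exact add_left_cancel h8
      exact ⟨fun a => by rw [h3, h3, h3], fun a => by rw [h5, h3, h3]⟩
    · have h1 : ∀ a, σ (σ a) = τ a := fun a => RingHom.congr_fun h a
      refine ⟨fun a => ?_, fun a => (h1 a).symm⟩
      have := e1 a
      rw [h1 a, add_comm] at this
      have h2 := add_right_cancel this
      rw [← h1] at h2
      exact h2
  obtain ⟨k1, k2⟩ := key
  have hbij : Function.Bijective σ := ⟨σ.injective, Finite.surjective_of_injective σ.injective⟩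
  let φ := RingEquiv.ofBijective σ hbij
  have hφ : ∀ a, φ a = σ a := fun a => rfl
  refine ⟨φ, hσ, ?_, ?_, ?_, ?_, ?_, ?_⟩
  · intro t
    simp only [hφ]
    exact k1 t
  · intro t ht
    rw [hφ] at ht
    have h1 := htr t
    have h2 := hN t
    rw [k2, ht, ht] at h1 h2
    by_cases h3 : (3 : K) = 0
    · -- characteristic 3
      have : Finite F := Finite.of_injective C.β C.β_inj
      have h3' : (3 : F) = 0 := by
        apply C.β_inj
        rw [map_ofNat, map_zero, h3]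
      have : CharP F 3 := (CharP.charP_iff_prime_eq_zero (by norm_num)).2 (by exact_mod_cast h3')
      obtain ⟨v, hv⟩ := (Finite.surjective_of_injective (frobenius F 3).injective) (C.N t)
      have h4 : v ^ 3 = C.N t := hv
      refine ⟨v, ?_⟩
      have : CharP K 3 := (CharP.charP_iff_prime_eq_zero (by norm_num)).2 (by exact_mod_cast h3)
      apply (frobenius K 3).injective
      rw [frobenius_def, frobenius_def, ← map_pow, h4, h2]
      ring
    · refine ⟨C.T t 1 / 3, ?_⟩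
      rw [map_div₀, h1, map_ofNat]
      field_simp
      ring
  · intro a
    rw [hφ, hφ, hsh, k2]
  · intro a
    rw [hφ, hφ, hN, k2]
    ring
  · -- the trace form
    intro a c
    by_cases hc : c = 0
    · rw [hc, C.T_zero_right, mul_zero, map_zero, map_zero, map_zero, add_zero, add_zero]
    have h1 := hT a c⁻¹
    have h2 : c = C.β (C.N c) * C.sh c⁻¹ := by
      rw [C.sh_def, inv_inv, ← mul_assoc, ← map_mul, ← C.N_mul, mul_inv_cancel₀ hc, C.N_one, map_one, one_mul]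
    have h3 : C.T a c = C.N c * C.T a (C.sh c⁻¹) := by
      conv_lhs => rw [h2]
      rw [C.T_smul_right]
    have hsc : σ c ≠ 0 := by rwa [Ne, map_eq_zero]
    have hssc : σ (σ c) ≠ 0 := by rwa [Ne, map_eq_zero]
    rw [h3, map_mul, h1, hN, k2, k2, k2, map_inv₀, map_inv₀, hφ, hφ, map_mul, map_mul]
    field_simp
    ring
  · intro a b
    have h1 := C.sh_add a b
    rw [hsh, hsh, hsh, k2, k2, k2, map_add, map_add] at h1
    simp only [hφ]
    linear_combination -h1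

end Cubic

end Cfsg.Agent.GTwoOdd.HexField

private theorem dce_4ccfb0adf7e9 : _root_.True := by
  try have : _root_.True := by simp only [_root_.Cfsg.Agent.GTwoOdd.HexField.Cubic.s.eq_1]
  exact _root_.True.intro
end

-- part: Hexagon/CubeAut
section
set_option linter.all false
open scoped Cfsg.Agent.FastGrp
/-!
# Automorphisms of order three of finite fields

`cube_aut` : if `σ ≠ 1`, `σ³ = 1` then `|E| = q³` and `σ` or `σ²` is `t ↦ t^q`.
-/

set_option autoImplicit false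

namespace Cfsg.Agent.Hexagon.CubeAut

universe u

open FiniteField in
theorem cube_aut {E : Type u} [Field E] [Fintype E] (σ : E ≃+* E) (hc : ∀ a, σ (σ (σ a)) = a)
    (h1 : ∃ a, σ a ≠ a) : ∃ q : ℕ, IsPrimePow q ∧ Fintype.card E = q ^ 3 ∧
      ((∀ a, σ a = a ^ q) ∨ ∀ a, σ (σ a) = a ^ q) := by
  obtain ⟨p, hchar⟩ := CharP.exists E
  have hp : p.Prime := CharP.char_is_prime E p
  have := Fact.mk hp
  let : Algebra (ZMod p) E := ZMod.algebra E p
  have : Module.Finite (ZMod p) E := Module.Finite.of_finite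
  have : Algebra.IsAlgebraic (ZMod p) E := Algebra.IsAlgebraic.of_finite _ _
  have hcomm : ∀ r : ZMod p, σ (algebraMap (ZMod p) E r) = algebraMap (ZMod p) E r := by
    intro r
    have := Subsingleton.elim ((σ : E →+* E).comp (algebraMap (ZMod p) E)) (algebraMap (ZMod p) E)
    exact congrFun (congrArg DFunLike.coe this) r
  let s : E ≃ₐ[ZMod p] E := AlgEquiv.ofRingEquiv (f := σ) hcomm
  have hs : ∀ a, s a = σ a := fun _ => rfl
  obtain ⟨⟨k, hk⟩, hks⟩ := (bijective_frobeniusAlgEquivOfAlgebraic_pow (ZMod p) E).2 s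
  have hord := orderOf_frobeniusAlgEquivOfAlgebraic (ZMod p) E
  set n := Module.finrank (ZMod p) E with hn
  set φ := frobeniusAlgEquivOfAlgebraic (ZMod p) E with hφ
  have hks' : φ ^ k = s := hks
  have hφk : ∀ (j : ℕ) (a : E), (φ ^ j) a = a ^ p ^ j := by
    intro j a
    rw [AlgEquiv.coe_pow, coe_frobeniusAlgEquivOfAlgebraic_iterate, ZMod.card]
  have hcard : Fintype.card E = p ^ n := by
    rw [Module.card_eq_pow_finrank (K := ZMod p) (V := E), ZMod.card]
  have h3 : s ^ 3 = 1 := by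
    ext a
    have : (s ^ 3) a = s (s (s a)) := rfl
    rw [this, hs, hs, hs, hc]
    rfl
  have hdvd : n ∣ 3 * k := by
    rw [← hord]
    apply orderOf_dvd_of_pow_eq_one
    rw [mul_comm, pow_mul, hks', h3]
  have hk0 : k ≠ 0 := by
    rintro rfl
    obtain ⟨a, ha⟩ := h1
    apply ha
    rw [← hs, ← hks', pow_zero]
    rfl
  obtain ⟨j, hj⟩ := hdvd
  have hj3 : j < 3 := by
    by_contra h
    have : n * 3 ≤ n * j := Nat.mul_le_mul_left n (by omega)
    omega
  have hj0 : j ≠ 0 := by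
    rintro rfl
    omega
  have hj12 : j = 1 ∨ j = 2 := by omega
  rcases hj12 with rfl | rfl
  · refine ⟨p ^ k, hp.isPrimePow.pow hk0, ?_, Or.inl fun a => ?_⟩
    · rw [hcard, ← pow_mul]
      congr 1
      omega
    · rw [← hs, ← hks', hφk]
  · obtain ⟨i, rfl⟩ : ∃ i, k = 2 * i := ⟨k / 2, by omega⟩
    have hn3 : n = 3 * i := by omega
    refine ⟨p ^ i, hp.isPrimePow.pow (by omega), ?_, Or.inr fun a => ?_⟩
    · rw [hcard, ← pow_mul, hn3]
      congr 1
      omega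
    · have e : σ (σ a) = (φ ^ (2 * (2 * i))) a := by
        rw [two_mul (2 * i), pow_add, hks']
        rfl
      have e2 : φ ^ (2 * (2 * i)) = φ ^ i := by
        have e3 : 2 * (2 * i) = i + n := by omega
        rw [e3, pow_add, ← hord, pow_orderOf_eq_one, mul_one]
      rw [e, e2, hφk]

end Cfsg.Agent.Hexagon.CubeAut
end

-- part: GTwoOdd/HexRTwo
section
prune_inst 0x45703245116200000004a51270205cc7df0001920068800148a40f4606c0ef6209c229608c8035121a22260508350068135c007002200000000004000118018008881002a048000860009600018441000000000000000000000080000000000000c010000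
set_option linter.all false
open scoped Cfsg.Agent.FastGrp

-- part: GTwoOdd/HexDatum
section
/-!
# Rank two root data of type `G₂`, `³D₄` from two rank one groups

`One G E`: a rank one group inside `G` parametrised by the field `E`.
`HexDat G F K`: two rank one groups (`I` over `K`, root groups `X 1`; `J` over `F`, root group `X 6`) whose
tori act on each other, with the commutation table of a hexagonal root system.
-/

set_option autoImplicit false

namespace Cfsg.Agent.GTwoOdd.Hex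

/-- a group of type `SL₂` (or `PSL₂`) over `E` in `G` -/
structure One (G : Type*) [Group G] (E : Type*) [Field E] where
  x : E → G
  y : E → G
  n : G
  h : E → G
  x_add : ∀ a b, x (a + b) = x a * x b
  y_add : ∀ a b, y (a + b) = y a * y b
  nx : ∀ a, n * x a * n⁻¹ = y (-a)
  ny : ∀ a, n * y a * n⁻¹ = x (-a)
  nn : n * n = h (-1)
  nh : ∀ a, a ≠ 0 → n * h a * n⁻¹ = (h a)⁻¹
  h_mul : ∀ a b, a ≠ 0 → b ≠ 0 → h (a * b) = h a * h b
  hx : ∀ a b, a ≠ 0 → h a * x b * (h a)⁻¹ = x (a * a * b)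
  xyx : ∀ a, a ≠ 0 → x a * y (-a⁻¹) * x a = h a * n

namespace One

variable {G : Type*} [Group G] {E : Type*} [Field E] (O : One G E)

theorem x_zero : O.x 0 = 1 := by
  have h := O.x_add 0 0
  rw [add_zero] at h
  exact (left_eq_mul.mp h)

theorem y_zero : O.y 0 = 1 := by
  have h := O.y_add 0 0
  rw [add_zero] at h
  exact (left_eq_mul.mp h)

theorem x_neg (a : E) : O.x (-a) = (O.x a)⁻¹ := by
  apply eq_inv_of_mul_eq_one_left
  rw [← O.x_add, neg_add_cancel, O.x_zero]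

theorem y_neg (a : E) : O.y (-a) = (O.y a)⁻¹ := by
  apply eq_inv_of_mul_eq_one_left
  rw [← O.y_add, neg_add_cancel, O.y_zero]

theorem h_one : O.h 1 = 1 := by
  have h := O.h_mul 1 1 one_ne_zero one_ne_zero
  rw [mul_one] at h
  exact (left_eq_mul.mp h)

theorem n_eq : O.n = O.x 1 * O.y (-1) * O.x 1 := by
  have h := O.xyx 1 one_ne_zero
  rw [inv_one, O.h_one, one_mul] at h
  exact h.symm

theorem nh' {a : E} (ha : a ≠ 0) : MulAut.conj O.n (O.h a) = (O.h a)⁻¹ := O.nh a ha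

theorem h_inv {a : E} (ha : a ≠ 0) : O.h a⁻¹ = (O.h a)⁻¹ := by
  apply eq_inv_of_mul_eq_one_left
  rw [← O.h_mul _ _ (inv_ne_zero ha) ha, inv_mul_cancel₀ ha, O.h_one]

theorem h_comm {a b : E} (ha : a ≠ 0) (hb : b ≠ 0) : O.h a * O.h b = O.h b * O.h a := by
  rw [← O.h_mul a b ha hb, ← O.h_mul b a hb ha, mul_comm]

/-- `h a⁻¹ * n = n * h a` -/
theorem hn {a : E} (ha : a ≠ 0) : (O.h a)⁻¹ * O.n = O.n * O.h a := by
  have h := O.nh a ha
  rw [← h]
  group

end One

/-- The data: `I` over `K` (short roots), `J` over `F` (long roots). -/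
structure HexPre (G : Type*) [Group G] (F K : Type*) [Field F] [Field K] where
  I : One G K
  J : One G F
  /-- `I.h a` acts on `J.x` as multiplication by `(N a)⁻¹` -/
  N : K → F
  /-- `J.h u` acts on `I.x` as multiplication by `(β u)⁻¹` -/
  β : F → K
  N_zero : N 0 = 0
  β_zero : β 0 = 0
  N_ne : ∀ a, a ≠ 0 → N a ≠ 0
  β_ne : ∀ u, u ≠ 0 → β u ≠ 0
  N_neg_one : N (-1) = -1
  β_neg_one : β (-1) = -1
  IJx : ∀ a u, a ≠ 0 → I.h a * J.x u * (I.h a)⁻¹ = J.x ((N a)⁻¹ * u)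
  IJy : ∀ a u, a ≠ 0 → I.h a * J.y u * (I.h a)⁻¹ = J.y (N a * u)
  JIx : ∀ u a, u ≠ 0 → J.h u * I.x a * (J.h u)⁻¹ = I.x ((β u)⁻¹ * a)
  JIy : ∀ u a, u ≠ 0 → J.h u * I.y a * (J.h u)⁻¹ = I.y (β u * a)

namespace HexPre

variable {G : Type*} [Group G] {F K : Type*} [Field F] [Field K] (D : HexPre G F K)

/-- root elements -/
def x1 (a : K) : G := D.I.x a
def y1 (a : K) : G := D.I.y a
def x6 (u : F) : G := D.J.x u
def y6 (u : F) : G := D.J.y u
def x2 (u : F) : G := MulAut.conj D.I.n (D.x6 u)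
def x4 (u : F) : G := MulAut.conj D.J.n (D.x2 u)
def x5 (a : K) : G := MulAut.conj D.J.n (D.x1 a)
def x3 (a : K) : G := MulAut.conj D.I.n (D.x5 a)

theorem x1_add (a b : K) : D.x1 (a + b) = D.x1 a * D.x1 b := D.I.x_add a b
theorem y1_add (a b : K) : D.y1 (a + b) = D.y1 a * D.y1 b := D.I.y_add a b
theorem x6_add (a b : F) : D.x6 (a + b) = D.x6 a * D.x6 b := D.J.x_add a b
theorem y6_add (a b : F) : D.y6 (a + b) = D.y6 a * D.y6 b := D.J.y_add a b
theorem x2_add (a b : F) : D.x2 (a + b) = D.x2 a * D.x2 b := by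
  simp only [x2, x6_add, map_mul]
theorem x4_add (a b : F) : D.x4 (a + b) = D.x4 a * D.x4 b := by
  simp only [x4, x2_add, map_mul]
theorem x5_add (a b : K) : D.x5 (a + b) = D.x5 a * D.x5 b := by
  simp only [x5, x1_add, map_mul]
theorem x3_add (a b : K) : D.x3 (a + b) = D.x3 a * D.x3 b := by
  simp only [x3, x5_add, map_mul]

theorem x1_zero : D.x1 0 = 1 := D.I.x_zero
theorem y1_zero : D.y1 0 = 1 := D.I.y_zero
theorem x6_zero : D.x6 0 = 1 := D.J.x_zero
theorem y6_zero : D.y6 0 = 1 := D.J.y_zero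
theorem x2_zero : D.x2 0 = 1 := by simp only [x2, x6_zero, map_one]
theorem x4_zero : D.x4 0 = 1 := by simp only [x4, x2_zero, map_one]
theorem x5_zero : D.x5 0 = 1 := by simp only [x5, x1_zero, map_one]
theorem x3_zero : D.x3 0 = 1 := by simp only [x3, x5_zero, map_one]

theorem x1_neg (a : K) : D.x1 (-a) = (D.x1 a)⁻¹ := D.I.x_neg a
theorem y1_neg (a : K) : D.y1 (-a) = (D.y1 a)⁻¹ := D.I.y_neg a
theorem x6_neg (a : F) : D.x6 (-a) = (D.x6 a)⁻¹ := D.J.x_neg a
theorem y6_neg (a : F) : D.y6 (-a) = (D.y6 a)⁻¹ := D.J.y_neg a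
theorem x2_neg (a : F) : D.x2 (-a) = (D.x2 a)⁻¹ := by simp only [x2, x6_neg, map_inv]
theorem x4_neg (a : F) : D.x4 (-a) = (D.x4 a)⁻¹ := by simp only [x4, x2_neg, map_inv]
/-- the elements -/
abbrev nI : G := D.I.n
abbrev nJ : G := D.J.n
abbrev hI (a : K) : G := D.I.h a
abbrev hJ (u : F) : G := D.J.h u

theorem conj_mul_apply (g h x : G) : MulAut.conj (g * h) x = MulAut.conj g (MulAut.conj h x) := by
  rw [map_mul]; rfl

theorem hI_x1 {a : K} (ha : a ≠ 0) (b : K) : MulAut.conj (D.hI a) (D.x1 b) = D.x1 (a * a * b) := D.I.hx a b ha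
theorem hI_x6 {a : K} (ha : a ≠ 0) (u : F) : MulAut.conj (D.hI a) (D.x6 u) = D.x6 ((D.N a)⁻¹ * u) := D.IJx a u ha
theorem hI_y6 {a : K} (ha : a ≠ 0) (u : F) : MulAut.conj (D.hI a) (D.y6 u) = D.y6 (D.N a * u) := D.IJy a u ha
theorem hJ_x6 {u : F} (hu : u ≠ 0) (v : F) : MulAut.conj (D.hJ u) (D.x6 v) = D.x6 (u * u * v) := D.J.hx u v hu
theorem hJ_x1 {u : F} (hu : u ≠ 0) (a : K) : MulAut.conj (D.hJ u) (D.x1 a) = D.x1 ((D.β u)⁻¹ * a) := D.JIx u a hu
theorem hJ_y1 {u : F} (hu : u ≠ 0) (a : K) : MulAut.conj (D.hJ u) (D.y1 a) = D.y1 (D.β u * a) := D.JIy u a hu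

theorem conj_inv_of {g x y : G} (h : MulAut.conj g x = y) : MulAut.conj g⁻¹ y = x := by
  rw [← h, map_inv, MulAut.inv_apply_self]

theorem hI_inv_x6 {a : K} (ha : a ≠ 0) (u : F) : MulAut.conj (D.hI a)⁻¹ (D.x6 u) = D.x6 (D.N a * u) := by
  apply conj_inv_of
  rw [D.hI_x6 ha, ← mul_assoc, inv_mul_cancel₀ (D.N_ne a ha), one_mul]

theorem hJ_inv_x1 {u : F} (hu : u ≠ 0) (a : K) : MulAut.conj (D.hJ u)⁻¹ (D.x1 a) = D.x1 (D.β u * a) := by
  apply conj_inv_of
  rw [D.hJ_x1 hu, ← mul_assoc, inv_mul_cancel₀ (D.β_ne u hu), one_mul]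

/-- `hI a` on `nJ` -/
theorem hI_nJ {a : K} (ha : a ≠ 0) : MulAut.conj (D.hI a) D.nJ = D.hJ (D.N a)⁻¹ * D.nJ := by
  have h0 : (D.N a)⁻¹ ≠ 0 := inv_ne_zero (D.N_ne a ha)
  rw [nJ, D.J.n_eq, map_mul, map_mul]
  have e1 : MulAut.conj (D.hI a) (D.J.x 1) = D.J.x (D.N a)⁻¹ := by
    have := D.hI_x6 ha 1
    rwa [mul_one] at this
  have e2 : MulAut.conj (D.hI a) (D.J.y (-1)) = D.J.y (-((D.N a)⁻¹)⁻¹) := by
    have := D.hI_y6 ha (-1)
    rw [mul_neg_one] at this
    rw [inv_inv]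
    exact this
  rw [e1, e2, D.J.xyx _ h0, ← D.J.n_eq]

/-- `hJ u` on `nI` -/
theorem hJ_nI {u : F} (hu : u ≠ 0) : MulAut.conj (D.hJ u) D.nI = D.hI (D.β u)⁻¹ * D.nI := by
  have h0 : (D.β u)⁻¹ ≠ 0 := inv_ne_zero (D.β_ne u hu)
  rw [nI, D.I.n_eq, map_mul, map_mul]
  have e1 : MulAut.conj (D.hJ u) (D.I.x 1) = D.I.x (D.β u)⁻¹ := by
    have := D.hJ_x1 hu 1
    rwa [mul_one] at this
  have e2 : MulAut.conj (D.hJ u) (D.I.y (-1)) = D.I.y (-((D.β u)⁻¹)⁻¹) := by
    have := D.hJ_y1 hu (-1)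
    rw [mul_neg_one] at this
    rw [inv_inv]
    exact this
  rw [e1, e2, D.I.xyx _ h0, ← D.I.n_eq]

/-- conjugation of a conjugate -/
theorem conj_conj (g n x : G) : MulAut.conj g (MulAut.conj n x) = MulAut.conj (MulAut.conj g n) (MulAut.conj g x) := by
  simp only [MulAut.conj_apply]; group

/-! ### weights -/

theorem hI_x2 {a : K} (ha : a ≠ 0) (u : F) : MulAut.conj (D.hI a) (D.x2 u) = D.x2 (D.N a * u) := by
  have h := D.I.hn ha
  have e : D.hI a * D.nI = D.nI * (D.hI a)⁻¹ := by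
    have := D.I.hn (inv_ne_zero ha)
    rw [D.I.h_inv ha, inv_inv] at this
    exact this
  rw [x2, ← conj_mul_apply, show D.hI a * D.I.n = D.I.n * (D.hI a)⁻¹ from e, conj_mul_apply, D.hI_inv_x6 ha]
  rfl

theorem hJ_x5 {u : F} (hu : u ≠ 0) (a : K) : MulAut.conj (D.hJ u) (D.x5 a) = D.x5 (D.β u * a) := by
  have e : D.hJ u * D.J.n = D.J.n * (D.hJ u)⁻¹ := by
    have := D.J.hn (inv_ne_zero hu)
    rw [D.J.h_inv hu, inv_inv] at this
    exact this
  rw [x5, ← conj_mul_apply, e, conj_mul_apply, D.hJ_inv_x1 hu]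
  rfl

theorem hI_x5 {a : K} (ha : a ≠ 0) (b : K) :
    MulAut.conj (D.hI a) (D.x5 b) = D.x5 (D.β (D.N a)⁻¹ * (a * a * b)) := by
  have h0 : (D.N a)⁻¹ ≠ 0 := inv_ne_zero (D.N_ne a ha)
  rw [x5, conj_conj, D.hI_x1 ha, show D.J.n = D.nJ from rfl, D.hI_nJ ha, conj_mul_apply]
  exact D.hJ_x5 h0 _

theorem hJ_x2 {u : F} (hu : u ≠ 0) (v : F) :
    MulAut.conj (D.hJ u) (D.x2 v) = D.x2 (D.N (D.β u)⁻¹ * (u * u * v)) := by
  have h0 : (D.β u)⁻¹ ≠ 0 := inv_ne_zero (D.β_ne u hu)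
  rw [x2, conj_conj, D.hJ_x6 hu, show D.I.n = D.nI from rfl, D.hJ_nI hu, conj_mul_apply]
  exact D.hI_x2 h0 _

theorem neg_one_ne : (-1 : K) ≠ 0 := neg_ne_zero.2 one_ne_zero

theorem inv_neg_one' {E : Type*} [Field E] : (-1 : E)⁻¹ = -1 := by norm_num

/-! ### the action of `nI`, `nJ` -/

theorem nI_x1 (a : K) : MulAut.conj D.nI (D.x1 a) = D.y1 (-a) := D.I.nx a
theorem nI_y1 (a : K) : MulAut.conj D.nI (D.y1 a) = D.x1 (-a) := D.I.ny a
theorem nI_x6 (u : F) : MulAut.conj D.nI (D.x6 u) = D.x2 u := rfl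
theorem nI_x2 (u : F) : MulAut.conj D.nI (D.x2 u) = D.x6 (-u) := by
  rw [x2, ← conj_mul_apply, show D.nI * D.I.n = D.hI (-1) from D.I.nn, D.hI_x6 neg_one_ne, D.N_neg_one, inv_neg_one',
    neg_one_mul]
theorem nI_x5 (a : K) : MulAut.conj D.nI (D.x5 a) = D.x3 a := rfl
theorem nI_x3 (a : K) : MulAut.conj D.nI (D.x3 a) = D.x5 (-a) := by
  rw [x3, ← conj_mul_apply, show D.nI * D.I.n = D.hI (-1) from D.I.nn, D.hI_x5 neg_one_ne, D.N_neg_one, inv_neg_one',
    D.β_neg_one]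
  congr 1
  ring

theorem nJ_x6 (a : F) : MulAut.conj D.nJ (D.x6 a) = D.y6 (-a) := D.J.nx a
theorem nJ_y6 (a : F) : MulAut.conj D.nJ (D.y6 a) = D.x6 (-a) := D.J.ny a
theorem nJ_x1 (a : K) : MulAut.conj D.nJ (D.x1 a) = D.x5 a := rfl
theorem nJ_x5 (a : K) : MulAut.conj D.nJ (D.x5 a) = D.x1 (-a) := by
  rw [x5, ← conj_mul_apply, show D.nJ * D.J.n = D.hJ (-1) from D.J.nn, D.hJ_x1 (neg_ne_zero.2 one_ne_zero), D.β_neg_one,
    inv_neg_one', neg_one_mul]
theorem nJ_x2 (u : F) : MulAut.conj D.nJ (D.x2 u) = D.x4 u := rfl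
theorem nJ_x4 (u : F) : MulAut.conj D.nJ (D.x4 u) = D.x2 (-u) := by
  rw [x4, ← conj_mul_apply, show D.nJ * D.J.n = D.hJ (-1) from D.J.nn, D.hJ_x2 (neg_ne_zero.2 one_ne_zero), D.β_neg_one,
    inv_neg_one', D.N_neg_one]
  congr 1
  ring

theorem hJ_x4 {u : F} (hu : u ≠ 0) (v : F) :
    MulAut.conj (D.hJ u) (D.x4 v) = D.x4 ((D.N (D.β u)⁻¹)⁻¹ * ((u * u)⁻¹ * v)) := by
  have h0 : (D.β u)⁻¹ ≠ 0 := inv_ne_zero (D.β_ne u hu)
  have e : D.hJ u * D.J.n = D.J.n * (D.hJ u)⁻¹ := by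
    have := D.J.hn (inv_ne_zero hu)
    rw [D.J.h_inv hu, inv_inv] at this
    exact this
  have h1 : MulAut.conj (D.hJ u)⁻¹ (D.x2 v) = D.x2 ((D.N (D.β u)⁻¹)⁻¹ * ((u * u)⁻¹ * v)) := by
    apply conj_inv_of
    rw [D.hJ_x2 hu]
    congr 1
    have h2 := D.N_ne _ h0
    generalize D.N (D.β u)⁻¹ = c at h2 ⊢
    field_simp
  rw [x4, ← conj_mul_apply, e, conj_mul_apply, h1]
  rfl

end HexPre

end Cfsg.Agent.GTwoOdd.Hex
end

-- part: GTwoOdd/HexTable
section
/-!
# The commutation table and the first components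
-/

set_option autoImplicit false

namespace Cfsg.Agent.GTwoOdd.Hex

/-- The data with the commutation table of a hexagonal root system (`X 4` is central in the
positive part). -/
structure HexDat (G : Type*) [Group G] (F K : Type*) [Field F] [Field K] extends HexPre G F K where
  two : (2 : F) ≠ 0
  two' : (2 : K) ≠ 0
  c14 : ∀ a v, Commute (toHexPre.x1 a) (toHexPre.x4 v)
  cy14 : ∀ a v, Commute (toHexPre.y1 a) (toHexPre.x4 v)
  c36 : ∀ a v, Commute (toHexPre.x3 a) (toHexPre.x6 v)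
  cy36 : ∀ a v, Commute (toHexPre.x3 a) (toHexPre.y6 v)
  c24 : ∀ u v, Commute (toHexPre.x2 u) (toHexPre.x4 v)
  c34 : ∀ a v, Commute (toHexPre.x3 a) (toHexPre.x4 v)
  i13 : ∀ a b, ∃ u, toHexPre.x1 a * toHexPre.x3 b = toHexPre.x2 u * toHexPre.x3 b * toHexPre.x1 a
  i26 : ∀ u v, ∃ c, toHexPre.x6 u * toHexPre.x2 v = toHexPre.x4 c * toHexPre.x2 v * toHexPre.x6 u
  i15 : ∀ a b, ∃ A B C, toHexPre.x1 a * toHexPre.x5 b =
    toHexPre.x2 A * toHexPre.x3 B * toHexPre.x4 C * toHexPre.x5 b * toHexPre.x1 a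
  i16 : ∀ a u, ∃ A B C R, toHexPre.x1 a * toHexPre.x6 u =
    toHexPre.x2 A * toHexPre.x3 B * toHexPre.x4 C * toHexPre.x5 R * toHexPre.x6 u * toHexPre.x1 a
  uniq : ∀ a b c d e f, toHexPre.x2 b * toHexPre.x3 c * toHexPre.x4 d * toHexPre.x5 e * toHexPre.x6 f * toHexPre.x1 a = 1 →
    a = 0 ∧ b = 0 ∧ c = 0 ∧ d = 0 ∧ e = 0 ∧ f = 0

namespace HexDat

open HexPre

variable {G : Type*} [Group G] {F K : Type*} [Field F] [Field K] (D : HexDat G F K)

theorem comm_map (g : G) {x y : G} (h : Commute x y) : Commute (MulAut.conj g x) (MulAut.conj g y) :=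
  h.map (MulAut.conj g)

theorem c46 (u v : F) : Commute (D.x4 u) (D.x6 v) := by
  have h := comm_map D.nI (D.c24 (-v) u)
  rw [D.nI_x2, neg_neg] at h
  have e : MulAut.conj D.nI (D.x4 u) = D.x4 u := by
    have h1 := D.c14 1 u
    have h2 := D.cy14 (-1) u
    have h3 : Commute D.nI (D.x4 u) := by
      have : D.nI = D.x1 1 * D.y1 (-1) * D.x1 1 := D.I.n_eq
      rw [this]
      exact (h1.mul_left h2).mul_left h1
    rw [MulAut.conj_apply, h3.eq]
    group
  rw [e] at h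
  exact h.symm

theorem nI_x4 (u : F) : MulAut.conj D.nI (D.x4 u) = D.x4 u := by
  have h1 := D.c14 1 u
  have h2 := D.cy14 (-1) u
  have h3 : Commute D.nI (D.x4 u) := by
    have : D.nI = D.x1 1 * D.y1 (-1) * D.x1 1 := D.I.n_eq
    rw [this]
    exact (h1.mul_left h2).mul_left h1
  rw [MulAut.conj_apply, h3.eq]
  group

theorem nJ_x3 (a : K) : MulAut.conj D.nJ (D.x3 a) = D.x3 a := by
  have h1 := (D.c36 a 1).symm
  have h2 := (D.cy36 a (-1)).symm
  have h3 : Commute D.nJ (D.x3 a) := by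
    have : D.nJ = D.x6 1 * D.y6 (-1) * D.x6 1 := D.J.n_eq
    rw [this]
    exact (h1.mul_left h2).mul_left h1
  rw [MulAut.conj_apply, h3.eq]
  group

theorem c45 (u : F) (a : K) : Commute (D.x4 u) (D.x5 a) := by
  have h := comm_map D.nI (D.c34 (-a) u)
  rw [D.nI_x3, neg_neg, D.nI_x4] at h
  exact h.symm

theorem c12 (a : K) (u : F) : Commute (D.x1 a) (D.x2 u) := by
  have h := comm_map D.nJ (D.c45 (-u) (-a))
  rw [D.nJ_x5, neg_neg, D.nJ_x4, neg_neg] at h
  exact h.symm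

theorem c23 (u : F) (a : K) : Commute (D.x2 u) (D.x3 a) := by
  have h := comm_map D.nJ (D.c34 a (-u))
  rw [D.nJ_x3, D.nJ_x4, neg_neg] at h
  exact h.symm

theorem c56 (a : K) (u : F) : Commute (D.x5 a) (D.x6 u) := by
  have h := comm_map D.nI (D.c23 (-u) (-a))
  rw [D.nI_x3, neg_neg, D.nI_x2, neg_neg] at h
  exact h.symm

theorem c25 (u : F) (a : K) : Commute (D.x2 u) (D.x5 a) := by
  have h := comm_map D.nJ (D.c14 a (-u))
  rw [D.nJ_x1, D.nJ_x4, neg_neg] at h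
  exact h.symm

theorem cy26 (v u : F) : Commute (D.x2 v) (D.y6 u) := by
  have h := comm_map D.nJ (D.c46 (-v) (-u))
  rw [D.nJ_x4, neg_neg, D.nJ_x6, neg_neg] at h
  exact h

/-! ### the maps -/

/-- `[x1 a, x3 b] = x2 (T a b)` -/
noncomputable def T (a b : K) : F := (D.i13 a b).choose

theorem x1_x3 (a b : K) : D.x1 a * D.x3 b = D.x2 (D.T a b) * D.x3 b * D.x1 a := (D.i13 a b).choose_spec

theorem x5_x3 (a b : K) : D.x5 a * D.x3 b = D.x4 (D.T a b) * D.x3 b * D.x5 a := by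
  have h := congrArg (MulAut.conj D.nJ) (D.x1_x3 a b)
  rwa [map_mul, map_mul, map_mul, D.nJ_x1, D.nJ_x3, D.nJ_x2] at h

/-- normal form -/
def nf (b : F) (c : K) (d : F) (e : K) (f : F) : G := D.x2 b * D.x3 c * D.x4 d * D.x5 e * D.x6 f

theorem uniq' {a : K} {b : F} {c : K} {d : F} {e : K} {f : F} (h : D.nf b c d e f * D.x1 a = 1) :
    a = 0 ∧ b = 0 ∧ c = 0 ∧ d = 0 ∧ e = 0 ∧ f = 0 := D.uniq a b c d e f h

/-! ### uniqueness -/

theorem x1_inj {a b : K} (h : D.x1 a = D.x1 b) : a = b := by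
  have h1 : D.nf 0 0 0 0 0 * D.x1 (a - b) = 1 := by
    rw [nf, D.x2_zero, D.x3_zero, D.x4_zero, D.x5_zero, D.x6_zero, sub_eq_add_neg, D.x1_add, D.x1_neg, h]
    group
  exact sub_eq_zero.1 (D.uniq' h1).1

theorem x6_inj {a b : F} (h : D.x6 a = D.x6 b) : a = b := by
  have h1 : D.nf 0 0 0 0 (a - b) * D.x1 0 = 1 := by
    rw [nf, D.x2_zero, D.x3_zero, D.x4_zero, D.x5_zero, D.x1_zero, sub_eq_add_neg, D.x6_add, D.x6_neg, h]
    group
  exact sub_eq_zero.1 (D.uniq' h1).2.2.2.2.2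

theorem x24_eq_one {b d : F} (h : D.x2 b * D.x4 d = 1) : b = 0 ∧ d = 0 := by
  have h1 : D.nf b 0 d 0 0 * D.x1 0 = 1 := by
    rw [nf, D.x3_zero, D.x5_zero, D.x6_zero, D.x1_zero]
    simpa using h
  exact ⟨(D.uniq' h1).2.1, (D.uniq' h1).2.2.2.1⟩

theorem x4_inj {a b : F} (h : D.x4 a = D.x4 b) : a = b := by
  have h1 : D.x2 0 * D.x4 (a - b) = 1 := by
    rw [D.x2_zero, sub_eq_add_neg, D.x4_add, D.x4_neg, h]
    group
  exact sub_eq_zero.1 (D.x24_eq_one h1).2

/-! ### `N` and `β` are multiplicative -/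

theorem β_one : D.β 1 = 1 := by
  have h := D.hJ_x1 one_ne_zero 1
  rw [show D.hJ 1 = 1 from D.J.h_one, map_one, MulAut.one_apply] at h
  have h1 := D.x1_inj h
  rw [mul_one] at h1
  rw [← inv_inv (D.β 1), ← h1, inv_one]

theorem N_one : D.N 1 = 1 := by
  have h := D.hI_x6 one_ne_zero 1
  rw [show D.hI 1 = 1 from D.I.h_one, map_one, MulAut.one_apply] at h
  have h1 := D.x6_inj h
  rw [mul_one] at h1
  rw [← inv_inv (D.N 1), ← h1, inv_one]

theorem β_mul (u v : F) : D.β (u * v) = D.β u * D.β v := by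
  by_cases hu : u = 0
  · rw [hu, zero_mul, D.β_zero, zero_mul]
  by_cases hv : v = 0
  · rw [hv, mul_zero, D.β_zero, mul_zero]
  have h := D.hJ_x1 (mul_ne_zero hu hv) 1
  rw [show D.hJ (u * v) = D.hJ u * D.hJ v from D.J.h_mul u v hu hv, conj_mul_apply, D.hJ_x1 hv, D.hJ_x1 hu] at h
  have h1 := D.x1_inj h
  rw [mul_one, mul_one, ← mul_inv] at h1
  exact (inv_injective h1).symm

theorem N_mul (a b : K) : D.N (a * b) = D.N a * D.N b := by
  by_cases ha : a = 0
  · rw [ha, zero_mul, D.N_zero, zero_mul]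
  by_cases hb : b = 0
  · rw [hb, mul_zero, D.N_zero, mul_zero]
  have h := D.hI_x6 (mul_ne_zero ha hb) 1
  rw [show D.hI (a * b) = D.hI a * D.hI b from D.I.h_mul a b ha hb, conj_mul_apply, D.hI_x6 hb, D.hI_x6 ha] at h
  have h1 := D.x6_inj h
  rw [mul_one, mul_one, ← mul_inv] at h1
  exact (inv_injective h1).symm

theorem β_inv (u : F) : D.β u⁻¹ = (D.β u)⁻¹ := by
  by_cases hu : u = 0
  · rw [hu, inv_zero, D.β_zero, inv_zero]
  apply eq_inv_of_mul_eq_one_left
  rw [← D.β_mul, inv_mul_cancel₀ hu, D.β_one]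

theorem N_inv (a : K) : D.N a⁻¹ = (D.N a)⁻¹ := by
  by_cases ha : a = 0
  · rw [ha, inv_zero, D.N_zero, inv_zero]
  apply eq_inv_of_mul_eq_one_left
  rw [← D.N_mul, inv_mul_cancel₀ ha, D.N_one]

/-! ### `x6` on `x2` -/

noncomputable def kk (u v : F) : F := (D.i26 u v).choose

theorem x6_x2' (u v : F) : D.x6 u * D.x2 v = D.x4 (D.kk u v) * D.x2 v * D.x6 u := (D.i26 u v).choose_spec

theorem kk_zero_right (u : F) : D.kk u 0 = 0 := by
  have h := D.x6_x2' u 0
  rw [D.x2_zero, mul_one, mul_one] at h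
  have h1 : D.x4 (D.kk u 0) = D.x4 0 := by
    rw [D.x4_zero]
    exact (right_eq_mul.mp h)
  exact D.x4_inj h1

theorem conj_x6_x2 (u v : F) : MulAut.conj (D.x6 u) (D.x2 v) = D.x4 (D.kk u v) * D.x2 v := by
  rw [MulAut.conj_apply, D.x6_x2']
  group

theorem conj_y6_x4 (u v : F) : MulAut.conj (D.y6 u) (D.x4 v) = D.x2 (-D.kk (-u) v) * D.x4 v := by
  have h := congrArg (MulAut.conj D.nJ) (D.conj_x6_x2 (-u) v)
  rw [conj_conj, D.nJ_x6, neg_neg, D.nJ_x2, map_mul, D.nJ_x4, D.nJ_x2] at h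
  exact h

theorem conj_of_commute {x y : G} (h : Commute x y) : MulAut.conj x y = y := by
  rw [MulAut.conj_apply, h.eq]
  group

theorem kk_eq {u : F} (hu : u ≠ 0) (v : F) : D.kk u v = (D.N (D.β u)⁻¹)⁻¹ * ((u * u)⁻¹ * v) := by
  have h1 : D.x6 u * D.y6 (-u⁻¹) * D.x6 u = D.hJ u * D.nJ := D.J.xyx u hu
  have h2 := congrArg (fun g => MulAut.conj g (D.x2 v)) h1
  simp only [conj_mul_apply] at h2
  rw [D.nJ_x2, D.hJ_x4 hu, D.conj_x6_x2, map_mul, D.conj_y6_x4, conj_of_commute (D.cy26 v (-u⁻¹)).symm, mul_assoc,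
    (D.c24 v (D.kk u v)).symm.eq, ← mul_assoc, ← D.x2_add, map_mul, D.conj_x6_x2,
    conj_of_commute (D.c46 (D.kk u v) u).symm] at h2
  set w := (D.N (D.β u)⁻¹)⁻¹ * ((u * u)⁻¹ * v) with hw
  set z := -D.kk (- -u⁻¹) (D.kk u v) + v with hz
  have h3 : D.x2 z * D.x4 (D.kk u z + D.kk u v - w) = 1 := by
    rw [sub_eq_add_neg, D.x4_add, D.x4_add, D.x4_neg, ← h2]
    have := (D.c24 z (D.kk u z)).eq
    rw [← mul_assoc, ← mul_assoc, this]
    group
  obtain ⟨h4, h5⟩ := D.x24_eq_one h3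
  rw [h4, D.kk_zero_right, zero_add] at h5
  exact sub_eq_zero.1 h5

theorem kk_symm (u v : F) : D.kk u v = - D.kk (-v) u := by
  have h := congrArg (MulAut.conj D.nI) (D.conj_x6_x2 u v)
  rw [conj_conj, D.nI_x6, D.nI_x2, map_mul, D.nI_x4, D.nI_x2] at h
  have h1 := D.x6_x2' (-v) u
  have h2 : D.x2 u * D.x6 (-v) = D.x4 (D.kk u v) * D.x6 (-v) * D.x2 u := by
    rw [MulAut.conj_apply] at h
    exact mul_inv_eq_iff_eq_mul.1 h
  have h3 : D.x4 (D.kk (-v) u) * D.x4 (D.kk u v) = 1 := by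
    have h4 : D.x4 (D.kk (-v) u) * (D.x4 (D.kk u v) * D.x6 (-v) * D.x2 u) = D.x6 (-v) * D.x2 u := by
      rw [← h2, h1, mul_assoc]
    have h5 : D.x4 (D.kk (-v) u) * D.x4 (D.kk u v) * (D.x6 (-v) * D.x2 u) = 1 * (D.x6 (-v) * D.x2 u) := by
      rw [one_mul, mul_assoc, ← mul_assoc (D.x4 (D.kk u v)), h4]
    exact mul_right_cancel h5
  rw [← D.x4_add, ← D.x4_zero] at h3
  have h6 := D.x4_inj h3
  linear_combination h6

theorem kk_one (v : F) : D.kk 1 v = v := by
  rw [D.kk_eq one_ne_zero, D.β_one, inv_one, D.N_one, inv_one, mul_one, inv_one, one_mul, one_mul]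

theorem kk_mul (u v : F) : D.kk u v = u * v := by
  have key : ∀ u v : F, u ≠ 0 → D.kk u v = u * v := by
    intro u v hu
    have h1 : ∀ w : F, w ≠ 0 → (D.N (D.β w)⁻¹)⁻¹ * (w * w)⁻¹ = w := by
      intro w hw
      have h2 := D.kk_symm 1 (-w)
      rw [D.kk_one, neg_neg, D.kk_eq hw 1, mul_one] at h2
      linear_combination h2
    rw [D.kk_eq hu, ← mul_assoc, h1 u hu]
  by_cases hu : u = 0
  · rw [hu, zero_mul, D.kk_symm]
    by_cases hv : v = 0
    · rw [hv, neg_zero, D.kk_zero_right, neg_zero]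
    · rw [D.kk_zero_right, neg_zero]
  · exact key u v hu

/-- `x6 u` on `x2 v` -/
theorem x6_x2 (u v : F) : D.x6 u * D.x2 v = D.x4 (u * v) * D.x2 v * D.x6 u := by
  rw [D.x6_x2', D.kk_mul]

theorem N_β (u : F) : D.N (D.β u) = u * u * u := by
  by_cases hu : u = 0
  · rw [hu, D.β_zero, D.N_zero, mul_zero]
  have h := D.kk_eq hu 1
  have h0 := D.N_ne _ (D.β_ne u hu)
  rw [D.kk_mul, mul_one, mul_one, D.N_inv, inv_inv] at h
  field_simp at h
  linear_combination -h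

theorem hJ_x2' {u : F} (hu : u ≠ 0) (v : F) : MulAut.conj (D.hJ u) (D.x2 v) = D.x2 (u⁻¹ * v) := by
  rw [D.hJ_x2 hu, D.N_inv, D.N_β]
  congr 1
  field_simp

end HexDat

end Cfsg.Agent.GTwoOdd.Hex
end

-- part: GTwoOdd/HexRel
section
/-!
# The positive relations
-/

set_option autoImplicit false
set_option linter.unusedSimpArgs false

namespace Cfsg.Agent.GTwoOdd.Hex

namespace HexDat

open HexPre

variable {G : Type*} [Group G] {F K : Type*} [Field F] [Field K] (D : HexDat G F K)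

/-! ### the remaining maps -/

noncomputable def P5 (a b : K) : F := (D.i15 a b).choose
noncomputable def Q5 (a b : K) : K := (D.i15 a b).choose_spec.choose
noncomputable def M5 (a b : K) : F := (D.i15 a b).choose_spec.choose_spec.choose

theorem x1_x5' (a b : K) : D.x1 a * D.x5 b =
    D.x2 (D.P5 a b) * D.x3 (D.Q5 a b) * D.x4 (D.M5 a b) * D.x5 b * D.x1 a :=
  (D.i15 a b).choose_spec.choose_spec.choose_spec

noncomputable def A6 (a : K) (u : F) : F := (D.i16 a u).choose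
noncomputable def S6 (a : K) (u : F) : K := (D.i16 a u).choose_spec.choose
noncomputable def M6 (a : K) (u : F) : F := (D.i16 a u).choose_spec.choose_spec.choose
noncomputable def R6 (a : K) (u : F) : K := (D.i16 a u).choose_spec.choose_spec.choose_spec.choose

theorem x1_x6' (a : K) (u : F) : D.x1 a * D.x6 u =
    D.x2 (D.A6 a u) * D.x3 (D.S6 a u) * D.x4 (D.M6 a u) * D.x5 (D.R6 a u) * D.x6 u * D.x1 a :=
  (D.i16 a u).choose_spec.choose_spec.choose_spec.choose_spec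

/-! ### collection -/

theorem r32 (a : K) (v : F) : D.x3 a * D.x2 v = D.x2 v * D.x3 a := (D.c23 v a).symm.eq
theorem r42 (u v : F) : D.x4 u * D.x2 v = D.x2 v * D.x4 u := (D.c24 v u).symm.eq
theorem r43 (u : F) (a : K) : D.x4 u * D.x3 a = D.x3 a * D.x4 u := (D.c34 a u).symm.eq
theorem r52 (a : K) (v : F) : D.x5 a * D.x2 v = D.x2 v * D.x5 a := (D.c25 v a).symm.eq
theorem r53 (a b : K) : D.x5 a * D.x3 b = D.x3 b * (D.x4 (D.T a b) * D.x5 a) := by
  rw [D.x5_x3, D.r43, mul_assoc]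
theorem r54 (a : K) (v : F) : D.x5 a * D.x4 v = D.x4 v * D.x5 a := (D.c45 v a).symm.eq
theorem r62 (u v : F) : D.x6 u * D.x2 v = D.x2 v * (D.x4 (u * v) * D.x6 u) := by
  rw [D.x6_x2, D.r42, mul_assoc]
theorem r63 (u : F) (a : K) : D.x6 u * D.x3 a = D.x3 a * D.x6 u := (D.c36 a u).symm.eq
theorem r64 (u v : F) : D.x6 u * D.x4 v = D.x4 v * D.x6 u := (D.c46 v u).symm.eq
theorem r65 (u : F) (a : K) : D.x6 u * D.x5 a = D.x5 a * D.x6 u := (D.c56 a u).symm.eq
theorem r12 (a : K) (v : F) : D.x1 a * D.x2 v = D.x2 v * D.x1 a := (D.c12 a v).eq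
theorem r13 (a b : K) : D.x1 a * D.x3 b = D.x2 (D.T a b) * (D.x3 b * D.x1 a) := by
  rw [D.x1_x3, mul_assoc]
theorem r14 (a : K) (v : F) : D.x1 a * D.x4 v = D.x4 v * D.x1 a := (D.c14 a v).eq
theorem r15 (a b : K) : D.x1 a * D.x5 b =
    D.x2 (D.P5 a b) * (D.x3 (D.Q5 a b) * (D.x4 (D.M5 a b) * (D.x5 b * D.x1 a))) := by
  rw [D.x1_x5']; simp only [mul_assoc]
theorem r16 (a : K) (u : F) : D.x1 a * D.x6 u =
    D.x2 (D.A6 a u) * (D.x3 (D.S6 a u) * (D.x4 (D.M6 a u) * (D.x5 (D.R6 a u) * (D.x6 u * D.x1 a)))) := by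
  rw [D.x1_x6']; simp only [mul_assoc]

theorem tail {a b c : G} (h : a * b = c) (z : G) : a * (b * z) = c * z := by rw [← mul_assoc, h]

theorem nf_mul (b : F) (c : K) (d : F) (e : K) (f : F) (b' : F) (c' : K) (d' : F) (e' : K) (f' : F) :
    D.nf b c d e f * D.nf b' c' d' e' f' =
      D.nf (b + b') (c + c') (d + d' + f * b' + D.T e c') (e + e') (f + f') := by
  have e1 : d + d' + f * b' + D.T e c' = d + (D.T e c' + (f * b' + d')) := by ring
  rw [e1]
  simp only [nf, D.x2_add, D.x3_add, D.x4_add, D.x5_add, D.x6_add, mul_assoc]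
  simp only [D.r32, D.r42, D.r43, D.r52, D.r53, D.r54, D.r62, D.r63, D.r64, D.r65, tail (D.r32 _ _), tail (D.r42 _ _),
    tail (D.r43 _ _), tail (D.r52 _ _), tail (D.r53 _ _), tail (D.r54 _ _), tail (D.r62 _ _), tail (D.r63 _ _),
    tail (D.r64 _ _), tail (D.r65 _ _), mul_assoc]

theorem T_zero_left (b : K) : D.T 0 b = 0 := by
  have h := D.x5_x3 0 b
  rw [D.x5_zero, one_mul, mul_one] at h
  have h1 : D.x4 (D.T 0 b) = D.x4 0 := by
    rw [D.x4_zero]
    exact (right_eq_mul.mp h)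
  exact D.x4_inj h1

theorem nf_inj {b b' : F} {c c' : K} {d d' : F} {e e' : K} {f f' : F}
    (h : D.nf b c d e f = D.nf b' c' d' e' f') : b = b' ∧ c = c' ∧ d = d' ∧ e = e' ∧ f = f' := by
  have h1 : D.nf (b - b') (c - c') (d - d' - (f - f') * b' - D.T (e - e') c') (e - e') (f - f') *
      D.nf b' c' d' e' f' = D.nf b c d e f := by
    rw [D.nf_mul]
    congr 1 <;> ring
  rw [h] at h1
  have h2 := mul_eq_right.1 h1
  have h3 := D.uniq' (a := 0) (by rw [h2, D.x1_zero, mul_one])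
  obtain ⟨-, h4, h5, h6, h7, h8⟩ := h3
  have e7 : e = e' := sub_eq_zero.1 h7
  have e8 : f = f' := sub_eq_zero.1 h8
  refine ⟨sub_eq_zero.1 h4, sub_eq_zero.1 h5, ?_, e7, e8⟩
  rw [e7, e8, sub_self, sub_self, D.T_zero_left, zero_mul, sub_zero, sub_zero] at h6
  exact sub_eq_zero.1 h6

theorem nf_zero : D.nf 0 0 0 0 0 = 1 := by
  rw [nf, D.x2_zero, D.x3_zero, D.x4_zero, D.x5_zero, D.x6_zero]
  group

theorem nf_inv (b : F) (c : K) (d : F) (e : K) (f : F) :
    (D.nf b c d e f)⁻¹ = D.nf (-b) (-c) (-d + f * b - D.T (-e) c) (-e) (-f) := by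
  symm
  apply eq_inv_of_mul_eq_one_left
  rw [D.nf_mul, ← D.nf_zero]
  congr 1 <;> ring

theorem nf_x1_inj {a a' : K} {b b' : F} {c c' : K} {d d' : F} {e e' : K} {f f' : F}
    (h : D.nf b c d e f * D.x1 a = D.nf b' c' d' e' f' * D.x1 a') :
    a = a' ∧ b = b' ∧ c = c' ∧ d = d' ∧ e = e' ∧ f = f' := by
  have h1 : (D.nf b' c' d' e' f')⁻¹ * D.nf b c d e f * D.x1 (a - a') = 1 := by
    rw [sub_eq_add_neg, D.x1_add, D.x1_neg]
    have : (D.nf b' c' d' e' f')⁻¹ * D.nf b c d e f * (D.x1 a * (D.x1 a')⁻¹) =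
      (D.nf b' c' d' e' f')⁻¹ * (D.nf b c d e f * D.x1 a) * (D.x1 a')⁻¹ := by group
    rw [this, h]
    group
  have h2 := h1
  rw [D.nf_inv, D.nf_mul] at h2
  have h3 : a = a' := sub_eq_zero.1 (D.uniq' h2).1
  rw [h3, sub_self, D.x1_zero, mul_one] at h1
  exact ⟨h3, D.nf_inj (inv_mul_eq_one.1 h1).symm⟩

theorem x1_nf (a : K) (b : F) (c : K) (d : F) (e : K) (f : F) :
    D.x1 a * D.nf b c d e f =
      D.nf (b + D.T a c + D.P5 a e + D.A6 a f) (c + D.Q5 a e + D.S6 a f)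
        (d + D.M5 a e + D.T e (D.S6 a f) + D.M6 a f) (e + D.R6 a f) f * D.x1 a := by
  simp only [nf, D.x2_add, D.x3_add, D.x4_add, D.x5_add, D.x6_add, mul_assoc]
  simp only [D.r32, D.r42, D.r43, D.r52, D.r53, D.r54, D.r62, D.r63, D.r64, D.r65, tail (D.r32 _ _), tail (D.r42 _ _),
    tail (D.r43 _ _), tail (D.r52 _ _), tail (D.r53 _ _), tail (D.r54 _ _), tail (D.r62 _ _), tail (D.r63 _ _),
    tail (D.r64 _ _), tail (D.r65 _ _), D.r12, D.r13, D.r14, D.r15, D.r16, tail (D.r12 _ _), tail (D.r13 _ _),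
    tail (D.r14 _ _), tail (D.r15 _ _), tail (D.r16 _ _), mul_assoc]

theorem nI_nf (b : F) (c : K) (d : F) (e : K) (f : F) :
    MulAut.conj D.nI (D.nf b c d e f) = D.nf f e (d + -b * f + D.T (-c) e) (-c) (-b) := by
  rw [show d + -b * f + D.T (-c) e = -b * f + (D.T (-c) e + d) by ring]
  simp only [nf, map_mul, D.nI_x2, D.nI_x3, D.nI_x4, D.nI_x5, D.nI_x6, D.x4_add, mul_assoc]
  simp only [D.r32, D.r42, D.r43, D.r52, D.r53, D.r54, D.r62, D.r63, D.r64, D.r65, tail (D.r32 _ _), tail (D.r42 _ _),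
    tail (D.r43 _ _), tail (D.r52 _ _), tail (D.r53 _ _), tail (D.r54 _ _), tail (D.r62 _ _), tail (D.r63 _ _),
    tail (D.r64 _ _), tail (D.r65 _ _), mul_assoc]

/-! ### the zero values -/

theorem six_zero (a : K) : D.A6 a 0 = 0 ∧ D.S6 a 0 = 0 ∧ D.M6 a 0 = 0 ∧ D.R6 a 0 = 0 := by
  have h := D.x1_x6' a 0
  rw [D.x6_zero, mul_one, mul_one] at h
  have h1 : D.nf (D.A6 a 0) (D.S6 a 0) (D.M6 a 0) (D.R6 a 0) 0 * D.x1 a = D.nf 0 0 0 0 0 * D.x1 a := by
    rw [D.nf_zero, one_mul, nf, D.x6_zero, mul_one]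
    exact h.symm
  obtain ⟨-, h2, h3, h4, h5, -⟩ := D.nf_x1_inj h1
  exact ⟨h2, h3, h4, h5⟩

/-! ### the first components of `[x1 a, x6 u]` -/

theorem y6_x5 {u : F} (hu : u ≠ 0) (a : K) :
    MulAut.conj (D.x6 u) (D.x1 a) = MulAut.conj (D.y6 u⁻¹) (D.x5 (D.β u * a)) := by
  have h1 : D.x6 u * D.y6 (-u⁻¹) * D.x6 u = D.hJ u * D.nJ := D.J.xyx u hu
  have h2 := congrArg (fun g => MulAut.conj g (D.x1 a)) h1
  simp only [conj_mul_apply] at h2
  rw [D.nJ_x1, D.hJ_x5 hu] at h2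
  have h3 := congrArg (MulAut.conj (D.x6 u)⁻¹) h2
  rw [← conj_mul_apply, inv_mul_cancel, map_one, MulAut.one_apply,
    conj_of_commute (D.c56 (D.β u * a) u).symm.inv_left] at h3
  have h4 := congrArg (MulAut.conj (D.y6 (-u⁻¹))⁻¹) h3
  rw [← conj_mul_apply, inv_mul_cancel, map_one, MulAut.one_apply] at h4
  rw [h4, ← D.y6_neg, neg_neg]

theorem R6_eq (a : K) (u : F) : D.R6 a u = -(D.β u * a) := by
  by_cases hu : u = 0
  · rw [hu, D.β_zero, zero_mul, neg_zero, (D.six_zero a).2.2.2]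
  set c := D.β u * a with hc
  have h1 := D.y6_x5 hu a
  -- left side
  have h2 : MulAut.conj (D.x6 u) (D.x1 a) = (D.nf (D.A6 a u) (D.S6 a u) (D.M6 a u) (D.R6 a u) 0)⁻¹ * D.x1 a := by
    have h := D.x1_x6' a u
    rw [MulAut.conj_apply, nf, D.x6_zero, mul_one, eq_inv_mul_iff_mul_eq]
    calc D.x2 (D.A6 a u) * D.x3 (D.S6 a u) * D.x4 (D.M6 a u) * D.x5 (D.R6 a u) * (D.x6 u * D.x1 a * (D.x6 u)⁻¹)
        = (D.x2 (D.A6 a u) * D.x3 (D.S6 a u) * D.x4 (D.M6 a u) * D.x5 (D.R6 a u) * D.x6 u * D.x1 a) * (D.x6 u)⁻¹ := by group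
      _ = D.x1 a := by rw [← h]; group
  -- right side
  have h3 : MulAut.conj (D.y6 u⁻¹) (D.x5 c) =
      (D.nf (-D.M6 c (-u⁻¹)) (D.S6 c (-u⁻¹)) (D.A6 c (-u⁻¹)) 0 0 * D.x1 (-D.R6 c (-u⁻¹)))⁻¹ * D.x5 c := by
    have h := D.x1_x6' c (-u⁻¹)
    set A := D.A6 c (-u⁻¹)
    set S := D.S6 c (-u⁻¹)
    set M := D.M6 c (-u⁻¹)
    set R := D.R6 c (-u⁻¹)
    have h4 : MulAut.conj (D.x6 (-u⁻¹)) (D.x1 c) = (D.x2 A * D.x3 S * D.x4 M * D.x5 R)⁻¹ * D.x1 c := by
      rw [MulAut.conj_apply, eq_inv_mul_iff_mul_eq]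
      calc D.x2 A * D.x3 S * D.x4 M * D.x5 R * (D.x6 (-u⁻¹) * D.x1 c * (D.x6 (-u⁻¹))⁻¹)
          = (D.x2 A * D.x3 S * D.x4 M * D.x5 R * D.x6 (-u⁻¹) * D.x1 c) * (D.x6 (-u⁻¹))⁻¹ := by group
        _ = D.x1 c := by rw [← h]; group
    have h5 := congrArg (MulAut.conj D.nJ) h4
    rw [conj_conj, D.nJ_x6, neg_neg, D.nJ_x1, map_mul, map_inv, map_mul, map_mul, map_mul, D.nJ_x2, D.nJ_x3,
      D.nJ_x4, D.nJ_x5, D.nJ_x1] at h5
    rw [h5]
    congr 2
    rw [nf, D.x5_zero, D.x6_zero, mul_one, mul_one]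
    congr 1
    rw [D.r43, mul_assoc, D.r42, ← mul_assoc, ← D.r32]
  rw [h2, h3] at h1
  set V := D.nf (-D.M6 c (-u⁻¹)) (D.S6 c (-u⁻¹)) (D.A6 c (-u⁻¹)) 0 0 with hV
  set U := D.nf (D.A6 a u) (D.S6 a u) (D.M6 a u) (D.R6 a u) 0 with hU
  have h6 : V * D.x1 (-D.R6 c (-u⁻¹)) = D.x5 c * (D.x1 (-a) * U) := by
    rw [D.x1_neg a]
    have h7 : V * D.x1 (-D.R6 c (-u⁻¹)) * (U⁻¹ * D.x1 a) = D.x5 c := by rw [h1]; group
    rw [← h7]
    group
  rw [hU, D.x1_nf, ← mul_assoc] at h6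
  have h8 : D.x5 c = D.nf 0 0 0 c 0 := by
    rw [nf, D.x2_zero, D.x3_zero, D.x4_zero, D.x6_zero]
    group
  rw [h8, D.nf_mul, hV] at h6
  have h9 := (D.nf_x1_inj h6).2.2.2.2.1
  rw [(D.six_zero (-a)).2.2.2] at h9
  linear_combination -h9

/-- the key relation -/
theorem x1_x6_conj {a : K} (ha : a ≠ 0) (u : F) :
    MulAut.conj (D.x1 a) (D.x6 u) = MulAut.conj (D.y1 a⁻¹) (D.x2 (D.N a * u)) := by
  have h1 : D.x1 a * D.y1 (-a⁻¹) * D.x1 a = D.hI a * D.nI := D.I.xyx a ha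
  have h2 := congrArg (fun g => MulAut.conj g (D.x6 u)) h1
  simp only [conj_mul_apply] at h2
  rw [D.nI_x6, D.hI_x2 ha] at h2
  have h3 := congrArg (MulAut.conj (D.x1 a)⁻¹) h2
  rw [← conj_mul_apply, inv_mul_cancel, map_one, MulAut.one_apply,
    conj_of_commute (D.c12 a (D.N a * u)).inv_left] at h3
  have h4 := congrArg (MulAut.conj (D.y1 (-a⁻¹))⁻¹) h3
  rw [← conj_mul_apply, inv_mul_cancel, map_one, MulAut.one_apply] at h4
  rw [h4, ← D.y1_neg, neg_neg]

theorem conj_x1_nf (a : K) (b : F) (c : K) (d : F) (e : K) (f : F) :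
    MulAut.conj (D.x1 a) (D.nf b c d e f) =
      D.nf (b + D.T a c + D.P5 a e + D.A6 a f) (c + D.Q5 a e + D.S6 a f)
        (d + D.M5 a e + D.T e (D.S6 a f) + D.M6 a f) (e + D.R6 a f) f := by
  rw [MulAut.conj_apply, D.x1_nf]
  group

theorem x6_eq_nf (u : F) : D.x6 u = D.nf 0 0 0 0 u := by
  rw [nf, D.x2_zero, D.x3_zero, D.x4_zero, D.x5_zero]; group

theorem x5_eq_nf (a : K) : D.x5 a = D.nf 0 0 0 a 0 := by
  rw [nf, D.x2_zero, D.x3_zero, D.x4_zero, D.x6_zero]; group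

theorem x3_eq_nf (a : K) : D.x3 a = D.nf 0 a 0 0 0 := by
  rw [nf, D.x2_zero, D.x5_zero, D.x4_zero, D.x6_zero]; group

theorem T_zero_right (a : K) : D.T a 0 = 0 := by
  have h := D.x1_x3 a 0
  rw [D.x3_zero, mul_one, mul_one] at h
  have h1 : D.x2 (D.T a 0) * D.x4 0 = 1 := by
    rw [D.x4_zero, mul_one]
    exact (right_eq_mul.mp h)
  exact (D.x24_eq_one h1).1

theorem five_zero (a : K) : D.P5 a 0 = 0 ∧ D.Q5 a 0 = 0 ∧ D.M5 a 0 = 0 := by
  have h := D.x1_x5' a 0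
  rw [D.x5_zero, mul_one, mul_one] at h
  have h1 : D.nf (D.P5 a 0) (D.Q5 a 0) (D.M5 a 0) 0 0 * D.x1 a = D.nf 0 0 0 0 0 * D.x1 a := by
    rw [D.nf_zero, one_mul, nf, D.x5_zero, D.x6_zero, mul_one, mul_one]
    exact h.symm
  obtain ⟨-, h2, h3, h4, -, -⟩ := D.nf_x1_inj h1
  exact ⟨h2, h3, h4⟩

theorem six_aux {a : K} (ha : a ≠ 0) (u : F) :
    D.A6 a u = D.N a * u ∧ D.S6 a u = D.β (D.N a * u) * a⁻¹ := by
  have h1 := D.x1_x6_conj ha u
  set v := D.N a * u
  have h2 : D.y1 a⁻¹ = MulAut.conj D.nI (D.x1 (-a⁻¹)) := by rw [D.nI_x1, neg_neg]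
  rw [h2, ← D.nI_x6 v, ← conj_conj, D.x6_eq_nf v, D.conj_x1_nf, D.nI_nf, D.x6_eq_nf u, D.conj_x1_nf] at h1
  obtain ⟨h3, h4, -, -, -⟩ := D.nf_inj h1
  rw [D.T_zero_right, (D.five_zero a).1] at h3
  rw [(D.five_zero a).2.1, D.R6_eq] at h4
  constructor
  · linear_combination h3
  · linear_combination h4

/-- `a# = N a / a` -/
noncomputable def sh (a : K) : K := D.β (D.N a) * a⁻¹

theorem sh_zero : D.sh 0 = 0 := by rw [sh, inv_zero, mul_zero]

theorem A6_eq (a : K) (u : F) : D.A6 a u = D.N a * u := by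
  by_cases ha : a = 0
  · have h := D.x1_x6' a u
    rw [ha, D.x1_zero, one_mul, mul_one] at h
    have h1 : D.nf 0 0 0 0 u = D.nf (D.A6 0 u) (D.S6 0 u) (D.M6 0 u) (D.R6 0 u) u := by
      rw [← D.x6_eq_nf, nf]; exact h
    rw [ha, D.N_zero, zero_mul]
    exact (D.nf_inj h1).1.symm
  · exact (D.six_aux ha u).1

theorem S6_eq (a : K) (u : F) : D.S6 a u = D.sh a * D.β u := by
  by_cases ha : a = 0
  · have h := D.x1_x6' a u
    rw [ha, D.x1_zero, one_mul, mul_one] at h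
    have h1 : D.nf 0 0 0 0 u = D.nf (D.A6 0 u) (D.S6 0 u) (D.M6 0 u) (D.R6 0 u) u := by
      rw [← D.x6_eq_nf, nf]; exact h
    rw [ha, D.sh_zero, zero_mul]
    exact (D.nf_inj h1).2.1.symm
  · rw [(D.six_aux ha u).2, D.β_mul, sh]
    ring

end HexDat

end Cfsg.Agent.GTwoOdd.Hex
end

-- part: GTwoOdd/HexCubic
section
/-!
# The cubic structure
-/

set_option autoImplicit false
set_option linter.unusedSimpArgs false

namespace Cfsg.Agent.GTwoOdd.Hex

namespace HexDat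

open HexPre

variable {G : Type*} [Group G] {F K : Type*} [Field F] [Field K] (D : HexDat G F K)

theorem conj_x1_x6 (a : K) (u : F) :
    MulAut.conj (D.x1 a) (D.x6 u) = D.nf (D.N a * u) (D.sh a * D.β u) (D.M6 a u) (-(D.β u * a)) u := by
  rw [D.x6_eq_nf, D.conj_x1_nf, D.T_zero_right, (D.five_zero a).1, (D.five_zero a).2.1, (D.five_zero a).2.2,
    D.T_zero_left, D.A6_eq, D.S6_eq, D.R6_eq]
  congr 1 <;> ring

theorem conj_x1_x5 (a b : K) :
    MulAut.conj (D.x1 a) (D.x5 b) = D.nf (D.P5 a b) (D.Q5 a b) (D.M5 a b) b 0 := by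
  rw [D.x5_eq_nf, D.conj_x1_nf, D.T_zero_right, (D.six_zero a).1, (D.six_zero a).2.1, (D.six_zero a).2.2.1,
    (D.six_zero a).2.2.2, D.T_zero_right]
  congr 1 <;> ring

theorem conj_x1_x3 (a b : K) :
    MulAut.conj (D.x1 a) (D.x3 b) = D.nf (D.T a b) b 0 0 0 := by
  rw [D.x3_eq_nf, D.conj_x1_nf, (D.six_zero a).1, (D.six_zero a).2.1, (D.six_zero a).2.2.1,
    (D.six_zero a).2.2.2, D.T_zero_left, (D.five_zero a).1, (D.five_zero a).2.1, (D.five_zero a).2.2]
  congr 1 <;> ring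

theorem T_add_right (a b b' : K) : D.T a (b + b') = D.T a b + D.T a b' := by
  have h := D.conj_x1_x3 a (b + b')
  rw [D.x3_add, map_mul, D.conj_x1_x3, D.conj_x1_x3, D.nf_mul] at h
  exact (D.nf_inj h).1.symm

theorem T_add_left (a a' b : K) : D.T (a + a') b = D.T a b + D.T a' b := by
  have h := D.conj_x1_x3 (a + a') b
  rw [D.x1_add, conj_mul_apply, D.conj_x1_x3, D.conj_x1_nf] at h
  have h1 := (D.nf_inj h).1
  rw [(D.six_zero a).1, (D.five_zero a).1] at h1
  linear_combination -h1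

theorem T_neg_right (a b : K) : D.T a (-b) = -D.T a b := by
  have h := D.T_add_right a b (-b)
  rw [add_neg_cancel, D.T_zero_right] at h
  linear_combination -h

theorem T_neg_left (a b : K) : D.T (-a) b = -D.T a b := by
  have h := D.T_add_left a (-a) b
  rw [add_neg_cancel, D.T_zero_left] at h
  linear_combination -h

theorem T_symm (a b : K) : D.T a b = D.T b a := by
  have h := congrArg (MulAut.conj D.nI) (D.x5_x3 a b)
  rw [map_mul, map_mul, map_mul, D.nI_x5, D.nI_x3, D.nI_x4] at h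
  have h1 := D.x5_x3 (-b) a
  have h2 : D.x4 (D.T (-b) a) * D.x4 (D.T a b) = D.x4 0 := by
    have h3 : D.x4 (D.T (-b) a) * (D.x4 (D.T a b) * D.x5 (-b) * D.x3 a) = D.x5 (-b) * D.x3 a := by
      rw [← h, h1, mul_assoc]
    have h4 : D.x4 (D.T (-b) a) * D.x4 (D.T a b) * (D.x5 (-b) * D.x3 a) = D.x4 0 * (D.x5 (-b) * D.x3 a) := by
      rw [D.x4_zero, one_mul, mul_assoc, ← mul_assoc (D.x4 (D.T a b)), h3]
    exact mul_right_cancel h4
  rw [← D.x4_add] at h2
  have h3 := D.x4_inj h2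
  rw [D.T_neg_left] at h3
  linear_combination h3

/-- additivity of the maps in `b` -/
theorem five_add_right (a b b' : K) : D.P5 a (b + b') = D.P5 a b + D.P5 a b' ∧ D.Q5 a (b + b') = D.Q5 a b + D.Q5 a b' ∧
    D.M5 a (b + b') = D.M5 a b + D.M5 a b' + D.T b (D.Q5 a b') := by
  have h := D.conj_x1_x5 a (b + b')
  rw [D.x5_add, map_mul, D.conj_x1_x5, D.conj_x1_x5, D.nf_mul] at h
  obtain ⟨h1, h2, h3, -, -⟩ := D.nf_inj h
  refine ⟨h1.symm, h2.symm, ?_⟩
  rw [← h3]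
  ring

theorem five_add_left (a a' b : K) : D.P5 (a + a') b = D.P5 a b + D.P5 a' b + D.T a (D.Q5 a' b) ∧
    D.Q5 (a + a') b = D.Q5 a b + D.Q5 a' b ∧ D.M5 (a + a') b = D.M5 a b + D.M5 a' b := by
  have h := D.conj_x1_x5 (a + a') b
  rw [D.x1_add, conj_mul_apply, D.conj_x1_x5, D.conj_x1_nf, (D.six_zero a).1, (D.six_zero a).2.1, (D.six_zero a).2.2.1,
    (D.six_zero a).2.2.2, D.T_zero_right] at h
  obtain ⟨h1, h2, h3, -, -⟩ := D.nf_inj h
  refine ⟨by linear_combination -h1, by linear_combination -h2, by linear_combination -h3⟩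

/-- parity with respect to `nI ^ 2` -/
theorem tI_x1 (a : K) : MulAut.conj (D.hI (-1)) (D.x1 a) = D.x1 a := by
  rw [D.hI_x1 neg_one_ne]; congr 1; ring

theorem tI_nf (b : F) (c : K) (d : F) (e : K) (f : F) :
    MulAut.conj (D.hI (-1)) (D.nf b c d e f) = D.nf (-b) (-c) d (-e) (-f) := by
  have h : D.hI (-1) = D.nI * D.nI := D.I.nn.symm
  rw [h]
  simp only [nf, map_mul, MulAut.mul_apply, D.nI_x2, D.nI_x3, D.nI_x4, D.nI_x5, D.nI_x6]

theorem tJ_x1 (a : K) : MulAut.conj (D.hJ (-1)) (D.x1 a) = D.x1 (-a) := by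
  rw [D.hJ_x1 (neg_ne_zero.2 one_ne_zero), D.β_neg_one, inv_neg_one', neg_one_mul]

theorem tJ_nf (b : F) (c : K) (d : F) (e : K) (f : F) :
    MulAut.conj (D.hJ (-1)) (D.nf b c d e f) = D.nf (-b) c (-d) (-e) f := by
  have h : D.hJ (-1) = D.nJ * D.nJ := D.J.nn.symm
  rw [h]
  simp only [nf, map_mul, MulAut.mul_apply, D.nJ_x2, D.nJ_x3, D.nJ_x4, D.nJ_x5, D.nJ_x6, D.nJ_x1, D.nJ_y6, neg_neg]

theorem tI_conj (a : K) (z : G) :
    MulAut.conj (D.hI (-1)) (MulAut.conj (D.x1 a) z) = MulAut.conj (D.x1 a) (MulAut.conj (D.hI (-1)) z) := by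
  rw [conj_conj, D.tI_x1]

theorem tJ_conj (a : K) (z : G) :
    MulAut.conj (D.hJ (-1)) (MulAut.conj (D.x1 a) z) = MulAut.conj (D.x1 (-a)) (MulAut.conj (D.hJ (-1)) z) := by
  rw [conj_conj, D.tJ_x1]

theorem five_neg_left (a b : K) : D.P5 (-a) b = D.P5 a b ∧ D.Q5 (-a) b = -D.Q5 a b ∧ D.M5 (-a) b = -D.M5 a b := by
  have h := congrArg (MulAut.conj (D.hI (-1))) (congrArg (MulAut.conj (D.hJ (-1))) (D.conj_x1_x5 a b))
  rw [D.tJ_conj, D.tI_conj, D.x5_eq_nf, D.tJ_nf, D.tI_nf, D.tJ_nf, D.tI_nf] at h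
  have e1 : D.nf (- -0) (-0) (-0) (- -b) (-0) = D.x5 b := by
    rw [D.x5_eq_nf]; congr 1 <;> ring
  rw [e1, D.conj_x1_x5] at h
  obtain ⟨h1, h2, h3, -, -⟩ := D.nf_inj h
  exact ⟨by linear_combination h1, by linear_combination h2, by linear_combination h3⟩

theorem five_neg_right (a b : K) : D.P5 a (-b) = -D.P5 a b ∧ D.Q5 a (-b) = -D.Q5 a b ∧ D.M5 a (-b) = D.M5 a b := by
  have h := congrArg (MulAut.conj (D.hI (-1))) (D.conj_x1_x5 a b)
  rw [D.tI_conj, D.x5_eq_nf, D.tI_nf, D.tI_nf] at h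
  have e1 : D.nf (-0) (-0) 0 (-b) (-0) = D.x5 (-b) := by
    rw [D.x5_eq_nf]; congr 1 <;> ring
  rw [e1, D.conj_x1_x5] at h
  obtain ⟨h1, h2, h3, -, -⟩ := D.nf_inj h
  exact ⟨h1, h2, h3⟩

theorem P5_eq (a b : K) : 2 * D.P5 a b = D.T a (D.Q5 a b) := by
  have h := (D.five_add_left a (-a) b).1
  have h0 : D.P5 0 b = 0 := by
    have h1 := (D.five_add_left 0 0 b).1
    rw [D.T_zero_left, add_zero, add_zero] at h1
    linear_combination -h1
  rw [add_neg_cancel, h0, (D.five_neg_left a b).1, (D.five_neg_left a b).2.1, D.T_neg_right] at h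
  linear_combination -h

theorem M5_eq (a b : K) : 2 * D.M5 a b = D.T b (D.Q5 a b) := by
  have h := (D.five_add_right a b (-b)).2.2
  rw [add_neg_cancel, (D.five_zero a).2.2, (D.five_neg_right a b).2.2, (D.five_neg_right a b).2.1, D.T_neg_right] at h
  linear_combination -h

/-! ### the field embedding and the cubic norm structure -/

theorem six_add_right (a : K) (u v : F) : D.sh a * D.β (u + v) = D.sh a * D.β u + D.sh a * D.β v ∧
    D.β (u + v) * a = D.β u * a + D.β v * a ∧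
    D.M6 a (u + v) = D.M6 a u + D.M6 a v + u * (D.N a * v) + D.T (-(D.β u * a)) (D.sh a * D.β v) := by
  have h := D.conj_x1_x6 a (u + v)
  rw [D.x6_add, map_mul, D.conj_x1_x6, D.conj_x1_x6, D.nf_mul] at h
  obtain ⟨-, h2, h3, h4, -⟩ := D.nf_inj h
  exact ⟨h2.symm, by linear_combination h4, h3.symm⟩

theorem β_add (u v : F) : D.β (u + v) = D.β u + D.β v := by
  have h := (D.six_add_right 1 u v).2.1
  rwa [mul_one, mul_one, mul_one] at h

/-- `F → K` -/
def βh : F →+* K where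
  toFun := D.β
  map_one' := D.β_one
  map_mul' := D.β_mul
  map_zero' := D.β_zero
  map_add' := D.β_add

theorem βh_apply (u : F) : D.βh u = D.β u := rfl

theorem six_add_left (a b : K) (u : F) : D.N (a + b) * u = D.N b * u + D.T a (D.sh b * D.β u) +
      D.P5 a (-(D.β u * b)) + D.N a * u ∧
    D.sh (a + b) * D.β u = D.sh b * D.β u + D.Q5 a (-(D.β u * b)) + D.sh a * D.β u ∧
    D.M6 (a + b) u = D.M6 b u + D.M5 a (-(D.β u * b)) + D.T (-(D.β u * b)) (D.S6 a u) + D.M6 a u := by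
  have h := D.conj_x1_x6 (a + b) u
  rw [D.x1_add, conj_mul_apply, D.conj_x1_x6, D.conj_x1_nf, D.A6_eq, D.S6_eq] at h
  obtain ⟨h1, h2, h3, -, -⟩ := D.nf_inj h
  rw [D.S6_eq]
  exact ⟨h1.symm, h2.symm, h3.symm⟩

/-- the polarisation of `sh` -/
noncomputable def cr (a b : K) : K := D.sh (a + b) - D.sh a - D.sh b

theorem cr_comm (a b : K) : D.cr a b = D.cr b a := by
  rw [cr, cr, add_comm a b]; ring

theorem Q5_eq (a b : K) : D.Q5 a b = -D.cr a b := by
  have h := (D.six_add_left a b 1).2.1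
  rw [D.β_one, mul_one, mul_one, mul_one, one_mul, (D.five_neg_right a b).2.1] at h
  rw [cr]
  linear_combination h

theorem N_add' (a b : K) : D.N (a + b) = D.N a + D.N b + D.T a (D.sh b) - D.P5 a b := by
  have h := (D.six_add_left a b 1).1
  rw [D.β_one, mul_one, mul_one, mul_one, mul_one, one_mul, (D.five_neg_right a b).1] at h
  linear_combination h

theorem N_neg (a : K) : D.N (-a) = -D.N a := by
  have h := D.N_mul (-1) a
  rw [neg_one_mul, D.N_neg_one, neg_one_mul] at h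
  exact h

theorem β_neg (u : F) : D.β (-u) = -D.β u := by
  have h := D.β_mul (-1) u
  rw [neg_one_mul, D.β_neg_one, neg_one_mul] at h
  exact h

theorem sh_neg (a : K) : D.sh (-a) = D.sh a := by
  rw [sh, sh, D.N_neg, D.β_neg, inv_neg]
  ring

theorem P5_sum (a b : K) : D.P5 a b = -D.T b (D.sh a) ∧ D.M5 a b = -D.T a (D.sh b) := by
  have h1 := D.N_add' a b
  have h2 := D.N_add' b a
  have h3 := D.N_add' (-a) b
  have h4 := D.N_add' b (-a)
  rw [add_comm b a] at h2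
  rw [add_comm b (-a)] at h4
  have e1 := D.P5_eq a b
  have e2 := D.P5_eq b a
  have e5 := D.M5_eq a b
  rw [D.Q5_eq b a, D.cr_comm b a, ← D.Q5_eq a b] at e2
  rw [D.T_neg_left, (D.five_neg_left a b).1] at h3
  rw [D.sh_neg, (D.five_neg_right b a).1] at h4
  have f1 : D.P5 a b = -D.T b (D.sh a) := by
    have : 2 * D.P5 a b = 2 * (-D.T b (D.sh a)) := by linear_combination h1 - h2 + (h3 - h4)
    exact mul_left_cancel₀ D.two this
  have f2 : D.P5 b a = -D.T a (D.sh b) := by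
    have : 2 * D.P5 b a = 2 * (-D.T a (D.sh b)) := by linear_combination -h1 + h2 + (h3 - h4)
    exact mul_left_cancel₀ D.two this
  refine ⟨f1, ?_⟩
  have : 2 * D.M5 a b = 2 * (-D.T a (D.sh b)) := by
    rw [← f2, e5, ← e2]
  exact mul_left_cancel₀ D.two this

theorem N_add (a b : K) : D.N (a + b) = D.N a + D.N b + D.T a (D.sh b) + D.T b (D.sh a) := by
  rw [D.N_add', (D.P5_sum a b).1]
  ring

theorem hJ_x3 (u : F) (hu : u ≠ 0) (a : K) : MulAut.conj (D.hJ u) (D.x3 a) = D.x3 a := by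
  have h1 : D.x6 u * D.y6 (-u⁻¹) * D.x6 u = D.hJ u * D.nJ := D.J.xyx u hu
  have h2 := congrArg (fun g => MulAut.conj g (D.x3 a)) h1
  simp only [conj_mul_apply] at h2
  rw [D.nJ_x3, conj_of_commute (D.c36 a u).symm, conj_of_commute (D.cy36 a _).symm,
    conj_of_commute (D.c36 a u).symm] at h2
  exact h2.symm

theorem T_smul_left (u : F) (a b : K) : D.T (D.β u * a) b = u * D.T a b := by
  by_cases hu : u = 0
  · rw [hu, D.β_zero, zero_mul, D.T_zero_left, zero_mul]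
  have h := congrArg (MulAut.conj (D.hJ u)) (D.conj_x1_x3 (D.β u * a) b)
  rw [conj_conj, D.hJ_x1 hu, D.hJ_x3 u hu] at h
  have e : D.nf (D.T (D.β u * a) b) b 0 0 0 = D.x2 (D.T (D.β u * a) b) * D.x3 b := by
    rw [nf, D.x4_zero, D.x5_zero, D.x6_zero, mul_one, mul_one, mul_one]
  rw [e, map_mul, D.hJ_x2' hu, D.hJ_x3 u hu, D.conj_x1_x3, ← mul_assoc, inv_mul_cancel₀ (D.β_ne u hu), one_mul] at h
  have e2 : D.x2 (u⁻¹ * D.T (D.β u * a) b) * D.x3 b = D.nf (u⁻¹ * D.T (D.β u * a) b) b 0 0 0 := by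
    rw [nf, D.x4_zero, D.x5_zero, D.x6_zero, mul_one, mul_one, mul_one]
  rw [e2] at h
  have h1 := (D.nf_inj h).1
  rw [h1, ← mul_assoc, mul_inv_cancel₀ hu, one_mul]

theorem T_smul_right (u : F) (a b : K) : D.T a (D.β u * b) = u * D.T a b := by
  rw [D.T_symm, D.T_smul_left, D.T_symm]

theorem β_two : D.β 2 = 2 := by
  have h := D.β_add 1 1
  rw [D.β_one, one_add_one_eq_two, one_add_one_eq_two] at h
  exact h

theorem T_sh (a : K) : D.T a (D.sh a) = 3 * D.N a := by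
  have h := D.N_add a a
  have h1 : a + a = D.β 2 * a := by rw [D.β_two]; ring
  rw [h1, D.N_mul, D.N_β] at h
  have : 2 * D.T a (D.sh a) = 2 * (3 * D.N a) := by linear_combination -h
  exact mul_left_cancel₀ D.two this

theorem M6_even (a : K) (u : F) : D.M6 a (-u) = D.M6 a u := by
  have h := congrArg (MulAut.conj (D.hI (-1))) (D.conj_x1_x6 a u)
  rw [D.tI_conj, D.x6_eq_nf, D.tI_nf, D.tI_nf] at h
  have e1 : D.nf (-0) (-0) 0 (-0) (-u) = D.x6 (-u) := by
    rw [D.x6_eq_nf]; congr 1 <;> ring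
  rw [e1, D.conj_x1_x6] at h
  exact (D.nf_inj h).2.2.1

theorem M6_eq (a : K) (u : F) : D.M6 a u = -(u * u * D.N a) := by
  have h := (D.six_add_right a u (-u)).2.2
  rw [add_neg_cancel, (D.six_zero a).2.2.1, D.M6_even, D.T_neg_left, D.T_smul_left, mul_comm (D.sh a), D.T_smul_right,
    D.T_sh] at h
  have : 2 * D.M6 a u = 2 * (-(u * u * D.N a)) := by linear_combination -h
  exact mul_left_cancel₀ D.two this

/-- the values of `cr` in terms of commutators: biadditivity -/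
theorem cr_add_right (a b c : K) : D.cr a (b + c) = D.cr a b + D.cr a c := by
  have h := (D.five_add_right a b c).2.1
  rw [D.Q5_eq, D.Q5_eq, D.Q5_eq] at h
  linear_combination -h

theorem cr_add_left (a b c : K) : D.cr (a + b) c = D.cr a c + D.cr b c := by
  rw [D.cr_comm, D.cr_add_right, D.cr_comm c a, D.cr_comm c b]

theorem cr_smul_left (u : F) (a b : K) : D.cr (D.β u * a) b = D.β u * D.cr a b := by
  by_cases hu : u = 0
  · rw [hu, D.β_zero, zero_mul, zero_mul]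
    have := D.cr_add_left 0 0 b
    rw [add_zero] at this
    linear_combination -this
  have h := (D.six_add_left b a u).2.1
  rw [(D.five_neg_right b _).2.1, D.Q5_eq, D.cr_comm b] at h
  have h2 : D.sh (b + a) = D.cr a b + D.sh a + D.sh b := by rw [cr, add_comm b a]; ring
  rw [h2] at h
  linear_combination -h

/-! ### the relations, as commutators -/

open scoped commutatorElement

theorem comm_of {x y z : G} (h : x * y = z * y * x) : ⁅x, y⁆ = z := by
  rw [commutatorElement_def, h]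
  group

theorem rel13 (a b : K) : ⁅D.x1 a, D.x3 b⁆ = D.x2 (D.T a b) := comm_of (D.x1_x3 a b)

theorem rel35 (b c : K) : ⁅D.x3 b, D.x5 c⁆ = D.x4 (-D.T b c) := by
  apply comm_of
  rw [mul_assoc, D.x5_x3, ← mul_assoc, ← mul_assoc, ← D.x4_add, D.T_symm b c, neg_add_cancel, D.x4_zero, one_mul]

theorem rel26 (u v : F) : ⁅D.x2 u, D.x6 v⁆ = D.x4 (-(u * v)) := by
  apply comm_of
  rw [mul_assoc, D.x6_x2, ← mul_assoc, ← mul_assoc, ← D.x4_add, mul_comm u v, neg_add_cancel, D.x4_zero, one_mul]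

theorem rel15 (a b : K) : ⁅D.x1 a, D.x5 b⁆ =
    D.x2 (-D.T b (D.sh a)) * D.x3 (-D.cr a b) * D.x4 (-D.T a (D.sh b)) := by
  apply comm_of
  rw [D.x1_x5', (D.P5_sum a b).1, (D.P5_sum a b).2, D.Q5_eq]

theorem rel16 (a : K) (u : F) : ⁅D.x1 a, D.x6 u⁆ =
    D.x2 (u * D.N a) * D.x3 (D.sh a * D.β u) * D.x4 (-(u * u * D.N a)) * D.x5 (-(D.β u * a)) := by
  apply comm_of
  rw [D.x1_x6', D.A6_eq, D.S6_eq, D.M6_eq, D.R6_eq, mul_comm (D.N a) u]

end HexDat

end Cfsg.Agent.GTwoOdd.Hex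
end

-- part: GTwoOdd/HexRTwo
section
/-!
# The root datum of rank two
-/

set_option autoImplicit false
set_option linter.unusedSimpArgs false

namespace Cfsg.Agent.GTwoOdd.Hex

/-- the subgroup of the values of an additive parametrisation -/
def rootSub {G : Type*} [Group G] {E : Type*} [AddGroup E] (x : E → G) (hx : ∀ a b, x (a + b) = x a * x b) :
    Subgroup G where
  carrier := Set.range x
  mul_mem' := by
    rintro _ _ ⟨a, rfl⟩ ⟨b, rfl⟩
    exact ⟨a + b, hx a b⟩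
  one_mem' := by
    have h := hx 0 0
    rw [add_zero] at h
    exact ⟨0, left_eq_mul.mp h⟩
  inv_mem' := by
    rintro _ ⟨a, rfl⟩
    refine ⟨-a, ?_⟩
    have h := hx 0 0
    rw [add_zero] at h
    have h0 := left_eq_mul.mp h
    apply eq_inv_of_mul_eq_one_left
    rw [← hx, neg_add_cancel, h0]

theorem mem_rootSub {G : Type*} [Group G] {E : Type*} [AddGroup E] {x : E → G} {hx : ∀ a b, x (a + b) = x a * x b}
    {g : G} : g ∈ rootSub x hx ↔ ∃ a, x a = g := Iff.rfl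

namespace HexDat

open HexPre
open Cfsg.Agent.TitsThree.RankTwoRGD
open Cfsg.Agent.TitsThree.RankTwoIdx
open scoped commutatorElement

variable {G : Type*} [Group G] {F K : Type*} [Field F] [Field K] (D : HexDat G F K)

/-! ### the torus -/

def H : Subgroup G := Subgroup.closure ({g | ∃ a : K, a ≠ 0 ∧ D.hI a = g} ∪ {g | ∃ u : F, u ≠ 0 ∧ D.hJ u = g})

theorem hI_mem {a : K} (ha : a ≠ 0) : D.hI a ∈ D.H := Subgroup.subset_closure (Or.inl ⟨a, ha, rfl⟩)
theorem hJ_mem {u : F} (hu : u ≠ 0) : D.hJ u ∈ D.H := Subgroup.subset_closure (Or.inr ⟨u, hu, rfl⟩)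

theorem nI_hJ {u : F} (hu : u ≠ 0) : MulAut.conj D.nI (D.hJ u) = D.hJ u * D.hI (D.β u) := by
  have h := D.hJ_nI (inv_ne_zero hu)
  rw [D.β_inv, inv_inv, show D.hJ u⁻¹ = (D.hJ u)⁻¹ from D.J.h_inv hu, MulAut.conj_apply, inv_inv] at h
  rw [MulAut.conj_apply]
  have h1 : D.nI * D.hJ u = D.hJ u * (D.hI (D.β u) * D.nI) := by rw [← h]; group
  rw [h1]
  group

theorem nJ_hI {a : K} (ha : a ≠ 0) : MulAut.conj D.nJ (D.hI a) = D.hI a * D.hJ (D.N a) := by
  have h := D.hI_nJ (inv_ne_zero ha)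
  rw [D.N_inv, inv_inv, show D.hI a⁻¹ = (D.hI a)⁻¹ from D.I.h_inv ha, MulAut.conj_apply, inv_inv] at h
  rw [MulAut.conj_apply]
  have h1 : D.nJ * D.hI a = D.hI a * (D.hJ (D.N a) * D.nJ) := by rw [← h]; group
  rw [h1]
  group

theorem nI_hI {a : K} (ha : a ≠ 0) : MulAut.conj D.nI (D.hI a) = (D.hI a)⁻¹ := D.I.nh' ha
theorem nJ_hJ {u : F} (hu : u ≠ 0) : MulAut.conj D.nJ (D.hJ u) = (D.hJ u)⁻¹ := D.J.nh' hu

theorem nI_H {h : G} (hh : h ∈ D.H) : D.nI * h * D.nI⁻¹ ∈ D.H := by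
  have key : D.H ≤ D.H.comap (MulAut.conj D.nI).toMonoidHom := by
    refine (Subgroup.closure_le _).2 ?_
    rintro _ (⟨a, ha, rfl⟩ | ⟨u, hu, rfl⟩)
    · change MulAut.conj D.nI (D.hI a) ∈ D.H
      rw [D.nI_hI ha]
      exact inv_mem (D.hI_mem ha)
    · change MulAut.conj D.nI (D.hJ u) ∈ D.H
      rw [D.nI_hJ hu]
      exact mul_mem (D.hJ_mem hu) (D.hI_mem (D.β_ne u hu))
  exact key hh

theorem nJ_H {h : G} (hh : h ∈ D.H) : D.nJ * h * D.nJ⁻¹ ∈ D.H := by
  have key : D.H ≤ D.H.comap (MulAut.conj D.nJ).toMonoidHom := by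
    refine (Subgroup.closure_le _).2 ?_
    rintro _ (⟨a, ha, rfl⟩ | ⟨u, hu, rfl⟩)
    · change MulAut.conj D.nJ (D.hI a) ∈ D.H
      rw [D.nJ_hI ha]
      exact mul_mem (D.hI_mem ha) (D.hJ_mem (D.N_ne a ha))
    · change MulAut.conj D.nJ (D.hJ u) ∈ D.H
      rw [D.nJ_hJ hu]
      exact inv_mem (D.hJ_mem hu)
  exact key hh

theorem nI_sq : D.nI * D.nI ∈ D.H := by
  have h : D.nI * D.nI = D.hI (-1) := D.I.nn
  rw [h]
  exact D.hI_mem neg_one_ne

theorem nJ_sq : D.nJ * D.nJ ∈ D.H := by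
  have h : D.nJ * D.nJ = D.hJ (-1) := D.J.nn
  rw [h]
  exact D.hJ_mem neg_one_ne

theorem nI_H' {h : G} (hh : h ∈ D.H) : D.nI⁻¹ * h * D.nI ∈ D.H := by
  have h1 := D.nI_H (mul_mem (mul_mem (inv_mem D.nI_sq) hh) D.nI_sq)
  have e : D.nI * ((D.nI * D.nI)⁻¹ * h * (D.nI * D.nI)) * D.nI⁻¹ = D.nI⁻¹ * h * D.nI := by group
  rwa [e] at h1

theorem nJ_H' {h : G} (hh : h ∈ D.H) : D.nJ⁻¹ * h * D.nJ ∈ D.H := by
  have h1 := D.nJ_H (mul_mem (mul_mem (inv_mem D.nJ_sq) hh) D.nJ_sq)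
  have e : D.nJ * ((D.nJ * D.nJ)⁻¹ * h * (D.nJ * D.nJ)) * D.nJ⁻¹ = D.nJ⁻¹ * h * D.nJ := by group
  rwa [e] at h1

/-! ### the remaining weights -/

theorem hI_x4 {a : K} (ha : a ≠ 0) (u : F) : MulAut.conj (D.hI a) (D.x4 u) = D.x4 u := by
  have h1 : D.x1 a * D.y1 (-a⁻¹) * D.x1 a = D.hI a * D.nI := D.I.xyx a ha
  have h2 := congrArg (fun g => MulAut.conj g (D.x4 u)) h1
  simp only [conj_mul_apply] at h2
  rw [D.nI_x4, conj_of_commute (D.c14 a u), conj_of_commute (D.cy14 _ u), conj_of_commute (D.c14 a u)] at h2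
  exact h2.symm

theorem hI_x3 {a : K} (ha : a ≠ 0) (b : K) : ∃ c, MulAut.conj (D.hI a) (D.x3 b) = D.x3 c := by
  have h1 : D.hI a * D.nI = D.nI * D.hI a⁻¹ := by
    have := D.I.hn (inv_ne_zero ha)
    rw [D.I.h_inv ha, inv_inv] at this
    rw [show D.hI a⁻¹ = (D.hI a)⁻¹ from D.I.h_inv ha]
    exact this
  rw [x3, ← conj_mul_apply, show D.hI a * D.I.n = D.nI * D.hI a⁻¹ from h1, conj_mul_apply, D.hI_x5 (inv_ne_zero ha)]
  exact ⟨_, rfl⟩

/-! ### the root groups -/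

def X : ℕ → Subgroup G
  | 1 => rootSub D.x1 D.x1_add
  | 2 => rootSub D.x2 D.x2_add
  | 3 => rootSub D.x3 D.x3_add
  | 4 => rootSub D.x4 D.x4_add
  | 5 => rootSub D.x5 D.x5_add
  | 6 => rootSub D.x6 D.x6_add
  | _ => ⊥

theorem X_le_I {k l r : ℕ} (h1 : k < r) (h2 : r < l) : D.X r ≤ ⨆ r ∈ Set.Ioo k l, D.X r :=
  le_iSup₂_of_le (f := fun k (_ : k ∈ _) => D.X k) r ⟨h1, h2⟩ le_rfl

theorem comm (k l : ℕ) (h1 : 1 ≤ k) (h2 : k < l) (h3 : l ≤ 6) (x : G) (hx : x ∈ D.X k) (y : G) (hy : y ∈ D.X l) :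
    ⁅x, y⁆ ∈ ⨆ r ∈ Set.Ioo k l, D.X r := by
  have triv : ∀ {x y : G}, Commute x y → ⁅x, y⁆ ∈ ⨆ r ∈ Set.Ioo k l, D.X r := by
    intro x y h
    rw [commutatorElement_eq_one_iff_commute.2 h]
    exact one_mem _
  have hmem2 : ∀ {u : F}, k < 2 → 2 < l → D.x2 u ∈ ⨆ r ∈ Set.Ioo k l, D.X r := fun a b => D.X_le_I a b ⟨_, rfl⟩
  have hmem3 : ∀ {u : K}, k < 3 → 3 < l → D.x3 u ∈ ⨆ r ∈ Set.Ioo k l, D.X r := fun a b => D.X_le_I a b ⟨_, rfl⟩
  have hmem4 : ∀ {u : F}, k < 4 → 4 < l → D.x4 u ∈ ⨆ r ∈ Set.Ioo k l, D.X r := fun a b => D.X_le_I a b ⟨_, rfl⟩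
  have hmem5 : ∀ {u : K}, k < 5 → 5 < l → D.x5 u ∈ ⨆ r ∈ Set.Ioo k l, D.X r := fun a b => D.X_le_I a b ⟨_, rfl⟩
  have hk6 : k < 6 := by omega
  interval_cases k
  · interval_cases l
    · obtain ⟨a, rfl⟩ := hx; obtain ⟨b, rfl⟩ := hy
      exact triv (D.c12 a b)
    · obtain ⟨a, rfl⟩ := hx; obtain ⟨b, rfl⟩ := hy
      rw [D.rel13]
      exact hmem2 (by norm_num) (by norm_num)
    · obtain ⟨a, rfl⟩ := hx; obtain ⟨b, rfl⟩ := hy
      exact triv (D.c14 a b)
    · obtain ⟨a, rfl⟩ := hx; obtain ⟨b, rfl⟩ := hy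
      rw [D.rel15]
      exact mul_mem (mul_mem (hmem2 (by norm_num) (by norm_num)) (hmem3 (by norm_num) (by norm_num)))
        (hmem4 (by norm_num) (by norm_num))
    · obtain ⟨a, rfl⟩ := hx; obtain ⟨b, rfl⟩ := hy
      rw [D.rel16]
      exact mul_mem (mul_mem (mul_mem (hmem2 (by norm_num) (by norm_num)) (hmem3 (by norm_num) (by norm_num)))
        (hmem4 (by norm_num) (by norm_num))) (hmem5 (by norm_num) (by norm_num))
  · interval_cases l
    · obtain ⟨a, rfl⟩ := hx; obtain ⟨b, rfl⟩ := hy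
      exact triv (D.c23 a b)
    · obtain ⟨a, rfl⟩ := hx; obtain ⟨b, rfl⟩ := hy
      exact triv (D.c24 a b)
    · obtain ⟨a, rfl⟩ := hx; obtain ⟨b, rfl⟩ := hy
      exact triv (D.c25 a b)
    · obtain ⟨a, rfl⟩ := hx; obtain ⟨b, rfl⟩ := hy
      rw [D.rel26]
      exact hmem4 (by norm_num) (by norm_num)
  · interval_cases l
    · obtain ⟨a, rfl⟩ := hx; obtain ⟨b, rfl⟩ := hy
      exact triv (D.c34 a b)
    · obtain ⟨a, rfl⟩ := hx; obtain ⟨b, rfl⟩ := hy
      rw [D.rel35]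
      exact hmem4 (by norm_num) (by norm_num)
    · obtain ⟨a, rfl⟩ := hx; obtain ⟨b, rfl⟩ := hy
      exact triv (D.c36 a b)
  · interval_cases l
    · obtain ⟨a, rfl⟩ := hx; obtain ⟨b, rfl⟩ := hy
      exact triv (D.c45 a b)
    · obtain ⟨a, rfl⟩ := hx; obtain ⟨b, rfl⟩ := hy
      exact triv (D.c46 a b)
  · interval_cases l
    obtain ⟨a, rfl⟩ := hx; obtain ⟨b, rfl⟩ := hy
    exact triv (D.c56 a b)

theorem hI_X {a : K} (ha : a ≠ 0) (k : ℕ) (h1 : 1 ≤ k) (h2 : k ≤ 6) (x : G) (hx : x ∈ D.X k) :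
    D.hI a * x * (D.hI a)⁻¹ ∈ D.X k := by
  rw [← MulAut.conj_apply]
  interval_cases k <;> obtain ⟨b, rfl⟩ := hx
  · rw [D.hI_x1 ha]; exact ⟨_, rfl⟩
  · rw [D.hI_x2 ha]; exact ⟨_, rfl⟩
  · obtain ⟨c, hc⟩ := D.hI_x3 ha b
    rw [hc]; exact ⟨_, rfl⟩
  · rw [D.hI_x4 ha]; exact ⟨_, rfl⟩
  · rw [D.hI_x5 ha]; exact ⟨_, rfl⟩
  · rw [D.hI_x6 ha]; exact ⟨_, rfl⟩

theorem hJ_X {u : F} (hu : u ≠ 0) (k : ℕ) (h1 : 1 ≤ k) (h2 : k ≤ 6) (x : G) (hx : x ∈ D.X k) :
    D.hJ u * x * (D.hJ u)⁻¹ ∈ D.X k := by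
  rw [← MulAut.conj_apply]
  interval_cases k <;> obtain ⟨b, rfl⟩ := hx
  · rw [D.hJ_x1 hu]; exact ⟨_, rfl⟩
  · rw [D.hJ_x2 hu]; exact ⟨_, rfl⟩
  · rw [D.hJ_x3 u hu]; exact ⟨_, rfl⟩
  · rw [D.hJ_x4 hu]; exact ⟨_, rfl⟩
  · rw [D.hJ_x5 hu]; exact ⟨_, rfl⟩
  · rw [D.hJ_x6 hu]; exact ⟨_, rfl⟩

theorem HX (h : G) (hh : h ∈ D.H) (k : ℕ) (h1 : 1 ≤ k) (h2 : k ≤ 6) (x : G) (hx : x ∈ D.X k) :
    h * x * h⁻¹ ∈ D.X k := by
  have key : D.H ≤ Subgroup.normalizer (D.X k : Set G) := by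
    refine (Subgroup.closure_le _).2 ?_
    have aux : ∀ g : G, (∀ x ∈ D.X k, g * x * g⁻¹ ∈ D.X k) → (∀ x ∈ D.X k, g⁻¹ * x * g⁻¹⁻¹ ∈ D.X k) →
        g ∈ Subgroup.normalizer (D.X k : Set G) := by
      intro g h3 h4
      rw [Subgroup.mem_normalizer_iff]
      intro x
      refine ⟨fun hx => h3 x hx, fun hx => ?_⟩
      have h5 := h4 _ hx
      have e : g⁻¹ * (g * x * g⁻¹) * g⁻¹⁻¹ = x := by group
      rwa [e] at h5
    rintro _ (⟨a, ha, rfl⟩ | ⟨u, hu, rfl⟩)
    · refine aux _ (fun x hx => D.hI_X ha k h1 h2 x hx) fun x hx => ?_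
      have := D.hI_X (inv_ne_zero ha) k h1 h2 x hx
      rwa [show D.hI a⁻¹ = (D.hI a)⁻¹ from D.I.h_inv ha] at this
    · refine aux _ (fun x hx => D.hJ_X hu k h1 h2 x hx) fun x hx => ?_
      have := D.hJ_X (inv_ne_zero hu) k h1 h2 x hx
      rwa [show D.hJ u⁻¹ = (D.hJ u)⁻¹ from D.J.h_inv hu] at this
  exact (Subgroup.mem_normalizer_iff.1 (key hh) x).1 hx

def XI' : Subgroup G := rootSub D.y1 D.y1_add
def XJ' : Subgroup G := rootSub D.y6 D.y6_add

theorem rank_oneI (a : G) (ha : a ∈ D.XI') (h1 : a ≠ 1) :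
    ∃ x ∈ D.X 1, ∃ h ∈ D.H, ∃ y ∈ D.X 1, a = x * D.nI * h * y := by
  obtain ⟨b, rfl⟩ := ha
  have hb : b ≠ 0 := fun h => h1 (by rw [h, D.y1_zero])
  have hc : -b⁻¹ ≠ 0 := neg_ne_zero.2 (inv_ne_zero hb)
  have h2 : D.x1 (-b⁻¹) * D.y1 (-(-b⁻¹)⁻¹) * D.x1 (-b⁻¹) = D.hI (-b⁻¹) * D.nI := D.I.xyx _ hc
  have e1 : -(-b⁻¹)⁻¹ = b := by rw [inv_neg, inv_inv, neg_neg]
  rw [e1] at h2
  have h3 : (D.hI (-b⁻¹)⁻¹)⁻¹ * D.nI = D.nI * D.hI (-b⁻¹)⁻¹ := D.I.hn (inv_ne_zero hc)
  rw [show D.hI (-b⁻¹)⁻¹ = (D.hI (-b⁻¹))⁻¹ from D.I.h_inv hc, inv_inv] at h3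
  refine ⟨(D.x1 (-b⁻¹))⁻¹, inv_mem ⟨_, rfl⟩, (D.hI (-b⁻¹))⁻¹, inv_mem (D.hI_mem hc), (D.x1 (-b⁻¹))⁻¹,
    inv_mem ⟨_, rfl⟩, ?_⟩
  rw [mul_assoc (D.x1 (-b⁻¹))⁻¹, ← h3, ← h2]
  group

theorem rank_oneJ (a : G) (ha : a ∈ D.XJ') (h1 : a ≠ 1) :
    ∃ x ∈ D.X 6, ∃ h ∈ D.H, ∃ y ∈ D.X 6, a = x * D.nJ * h * y := by
  obtain ⟨b, rfl⟩ := ha
  have hb : b ≠ 0 := fun h => h1 (by rw [h, D.y6_zero])
  have hc : -b⁻¹ ≠ 0 := neg_ne_zero.2 (inv_ne_zero hb)
  have h2 : D.x6 (-b⁻¹) * D.y6 (-(-b⁻¹)⁻¹) * D.x6 (-b⁻¹) = D.hJ (-b⁻¹) * D.nJ := D.J.xyx _ hc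
  have e1 : -(-b⁻¹)⁻¹ = b := by rw [inv_neg, inv_inv, neg_neg]
  rw [e1] at h2
  have h3 : (D.hJ (-b⁻¹)⁻¹)⁻¹ * D.nJ = D.nJ * D.hJ (-b⁻¹)⁻¹ := D.J.hn (inv_ne_zero hc)
  rw [show D.hJ (-b⁻¹)⁻¹ = (D.hJ (-b⁻¹))⁻¹ from D.J.h_inv hc, inv_inv] at h3
  refine ⟨(D.x6 (-b⁻¹))⁻¹, inv_mem ⟨_, rfl⟩, (D.hJ (-b⁻¹))⁻¹, inv_mem (D.hJ_mem hc), (D.x6 (-b⁻¹))⁻¹,
    inv_mem ⟨_, rfl⟩, ?_⟩
  rw [mul_assoc (D.x6 (-b⁻¹))⁻¹, ← h3, ← h2]
  group

theorem braid_aux (hbr : Commute D.nI (D.nJ * D.nI * D.nJ * D.nI⁻¹ * D.nJ⁻¹)) :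
    ∃ h ∈ D.H, alt D.nI D.nJ 6 = alt D.nJ D.nI 6 * h := by
  refine ⟨(alt D.nJ D.nI 6)⁻¹ * alt D.nI D.nJ 6, ?_, by group⟩
  simp only [alt_succ, alt_zero]
  have h1 := hbr.eq
  have e1 : D.nI * (D.nJ * (D.nI * (D.nJ * (D.nI * (D.nJ * 1))))) =
      D.nI * (D.nJ * D.nI * D.nJ * D.nI⁻¹ * D.nJ⁻¹) * (D.nJ * D.nI * D.nI * D.nJ) := by group
  rw [e1, h1]
  have e2 : (D.nJ * (D.nI * (D.nJ * (D.nI * (D.nJ * (D.nI * 1))))))⁻¹ *
      (D.nJ * D.nI * D.nJ * D.nI⁻¹ * D.nJ⁻¹ * D.nI * (D.nJ * D.nI * D.nI * D.nJ)) =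
      (D.nI⁻¹ * ((D.nJ⁻¹ * (D.nI * D.nI)⁻¹ * D.nJ) * (D.nJ * D.nJ)⁻¹) * D.nI) *
        ((D.nJ * (D.nI * D.nI) * D.nJ⁻¹) * (D.nJ * D.nJ)) := by group
  rw [e2]
  exact mul_mem (D.nI_H' (mul_mem (D.nJ_H' (inv_mem D.nI_sq)) (inv_mem D.nJ_sq)))
    (mul_mem (D.nJ_H D.nI_sq) D.nJ_sq)

/-- **The root datum of rank two** -/
def r2 (hbr : Commute D.nI (D.nJ * D.nI * D.nJ * D.nI⁻¹ * D.nJ⁻¹)) : R2 6 G where
  X := D.X
  XI' := D.XI'
  XJ' := D.XJ'
  H := D.H
  nI := D.nI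
  nJ := D.nJ
  one_le := by norm_num
  comm := D.comm
  HX := D.HX
  nI_X := by
    intro k h1 h2 x hx
    rw [← MulAut.conj_apply]
    interval_cases k <;> obtain ⟨b, rfl⟩ := hx
    · rw [D.nI_x2]; exact ⟨_, rfl⟩
    · rw [D.nI_x3]; exact ⟨_, rfl⟩
    · rw [D.nI_x4]; exact ⟨_, rfl⟩
    · rw [D.nI_x5]; exact ⟨_, rfl⟩
    · rw [D.nI_x6]; exact ⟨_, rfl⟩
  nJ_X := by
    intro k h1 h2 x hx
    rw [← MulAut.conj_apply]
    interval_cases k <;> obtain ⟨b, rfl⟩ := hx
    · rw [D.nJ_x1]; exact ⟨_, rfl⟩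
    · rw [D.nJ_x2]; exact ⟨_, rfl⟩
    · rw [D.nJ_x3]; exact ⟨_, rfl⟩
    · rw [D.nJ_x4]; exact ⟨_, rfl⟩
    · rw [D.nJ_x5]; exact ⟨_, rfl⟩
  nI_pos := by
    rintro _ ⟨b, rfl⟩
    exact ⟨-b, (D.nI_x1 b).symm⟩
  nI_neg := by
    rintro _ ⟨b, rfl⟩
    exact ⟨-b, (D.nI_y1 b).symm⟩
  nJ_pos := by
    rintro _ ⟨b, rfl⟩
    exact ⟨-b, (D.nJ_x6 b).symm⟩
  nJ_neg := by
    rintro _ ⟨b, rfl⟩
    exact ⟨-b, (D.nJ_y6 b).symm⟩
  nI_sq := D.nI_sq
  nJ_sq := D.nJ_sq
  nI_H := fun h hh => D.nI_H hh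
  nJ_H := fun h hh => D.nJ_H hh
  rank_oneI := D.rank_oneI
  rank_oneJ := D.rank_oneJ
  memI := by
    have h : D.nI = D.x1 1 * D.y1 (-1) * D.x1 1 := D.I.n_eq
    rw [h]
    exact mul_mem (mul_mem (le_sup_left (a := D.X 1) ⟨_, rfl⟩) (le_sup_right (b := D.XI') ⟨_, rfl⟩))
      (le_sup_left (a := D.X 1) ⟨_, rfl⟩)
  memJ := by
    have h : D.nJ = D.x6 1 * D.y6 (-1) * D.x6 1 := D.J.n_eq
    rw [h]
    exact mul_mem (mul_mem (le_sup_left (a := D.X 6) ⟨_, rfl⟩) (le_sup_right (b := D.XJ') ⟨_, rfl⟩))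
      (le_sup_left (a := D.X 6) ⟨_, rfl⟩)
  braid := D.braid_aux hbr

end HexDat

end Cfsg.Agent.GTwoOdd.Hex
end

private theorem dce_088d693f7fad : _root_.True := by
  try have : _root_.True := by simp only [_root_.Cfsg.Agent.GTwoOdd.Hex.HexPre.x2.eq_1]
  try have : _root_.True := by simp only [_root_.Cfsg.Agent.GTwoOdd.Hex.HexDat.sh.eq_1]
  try have : _root_.True := by simp only [_root_.Cfsg.Agent.GTwoOdd.Hex.HexPre.x5.eq_1]
  try have : _root_.True := by simp only [_root_.Cfsg.Agent.GTwoOdd.Hex.HexPre.nJ.eq_1]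
  try have : _root_.True := by simp only [_root_.Cfsg.Agent.GTwoOdd.Hex.HexPre.x3.eq_1]
  try have : _root_.True := by simp only [_root_.Cfsg.Agent.GTwoOdd.Hex.HexDat.nf.eq_1]
  try have : _root_.True := by simp only [_root_.Cfsg.Agent.GTwoOdd.Hex.HexDat.cr.eq_1]
  try have : _root_.True := by simp only [_root_.Cfsg.Agent.GTwoOdd.Hex.HexPre.x4.eq_1]
  try have : _root_.True := by simp only [_root_.Cfsg.Agent.GTwoOdd.Hex.HexPre.nI.eq_1]
  exact _root_.True.intro
end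

-- part: GTwoOdd/Core/TrConn
section
prune_inst 0x80000000000000c010000
set_option linter.all false
open scoped Cfsg.Agent.FastGrp

/-!
# The commuting graph of the involutions of `C(t)`

A nonempty set of involutions `≠ t` of `C(t)` which is closed under commuting contains all the
involutions `≠ t` of `C(t)`.
-/

set_option autoImplicit false

namespace Cfsg.Agent.GTwoOdd.Core.TrConn

open Matrix

section matrices

variable {F : Type*} [Field F]

/-- nonsingular of trace `0` -/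
def TZ (A : M2 F) : Prop := A.trace = 0 ∧ A.det ≠ 0

theorem TZ.smul {A : M2 F} (h : TZ A) {c : F} (hc : c ≠ 0) : TZ (c • A) :=
  ⟨by rw [Matrix.trace_smul, h.1, smul_zero],
    by rw [det_smul2]; exact mul_ne_zero (mul_ne_zero hc hc) h.2⟩

/-- an anticommuting matrix of given determinant -/
theorem exists_anti_det [Finite F] (h2 : (2 : F) ≠ 0) {A : M2 F} (hA : TZ A) {d : F}
    (hd : d ≠ 0) : ∃ A' : M2 F, TZ A' ∧ A' * A = -(A * A') ∧ A'.det = d := by
  obtain ⟨n, hn⟩ := exists_anti h2 hA.2 hA.1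
  obtain ⟨B, hB, hBd⟩ := exists_cent_det h2 hA.2 hA.1 d
  have h : (n : M2 F) * B * A = -(A * (n * B)) := by
    rw [mul_assoc, hB, ← mul_assoc, hn, neg_mul, mul_assoc]
  have hdet : ((n : M2 F) * B).det = d := by
    rw [Matrix.det_mul, hBd, sl_coe_det, one_mul]
  exact ⟨n * B, ⟨trace_of_anti h2 hA.2 h, by rw [hdet]; exact hd⟩, h, hdet⟩

theorem not_prop_of_anti (h2 : (2 : F) ≠ 0) {A A' : M2 F} (hA : TZ A) (hA' : TZ A')
    (h : A' * A = -(A * A')) (c : F) : A' ≠ c • A := by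
  rintro rfl
  have h1 : c ≠ 0 := by
    rintro rfl
    apply hA'.2
    simp
  rw [Matrix.smul_mul, Matrix.mul_smul, m2_sq_of_trace hA.1, smul_smul, ← neg_smul] at h
  have h3 := congrFun (congrFun h 0) 0
  simp at h3
  have h4 : 2 * (c * A.det) = 0 := by linear_combination -h3
  rcases mul_eq_zero.1 h4 with h5 | h5
  · exact h2 h5
  · rcases mul_eq_zero.1 h5 with h6 | h6
    · exact h1 h6
    · exact hA.2 h6

/-- a singular matrix anticommuting with a nonsplit one is `0` -/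
theorem eq_zero_of_anti {B D : M2 F} (hB : B.trace = 0) (hns : ¬ IsSquare (-B.det))
    (hD : D.trace = 0) (h : D * B = -(B * D)) (hdet : D.det = 0) : D = 0 := by
  have hb := trace_zero_iff.1 hB
  have hd := trace_zero_iff.1 hD
  have h00 := congrFun (congrFun h 0) 0
  rw [Matrix.neg_apply, m2_mul_00, m2_mul_00] at h00
  rw [Matrix.det_fin_two, hd] at hdet
  rw [Matrix.det_fin_two, hb] at hns
  have hq : B 0 1 ≠ 0 := by
    intro hq
    apply hns
    refine ⟨B 0 0, ?_⟩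
    rw [hq]; ring
  by_cases hy : D 0 1 = 0
  · have hx : D 0 0 = 0 := by
      rw [hy] at hdet
      have : D 0 0 * D 0 0 = 0 := by linear_combination -hdet
      exact mul_self_eq_zero.1 this
    have hz : D 1 0 = 0 := by
      rw [hx, hy] at h00
      have : B 0 1 * D 1 0 = 0 := by linear_combination h00
      exact (mul_eq_zero.1 this).resolve_left hq
    exact m2_ext (by simp [hx]) (by simp [hy]) (by simp [hz]) (by simp [hd, hx])
  · exfalso
    apply hns
    refine ⟨(B 0 1 * D 0 0 - B 0 0 * D 0 1) / D 0 1, ?_⟩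
    field_simp
    linear_combination (B 0 1 * D 0 1) * h00 + (B 0 1 * B 0 1) * hdet

/-- the commutator of two matrices of trace `0` anticommutes with both -/
theorem commutator_anti {B B' : M2 F} (hB : B.trace = 0) :
    (B * B' - B' * B) * B = -(B * (B * B' - B' * B)) := by
  have h1 : (B * B' - B' * B) * B = B * B' * B - B' * (B * B) := by
    rw [sub_mul]; simp only [mul_assoc]
  have h2 : B * (B * B' - B' * B) = (B * B) * B' - B * B' * B := by
    rw [mul_sub]; simp only [mul_assoc]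
  rw [h1, h2, m2_sq_of_trace hB]
  simp

theorem commutator_anti' {B B' : M2 F} (hB' : B'.trace = 0) :
    (B * B' - B' * B) * B' = -(B' * (B * B' - B' * B)) := by
  have h1 := commutator_anti (B := B') (B' := B) hB'
  have h2 : B * B' - B' * B = -(B' * B - B * B') := by abel
  rw [h2, neg_mul, h1, mul_neg]

theorem commutator_tz (h2 : (2 : F) ≠ 0) {B B' : M2 F} (hB : TZ B) (hns : ¬ IsSquare (-B.det))
    (hB' : TZ B') (hne : ∀ c : F, B' ≠ c • B) : TZ (B * B' - B' * B) := by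
  have ht : (B * B' - B' * B).trace = 0 := by
    rw [Matrix.trace_sub, Matrix.trace_mul_comm, sub_self]
  refine ⟨ht, fun hdet => ?_⟩
  have h0 := eq_zero_of_anti hB.1 hns ht (commutator_anti hB.1) hdet
  have h1 : B' * B = B * B' := (sub_eq_zero.1 h0).symm
  obtain ⟨a, b, hab⟩ := cent_form h2 hB.2 hB.1 h1
  have h3 : 2 * a = 0 := by
    rw [← cent_trace hB.1 a b, ← hab, hB'.1]
  have ha : a = 0 := (mul_eq_zero.1 h3).resolve_left h2
  apply hne b
  rw [hab, ha]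
  simp

theorem exists_ns [Finite F] (h2 : (2 : F) ≠ 0) : ∃ a : F, ¬ IsSquare a := by
  have := Fintype.ofFinite F
  apply FiniteField.exists_nonsquare
  intro h
  apply h2
  have := ringChar.Nat.cast_ringChar (R := F)
  rw [h] at this
  exact_mod_cast this

theorem exists_class [Finite F] (h2 : (2 : F) ≠ 0) (P : Prop) : ∃ d : F, d ≠ 0 ∧ (P ↔ IsSquare d) := by
  by_cases h : P
  · exact ⟨1, one_ne_zero, iff_of_true h (IsSquare.one)⟩
  · obtain ⟨a, ha⟩ := exists_ns h2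
    refine ⟨a, ?_, iff_of_false h ha⟩
    rintro rfl
    exact ha IsSquare.zero

/-- a nonempty set of nonsingular matrices of trace `0` which is closed under scaling and
anticommuting is everything -/
theorem all_of_closed [Finite F] (h2 : (2 : F) ≠ 0) (P : M2 F → Prop) (hne : ∃ A, TZ A ∧ P A)
    (hs : ∀ (A : M2 F) (c : F), c ≠ 0 → TZ A → P A → P (c • A))
    (hc : ∀ A A' : M2 F, TZ A → TZ A' → A' * A = -(A * A') → P A → P A') :
    ∀ A, TZ A → P A := by
  obtain ⟨ν, hν⟩ := exists_ns h2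
  have hν0 : -ν ≠ 0 := by
    intro h
    apply hν
    rw [neg_eq_zero.1 h]
    exact IsSquare.zero
  obtain ⟨A0, hA0, hP0⟩ := hne
  obtain ⟨A1, hA1, h1, hd1⟩ := exists_anti_det h2 hA0 hν0
  have hP1 := hc A0 A1 hA0 hA1 h1 hP0
  have hns1 : ¬ IsSquare (-A1.det) := by rw [hd1, neg_neg]; exact hν
  have hnon : ∀ B, TZ B → P B := by
    intro B hB
    by_cases hex : ∃ c : F, B = c • A1
    · obtain ⟨c, rfl⟩ := hex
      refine hs _ c ?_ hA1 hP1
      rintro rfl
      apply hB.2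
      simp
    · push Not at hex
      have hD := commutator_tz h2 hA1 hns1 hB hex
      have hPD := hc A1 _ hA1 hD (commutator_anti hA1.1) hP1
      refine hc _ B hD hB ?_ hPD
      rw [commutator_anti' (B := A1) (B' := B) hB.1, neg_neg]
  exact hnon

end matrices

section local'

variable {G : Type*} [Group G] {t : G} {F1 F2 : Type*} [Field F1] [Field F2] [Finite F1]
  [Finite F2] {L : LocalSL t F1 F2} (H : L.Hyp)

/-- the involutions `≠ t` of `C(t)` -/
def Inv (t u : G) : Prop := u * t = t * u ∧ u * u = 1 ∧ u ≠ 1 ∧ u ≠ t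

include H

theorem inv_of_rep {u : G} {A : M2 F1} {B : M2 F2} (h : L.Rep u A B) (hA : A.trace = 0)
    (hB : B.trace = 0) : Inv t u := by
  refine ⟨h.comm, H.invol h hA hB, ?_, ?_⟩
  · rintro rfl
    obtain ⟨⟨a, _, ha⟩, _⟩ := (LocalSL.Rep.one L).prop h
    exact not_scalar H.two_ne1 h.det1 hA a ha
  · rintro rfl
    obtain ⟨⟨a, _, ha⟩, _⟩ := (LocalSL.Rep.rep_t L).prop h
    exact not_scalar H.two_ne1 h.det1 hA a ha

theorem rep_of_inv {u : G} (h : Inv t u) : ∃ A B, L.Rep u A B ∧ TZ A ∧ TZ B := by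
  obtain ⟨A, B, h1, h2, h3⟩ := H.rep_of_invol h.1 h.2.1 h.2.2.1 h.2.2.2
  exact ⟨A, B, h1, ⟨h2, h1.det1⟩, ⟨h3, h1.det2⟩⟩

theorem exists_inv : ∃ u, Inv t u := by
  obtain ⟨g, D1, D2, h, _, _, _, h1, h2⟩ := H.outer'
  exact ⟨g, inv_of_rep H h h1 h2⟩

theorem exists_neighbour {u : G} {A : M2 F1} {B : M2 F2} (h : L.Rep u A B)
    {A' : M2 F1} {B' : M2 F2} (hA' : TZ A') (hB' : TZ B') (a1 : A' * A = -(A * A'))
    (a2 : B' * B = -(B * B')) (hcl : IsSquare A'.det ↔ IsSquare B'.det) :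
    ∃ u', L.Rep u' A' B' ∧ Inv t u' ∧ u * u' = u' * u := by
  obtain ⟨u', hu'⟩ := H.exists_rep hA'.2 hB'.2 hcl
  exact ⟨u', hu', inv_of_rep H hu' hA'.1 hB'.1, (H.commute_of_anti hu' h a1 a2).symm⟩

/-- a third involution commuting with `t` and `u` -/
theorem third {u : G} (hu : Inv t u) :
    ∃ u', Inv t u' ∧ u * u' = u' * u ∧ u' ≠ u ∧ u' ≠ u * t := by
  obtain ⟨A, B, h, hA, hB⟩ := rep_of_inv H hu
  obtain ⟨A', hA', a1, d1⟩ := exists_anti_det H.two_ne1 hA (d := 1) one_ne_zero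
  obtain ⟨B', hB', a2, d2⟩ := exists_anti_det H.two_ne2 hB (d := 1) one_ne_zero
  obtain ⟨u', hu', hi, hc⟩ := exists_neighbour H h hA' hB' a1 a2
    (by rw [d1, d2]; exact iff_of_true IsSquare.one IsSquare.one)
  refine ⟨u', hi, hc, ?_, ?_⟩
  · rintro rfl
    obtain ⟨⟨a, _, ha⟩, _⟩ := h.prop hu'
    exact not_prop_of_anti H.two_ne1 hA hA' a1 a ha
  · rintro rfl
    have h1 := h.mul (LocalSL.Rep.rep_t L)
    rw [mul_one, mul_one] at h1
    obtain ⟨⟨a, _, ha⟩, _⟩ := h1.prop hu'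
    exact not_prop_of_anti H.two_ne1 hA hA' a1 a ha

/-- connectivity of the commuting graph of the involutions `≠ t` of `C(t)` -/
theorem conn (U : G → Prop) (hne : ∃ u, Inv t u ∧ U u)
    (hc : ∀ u u', Inv t u → Inv t u' → u * u' = u' * u → U u → U u') : ∀ u, Inv t u → U u := by
  have h21 := H.two_ne1
  have h22 := H.two_ne2
  -- the first coordinates
  have step1 : ∀ A, TZ A → ∃ (u : G) (B : M2 F2), L.Rep u A B ∧ TZ B ∧ U u := by
    refine all_of_closed h21 _ ?_ ?_ ?_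
    · obtain ⟨u, hu, hU⟩ := hne
      obtain ⟨A, B, h, hA, hB⟩ := rep_of_inv H hu
      exact ⟨A, hA, u, B, h, hB, hU⟩
    · rintro A c hc0 hA ⟨u, B, h, hB, hU⟩
      refine ⟨u, B, ?_, hB, hU⟩
      have := h.smul hc0 (one_ne_zero (α := F2))
      rwa [one_smul] at this
    · rintro A A' hA hA' ha ⟨u, B, h, hB, hU⟩
      obtain ⟨d, hd, hcl⟩ := exists_class h22 (IsSquare A'.det)
      obtain ⟨B', hB', a2, d2⟩ := exists_anti_det h22 hB hd
      obtain ⟨u', hu', hi, hcm⟩ := exists_neighbour H h hA' hB' ha a2 (by rw [d2]; exact hcl)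
      exact ⟨u', B', hu', hB', hc u u' (inv_of_rep H h hA.1 hB.1) hi hcm hU⟩
  -- the nonsplit ones
  have step2 : ∀ (u : G) (A : M2 F1) (B : M2 F2), L.Rep u A B → TZ A → TZ B →
      ¬ IsSquare (-B.det) → U u := by
    intro u A B h hA hB hns
    obtain ⟨u0, B0, h0, hB0, hU0⟩ := step1 A hA
    have hi0 := inv_of_rep H h0 hA.1 hB0.1
    have hi := inv_of_rep H h hA.1 hB.1
    have hns0 : ¬ IsSquare (-B0.det) := by
      have h3 : IsSquare B0.det ↔ IsSquare B.det := by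
        rw [← H.square_iff _ _ _ h0, ← H.square_iff _ _ _ h]
      have h4 : IsSquare ((-B0.det) * (-B.det)) := by
        rw [neg_mul_neg]
        exact (isSquare_mul_iff hB0.2 hB.2).2 h3
      intro h5
      exact hns (((isSquare_mul_iff (neg_ne_zero.2 hB0.2) (neg_ne_zero.2 hB.2)).1 h4).1 h5)
    by_cases hex : ∃ c : F2, B = c • B0
    · obtain ⟨c, hcB⟩ := hex
      rcases h0.unique h (a := 1) (one_smul _ _).symm hcB with h6 | h6
      · rw [h6]; exact hU0
      · refine hc u0 u hi0 hi ?_ hU0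
        rw [h6, mul_assoc, ← hi0.1]
    · push Not at hex
      have hD := commutator_tz h22 hB0 hns0 hB hex
      obtain ⟨d, hd, hcl⟩ := exists_class h21 (IsSquare (B0 * B - B * B0).det)
      obtain ⟨A', hA', a1, d1⟩ := exists_anti_det h21 hA hd
      have hcl' : IsSquare A'.det ↔ IsSquare (B0 * B - B * B0).det := by
        rw [d1]; exact hcl.symm
      obtain ⟨u', hu', hi', hcm'⟩ := exists_neighbour H h0 hA' hD a1 (commutator_anti hB0.1) hcl'
      have hcm2 : u' * u = u * u' :=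
        H.commute_of_anti hu' h a1 (commutator_anti' hB.1)
      exact hc u' u hi' hi hcm2 (hc u0 u' hi0 hi' hcm' hU0)
  intro u hu
  obtain ⟨A, B, h, hA, hB⟩ := rep_of_inv H hu
  obtain ⟨ν, hν⟩ := exists_ns h22
  have hν0 : -ν ≠ 0 := by
    intro h
    apply hν
    rw [neg_eq_zero.1 h]
    exact IsSquare.zero
  obtain ⟨B', hB', a2, d2⟩ := exists_anti_det h22 hB hν0
  obtain ⟨d, hd, hcl⟩ := exists_class h21 (IsSquare B'.det)
  obtain ⟨A', hA', a1, d1⟩ := exists_anti_det h21 hA hd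
  obtain ⟨u', hu', hi', hcm'⟩ := exists_neighbour H h hA' hB' a1 a2 (by rw [d1]; exact hcl.symm)
  have hU' := step2 u' A' B' hu' hA' hB' (by rw [d2, neg_neg]; exact hν)
  exact hc u' u hi' hu hcm'.symm hU'

end local'

end Cfsg.Agent.GTwoOdd.Core.TrConn
end

-- part: GTwoOdd/Core/Nilp
section
prune_inst 0x80000000000000c010000
set_option linter.all false
open scoped Cfsg.Agent.FastGrp

/-!
# `C(V)` is 2-nilpotent

`Nil2 Y`: every element of odd order of `Y` lies in `O(Y)`.  For `V = ⟨t, s⟩` a four-group and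
`LocHyp t` the group `C(V)` satisfies `Nil2`.
-/

set_option autoImplicit false

namespace Cfsg.Agent.GTwoOdd.Core.Nilp

open Cfsg

/-- every element of odd order lies in the odd core -/
def Nil2 (Y : Type*) [Group Y] : Prop := ∀ y : Y, Odd (orderOf y) → y ∈ Cfsg.pPrimeCore 2 Y

section general

variable {Y : Type*} [Group Y]

theorem eq_one_of_odd {y : Y} {k : ℕ} (hk : Odd k) (h1 : y ^ k = 1) (h2 : y * y = 1) : y = 1 := by
  obtain ⟨m, rfl⟩ := hk
  rwa [pow_add, pow_mul, pow_two, h2, one_pow, one_mul, pow_one] at h1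

theorem coprime_of_no_invol [Finite Y] {N : Subgroup Y} (h : ∀ y ∈ N, y * y = 1 → y = 1) :
    (Nat.card N).Coprime 2 := by
  rw [Nat.coprime_comm, Nat.Prime.coprime_iff_not_dvd Nat.prime_two]
  intro hd
  obtain ⟨y, hy⟩ := exists_prime_orderOf_dvd_card' 2 hd
  have h1 : (y : Y) * y = 1 := by
    have := pow_orderOf_eq_one y
    rw [hy, pow_two] at this
    exact congrArg Subtype.val this
  have h2 := h y y.2 h1
  have h3 : y = 1 := Subtype.ext h2
  rw [h3, orderOf_one] at hy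
  omega

/-- the centre has odd index -/
theorem nil2_of_center [Finite Y] (h : Odd (Subgroup.center Y).index) : Nil2 Y := by
  obtain ⟨a, M, hM, hcard⟩ := Nat.exists_eq_two_pow_mul_odd
    (n := Nat.card (Subgroup.center Y)) Nat.card_pos.ne'
  let f : Y →* Subgroup.center Y :=
    { toFun := fun y => (MonoidHom.transferCenterPow Y y) ^ M
      map_one' := by rw [map_one, one_pow]
      map_mul' := by
        intro x y
        have hc : Commute (MonoidHom.transferCenterPow Y x) (MonoidHom.transferCenterPow Y y) :=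
          Subtype.ext (Subgroup.mem_center_iff.1 (MonoidHom.transferCenterPow Y y).2
            (MonoidHom.transferCenterPow Y x : Y))
        rw [map_mul, hc.mul_pow] }
  have hf : ∀ y, ((f y : Subgroup.center Y) : Y) = (y ^ (Subgroup.center Y).index) ^ M := by
    intro y
    change (((MonoidHom.transferCenterPow Y y) ^ M : Subgroup.center Y) : Y) = _
    rw [Subgroup.coe_pow, MonoidHom.transferCenterPow_apply]
  have hker : ∀ y, y ∈ f.ker ↔ y ^ ((Subgroup.center Y).index * M) = 1 := by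
    intro y
    rw [MonoidHom.mem_ker, pow_mul, ← hf, OneMemClass.coe_eq_one]
  have hle : f.ker ≤ pPrimeCore 2 Y := by
    refine Lib.Cores.le_pPrimeCore inferInstance (coprime_of_no_invol ?_)
    intro y hy h2
    exact eq_one_of_odd (h.mul hM) ((hker y).1 hy) h2
  intro y hy
  apply hle
  rw [hker, pow_mul]
  have h1 : (y ^ (Subgroup.center Y).index) ^ (2 ^ a * M) = 1 := by
    rw [← hcard]
    have h2 := pow_card_eq_one' (x := MonoidHom.transferCenterPow Y y)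
    have h3 := congrArg Subtype.val h2
    rwa [Subgroup.coe_pow, MonoidHom.transferCenterPow_apply] at h3
  have h2 : (y ^ (Subgroup.center Y).index) ^ orderOf y = 1 := by
    rw [← pow_mul, mul_comm, pow_mul, pow_orderOf_eq_one, one_pow]
  have h3 := orderOf_dvd_of_pow_eq_one h1
  have h4 := orderOf_dvd_of_pow_eq_one h2
  have h5 : Nat.Coprime (orderOf (y ^ (Subgroup.center Y).index)) (2 ^ a) :=
    Nat.Coprime.coprime_dvd_left h4 (Nat.Coprime.pow_right a (Nat.coprime_two_right.2 hy))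
  exact orderOf_dvd_iff_pow_eq_one.1 (h5.dvd_of_dvd_mul_left h3)

/-- pull back along a homomorphism with odd kernel -/
theorem nil2_of_hom [Finite Y] {Y' : Type*} [Group Y'] [Finite Y'] (φ : Y →* Y')
    (hk : ∀ y, φ y = 1 → y * y = 1 → y = 1) (h : Nil2 Y') : Nil2 Y := by
  have hle : (pPrimeCore 2 Y').comap φ ≤ pPrimeCore 2 Y := by
    refine Lib.Cores.le_pPrimeCore ((Lib.Cores.pPrimeCore_normal 2).comap φ)
      (coprime_of_no_invol ?_)
    intro y hy h2
    apply hk y _ h2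
    have hodd : Odd (Nat.card (pPrimeCore 2 Y')) :=
      Nat.coprime_two_right.1 (Lib.Cores.pPrimeCore_coprime 2)
    refine eq_one_of_odd hodd ?_ (by rw [← map_mul, h2, map_one])
    exact congrArg Subtype.val (pow_card_eq_one' (x := (⟨φ y, hy⟩ : pPrimeCore 2 Y')))
  intro y hy
  apply hle
  apply h
  obtain ⟨m, hm⟩ := orderOf_map_dvd φ y
  rw [hm] at hy
  exact (Nat.odd_mul.1 hy).1

theorem conj_pow_eq {c x z : Y} (hz : c * z = z * c) (h : c * x * c⁻¹ = z * x) (k : ℕ) :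
    c ^ k * x * (c ^ k)⁻¹ = z ^ k * x := by
  induction k with
  | zero => simp
  | succ k ih =>
    have hzk : c * z ^ k = z ^ k * c := ((show Commute c z from hz).pow_right k).eq
    calc c ^ (k + 1) * x * (c ^ (k + 1))⁻¹ = c * (c ^ k * x * (c ^ k)⁻¹) * c⁻¹ := by
          rw [pow_succ']; group
      _ = c * z ^ k * x * c⁻¹ := by rw [ih]; group
      _ = z ^ k * (c * x * c⁻¹) := by rw [hzk]; group
      _ = z ^ (k + 1) * x := by rw [h, pow_succ]; group

theorem pow_eq_one_of_conj {c x z : Y} (hz : c * z = z * c) (h : c * x * c⁻¹ = z * x) :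
    z ^ orderOf c = 1 := by
  have h1 := conj_pow_eq hz h (orderOf c)
  rw [pow_orderOf_eq_one, one_mul, inv_one, mul_one] at h1
  exact (mul_eq_right.1 h1.symm)

/-- a dihedral-like normal `2`-subgroup `E` of odd index whose torus `T` is abelian with central
involutions -/
theorem nil2_aux [Finite Y] (T E : Subgroup Y) (hTE : T ≤ E) (hE : E.Normal) (hTn : T.Normal)
    (hT2 : IsPGroup 2 T) (hTc : ∀ x ∈ T, ∀ y ∈ T, x * y = y * x)
    (hidx : ∀ x ∈ E, x ∉ T → ∀ y ∈ E, y ∉ T → x * y ∈ T) (hEY : ∀ y, y * y ∈ E → y ∈ E)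
    (hOm : ∀ x ∈ T, x * x = 1 → ∀ y, y * x = x * y) : Nil2 Y := by
  -- elements of odd order centralise `T`
  have stepa : ∀ c : Y, Odd (orderOf c) → ∀ n : ℕ, ∀ x ∈ T, x ^ (2 ^ n) = 1 → c * x = x * c := by
    intro c hc n
    induction n with
    | zero =>
      intro x _ h
      rw [pow_zero, pow_one] at h
      rw [h]; simp
    | succ n ih =>
      intro x hx h
      have h1 : c * (x * x) = x * x * c := by
        apply ih _ (mul_mem hx hx)
        rw [← pow_two, ← pow_mul, ← pow_succ']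
        exact h
      have hcx : c * x * c⁻¹ ∈ T := hTn.conj_mem x hx c
      have hzT : c * x * c⁻¹ * x⁻¹ ∈ T := mul_mem hcx (inv_mem hx)
      have hzx : c * x * c⁻¹ = c * x * c⁻¹ * x⁻¹ * x := by group
      have hz2 : c * x * c⁻¹ * x⁻¹ * (c * x * c⁻¹ * x⁻¹) = 1 := by
        have h2 := hTc _ hcx _ (inv_mem hx)
        calc c * x * c⁻¹ * x⁻¹ * (c * x * c⁻¹ * x⁻¹)
            = x⁻¹ * (c * x * c⁻¹) * (c * x * c⁻¹ * x⁻¹) := by rw [h2]
          _ = x⁻¹ * (c * (x * x)) * c⁻¹ * x⁻¹ := by group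
          _ = 1 := by rw [h1]; group
      have hzc : c * (c * x * c⁻¹ * x⁻¹) = c * x * c⁻¹ * x⁻¹ * c := hOm _ hzT hz2 c
      have h3 := pow_eq_one_of_conj hzc hzx
      have h4 := eq_one_of_odd hc h3 hz2
      have h5 : c * x * c⁻¹ = x := by rw [hzx, h4, one_mul]
      calc c * x = c * x * c⁻¹ * c := by group
        _ = x * c := by rw [h5]
  have stepT : ∀ c : Y, Odd (orderOf c) → ∀ x ∈ T, c * x = x * c := by
    intro c hc x hx
    obtain ⟨n, hn⟩ := hT2 ⟨x, hx⟩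
    exact stepa c hc n x hx (by simpa using congrArg Subtype.val hn)
  have stepE : ∀ c : Y, Odd (orderOf c) → ∀ x ∈ E, c * x = x * c := by
    intro c hc x hx
    by_cases hxT : x ∈ T
    · exact stepT c hc x hxT
    have hcx : c * x * c⁻¹ ∈ E := hE.conj_mem x hx c
    have hcxT : c * x * c⁻¹ ∉ T := by
      intro h
      apply hxT
      have := hTn.conj_mem _ h c⁻¹
      have h2 : c⁻¹ * (c * x * c⁻¹) * c⁻¹⁻¹ = x := by group
      rwa [h2] at this
    have hzT : c * x * c⁻¹ * x⁻¹ ∈ T := by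
      refine hidx _ hcx hcxT _ (inv_mem hx) ?_
      rwa [inv_mem_iff]
    have hzx : c * x * c⁻¹ = c * x * c⁻¹ * x⁻¹ * x := by group
    have h3 := pow_eq_one_of_conj (stepT c hc _ hzT) hzx
    obtain ⟨n, hn⟩ := hT2 ⟨_, hzT⟩
    have hn' : (c * x * c⁻¹ * x⁻¹) ^ (2 ^ n) = 1 := by simpa using congrArg Subtype.val hn
    have h4 : orderOf (c * x * c⁻¹ * x⁻¹) = 1 := by
      have d1 := orderOf_dvd_of_pow_eq_one h3
      have d2 := orderOf_dvd_of_pow_eq_one hn'
      have hco : Nat.Coprime (orderOf c) (2 ^ n) :=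
        Nat.Coprime.pow_right n (Nat.coprime_two_right.2 hc)
      exact Nat.eq_one_of_dvd_coprimes hco d1 d2
    have h5 := orderOf_eq_one_iff.1 h4
    have h6 : c * x * c⁻¹ = x := by rw [hzx, h5, one_mul]
    calc c * x = c * x * c⁻¹ * c := by group
      _ = x * c := by rw [h6]
  -- the centraliser of `E`
  have hKn : (Subgroup.centralizer (E : Set Y)).Normal := by
    refine ⟨fun k hk g => ?_⟩
    rw [Subgroup.mem_centralizer_iff] at hk ⊢
    intro e he
    have h1 : g⁻¹ * e * g ∈ E := by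
      have := hE.conj_mem e he g⁻¹
      rwa [inv_inv] at this
    have h2 := hk _ h1
    calc e * (g * k * g⁻¹) = g * (g⁻¹ * e * g * k) * g⁻¹ := by group
      _ = g * (k * (g⁻¹ * e * g)) * g⁻¹ := by rw [h2]
      _ = g * k * g⁻¹ * e := by group
  have hcen : E.subgroupOf (Subgroup.centralizer (E : Set Y)) ≤
      Subgroup.center (Subgroup.centralizer (E : Set Y)) := by
    intro x hx
    rw [Subgroup.mem_center_iff]
    intro k
    apply Subtype.ext
    exact (Subgroup.mem_centralizer_iff.1 k.2 x hx).symm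
  have hZodd : Odd (Subgroup.center (Subgroup.centralizer (E : Set Y))).index := by
    have h1 : Odd (E.subgroupOf (Subgroup.centralizer (E : Set Y))).index := by
      have hn : (E.subgroupOf (Subgroup.centralizer (E : Set Y))).Normal := hE.subgroupOf _
      rw [Subgroup.index, ← Nat.not_even_iff_odd, even_iff_two_dvd]
      intro hd
      obtain ⟨y, hy⟩ := exists_prime_orderOf_dvd_card' 2 hd
      obtain ⟨k, rfl⟩ := QuotientGroup.mk_surjective y
      have h2 := pow_orderOf_eq_one (QuotientGroup.mk k :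
        (Subgroup.centralizer (E : Set Y)) ⧸ (E.subgroupOf (Subgroup.centralizer (E : Set Y))))
      rw [hy, ← QuotientGroup.mk_pow, QuotientGroup.eq_one_iff, pow_two] at h2
      have h3 : k ∈ E.subgroupOf (Subgroup.centralizer (E : Set Y)) := hEY _ h2
      rw [(QuotientGroup.eq_one_iff k).2 h3, orderOf_one] at hy
      omega
    exact Odd.of_dvd_nat h1 (Subgroup.index_dvd_of_le hcen)
  have hK := nil2_of_center hZodd
  intro y hy
  have hyK : y ∈ Subgroup.centralizer (E : Set Y) := by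
    rw [Subgroup.mem_centralizer_iff]
    intro e he
    exact (stepE y hy e he).symm
  have h1 := hK ⟨y, hyK⟩ (by rwa [← Subgroup.orderOf_coe])
  have h2 : y ∈ (pPrimeCore 2 (Subgroup.centralizer (E : Set Y))).map
      (Subgroup.centralizer (E : Set Y)).subtype := ⟨_, h1, rfl⟩
  rw [Lib.Cores.map_subtype_pPrimeCore 2 hKn] at h2
  exact h2.2

/-- the same with `T` an arbitrary abelian group, the elements of `E - T` being involutions -/
theorem nil2_of_abelian [Finite Y] (T E : Subgroup Y) (hTE : T ≤ E) (hE : E.Normal)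
    (hTc : ∀ x ∈ T, ∀ y ∈ T, x * y = y * x) (hinv : ∀ x ∈ E, x ∉ T → x * x = 1)
    (hidx : ∀ x ∈ E, x ∉ T → ∀ y ∈ E, y ∉ T → x * y ∈ T) (hEY : ∀ y, y * y ∈ E → y ∈ E)
    (hOm : ∀ x ∈ T, x * x = 1 → ∀ y, y * x = x * y) : Nil2 Y := by
  have hTn : T.Normal := by
    refine ⟨fun x hx c => ?_⟩
    by_contra hcx
    have h1 := hinv _ (hE.conj_mem x (hTE hx) c) hcx
    have h2 : x * x = 1 := by
      have : c * x * c⁻¹ * (c * x * c⁻¹) = c * (x * x) * c⁻¹ := by group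
      rw [this, conj_eq_one_iff] at h1
      exact h1
    apply hcx
    rw [hOm x hx h2 c, mul_inv_cancel_right]
    exact hx
  obtain ⟨a, M, hM, hcard⟩ := Nat.exists_eq_two_pow_mul_odd (n := Nat.card T) Nat.card_pos.ne'
  let O : Subgroup Y :=
    { carrier := {x | x ∈ T ∧ x ^ M = 1}
      one_mem' := ⟨one_mem _, one_pow _⟩
      mul_mem' := by
        rintro x y ⟨hx, hx'⟩ ⟨hy, hy'⟩
        refine ⟨mul_mem hx hy, ?_⟩
        have hc : Commute x y := hTc x hx y hy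
        rw [hc.mul_pow, hx', hy', one_mul]
      inv_mem' := by
        rintro x ⟨hx, hx'⟩
        exact ⟨inv_mem hx, by rw [inv_pow, hx', inv_one]⟩ }
  have hmem : ∀ x, x ∈ O ↔ x ∈ T ∧ x ^ M = 1 := fun x => Iff.rfl
  have hOn : O.Normal := by
    refine ⟨fun x hx c => ?_⟩
    rw [hmem] at hx ⊢
    exact ⟨hTn.conj_mem x hx.1 c, by rw [conj_pow, hx.2]; simp⟩
  have hOT : O ≤ T := fun x hx => hx.1
  have hmk : ∀ {x y : Y}, (QuotientGroup.mk' O) x = (QuotientGroup.mk' O) y → x⁻¹ * y ∈ O := by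
    intro x y h
    exact QuotientGroup.eq.1 h
  have hTmem : ∀ x, (QuotientGroup.mk' O) x ∈ T.map (QuotientGroup.mk' O) ↔ x ∈ T := by
    intro x
    constructor
    · rintro ⟨y, hy, hyx⟩
      have h1 := hOT (hmk hyx)
      have h2 : x = y * (y⁻¹ * x) := by group
      rw [h2]
      exact mul_mem hy h1
    · intro h
      exact ⟨x, h, rfl⟩
  have hEmem : ∀ x, (QuotientGroup.mk' O) x ∈ E.map (QuotientGroup.mk' O) ↔ x ∈ E := by
    intro x
    constructor
    · rintro ⟨y, hy, hyx⟩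
      have h1 := hTE (hOT (hmk hyx))
      have h2 : x = y * (y⁻¹ * x) := by group
      rw [h2]
      exact mul_mem hy h1
    · intro h
      exact ⟨x, h, rfl⟩
  refine nil2_of_hom (QuotientGroup.mk' O) ?_ (nil2_aux (T.map (QuotientGroup.mk' O))
    (E.map (QuotientGroup.mk' O)) (Subgroup.map_mono hTE)
    (hE.map _ (QuotientGroup.mk'_surjective O)) (hTn.map _ (QuotientGroup.mk'_surjective O))
    ?_ ?_ ?_ ?_ ?_)
  · intro y hy h2
    have h3 : y ∈ O := (QuotientGroup.eq_one_iff y).1 hy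
    exact eq_one_of_odd hM h3.2 h2
  · rintro ⟨_, x, hx, rfl⟩
    refine ⟨a, ?_⟩
    apply Subtype.ext
    change ((QuotientGroup.mk' O) x) ^ 2 ^ a = 1
    rw [← map_pow]
    refine (QuotientGroup.eq_one_iff (x ^ 2 ^ a)).2 ((hmem _).2 ⟨pow_mem hx _, ?_⟩)
    rw [← pow_mul, ← hcard]
    exact congrArg Subtype.val (pow_card_eq_one' (x := (⟨x, hx⟩ : T)))
  · rintro _ ⟨x, hx, rfl⟩ _ ⟨y, hy, rfl⟩
    rw [← map_mul, ← map_mul, hTc x hx y hy]
  · rintro _ ⟨x, hx, rfl⟩ hx' _ ⟨y, hy, rfl⟩ hy'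
    rw [← map_mul, hTmem]
    exact hidx x hx (fun h => hx' ((hTmem x).2 h)) y hy (fun h => hy' ((hTmem y).2 h))
  · intro y hy
    obtain ⟨y, rfl⟩ := QuotientGroup.mk'_surjective O y
    rw [← map_mul, hEmem] at hy
    exact (hEmem y).2 (hEY y hy)
  · rintro _ ⟨x, hx, rfl⟩ h2 y
    obtain ⟨y, rfl⟩ := QuotientGroup.mk'_surjective O y
    have h3 : x * x ∈ O := by
      rw [← map_mul] at h2
      exact (QuotientGroup.eq_one_iff (x * x)).1 h2
    obtain ⟨k, hk⟩ := hM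
    have h4 : (x ^ M) * (x ^ M) = 1 := by
      rw [← (Commute.refl x).mul_pow]
      exact h3.2
    have h5 : (QuotientGroup.mk' O) (x ^ M) = (QuotientGroup.mk' O) x := by
      rw [hk, pow_succ, pow_mul, map_mul, pow_two]
      have : (QuotientGroup.mk' O) ((x * x) ^ k) = 1 :=
        (QuotientGroup.eq_one_iff _).2 (pow_mem h3 k)
      rw [this, one_mul]
    rw [← h5, ← map_mul, ← map_mul, hOm _ (pow_mem hx M) h4]

end general

section local'

variable {X : Type*} [Group X] [Finite X] {t : X} {F1 F2 : Type*} [Field F1] [Field F2]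
  [Finite F1] [Finite F2] {L : LocalSL t F1 F2} {s : X} {D1 : M2 F1} {D2 : M2 F2}
  {n1 : SL2 F1} {n2 : SL2 F2}

theorem nil2_centralizer (F : L.Frame s D1 D2 n1 n2) (hX : ∀ c : X, c * t = t * c) :
    Nil2 (Subgroup.centralizer ({s} : Set X)) := by
  have hs : ∀ y : Subgroup.centralizer ({s} : Set X), (y : X) * s = s * y :=
    fun y => Subgroup.mem_centralizer_singleton_iff.1 y.2
  let E : Subgroup (Subgroup.centralizer ({s} : Set X)) :=
    { carrier := {c | ∃ A B, L.Rep (c : X) A B}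
      mul_mem' := fun ⟨_, _, h⟩ ⟨_, _, h'⟩ => ⟨_, _, h.mul h'⟩
      one_mem' := ⟨1, 1, LocalSL.Rep.one L⟩
      inv_mem' := fun ⟨_, _, h⟩ => ⟨_, _, h.inv⟩ }
  have hEmem : ∀ c, c ∈ E ↔ ∃ A B, L.Rep (c : X) A B := fun c => Iff.rfl
  refine nil2_of_abelian ((L.tor D1 D2).subgroupOf _) E ?_ ?_ ?_ ?_ ?_ ?_ ?_
  · intro c hc
    obtain ⟨A, B, h, -, -⟩ := (LocalSL.mem_tor.1 (Subgroup.mem_subgroupOf.1 hc))
    exact ⟨A, B, h⟩
  · refine ⟨fun c hc g => ?_⟩
    obtain ⟨A, B, h⟩ := hc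
    obtain ⟨x, y, hxy⟩ := F.hyp.comm_mem (g : X) (c : X) (hX g) (hX c)
    refine ⟨(x : M2 F1) * A, (y : M2 F2) * B, ?_⟩
    have h1 : ((g * c * g⁻¹ : Subgroup.centralizer ({s} : Set X)) : X) =
        L.e1 x * L.e2 y * c := by
      change (g : X) * c * (g : X)⁻¹ = _
      rw [hxy]; group
    rw [h1]
    exact (LocalSL.Rep.e12 L x y).mul h
  · intro x hx y hy
    exact Subtype.ext (F.tor_comm (Subgroup.mem_subgroupOf.1 hx) (Subgroup.mem_subgroupOf.1 hy))
  · intro x hx hxT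
    obtain ⟨A, B, h⟩ := hx
    rcases F.mem_or_of_comm_s h (hs x) with h1 | h1
    · exact absurd (Subgroup.mem_subgroupOf.2 h1) hxT
    · apply Subtype.ext
      change (x : X) * x = 1
      have h2 := F.mul_w_sq h1
      have h3 : (x : X) * (L.e1 n1 * L.e2 n2) * (L.e1 n1 * L.e2 n2) = x := by
        rw [mul_assoc, F.ww, mul_one]
      rwa [h3] at h2
  · intro x hx hxT y hy hyT
    obtain ⟨A, B, h⟩ := hx
    obtain ⟨A', B', h'⟩ := hy
    have h1 := (F.mem_or_of_comm_s h (hs x)).resolve_left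
      (fun h => hxT (Subgroup.mem_subgroupOf.2 h))
    have h2 := (F.mem_or_of_comm_s h' (hs y)).resolve_left
      (fun h => hyT (Subgroup.mem_subgroupOf.2 h))
    rw [Subgroup.mem_subgroupOf]
    change (x : X) * y ∈ L.tor D1 D2
    -- `x y = (x w) (w y) = (x w) (y w)⁻¹`
    have h4 : (y : X) * (L.e1 n1 * L.e2 n2) * (y * (L.e1 n1 * L.e2 n2)) = (y : X) * (L.e1 n1 * L.e2 n2) * (y * (L.e1 n1 * L.e2 n2)) := rfl
    have hyy : (y : X) * y = 1 := by
      have h5 := F.mul_w_sq h2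
      have h6 : (y : X) * (L.e1 n1 * L.e2 n2) * (L.e1 n1 * L.e2 n2) = y := by
        rw [mul_assoc, F.ww, mul_one]
      rwa [h6] at h5
    have h7 : (x : X) * y = (x * (L.e1 n1 * L.e2 n2)) * ((y : X) * (L.e1 n1 * L.e2 n2))⁻¹ := by
      rw [mul_inv_rev, inv_eq_of_mul_eq_one_left hyy]
      group
    rw [h7]
    exact mul_mem h1 (inv_mem h2)
  · intro y hy
    exact F.hyp.sq_mem (y : X) (hX y) hy
  · intro x hx h2 y
    have h3 := F.tor_invol (Subgroup.mem_subgroupOf.1 hx) (congrArg Subtype.val h2)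
    apply Subtype.ext
    change (y : X) * x = x * y
    rcases h3 with h | h | h | h
    · rw [h]; simp
    · rw [h]; exact hX y
    · rw [h]; exact hs y
    · rw [h, ← mul_assoc, hs y, mul_assoc, hX y, mul_assoc]

end local'

section group

variable {G : Type*} [Group G] [Finite G]

theorem bar_eq_one_iff (a : G) (z : Subgroup.centralizer ({a} : Set G)) :
    bar a z = 1 ↔ z ∈ Cfsg.pPrimeCore 2 (Subgroup.centralizer ({a} : Set G)) :=
  QuotientGroup.eq_one_iff z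

theorem odd_core (a : G) :
    Odd (Nat.card (Cfsg.pPrimeCore 2 (Subgroup.centralizer ({a} : Set G)))) :=
  Nat.coprime_two_right.1
    (Lib.Cores.pPrimeCore_coprime (G := Subgroup.centralizer ({a} : Set G)) 2)

theorem eq_one_of_bar {a : G} {z : Subgroup.centralizer ({a} : Set G)} (h : bar a z = 1)
    (h2 : z * z = 1) : z = 1 := by
  rw [bar_eq_one_iff] at h
  refine eq_one_of_odd (odd_core a) ?_ h2
  exact congrArg Subtype.val (pow_card_eq_one' (x := (⟨z, h⟩ : Cfsg.pPrimeCore 2 _)))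

/-- `C(V)` is 2-nilpotent -/
theorem nil2_of_locHyp {t s : G} (hL : LocHyp t) (htt : t * t = 1)
    (hss : s * s = 1) (hs1 : s ≠ 1) (hst : s ≠ t) (hc : s * t = t * s) (V : Subgroup G)
    (hV : ∀ x, x ∈ Subgroup.centralizer (V : Set G) → x * t = t * x ∧ x * s = s * x) :
    Nil2 (Subgroup.centralizer (V : Set G)) := by
  obtain ⟨F1, F2, _, _, _, _, L, H⟩ := hL
  have hcen : ∀ c : Subgroup.centralizer ({t} : Set G),
      c * ⟨t, Subgroup.mem_centralizer_singleton_iff.2 rfl⟩ =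
        ⟨t, Subgroup.mem_centralizer_singleton_iff.2 rfl⟩ * c :=
    fun c => Subtype.ext (Subgroup.mem_centralizer_singleton_iff.1 c.2)
  have hX : ∀ c, c * bar t ⟨t, Subgroup.mem_centralizer_singleton_iff.2 rfl⟩ =
      bar t ⟨t, Subgroup.mem_centralizer_singleton_iff.2 rfl⟩ * c := by
    intro c
    obtain ⟨c, rfl⟩ := QuotientGroup.mk'_surjective _ c
    change bar t c * _ = _ * bar t c
    rw [← map_mul, ← map_mul, hcen]
  have hss' : (⟨s, Subgroup.mem_centralizer_singleton_iff.2 hc⟩ :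
      Subgroup.centralizer ({t} : Set G)) * ⟨s, Subgroup.mem_centralizer_singleton_iff.2 hc⟩ = 1 :=
    Subtype.ext hss
  obtain ⟨D1, D2, n1, n2, F⟩ := H.exists_frame
    (s := bar t ⟨s, Subgroup.mem_centralizer_singleton_iff.2 hc⟩) (hX _)
    (by rw [← map_mul, hss', map_one])
    (by
      intro h
      exact hs1 (congrArg Subtype.val (eq_one_of_bar h hss')))
    (by
      intro h
      have h1 : bar t (⟨s, Subgroup.mem_centralizer_singleton_iff.2 hc⟩ *
          ⟨t, Subgroup.mem_centralizer_singleton_iff.2 rfl⟩) = 1 := by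
        rw [map_mul, h, ← map_mul]
        have : (⟨t, Subgroup.mem_centralizer_singleton_iff.2 rfl⟩ :
          Subgroup.centralizer ({t} : Set G)) *
            ⟨t, Subgroup.mem_centralizer_singleton_iff.2 rfl⟩ = 1 := Subtype.ext htt
        rw [this, map_one]
      have h2 : (⟨s, Subgroup.mem_centralizer_singleton_iff.2 hc⟩ *
          ⟨t, Subgroup.mem_centralizer_singleton_iff.2 rfl⟩ :
          Subgroup.centralizer ({t} : Set G)) * (⟨s, Subgroup.mem_centralizer_singleton_iff.2 hc⟩ *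
          ⟨t, Subgroup.mem_centralizer_singleton_iff.2 rfl⟩) = 1 := by
        apply Subtype.ext
        change s * t * (s * t) = 1
        calc s * t * (s * t) = s * (t * s) * t := by group
          _ = s * (s * t) * t := by rw [hc]
          _ = s * s * (t * t) := by group
          _ = 1 := by rw [hss, htt, one_mul]
      have h3 : s * t = 1 := congrArg Subtype.val (eq_one_of_bar h1 h2)
      apply hst
      rw [← mul_one s, ← htt, ← mul_assoc, h3, one_mul])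
  have hle : Subgroup.centralizer (V : Set G) ≤ Subgroup.centralizer ({t} : Set G) :=
    fun x hx => Subgroup.mem_centralizer_singleton_iff.2 (hV x hx).1
  let φ : Subgroup.centralizer (V : Set G) →*
      Subgroup.centralizer ({bar t ⟨s, Subgroup.mem_centralizer_singleton_iff.2 hc⟩} : Set _) :=
    ((bar t).comp (Subgroup.inclusion hle)).codRestrict _ (by
      intro x
      rw [Subgroup.mem_centralizer_singleton_iff]
      change bar t _ * bar t _ = bar t _ * bar t _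
      rw [← map_mul, ← map_mul]
      congr 1
      exact Subtype.ext (hV x x.2).2)
  refine nil2_of_hom φ ?_ (nil2_centralizer F hX)
  intro y hy h2
  have h3 : bar t (Subgroup.inclusion hle y) = 1 := congrArg Subtype.val hy
  have h4 := eq_one_of_bar h3 (by rw [← map_mul, h2, map_one])
  have h5 : ((Subgroup.inclusion hle y : Subgroup.centralizer ({t} : Set G)) : G) = 1 := by
    rw [h4]; rfl
  exact Subtype.ext h5

/-- elements of odd order of `C(V)` lie in `coreC V` -/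
theorem mem_coreC {t s : G} (hL : LocHyp t) (htt : t * t = 1)
    (hss : s * s = 1) (hs1 : s ≠ 1) (hst : s ≠ t) (hc : s * t = t * s) (V : Subgroup G)
    (hV : ∀ x, x ∈ Subgroup.centralizer (V : Set G) ↔ x * t = t * x ∧ x * s = s * x) {x : G}
    (hxt : x * t = t * x) (hxs : x * s = s * x) (hx : Odd (orderOf x)) : x ∈ coreC V := by
  have hxV := (hV x).2 ⟨hxt, hxs⟩
  refine ⟨⟨x, hxV⟩, ?_, rfl⟩
  exact nil2_of_locHyp hL htt hss hs1 hst hc V (fun x h => (hV x).1 h) _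
    (by rwa [← Subgroup.orderOf_coe])

/-- the same, from `t, s ∈ V` and `V ⊆ {1, t, s, st}` -/
theorem mem_coreC' {t s : G} (hL : LocHyp t) (htt : t * t = 1)
    (hss : s * s = 1) (hs1 : s ≠ 1) (hst : s ≠ t) (hc : s * t = t * s) {V : Subgroup G}
    (htV : t ∈ V) (hsV : s ∈ V) (hV : ∀ v ∈ V, v = 1 ∨ v = t ∨ v = s ∨ v = s * t) {x : G}
    (hxt : x * t = t * x) (hxs : x * s = s * x) (hx : Odd (orderOf x)) : x ∈ coreC V := by
  refine mem_coreC hL htt hss hs1 hst hc V ?_ hxt hxs hx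
  intro y
  rw [Subgroup.mem_centralizer_iff]
  constructor
  · intro h
    exact ⟨(h t htV).symm, (h s hsV).symm⟩
  · rintro ⟨h1, h2⟩ v hv
    rcases hV v hv with rfl | rfl | rfl | rfl
    · simp
    · exact h1.symm
    · exact h2.symm
    · rw [mul_assoc, ← h1, ← mul_assoc, ← h2, mul_assoc]

end group

end Cfsg.Agent.GTwoOdd.Core.Nilp
end

-- part: GTwoOdd/Core/PreMap
section
set_option linter.all false
open scoped Cfsg.Agent.FastGrp

/-!
# Transport of `Pre`, `Conf` along injective homomorphisms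
-/

set_option autoImplicit false

namespace Cfsg.Agent.GTwoOdd.Core

open Subgroup

variable {N M : Type*} [Group N] [Group M]

theorem Pre.map {P S0 A W1 V : Subgroup N} (h : Pre P S0 A W1 V) (φ : N →* M) (hφ : Function.Injective φ) :
    Pre (P.map φ) (S0.map φ) (A.map φ) (W1.map φ) (V.map φ) := by
  have mem : ∀ (H : Subgroup N) (x : N), φ x ∈ H.map φ ↔ x ∈ H := fun H x => mem_map_iff_mem hφ
  exact
    { V_le := Subgroup.map_mono h.V_le
      A_le := Subgroup.map_mono h.A_le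
      S_le := Subgroup.map_mono h.S_le
      A_le_W := Subgroup.map_mono h.A_le_W
      W_le := Subgroup.map_mono h.W_le
      comm := by
        rintro _ ⟨a, ha, rfl⟩ _ ⟨b, hb, rfl⟩
        rw [← map_mul, h.comm a ha b hb, map_mul]
      inv2 := by
        rintro _ ⟨x, hx, rfl⟩ hxA
        rw [mem] at hxA
        rw [← map_mul, h.inv2 x hx hxA, map_one]
      inv := by
        rintro _ ⟨x, hx, rfl⟩ hxA _ ⟨a, ha, rfl⟩
        rw [mem] at hxA
        rw [← map_mul, ← map_inv, ← map_mul, h.inv x hx hxA a ha, map_inv]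
      idxA := by
        rintro _ ⟨x, hx, rfl⟩ hxA _ ⟨y, hy, rfl⟩ hyA
        rw [mem] at hxA hyA
        rw [← map_mul, mem]
        exact h.idxA x hx hxA y hy hyA
      exw := by
        obtain ⟨w, hw, hwA⟩ := h.exw
        exact ⟨φ w, (mem _ _).2 hw, fun h1 => hwA ((mem _ _).1 h1)⟩
      memV := by
        rintro _ ⟨a, ha, rfl⟩
        rw [mem, h.memV a ha, ← map_mul, ← map_one φ]
        exact hφ.eq_iff.symm
      cardV := by
        rw [← h.cardV]
        exact Nat.card_congr (V.equivMapOfInjective φ hφ).symm.toEquiv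
      four := by
        obtain ⟨c, hc, hc2⟩ := h.four
        refine ⟨φ c, (mem _ _).2 hc, fun h1 => hc2 ?_⟩
        apply hφ
        rw [map_mul, h1, map_one]
      cent := by
        rintro _ ⟨x, hx, rfl⟩ hc
        rw [mem]
        apply h.cent x hx
        intro v hv
        apply hφ
        rw [map_mul, map_mul]
        exact hc (φ v) ((mem _ _).2 hv)
      idxS := by
        rintro _ ⟨x, hx, rfl⟩ hxA _ ⟨y, hy, rfl⟩ hyA
        rw [mem] at hxA hyA
        rw [← map_mul, mem]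
        exact h.idxS x hx hxA y hy hyA
      idxW := by
        rintro _ ⟨x, hx, rfl⟩ hxA _ ⟨y, hy, rfl⟩ hyA
        rw [mem] at hxA hyA
        rw [← map_mul, mem]
        exact h.idxW x hx hxA y hy hyA
      WS := by
        rintro _ ⟨⟨x, hx, rfl⟩, hxS⟩
        have h1 : x ∈ S0 := (mem _ _).1 hxS
        exact (mem _ _).2 (h.WS ⟨hx, h1⟩)
      rankW := by
        intro E hE hE2
        have h1 : E.comap φ ≤ W1 := by
          intro x hx
          exact (mem _ _).1 (hE hx)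
        have h2 := h.rankW (E.comap φ) h1 (by
          intro x hx
          apply hφ
          rw [map_mul, map_one]
          exact hE2 (φ x) hx)
        have h3 : (E.comap φ).map φ = E := by
          apply Subgroup.map_comap_eq_self
          intro y hy
          obtain ⟨x, -, rfl⟩ := hE hy
          exact ⟨x, rfl⟩
        rw [← h3]
        have h4 : Nat.card ((E.comap φ).map φ : Subgroup M) = Nat.card (E.comap φ : Subgroup N) :=
          Nat.card_congr ((E.comap φ).equivMapOfInjective φ hφ).symm.toEquiv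
        rw [h4]
        exact h2
      exW2 := by
        rintro ⟨_, ⟨x, hx, rfl⟩, hxS⟩
        rw [mem] at hxS
        obtain ⟨u, hu, huS, huW, hu2⟩ := h.exW2 ⟨x, hx, hxS⟩
        refine ⟨φ u, (mem _ _).2 hu, fun h1 => huS ((mem _ _).1 h1), fun h1 => huW ((mem _ _).1 h1), ?_⟩
        rw [← map_mul, hu2, map_one] }

theorem Pre.comap {P S0 A W1 V : Subgroup M} (h : Pre P S0 A W1 V) (φ : N →* M) (hφ : Function.Injective φ)
    (hP : P ≤ φ.range) : Pre (P.comap φ) (S0.comap φ) (A.comap φ) (W1.comap φ) (V.comap φ) := by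
  have lift : ∀ {H : Subgroup M}, H ≤ P → ∀ y ∈ H, ∃ x, φ x = y := by
    intro H hH y hy
    exact hP (hH hy)
  have hmc : ∀ {H : Subgroup M}, H ≤ P → (H.comap φ).map φ = H := by
    intro H hH
    apply Subgroup.map_comap_eq_self
    exact hH.trans hP
  exact
    { V_le := Subgroup.comap_mono h.V_le
      A_le := Subgroup.comap_mono h.A_le
      S_le := Subgroup.comap_mono h.S_le
      A_le_W := Subgroup.comap_mono h.A_le_W
      W_le := Subgroup.comap_mono h.W_le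
      comm := by
        intro a ha b hb
        apply hφ
        rw [map_mul, map_mul]
        exact h.comm _ ha _ hb
      inv2 := by
        intro x hx hxA
        apply hφ
        rw [map_mul, map_one]
        exact h.inv2 _ hx hxA
      inv := by
        intro x hx hxA a ha
        apply hφ
        rw [map_mul, map_mul, map_inv, map_inv]
        exact h.inv _ hx hxA _ ha
      idxA := by
        intro x hx hxA y hy hyA
        change φ (x * y) ∈ A
        rw [map_mul]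
        exact h.idxA _ hx hxA _ hy hyA
      exw := by
        obtain ⟨w, hw, hwA⟩ := h.exw
        obtain ⟨x, rfl⟩ := lift h.S_le w hw
        exact ⟨x, hw, hwA⟩
      memV := by
        intro a ha
        change φ a ∈ V ↔ _
        rw [h.memV _ ha, ← map_mul, ← map_one φ]
        exact hφ.eq_iff
      cardV := by
        rw [← h.cardV]
        conv_rhs => rw [← hmc (h.V_le.trans (h.A_le.trans h.S_le))]
        exact Nat.card_congr ((V.comap φ).equivMapOfInjective φ hφ).toEquiv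
      four := by
        obtain ⟨c, hc, hc2⟩ := h.four
        obtain ⟨x, rfl⟩ := lift (h.A_le.trans h.S_le) c hc
        refine ⟨x, hc, fun h1 => hc2 ?_⟩
        rw [← map_mul, h1, map_one]
      cent := by
        intro x hx hc
        apply h.cent _ hx
        intro v hv
        obtain ⟨y, rfl⟩ := lift (h.V_le.trans (h.A_le.trans h.S_le)) v hv
        rw [← map_mul, hc y hv, map_mul]
      idxS := by
        intro x hx hxA y hy hyA
        change φ (x * y) ∈ S0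
        rw [map_mul]
        exact h.idxS _ hx hxA _ hy hyA
      idxW := by
        intro x hx hxA y hy hyA
        change φ (x * y) ∈ W1
        rw [map_mul]
        exact h.idxW _ hx hxA _ hy hyA
      WS := by
        intro x hx
        exact h.WS ⟨hx.1, hx.2⟩
      rankW := by
        intro E hE hE2
        have h2 := h.rankW (E.map φ) (by
          rintro _ ⟨x, hx, rfl⟩
          exact hE hx) (by
          rintro _ ⟨x, hx, rfl⟩
          rw [← map_mul, hE2 x hx, map_one])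
        have h4 : Nat.card (E.map φ : Subgroup M) = Nat.card E :=
          Nat.card_congr (E.equivMapOfInjective φ hφ).symm.toEquiv
        rwa [h4] at h2
      exW2 := by
        rintro ⟨x, hx, hxS⟩
        obtain ⟨u, hu, huS, huW, hu2⟩ := h.exW2 ⟨φ x, hx, hxS⟩
        obtain ⟨y, rfl⟩ := lift le_rfl u hu
        refine ⟨y, hu, huS, huW, ?_⟩
        apply hφ
        rw [map_mul, hu2, map_one] }

theorem Conf.map {P S0 A W1 V : Subgroup N} (h : Conf P S0 A W1 V) (φ : N →* M) (hφ : Function.Injective φ) :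
    Conf (P.map φ) (S0.map φ) (A.map φ) (W1.map φ) (V.map φ) where
  toPre := h.toPre.map φ hφ
  root := by
    rintro _ ⟨v, hv, rfl⟩
    obtain ⟨c, hc, rfl⟩ := h.root v hv
    exact ⟨φ c, Subgroup.mem_map_of_mem φ hc, by rw [map_mul]⟩

theorem Conf.comap {P S0 A W1 V : Subgroup M} (h : Conf P S0 A W1 V) (φ : N →* M) (hφ : Function.Injective φ)
    (hP : P ≤ φ.range) : Conf (P.comap φ) (S0.comap φ) (A.comap φ) (W1.comap φ) (V.comap φ) where
  toPre := h.toPre.comap φ hφ hP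
  root := by
    intro v hv
    obtain ⟨c, hc, hcv⟩ := h.root _ hv
    obtain ⟨x, rfl⟩ := hP ((h.A_le_P) hc)
    refine ⟨x, hc, ?_⟩
    apply hφ
    rw [map_mul, hcv]

/-- `Conf` for `P = S0` -/
theorem Conf.small {P S0 A W1 V : Subgroup N} (h : Conf P S0 A W1 V) : Conf S0 S0 A A V where
  V_le := h.V_le
  A_le := h.A_le
  S_le := le_rfl
  A_le_W := le_rfl
  W_le := h.A_le
  comm := h.comm
  inv2 := h.inv2
  inv := h.inv
  idxA := h.idxA
  exw := h.exw
  memV := h.memV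
  cardV := h.cardV
  four := h.four
  cent := fun x hx _ => hx
  idxS := fun x hx hxS => absurd hx hxS
  idxW := h.idxA
  WS := inf_le_left
  rankW := by
    intro E hE hE2
    rw [← h.cardV]
    haveI : Finite V := Nat.finite_of_card_ne_zero (by rw [h.cardV]; norm_num)
    exact Subgroup.card_le_of_le (fun x hx => h.mem_V_of_A (hE hx) (hE2 x hx))
  exW2 := by
    rintro ⟨x, hx, hxS⟩
    exact absurd hx hxS
  root := h.root

end Cfsg.Agent.GTwoOdd.Core
end

-- part: GTwoOdd/HexaT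
section
prune_inst 0x55703745556202000004a51270205c87ff000190002b8001c9e40f4606c8ef2209c22f608c8035021a22a60528350068135c0070421000000a000400011d01a088885202b348a10c66009f80118441000000000000000000000080000000000000c010000
set_option linter.all false
open scoped Cfsg.Agent.FastGrp

-- part: GTwoOdd/HexaX
section
/-!
# The twelve root groups: action of `T`, `ρ` and the reflections
-/

set_option autoImplicit false

namespace Cfsg.Agent.GTwoOdd

open Matrix

section modT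

variable {G : Type*} [Group G]

/-- `a` normalises `T` -/
def NormT (T : Subgroup G) (a : G) : Prop := (∀ c ∈ T, a * c * a⁻¹ ∈ T) ∧ ∀ c ∈ T, a⁻¹ * c * a ∈ T

/-- `a = b` modulo `T` -/
def EqT (T : Subgroup G) (a b : G) : Prop := a * b⁻¹ ∈ T

variable {T : Subgroup G} {a b c d : G}

theorem NormT.one : NormT T (1 : G) := ⟨fun c hc => by simpa using hc, fun c hc => by simpa using hc⟩

theorem NormT.mul (ha : NormT T a) (hb : NormT T b) : NormT T (a * b) := by
  constructor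
  · intro c hc
    have := ha.1 _ (hb.1 _ hc)
    have e : a * b * c * (a * b)⁻¹ = a * (b * c * b⁻¹) * a⁻¹ := by group
    rwa [e]
  · intro c hc
    have := hb.2 _ (ha.2 _ hc)
    have e : (a * b)⁻¹ * c * (a * b) = b⁻¹ * (a⁻¹ * c * a) * b := by group
    rwa [e]

theorem NormT.inv (ha : NormT T a) : NormT T a⁻¹ :=
  ⟨fun c hc => by have := ha.2 c hc; rwa [inv_inv], fun c hc => by have := ha.1 c hc; rwa [inv_inv]⟩

theorem NormT.of_mem (ha : a ∈ T) : NormT T a :=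
  ⟨fun _ hc => mul_mem (mul_mem ha hc) (inv_mem ha), fun _ hc => mul_mem (mul_mem (inv_mem ha) hc) ha⟩

theorem NormT.pow (ha : NormT T a) (m : ℕ) : NormT T (a ^ m) := by
  induction m with
  | zero => rw [pow_zero]; exact NormT.one
  | succ m ih => rw [pow_succ]; exact ih.mul ha

theorem EqT.refl (a : G) : EqT T a a := by unfold EqT; rw [mul_inv_cancel]; exact one_mem _

theorem EqT.of_eq (h : a = b) : EqT T a b := by rw [h]; exact EqT.refl b

theorem EqT.symm (h : EqT T a b) : EqT T b a := by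
  unfold EqT at *
  have := inv_mem h
  have e : (a * b⁻¹)⁻¹ = b * a⁻¹ := by group
  rwa [e] at this

theorem EqT.trans (h : EqT T a b) (k : EqT T b c) : EqT T a c := by
  unfold EqT at *
  have := mul_mem h k
  have e : a * b⁻¹ * (b * c⁻¹) = a * c⁻¹ := by group
  rwa [e] at this

theorem EqT.mul (hb : NormT T b) (h : EqT T a b) (k : EqT T c d) : EqT T (a * c) (b * d) := by
  unfold EqT at *
  have := mul_mem h (hb.1 _ k)
  have e : a * b⁻¹ * (b * (c * d⁻¹) * b⁻¹) = a * c * (b * d)⁻¹ := by group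
  rwa [e] at this

theorem EqT.inv (hb : NormT T b) (h : EqT T a b) : EqT T a⁻¹ b⁻¹ := by
  unfold EqT at *
  have := hb.2 _ (inv_mem h)
  have e : b⁻¹ * (a * b⁻¹)⁻¹ * b = a⁻¹ * b⁻¹⁻¹ := by group
  rwa [e] at this

theorem EqT.one_of_mem (h : a ∈ T) : EqT T a 1 := by unfold EqT; simpa using h

theorem EqT.mem (h : EqT T a 1) : a ∈ T := by unfold EqT at h; simpa using h

/-- conjugates of a subgroup normalised by `T` -/
theorem EqT.cjS_eq {H : Subgroup G} (h : EqT T a b) (hb : NormT T b) (hH : ∀ c ∈ T, cjS c H = H) :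
    cjS a H = cjS b H := by
  have e : a = b * (b⁻¹ * (a * b⁻¹) * b) := by group
  rw [e, cjS_mul, hH _ (hb.2 _ h)]

end modT

namespace LocalSL

variable {G : Type*} [Group G] {t : G} {F1 F2 : Type*} [Field F1] [Field F2]
variable [Finite F1] [Finite F2] {L : LocalSL t F1 F2} {s g : G}

/-- the torus of a split frame -/
abbrev TT (L : LocalSL t F1 F2) : Subgroup G := L.tor (dg F1) (dg F2)

/-- `ρ` of a split frame -/
abbrev ro (L : LocalSL t F1 F2) (g : G) : G := rho L (wn F1) g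

namespace Swap

variable (S : L.Split s g)
include S

theorem nT_rho : NormT (TT L) (ro L g) := ⟨fun _ hc => S.rho_tor hc, fun _ hc => S.rho_tor' hc⟩
theorem nT_r1 : NormT (TT L) (L.e1 (wn F1)) := ⟨fun _ hc => S.r1_tor hc, fun _ hc => S.r1_tor' hc⟩
theorem nT_r2 : NormT (TT L) (L.e2 (wn F2)) := ⟨fun _ hc => S.r2_tor hc, fun _ hc => S.r2_tor' hc⟩
theorem nT_g : NormT (TT L) g := ⟨fun _ hc => S.g_tor hc, fun _ hc => S.g_tor' hc⟩
theorem nT_rp : NormT (TT L) (rp L (wn F1) g) := ⟨fun _ hc => S.rp_tor hc, fun _ hc => S.rp_tor' hc⟩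

theorem rho3 : EqT (TT L) (ro L g ^ 3) 1 := by
  apply EqT.one_of_mem
  have := S.rho_cube
  rw [pow_succ, pow_two]
  exact this

theorem rho3k (k : ℕ) : EqT (TT L) (ro L g ^ (3 * k)) 1 := by
  induction k with
  | zero => rw [mul_zero, pow_zero]; exact EqT.refl 1
  | succ k ih =>
    rw [mul_add, mul_one, pow_add]
    have := EqT.mul NormT.one ih S.rho3
    rwa [mul_one] at this

theorem rho_mod {m k : ℕ} (h : m % 3 = k % 3) : EqT (TT L) (ro L g ^ m) (ro L g ^ k) := by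
  wlog hmk : k ≤ m with H
  · exact (H S h.symm (by omega)).symm
  obtain ⟨j, hj⟩ : ∃ j, m = k + 3 * j := ⟨(m - k) / 3, by omega⟩
  rw [hj, pow_add]
  have := EqT.mul (S.nT_rho.pow k) (EqT.refl (ro L g ^ k)) (S.rho3k j)
  rwa [mul_one] at this

theorem s_mem_TT : s ∈ TT L := S.toFrame.s_mem
theorem t_mem_TT : t ∈ TT L := S.toFrame.t_mem

theorem r1_sqT : EqT (TT L) (L.e1 (wn F1) * L.e1 (wn F1)) 1 := by
  apply EqT.one_of_mem; rw [S.r1_sq]; exact S.t_mem_TT

theorem r2_sqT : EqT (TT L) (L.e2 (wn F2) * L.e2 (wn F2)) 1 := by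
  apply EqT.one_of_mem; rw [S.r2_sq]; exact S.t_mem_TT

/-- `r1 ρ r1⁻¹ = ρ⁻¹` modulo `T` -/
theorem r1_rhoT : EqT (TT L) (L.e1 (wn F1) * ro L g * (L.e1 (wn F1))⁻¹) (ro L g)⁻¹ := by
  unfold EqT
  rw [inv_inv]
  have := S.r1_rho
  rw [this]
  exact mul_mem S.t_mem_TT S.s_mem_TT

/-- `r2 ρ r2⁻¹ = ρ⁻¹` modulo `T` -/
theorem r2_rhoT : EqT (TT L) (L.e2 (wn F2) * ro L g * (L.e2 (wn F2))⁻¹) (ro L g)⁻¹ := by
  obtain ⟨τ, hτ, hw⟩ := S.w_g
  have nr1 := S.nT_r1
  have nr2 := S.nT_r2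
  have nro := S.nT_rho
  have nrp := S.nT_rp
  have ng := S.nT_g
  have cm : L.e1 (wn F1) * L.e2 (wn F2) = L.e2 (wn F2) * L.e1 (wn F1) := L.comm _ _
  -- `w rp w⁻¹ = rp`
  have h1 : EqT (TT L) (L.e1 (wn F1) * L.e2 (wn F2) * rp L (wn F1) g * (L.e1 (wn F1) * L.e2 (wn F2))⁻¹)
      (rp L (wn F1) g) := by
    have hwg : (L.e1 (wn F1) * L.e2 (wn F2)) * g = τ⁻¹ * (g * (L.e1 (wn F1) * L.e2 (wn F2))) := by
      calc (L.e1 (wn F1) * L.e2 (wn F2)) * g = τ⁻¹ * (τ * (L.e1 (wn F1) * L.e2 (wn F2))) * g := by group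
        _ = τ⁻¹ * (g * (L.e1 (wn F1) * L.e2 (wn F2)) * g⁻¹) * g := by rw [hw]
        _ = _ := by group
    have hwr : (L.e1 (wn F1) * L.e2 (wn F2)) * L.e1 (wn F1) * (L.e1 (wn F1) * L.e2 (wn F2))⁻¹ = L.e1 (wn F1) := by
      calc (L.e1 (wn F1) * L.e2 (wn F2)) * L.e1 (wn F1) * (L.e1 (wn F1) * L.e2 (wn F2))⁻¹
          = L.e1 (wn F1) * (L.e2 (wn F2) * L.e1 (wn F1)) * (L.e1 (wn F1) * L.e2 (wn F2))⁻¹ := by group
        _ = _ := by rw [← cm]; group
    have e : L.e1 (wn F1) * L.e2 (wn F2) * rp L (wn F1) g * (L.e1 (wn F1) * L.e2 (wn F2))⁻¹ =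
        τ⁻¹ * rp L (wn F1) g * τ := by
      unfold rp
      calc L.e1 (wn F1) * L.e2 (wn F2) * (g * L.e1 (wn F1) * g⁻¹) * (L.e1 (wn F1) * L.e2 (wn F2))⁻¹
          = ((L.e1 (wn F1) * L.e2 (wn F2)) * g) * L.e1 (wn F1) * ((L.e1 (wn F1) * L.e2 (wn F2)) * g)⁻¹ := by group
        _ = τ⁻¹ * g * ((L.e1 (wn F1) * L.e2 (wn F2)) * L.e1 (wn F1) * (L.e1 (wn F1) * L.e2 (wn F2))⁻¹) * g⁻¹ * τ := by
          rw [hwg]; group
        _ = _ := by rw [hwr]; group
    rw [e]
    unfold EqT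
    have e2 : τ⁻¹ * rp L (wn F1) g * τ * (rp L (wn F1) g)⁻¹ = τ⁻¹ * (rp L (wn F1) g * τ * (rp L (wn F1) g)⁻¹) := by
      group
    rw [e2]
    exact mul_mem (inv_mem hτ) (nrp.1 _ hτ)
  -- `w ρ w⁻¹ = ρ`
  have h2 : EqT (TT L) (L.e1 (wn F1) * L.e2 (wn F2) * ro L g * (L.e1 (wn F1) * L.e2 (wn F2))⁻¹) (ro L g) := by
    have e : L.e1 (wn F1) * L.e2 (wn F2) * ro L g * (L.e1 (wn F1) * L.e2 (wn F2))⁻¹ =
        L.e1 (wn F1) * (L.e1 (wn F1) * L.e2 (wn F2) * rp L (wn F1) g * (L.e1 (wn F1) * L.e2 (wn F2))⁻¹) := by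
      unfold ro rho
      calc L.e1 (wn F1) * L.e2 (wn F2) * (L.e1 (wn F1) * rp L (wn F1) g) * (L.e1 (wn F1) * L.e2 (wn F2))⁻¹
          = L.e1 (wn F1) * (L.e2 (wn F2) * L.e1 (wn F1)) * rp L (wn F1) g * (L.e1 (wn F1) * L.e2 (wn F2))⁻¹ := by group
        _ = _ := by rw [← cm]; group
    rw [e]
    exact EqT.mul nr1 (EqT.refl _) h1
  have e : L.e2 (wn F2) * ro L g * (L.e2 (wn F2))⁻¹ = (L.e1 (wn F1))⁻¹ *
      (L.e1 (wn F1) * L.e2 (wn F2) * ro L g * (L.e1 (wn F1) * L.e2 (wn F2))⁻¹) * L.e1 (wn F1) := by group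
  rw [e]
  have h3 : EqT (TT L) ((L.e1 (wn F1))⁻¹ *
      (L.e1 (wn F1) * L.e2 (wn F2) * ro L g * (L.e1 (wn F1) * L.e2 (wn F2))⁻¹) * L.e1 (wn F1))
      ((L.e1 (wn F1))⁻¹ * ro L g * L.e1 (wn F1)) :=
    EqT.mul (nr1.inv.mul nro) (EqT.mul nr1.inv (EqT.refl _) h2) (EqT.refl _)
  refine h3.trans ?_
  -- `r1⁻¹ ρ r1 = ρ⁻¹`
  have h4 := EqT.inv nro.inv S.r1_rhoT
  rw [inv_inv] at h4
  -- h4 : (r1 ρ r1⁻¹)⁻¹ = ρ
  have h5 : EqT (TT L) ((L.e1 (wn F1))⁻¹ * (L.e1 (wn F1) * ro L g * (L.e1 (wn F1))⁻¹)⁻¹ * L.e1 (wn F1))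
      ((L.e1 (wn F1))⁻¹ * ro L g * L.e1 (wn F1)) :=
    EqT.mul (nr1.inv.mul nro) (EqT.mul nr1.inv (EqT.refl _) h4) (EqT.refl _)
  refine h5.symm.trans (EqT.of_eq ?_)
  group

theorem r1_pow (m : ℕ) : EqT (TT L) (L.e1 (wn F1) * ro L g ^ m * (L.e1 (wn F1))⁻¹) (ro L g ^ m)⁻¹ := by
  have e1 : L.e1 (wn F1) * ro L g ^ m * (L.e1 (wn F1))⁻¹ = (L.e1 (wn F1) * ro L g * (L.e1 (wn F1))⁻¹) ^ m := by
    rw [conj_pow]
  rw [e1, ← inv_pow]
  induction m with
  | zero => rw [pow_zero, pow_zero]; exact EqT.refl 1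
  | succ m ih =>
    rw [pow_succ, pow_succ]
    have ih' := ih (by rw [conj_pow])
    exact EqT.mul (S.nT_rho.inv.pow m) ih' S.r1_rhoT

theorem r2_pow (m : ℕ) : EqT (TT L) (L.e2 (wn F2) * ro L g ^ m * (L.e2 (wn F2))⁻¹) (ro L g ^ m)⁻¹ := by
  have e1 : L.e2 (wn F2) * ro L g ^ m * (L.e2 (wn F2))⁻¹ = (L.e2 (wn F2) * ro L g * (L.e2 (wn F2))⁻¹) ^ m := by
    rw [conj_pow]
  rw [e1, ← inv_pow]
  induction m with
  | zero => rw [pow_zero, pow_zero]; exact EqT.refl 1
  | succ m ih =>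
    rw [pow_succ, pow_succ]
    have ih' := ih (by rw [conj_pow])
    exact EqT.mul (S.nT_rho.inv.pow m) ih' S.r2_rhoT

theorem inv_rho_pow {m k : ℕ} (h : (m + k) % 3 = 0) : EqT (TT L) (ro L g ^ m)⁻¹ (ro L g ^ k) := by
  have h1 := S.rho_mod (m := m + k) (k := 0) (by omega)
  rw [pow_zero, pow_add] at h1
  have h2 := EqT.mul (S.nT_rho.pow m).inv (EqT.refl ((ro L g ^ m)⁻¹)) h1
  rw [mul_one, inv_mul_cancel_left] at h2
  exact h2.symm

/-- `T` normalises the root groups -/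
theorem cjS_XN {c : G} (hc : c ∈ TT L) (m : ℕ) : cjS c (L.XN g m) = L.XN g m := by
  unfold XN
  rw [← cjS_mul]
  apply EqT.cjS_eq (T := TT L) _ (S.nT_rho.pow m) (fun c hc => S.cjS_base hc m)
  unfold EqT
  have e : c * rho L (wn F1) g ^ m * (rho L (wn F1) g ^ m)⁻¹ = c := by group
  rw [e]; exact hc

theorem XN_eq {m k : ℕ} (h : m % 12 = k % 12) : L.XN g m = L.XN g k := by
  unfold XN
  rw [L.baseX_mod (show m % 4 = k % 4 by omega)]
  exact EqT.cjS_eq (T := TT L) (S.rho_mod (by omega)) (S.nT_rho.pow k) (fun c hc => S.cjS_base hc k)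

/-- `ρ` rotates the root groups -/
theorem rho_XN (m : ℕ) : cjS (ro L g) (L.XN g m) = L.XN g (m + 4) := by
  unfold XN
  rw [← cjS_mul, L.baseX_mod (show m % 4 = (m + 4) % 4 by omega)]
  apply EqT.cjS_eq (T := TT L) _ (S.nT_rho.pow (m + 4)) (fun c hc => S.cjS_base hc _)
  have e : ro L g * rho L (wn F1) g ^ m = ro L g ^ (m + 1) := by rw [pow_succ']
  rw [e]
  exact S.rho_mod (by omega)

theorem r1_XN {m k : ℕ} (h : (m + k) % 12 = 0) : cjS (L.e1 (wn F1)) (L.XN g m) = L.XN g k := by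
  unfold XN
  have h1 : cjS (L.e1 (wn F1)) (L.baseX m) = L.baseX k := by
    ext x
    rw [mem_cjS]
    constructor
    · intro hx
      have := r1_base L (i := m) (j := k) (by omega) hx
      have e : L.e1 (wn F1) * ((L.e1 (wn F1))⁻¹ * x * L.e1 (wn F1)) * (L.e1 (wn F1))⁻¹ = x := by group
      rwa [e] at this
    · intro hx
      have hinv : (L.e1 (wn F1))⁻¹ = L.e1 (wn F1) * t := by
        rw [inv_eq_iff_mul_eq_one, ← mul_assoc, S.r1_sq, L.t_sq]
      have := r1_base L (i := k) (j := m) (by omega) hx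
      have h3 := S.cjS_base S.t_mem_TT m
      rw [← h3, mem_cjS]
      have e : t⁻¹ * ((L.e1 (wn F1))⁻¹ * x * L.e1 (wn F1)) * t = L.e1 (wn F1) * x * (L.e1 (wn F1))⁻¹ := by
        have ht : t⁻¹ = t := inv_eq_of_mul_eq_one_left L.t_sq
        have h5 : L.e1 (wn F1) * t = t * L.e1 (wn F1) := e1_t _
        calc t⁻¹ * ((L.e1 (wn F1))⁻¹ * x * L.e1 (wn F1)) * t
            = ((L.e1 (wn F1) * t)⁻¹) * x * (L.e1 (wn F1) * t) := by group
          _ = _ := by rw [← hinv, inv_inv]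
      rw [e]; exact this
  have h2 : cjS (L.e1 (wn F1) * rho L (wn F1) g ^ m) (L.baseX m) =
      cjS (rho L (wn F1) g ^ k * L.e1 (wn F1)) (L.baseX m) := by
    apply EqT.cjS_eq (T := TT L) _ ((S.nT_rho.pow k).mul S.nT_r1) (fun c hc => S.cjS_base hc _)
    have h3 := (S.r1_pow m).trans (S.inv_rho_pow (m := m) (k := k) (by omega))
    have h4 := EqT.mul (S.nT_rho.pow k) h3 (EqT.refl (L.e1 (wn F1)))
    have e : L.e1 (wn F1) * ro L g ^ m * (L.e1 (wn F1))⁻¹ * L.e1 (wn F1) = L.e1 (wn F1) * ro L g ^ m := by group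
    rwa [e] at h4
  rw [← cjS_mul, h2, cjS_mul, h1]

theorem r2_XN {m k : ℕ} (h : (m + k) % 12 = 6) : cjS (L.e2 (wn F2)) (L.XN g m) = L.XN g k := by
  unfold XN
  have h1 : cjS (L.e2 (wn F2)) (L.baseX m) = L.baseX k := by
    ext x
    rw [mem_cjS]
    constructor
    · intro hx
      have := r2_base L (i := m) (j := k) (by omega) hx
      have e : L.e2 (wn F2) * ((L.e2 (wn F2))⁻¹ * x * L.e2 (wn F2)) * (L.e2 (wn F2))⁻¹ = x := by group
      rwa [e] at this
    · intro hx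
      have hinv : (L.e2 (wn F2))⁻¹ = L.e2 (wn F2) * t := by
        rw [inv_eq_iff_mul_eq_one, ← mul_assoc, S.r2_sq, L.t_sq]
      have := r2_base L (i := k) (j := m) (by omega) hx
      have h3 := S.cjS_base S.t_mem_TT m
      rw [← h3, mem_cjS]
      have e : t⁻¹ * ((L.e2 (wn F2))⁻¹ * x * L.e2 (wn F2)) * t = L.e2 (wn F2) * x * (L.e2 (wn F2))⁻¹ := by
        calc t⁻¹ * ((L.e2 (wn F2))⁻¹ * x * L.e2 (wn F2)) * t
            = ((L.e2 (wn F2) * t)⁻¹) * x * (L.e2 (wn F2) * t) := by group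
          _ = _ := by rw [← hinv, inv_inv]
      rw [e]; exact this
  have h2 : cjS (L.e2 (wn F2) * rho L (wn F1) g ^ m) (L.baseX m) =
      cjS (rho L (wn F1) g ^ k * L.e2 (wn F2)) (L.baseX m) := by
    apply EqT.cjS_eq (T := TT L) _ ((S.nT_rho.pow k).mul S.nT_r2) (fun c hc => S.cjS_base hc _)
    have h3 := (S.r2_pow m).trans (S.inv_rho_pow (m := m) (k := k) (by omega))
    have h4 := EqT.mul (S.nT_rho.pow k) h3 (EqT.refl (L.e2 (wn F2)))
    have e : L.e2 (wn F2) * ro L g ^ m * (L.e2 (wn F2))⁻¹ * L.e2 (wn F2) = L.e2 (wn F2) * ro L g ^ m := by group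
    rwa [e] at h4
  rw [← cjS_mul, h2, cjS_mul, h1]

/-- the reflection `n m` maps `X j` to `X (2 m + 6 - j)` -/
theorem nN_XN {m j k : ℕ} (h : (j + k) % 12 = (2 * m + 6) % 12) : cjS (L.nN g m) (L.XN g j) = L.XN g k := by
  -- `X j = ρ^m X i` with `i = j + 8 m`
  have hr : ∀ m j : ℕ, cjS (ro L g ^ m) (L.XN g j) = L.XN g (j + 4 * m) := by
    intro m
    induction m with
    | zero => intro j; rw [pow_zero, cjS_one]; rfl
    | succ m ih =>
      intro j
      rw [pow_succ, cjS_mul, S.rho_XN, ih]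
      congr 1; ring
  have h1 : L.XN g j = cjS (ro L g ^ m) (L.XN g (j + 8 * m)) := by
    rw [hr]
    exact S.XN_eq (by omega)
  unfold nN
  rw [h1, ← cjS_mul]
  have e : rho L (wn F1) g ^ m * (if m % 2 = 0 then L.e2 (wn F2) else L.e1 (wn F1)) * (rho L (wn F1) g ^ m)⁻¹ *
      ro L g ^ m = ro L g ^ m * (if m % 2 = 0 then L.e2 (wn F2) else L.e1 (wn F1)) := by group
  rw [e, cjS_mul]
  by_cases hm : m % 2 = 0
  · rw [if_pos hm, S.r2_XN (m := j + 8 * m) (k := k + 8 * m) (by omega), hr]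
    exact S.XN_eq (by omega)
  · rw [if_neg hm, S.r1_XN (m := j + 8 * m) (k := k + 8 * m) (by omega), hr]
    exact S.XN_eq (by omega)

end Swap

end LocalSL

end Cfsg.Agent.GTwoOdd
end

-- part: GTwoOdd/HexaT
section
/-!
# The twelve root groups: involutions, transitivity of `T`, existence of split frames
-/

set_option autoImplicit false

namespace Cfsg.Agent.GTwoOdd

open Matrix

namespace LocalSL

variable {G : Type*} [Group G] {t : G} {F1 F2 : Type*} [Field F1] [Field F2]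
variable [Finite F1] [Finite F2] {L : LocalSL t F1 F2} {s g : G}

/-- split frames exist if `-1` has the same quadratic character in the two fields -/
theorem Hyp.exists_split (H : L.Hyp) (h : IsSquare (-1 : F1) ↔ IsSquare (-1 : F2))
    (hcl : ∀ x : G, x * x = 1 → x ≠ 1 → ∃ g, g * t = x * g) : ∃ s g, L.Split s g := by
  obtain ⟨s, hs⟩ := H.exists_rep (A := dg F1) (B := dg F2) (by rw [dg_det]; simp) (by rw [dg_det]; simp)
    (by rw [dg_det, dg_det]; exact h)
  have F : L.Frame s (dg F1) (dg F2) (wn F1) (wn F2) := ⟨H, hs, dg_trace, dg_trace, wn_anti, wn_anti⟩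
  obtain ⟨g, h1, h2⟩ := F.exists_swap (hcl s F.ss F.s_ne_one)
  exact ⟨s, g, F, h1, h2⟩

namespace Swap

variable (S : L.Split s g)
include S

theorem tN_eq {m k : ℕ} (h : m % 3 = k % 3) : tN t L g m = tN t L g k := by
  unfold tN
  have h1 := S.rho_mod h
  unfold EqT at h1
  have h2 : rho L (wn F1) g ^ m = (ro L g ^ k) * ((ro L g ^ k)⁻¹ * (ro L g ^ m * (ro L g ^ k)⁻¹) * ro L g ^ k) := by
    group
  have h3 : (ro L g ^ k)⁻¹ * (ro L g ^ m * (ro L g ^ k)⁻¹) * ro L g ^ k ∈ TT L := (S.nT_rho.pow k).2 _ h1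
  have h4 := S.toFrame.tor_t h3
  rw [h2]
  calc ro L g ^ k * ((ro L g ^ k)⁻¹ * (ro L g ^ m * (ro L g ^ k)⁻¹) * ro L g ^ k) * t *
        (ro L g ^ k * ((ro L g ^ k)⁻¹ * (ro L g ^ m * (ro L g ^ k)⁻¹) * ro L g ^ k))⁻¹
      = ro L g ^ k * (((ro L g ^ k)⁻¹ * (ro L g ^ m * (ro L g ^ k)⁻¹) * ro L g ^ k) * t) *
        ((ro L g ^ k)⁻¹ * (ro L g ^ m * (ro L g ^ k)⁻¹) * ro L g ^ k)⁻¹ * (ro L g ^ k)⁻¹ := by group
    _ = _ := by rw [h4]; group

theorem tN_0 : tN t L g 0 = t := by unfold tN; simp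

theorem tN_1 : tN t L g 1 = s := by
  unfold tN
  rw [pow_one, S.rho_t]; group

theorem tN_2 : tN t L g 2 = s * t := by
  unfold tN
  have h1 := S.rho_t
  have h2 := S.rho_s
  calc rho L (wn F1) g ^ 2 * t * (rho L (wn F1) g ^ 2)⁻¹
      = rho L (wn F1) g * (rho L (wn F1) g * t) * (rho L (wn F1) g)⁻¹ * (rho L (wn F1) g)⁻¹ := by
        rw [pow_two]; group
    _ = (rho L (wn F1) g * s) * rho L (wn F1) g * (rho L (wn F1) g)⁻¹ * (rho L (wn F1) g)⁻¹ := by rw [h1]; group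
    _ = s * t := by rw [h2]; group

/-- `t_m` centralises `X m` -/
theorem tN_cent {m k : ℕ} (h : k % 3 = m % 3) {x : G} (hx : x ∈ L.XN g m) : tN t L g k * x = x * tN t L g k := by
  rw [S.tN_eq h]
  unfold XN at hx
  rw [mem_cjS] at hx
  have h1 := t_base m hx
  have h2 : t * ((rho L (wn F1) g ^ m)⁻¹ * x * rho L (wn F1) g ^ m) =
      ((rho L (wn F1) g ^ m)⁻¹ * x * rho L (wn F1) g ^ m) * t := by
    calc t * ((rho L (wn F1) g ^ m)⁻¹ * x * rho L (wn F1) g ^ m)
        = t * ((rho L (wn F1) g ^ m)⁻¹ * x * rho L (wn F1) g ^ m) * t⁻¹ * t := by group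
      _ = _ := by rw [h1]
  unfold tN
  calc rho L (wn F1) g ^ m * t * (rho L (wn F1) g ^ m)⁻¹ * x
      = rho L (wn F1) g ^ m * (t * ((rho L (wn F1) g ^ m)⁻¹ * x * rho L (wn F1) g ^ m)) *
        (rho L (wn F1) g ^ m)⁻¹ := by group
    _ = _ := by rw [h2]; group

/-- `t_k` inverts `X m` for `k ≠ m` modulo `3` -/
theorem tN_inv {m k : ℕ} (h : k % 3 ≠ m % 3) {x : G} (hx : x ∈ L.XN g m) :
    tN t L g k * x * (tN t L g k)⁻¹ = x⁻¹ := by
  -- `t_k = ρ^m t_j ρ^-m` with `j = 1, 2`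
  obtain ⟨j, hj1, hj2⟩ : ∃ j, (j = 1 ∨ j = 2) ∧ k % 3 = (m + j) % 3 := by
    have h1 : m % 3 < 3 := Nat.mod_lt _ (by norm_num)
    have h2 : k % 3 < 3 := Nat.mod_lt _ (by norm_num)
    rcases Nat.lt_trichotomy (k % 3) (m % 3) with h3 | h3 | h3
    · by_cases h4 : k % 3 = (m + 1) % 3
      · exact ⟨1, Or.inl rfl, h4⟩
      · exact ⟨2, Or.inr rfl, by omega⟩
    · exact absurd h3 h
    · by_cases h4 : k % 3 = (m + 1) % 3
      · exact ⟨1, Or.inl rfl, h4⟩
      · exact ⟨2, Or.inr rfl, by omega⟩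
  rw [S.tN_eq hj2]
  unfold XN at hx
  rw [mem_cjS] at hx
  have e : tN t L g (m + j) = rho L (wn F1) g ^ m * tN t L g j * (rho L (wn F1) g ^ m)⁻¹ := by
    unfold tN; rw [pow_add]; group
  have h1 : tN t L g j * ((rho L (wn F1) g ^ m)⁻¹ * x * rho L (wn F1) g ^ m) * (tN t L g j)⁻¹ =
      ((rho L (wn F1) g ^ m)⁻¹ * x * rho L (wn F1) g ^ m)⁻¹ := by
    rcases hj1 with rfl | rfl
    · rw [S.tN_1]; exact S.s_base m hx
    · rw [S.tN_2]
      have h3 := t_base m hx
      calc s * t * ((rho L (wn F1) g ^ m)⁻¹ * x * rho L (wn F1) g ^ m) * (s * t)⁻¹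
          = s * (t * ((rho L (wn F1) g ^ m)⁻¹ * x * rho L (wn F1) g ^ m) * t⁻¹) * s⁻¹ := by group
        _ = _ := by rw [h3]; exact S.s_base m hx
  rw [e]
  calc rho L (wn F1) g ^ m * tN t L g j * (rho L (wn F1) g ^ m)⁻¹ * x *
        (rho L (wn F1) g ^ m * tN t L g j * (rho L (wn F1) g ^ m)⁻¹)⁻¹
      = rho L (wn F1) g ^ m * (tN t L g j * ((rho L (wn F1) g ^ m)⁻¹ * x * rho L (wn F1) g ^ m) *
        (tN t L g j)⁻¹) * (rho L (wn F1) g ^ m)⁻¹ := by group
    _ = _ := by rw [h1]; group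

omit [Finite F1] [Finite F2] S in
theorem base_comm' {i j : ℕ} (h : (i + j) % 2 = 1) {x y : G} (hx : x ∈ L.baseX i) (hy : y ∈ L.baseX j) :
    x * y = y * x := by
  have key : ∀ (k : ℕ) {z : G}, z ∈ L.baseX k → (k % 2 = 0 → ∃ w, z = L.e2 w) ∧ (k % 2 = 1 → ∃ w, z = L.e1 w) := by
    intro k z hz
    have h4 : k % 4 < 4 := Nat.mod_lt _ (by norm_num)
    interval_cases hk : k % 4
    · rw [L.baseX_0 hk] at hz
      obtain ⟨w, _, rfl⟩ := hz
      exact ⟨fun _ => ⟨w, rfl⟩, fun h => by omega⟩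
    · rw [L.baseX_1 hk] at hz
      obtain ⟨w, _, rfl⟩ := hz
      exact ⟨fun h => by omega, fun _ => ⟨w, rfl⟩⟩
    · rw [L.baseX_2 hk] at hz
      obtain ⟨w, _, rfl⟩ := hz
      exact ⟨fun _ => ⟨w, rfl⟩, fun h => by omega⟩
    · rw [L.baseX_3 hk] at hz
      obtain ⟨w, _, rfl⟩ := hz
      exact ⟨fun h => by omega, fun _ => ⟨w, rfl⟩⟩
  by_cases hi : i % 2 = 0
  · obtain ⟨w, rfl⟩ := (key i hx).1 hi
    obtain ⟨v, rfl⟩ := (key j hy).2 (by omega)
    exact (L.comm v w).symm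
  · obtain ⟨w, rfl⟩ := (key i hx).2 (by omega)
    obtain ⟨v, rfl⟩ := (key j hy).1 (by omega)
    exact L.comm w v

/-- root groups at distance `3` commute -/
theorem XN_comm3 {m k : ℕ} (h1 : m % 3 = k % 3) (h2 : m % 2 ≠ k % 2) {x y : G} (hx : x ∈ L.XN g m)
    (hy : y ∈ L.XN g k) : x * y = y * x := by
  -- move `X k` to the power `ρ^m`
  have hk : L.XN g k = cjS (rho L (wn F1) g ^ m) (L.baseX k) := by
    unfold XN
    exact EqT.cjS_eq (T := TT L) (S.rho_mod h1.symm) (S.nT_rho.pow m) (fun c hc => S.cjS_base hc k)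
  rw [hk] at hy
  unfold XN at hx
  rw [mem_cjS] at hx hy
  have h := base_comm' (i := m) (j := k) (by omega) hx hy
  calc x * y = rho L (wn F1) g ^ m * (((rho L (wn F1) g ^ m)⁻¹ * x * rho L (wn F1) g ^ m) *
        ((rho L (wn F1) g ^ m)⁻¹ * y * rho L (wn F1) g ^ m)) * (rho L (wn F1) g ^ m)⁻¹ := by group
    _ = _ := by rw [h]; group

/-- `T` is transitive on `X m ∖ 1` -/
theorem tor_trans_XN (m : ℕ) {x y : G} (hx : x ∈ L.XN g m) (hy : y ∈ L.XN g m) (hx1 : x ≠ 1) (hy1 : y ≠ 1) :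
    ∃ c ∈ TT L, c * x * c⁻¹ = y := by
  unfold XN at hx hy
  rw [mem_cjS] at hx hy
  obtain ⟨c, hc, h⟩ := S.tor_trans m hx hy
    (by intro h; apply hx1
        calc x = rho L (wn F1) g ^ m * ((rho L (wn F1) g ^ m)⁻¹ * x * rho L (wn F1) g ^ m) *
              (rho L (wn F1) g ^ m)⁻¹ := by group
          _ = 1 := by rw [h]; group)
    (by intro h; apply hy1
        calc y = rho L (wn F1) g ^ m * ((rho L (wn F1) g ^ m)⁻¹ * y * rho L (wn F1) g ^ m) *
              (rho L (wn F1) g ^ m)⁻¹ := by group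
          _ = 1 := by rw [h]; group)
  refine ⟨rho L (wn F1) g ^ m * c * (rho L (wn F1) g ^ m)⁻¹, (S.nT_rho.pow m).1 _ hc, ?_⟩
  calc rho L (wn F1) g ^ m * c * (rho L (wn F1) g ^ m)⁻¹ * x * (rho L (wn F1) g ^ m * c * (rho L (wn F1) g ^ m)⁻¹)⁻¹
      = rho L (wn F1) g ^ m * (c * ((rho L (wn F1) g ^ m)⁻¹ * x * rho L (wn F1) g ^ m) * c⁻¹) *
        (rho L (wn F1) g ^ m)⁻¹ := by group
    _ = y := by rw [h]; group

omit [Finite F1] [Finite F2] S in
/-- the orders of the root groups of type `1` -/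
theorem card_XN_odd {m : ℕ} (h : m % 2 = 1) : Nat.card (L.XN g m) = Nat.card F1 := by
  unfold XN cjS
  rw [Subgroup.card_map_of_injective (MulAut.conj _).injective]
  by_cases h1 : m % 4 = 1
  · rw [L.baseX_1 h1, Subgroup.card_map_of_injective L.inj1]
    refine Nat.card_congr (Equiv.ofBijective (fun a => (⟨lo a, lo_mem a⟩ : loU F1)) ⟨?_, ?_⟩).symm
    · intro a b hab
      have := congrArg (fun z : loU F1 => (z.1 : M2 F1) 1 0) hab
      simpa [lo_coe] using this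
    · rintro ⟨_, ⟨a, rfl⟩⟩
      exact ⟨a, rfl⟩
  · rw [L.baseX_3 (by omega), Subgroup.card_map_of_injective L.inj1]
    refine Nat.card_congr (Equiv.ofBijective (fun a => (⟨up a, up_mem a⟩ : upU F1)) ⟨?_, ?_⟩).symm
    · intro a b hab
      have := congrArg (fun z : upU F1 => (z.1 : M2 F1) 0 1) hab
      simpa [up_coe] using this
    · rintro ⟨_, ⟨a, rfl⟩⟩
      exact ⟨a, rfl⟩

omit [Finite F1] [Finite F2] S in
/-- the orders of the root groups of type `2` -/
theorem card_XN_even {m : ℕ} (h : m % 2 = 0) : Nat.card (L.XN g m) = Nat.card F2 := by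
  unfold XN cjS
  rw [Subgroup.card_map_of_injective (MulAut.conj _).injective]
  by_cases h1 : m % 4 = 2
  · rw [L.baseX_2 h1, Subgroup.card_map_of_injective L.inj2]
    refine Nat.card_congr (Equiv.ofBijective (fun a => (⟨lo a, lo_mem a⟩ : loU F2)) ⟨?_, ?_⟩).symm
    · intro a b hab
      have := congrArg (fun z : loU F2 => (z.1 : M2 F2) 1 0) hab
      simpa [lo_coe] using this
    · rintro ⟨_, ⟨a, rfl⟩⟩
      exact ⟨a, rfl⟩
  · rw [L.baseX_0 (by omega), Subgroup.card_map_of_injective L.inj2]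
    refine Nat.card_congr (Equiv.ofBijective (fun a => (⟨up a, up_mem a⟩ : upU F2)) ⟨?_, ?_⟩).symm
    · intro a b hab
      have := congrArg (fun z : upU F2 => (z.1 : M2 F2) 0 1) hab
      simpa [up_coe] using this
    · rintro ⟨_, ⟨a, rfl⟩⟩
      exact ⟨a, rfl⟩

end Swap

end LocalSL

end Cfsg.Agent.GTwoOdd
end
end

-- part: GTwoOdd/Core/Homo
section
prune_inst 0x80000000000000c010000
set_option linter.all false
open scoped Cfsg.Agent.FastGrp

/-!
# Homocyclic groups, wreathed groups, and elements of 3-power order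

`A` is an abelian 2-subgroup with `V = Ω₁(A)` of order 4, and `x` normalises `A` and moves every involution
of `V`.
-/

set_option autoImplicit false
set_option linter.style.haveILetI false

namespace Cfsg.Agent.GTwoOdd.Core.Homo

open Subgroup Cfsg

variable {G : Type*} [Group G]

/-- A group of order 4 and exponent 2 is `{1, a, b, a b}`. -/
theorem four_elems {V : Subgroup G} (cardV : Nat.card V = 4) (hV : ∀ v ∈ V, v * v = 1) {a b : G}
    (ha : a ∈ V) (hb : b ∈ V) (ha1 : a ≠ 1) (hb1 : b ≠ 1) (hne : a ≠ b) {x : G} (hx : x ∈ V) :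
    x = 1 ∨ x = a ∨ x = b ∨ x = a * b := by
  classical
  haveI : Finite V := Nat.finite_of_card_ne_zero (by rw [cardV]; norm_num)
  haveI : Fintype V := Fintype.ofFinite _
  rw [Nat.card_eq_fintype_card] at cardV
  set a' : V := ⟨a, ha⟩ with ha'
  set b' : V := ⟨b, hb⟩ with hb'
  have ha1' : a' ≠ 1 := fun e => ha1 (congrArg Subtype.val e)
  have hb1' : b' ≠ 1 := fun e => hb1 (congrArg Subtype.val e)
  have hne' : a' ≠ b' := fun e => hne (congrArg Subtype.val e)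
  have haa : a' * a' = 1 := Subtype.ext (hV a ha)
  have h4 : ({1, a', b', a' * b'} : Finset V).card = 4 := by
    rw [Finset.card_insert_of_notMem, Finset.card_insert_of_notMem, Finset.card_insert_of_notMem,
      Finset.card_singleton]
    · rw [Finset.mem_singleton]
      intro e
      exact ha1' (mul_eq_right.1 e.symm)
    · rw [Finset.mem_insert, Finset.mem_singleton, not_or]
      exact ⟨hne', fun e => hb1' (mul_eq_left.1 e.symm)⟩
    · rw [Finset.mem_insert, Finset.mem_insert, Finset.mem_singleton, not_or, not_or]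
      refine ⟨fun e => ha1' e.symm, fun e => hb1' e.symm, fun e => hne' ?_⟩
      calc a' = a' * (a' * b') := by rw [← e, mul_one]
        _ = b' := by rw [← mul_assoc, haa, one_mul]
  have h5 : ({1, a', b', a' * b'} : Finset V) = Finset.univ :=
    Finset.eq_univ_of_card _ (by rw [h4, cardV])
  have h6 : (⟨x, hx⟩ : V) ∈ ({1, a', b', a' * b'} : Finset V) := by
    rw [h5]
    exact Finset.mem_univ _
  rw [Finset.mem_insert, Finset.mem_insert, Finset.mem_insert, Finset.mem_singleton] at h6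
  rcases h6 with e | e | e | e
  · exact Or.inl (congrArg Subtype.val e)
  · exact Or.inr (Or.inl (congrArg Subtype.val e))
  · exact Or.inr (Or.inr (Or.inl (congrArg Subtype.val e)))
  · exact Or.inr (Or.inr (Or.inr (congrArg Subtype.val e)))

/-- `x` acts on `V` with `x³` trivial. -/
theorem cube {V : Subgroup G} (cardV : Nat.card V = 4) (hV : ∀ v ∈ V, v * v = 1) {x : G}
    (hx : ∀ v ∈ V, x * v * x⁻¹ ∈ V) (hne : ∀ v ∈ V, v ≠ 1 → x * v * x⁻¹ ≠ v) :
    ∀ v ∈ V, x ^ 3 * v * (x ^ 3)⁻¹ = v := by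
  intro v hv
  by_cases hv1 : v = 1
  · rw [hv1]; group
  set b := x * v * x⁻¹ with hb
  have hbV : b ∈ V := hx v hv
  have hb1 : b ≠ 1 := by
    intro e
    apply hv1
    calc v = x⁻¹ * b * x := by rw [hb]; group
      _ = 1 := by rw [e]; group
  have hbv : b ≠ v := hne v hv hv1
  -- `x b x⁻¹ = v b`
  have h1 : x * b * x⁻¹ ∈ V := hx b hbV
  have h2 : x * b * x⁻¹ = v * b := by
    rcases four_elems cardV hV hv hbV hv1 hb1 (Ne.symm hbv) h1 with e | e | e | e
    · exfalso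
      apply hb1
      calc b = x⁻¹ * (x * b * x⁻¹) * x := by group
        _ = 1 := by rw [e]; group
    · -- then `x` swaps `v` and `b` and fixes `v b`
      exfalso
      have h3 : x * (v * b) * x⁻¹ = b * v := by
        calc x * (v * b) * x⁻¹ = (x * v * x⁻¹) * (x * b * x⁻¹) := by group
          _ = b * v := by rw [← hb, e]
      have h4 : b * v = v * b := by
        have h5 := hV _ (mul_mem hv hbV)
        have h6 : (v * b)⁻¹ = v * b := inv_eq_of_mul_eq_one_left h5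
        have h7 : v⁻¹ = v := inv_eq_of_mul_eq_one_left (hV v hv)
        have h8 : b⁻¹ = b := inv_eq_of_mul_eq_one_left (hV b hbV)
        calc b * v = b⁻¹ * v⁻¹ := by rw [h7, h8]
          _ = v * b := by rw [← mul_inv_rev, h6]
      rw [h4] at h3
      refine hne _ (mul_mem hv hbV) ?_ h3
      intro h5
      apply hbv
      calc b = (v * v) * b := by rw [hV v hv, one_mul]
        _ = v := by rw [mul_assoc, h5, mul_one]
    · exact absurd e (hne b hbV hb1)
    · exact e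
  have h3 : x * (v * b) * x⁻¹ = v := by
    calc x * (v * b) * x⁻¹ = (x * v * x⁻¹) * (x * b * x⁻¹) := by group
      _ = b * (v * b) := by rw [← hb, h2]
      _ = b * (b * v) := by
        have h5 := hV _ (mul_mem hv hbV)
        have h6 : (v * b)⁻¹ = v * b := inv_eq_of_mul_eq_one_left h5
        have h7 : v⁻¹ = v := inv_eq_of_mul_eq_one_left (hV v hv)
        have h8 : b⁻¹ = b := inv_eq_of_mul_eq_one_left (hV b hbV)
        have h9 : v * b = b * v := by rw [← h6, mul_inv_rev, h7, h8]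
        rw [h9]
      _ = v := by rw [← mul_assoc, hV b hbV, one_mul]
  calc x ^ 3 * v * (x ^ 3)⁻¹ = x * (x * (x * v * x⁻¹) * x⁻¹) * x⁻¹ := by
        rw [show x ^ 3 = x * x * x by rw [pow_succ, pow_two]]
        group
    _ = v := by rw [← hb, h2, h3]

/-- (iii), first part: a power of `x` of 3-power order with the same action on `V`. -/
theorem exists_three [Finite G] {V : Subgroup G} (cardV : Nat.card V = 4) (hV : ∀ v ∈ V, v * v = 1) {x : G}
    (hx : ∀ v ∈ V, x * v * x⁻¹ ∈ V) (hne : ∀ v ∈ V, v ≠ 1 → x * v * x⁻¹ ≠ v) :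
    ∃ n k : ℕ, 1 ≤ k ∧ orderOf (x ^ n) = 3 ^ k ∧ ∀ v ∈ V, x ^ n * v * (x ^ n)⁻¹ = x * v * x⁻¹ := by
  have h3 := cube cardV hV hx hne
  -- powers of `x³` act trivially
  have h3n : ∀ j : ℕ, ∀ v ∈ V, (x ^ 3) ^ j * v * ((x ^ 3) ^ j)⁻¹ = v := by
    intro j
    induction j with
    | zero => intro v _; simp
    | succ j ih =>
      intro v hv
      calc (x ^ 3) ^ (j + 1) * v * ((x ^ 3) ^ (j + 1))⁻¹
          = (x ^ 3) ^ j * (x ^ 3 * v * (x ^ 3)⁻¹) * ((x ^ 3) ^ j)⁻¹ := by rw [pow_succ]; group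
        _ = v := by rw [h3 v hv, ih v hv]
  -- a nontrivial element of `V`
  obtain ⟨v, hv, hv1⟩ : ∃ v ∈ V, v ≠ 1 := by
    by_contra hcon
    push Not at hcon
    have : V = ⊥ := (eq_bot_iff_forall V).2 hcon
    rw [this, card_bot] at cardV
    omega
  have hpos : orderOf x ≠ 0 := (orderOf_pos x).ne'
  -- `orderOf x = 3 ^ k * m`
  obtain ⟨k, m, hm3, hkm⟩ := Nat.exists_eq_pow_mul_and_not_dvd hpos 3 (by norm_num)
  have hcop : Nat.Coprime (3 ^ k) m := Nat.Coprime.pow_left k ((Nat.Prime.coprime_iff_not_dvd Nat.prime_three).2 hm3)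
  have hk : 1 ≤ k := by
    by_contra hk0
    have hk0' : k = 0 := by omega
    rw [hk0', pow_zero, one_mul] at hkm
    have hc3 : Nat.Coprime 3 (orderOf x) := by rw [hkm]; exact (Nat.Prime.coprime_iff_not_dvd Nat.prime_three).2 hm3
    -- `x` is a power of `x ^ 3`
    obtain ⟨j, hj⟩ : ∃ j : ℕ, (x ^ 3) ^ j = x := by
      have h4 := Nat.exists_mul_mod_eq_one_of_coprime hc3
      rcases Nat.lt_or_ge 1 (orderOf x) with h5 | h5
      · obtain ⟨j, -, hj⟩ := Nat.exists_mul_mod_eq_one_of_coprime hc3 h5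
        refine ⟨j, ?_⟩
        rw [← pow_mul, ← pow_mod_orderOf, hj, pow_one]
      · have h6 : orderOf x = 1 := by have := orderOf_pos x; omega
        rw [orderOf_eq_one_iff] at h6
        exact ⟨0, by rw [h6]; simp⟩
    have h6 := h3n j v hv
    rw [hj] at h6
    exact hne v hv hv1 h6
  -- Chinese remainder
  obtain ⟨n, hn1, hn2⟩ := Nat.chineseRemainder hcop 1 0
  have hdvd : m ∣ n := (Nat.modEq_zero_iff_dvd).1 hn2
  refine ⟨n, k, hk, ?_, ?_⟩
  · have h4 : Nat.gcd (orderOf x) n = m := by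
      obtain ⟨c, rfl⟩ := hdvd
      have h5 : Nat.Coprime (3 ^ k) c := by
        have h6 : Nat.Coprime (3 ^ k) (m * c) := by
          have h7 : Nat.gcd (m * c) (3 ^ k) = Nat.gcd 1 (3 ^ k) := Nat.ModEq.gcd_eq hn1
          rw [Nat.gcd_comm] at h7
          rw [Nat.Coprime, h7, Nat.gcd_one_left]
        exact Nat.Coprime.coprime_mul_left_right h6
      rw [hkm, Nat.mul_comm (3 ^ k) m, Nat.gcd_mul_left, h5, mul_one]
    rw [orderOf_pow x, h4, hkm]
    refine Nat.mul_div_cancel _ (Nat.pos_of_ne_zero ?_)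
    intro h5
    rw [h5, mul_zero] at hkm
    exact hpos hkm
  · intro v hv
    -- `n = 1 + 3 j` or so
    have h4 : n % 3 = 1 := by
      have h5 : n ≡ 1 [MOD 3] := hn1.of_dvd (dvd_pow_self 3 (by omega))
      have h6 : n % 3 = 1 % 3 := h5
      omega
    have h5 : n = 3 * (n / 3) + 1 := by omega
    calc x ^ n * v * (x ^ n)⁻¹ = (x ^ (3 * (n / 3) + 1)) * v * (x ^ (3 * (n / 3) + 1))⁻¹ := by rw [← h5]
      _ = (x ^ 3) ^ (n / 3) * (x * v * x⁻¹) * ((x ^ 3) ^ (n / 3))⁻¹ := by rw [pow_succ, pow_mul]; group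
      _ = x * v * x⁻¹ := h3n _ _ (hx v hv)

/-- Powers of an element normalising `A`. -/
theorem pow_conj_mem {A : Subgroup G} {x : G} (hx : ∀ a ∈ A, x * a * x⁻¹ ∈ A) (n : ℕ) :
    ∀ a ∈ A, x ^ n * a * (x ^ n)⁻¹ ∈ A := by
  induction n with
  | zero => intro a ha; simpa using ha
  | succ n ih =>
    intro a ha
    have e : x ^ (n + 1) * a * (x ^ (n + 1))⁻¹ = x ^ n * (x * a * x⁻¹) * (x ^ n)⁻¹ := by rw [pow_succ]; group
    rw [e]
    exact ih _ (hx a ha)

section fpf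

variable [Finite G] {A V : Subgroup G} (hA : IsPGroup 2 A) (comm : ∀ a ∈ A, ∀ b ∈ A, a * b = b * a)
  (V_le : V ≤ A) (memV : ∀ a ∈ A, (a ∈ V ↔ a * a = 1)) (cardV : Nat.card V = 4) {x : G}
  (hx : ∀ a ∈ A, x * a * x⁻¹ ∈ A) (hne : ∀ v ∈ V, v ≠ 1 → x * v * x⁻¹ ≠ v)
include hA comm V_le memV cardV hx hne

/-- (i): `A` is homocyclic of rank 2. -/
theorem homocyclic : ∃ m : ℕ, 1 ≤ m ∧ Nonempty (A ≃* Multiplicative (ZMod (2 ^ m) × ZMod (2 ^ m))) := by
  have hV : ∀ v ∈ V, v * v = 1 := fun v hv => (memV v (V_le hv)).1 hv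
  have hxV : ∀ v ∈ V, x * v * x⁻¹ ∈ V := by
    intro v hv
    rw [memV _ (hx v (V_le hv))]
    calc x * v * x⁻¹ * (x * v * x⁻¹) = x * (v * v) * x⁻¹ := by group
      _ = 1 := by rw [hV v hv]; group
  obtain ⟨n, k, -, hk, hn⟩ := exists_three cardV hV hxV hne
  set y := x ^ n with hy
  have hyA : ∀ a ∈ A, y * a * y⁻¹ ∈ A := pow_conj_mem hx n
  letI : CommGroup A := { (inferInstance : Group A) with
    mul_comm := fun a b => Subtype.ext (comm a a.2 b b.2) }
  let α : A →* A :=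
    { toFun := fun a => ⟨y * a * y⁻¹, hyA a a.2⟩
      map_one' := Subtype.ext (by simp)
      map_mul' := fun a b => Subtype.ext (by
        change y * ((a : G) * b) * y⁻¹ = y * a * y⁻¹ * (y * b * y⁻¹)
        group) }
  have hα : ∀ (j : ℕ) (a : A), ((α^[j] a : A) : G) = y ^ j * a * (y ^ j)⁻¹ := by
    intro j
    induction j with
    | zero => intro a; simp
    | succ j ih =>
      intro a
      rw [Function.iterate_succ_apply, ih]
      change y ^ j * (y * a * y⁻¹) * (y ^ j)⁻¹ = _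
      rw [pow_succ]
      group
  have hfpf : ∀ a : A, α a = a → a = 1 := by
    intro a ha
    by_contra hne1
    obtain ⟨i, h1, h2⟩ := Cfsg.Agent.TwoFusion.FpfPowBasic.exists_step hA (fun z => z = 1) rfl hne1
    set s : A := a ^ 2 ^ i with hs
    have h3 : α s = s := by rw [hs, map_pow, ha]
    have h4 : (s : G) ∈ V := by
      rw [memV _ s.2]
      have := congrArg Subtype.val h2
      rw [pow_two] at this
      exact this
    have h5 : (s : G) ≠ 1 := fun e => h1 (Subtype.ext e)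
    have h6 : y * (s : G) * y⁻¹ = s := congrArg Subtype.val h3
    rw [hn _ h4] at h6
    exact hne _ h4 h5 h6
  have hF : Cfsg.Agent.TwoFusion.FpfPowBasic.FpfPow α k := by
    refine ⟨fun a => ?_, hfpf⟩
    apply Subtype.ext
    rw [hα, ← hk, pow_orderOf_eq_one]
    group
  have hs : Nat.card {a : A // a ^ 2 = 1} ≤ 4 := by
    rw [← cardV]
    refine Nat.card_le_card_of_injective (fun a => ⟨((a : A) : G), ?_⟩) ?_
    · rw [memV _ (a : A).2]
      have := congrArg Subtype.val a.2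
      rw [pow_two] at this
      exact this
    · intro a b hab
      have h7 : (((a : A) : A) : G) = ((b : A) : G) := congrArg (fun z : V => (z : G)) hab
      exact Subtype.ext (Subtype.ext h7)
  obtain ⟨m, ⟨e⟩⟩ := Cfsg.Agent.TwoFusion.FpfAbelian.exists_mulEquiv hA hF hs
  refine ⟨m, ?_, ⟨e⟩⟩
  by_contra hm
  have hm0 : m = 0 := by omega
  subst hm0
  have h1 : Nat.card A = 1 := by
    rw [Nat.card_congr e.toEquiv, Nat.card_congr Multiplicative.toAdd, Nat.card_prod, Nat.card_zmod]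
    norm_num
  have h2 : Nat.card V ≤ Nat.card A := card_le_of_le V_le
  omega

/-- (i): if `A > V` then `m ≥ 2` and the elements of `V` are squares in `A`. -/
theorem homocyclic_root (hfour : ∃ c ∈ A, c * c ≠ 1) :
    (∃ m : ℕ, 2 ≤ m ∧ Nonempty (A ≃* Multiplicative (ZMod (2 ^ m) × ZMod (2 ^ m)))) ∧
      ∀ v ∈ V, ∃ c ∈ A, c * c = v := by
  obtain ⟨m, hm, ⟨e⟩⟩ := homocyclic hA comm V_le memV cardV hx hne
  have hm2 : 2 ≤ m := by
    by_contra hlt
    have hm1 : m = 1 := by omega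
    subst hm1
    obtain ⟨c, hc, hcc⟩ := hfour
    apply hcc
    have h1 := Cfsg.Agent.TwoFusion.RankTwoWreath.pow_eq_one' e ⟨c, hc⟩
    have h2 := congrArg Subtype.val h1
    rw [pow_one, pow_two] at h2
    exact h2
  refine ⟨⟨m, hm2, ⟨e⟩⟩, fun v hv => ?_⟩
  obtain ⟨c, hc⟩ := Cfsg.Agent.TwoFusion.RankTwoWreath.exists_root hm e ⟨v, V_le hv⟩
    (Subtype.ext ((memV v (V_le hv)).1 hv))
  obtain ⟨j, rfl⟩ : ∃ j, m = j + 2 := ⟨m - 2, by omega⟩
  refine ⟨(c : G) ^ 2 ^ j, pow_mem c.2 _, ?_⟩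
  have h2 := congrArg Subtype.val hc
  rw [← pow_two, ← pow_mul, ← pow_succ]
  exact h2

end fpf

/-- (ii): a 2-group `W` with a homocyclic subgroup `A` of index 2 and an involution `z` outside moving an
involution of `A` is wreathed. -/
theorem isWreathed [Finite G] {A W : Subgroup G} (hAW : A ≤ W) (hidx : A.relIndex W = 2) {m : ℕ}
    (hm : 2 ≤ m) (e : A ≃* Multiplicative (ZMod (2 ^ m) × ZMod (2 ^ m))) {z s : G} (hz : z ∈ W)
    (hzz : z * z = 1) (hzA : ∀ a ∈ A, z * a * z⁻¹ ∈ A) (hs : s ∈ A) (hss : s * s = 1)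
    (hne : z * s * z⁻¹ ≠ s) : IsWreathed W := by
  haveI : Fact (Nat.Prime 2) := ⟨Nat.prime_two⟩
  obtain ⟨r, hr⟩ := Cfsg.Agent.TwoFusion.RankTwoWreath.exists_root (by omega : 1 ≤ m) e ⟨s, hs⟩ (Subtype.ext hss)
  have hs1 : s ≠ 1 := by
    rintro rfl
    apply hne
    group
  have hz1 : z ≠ 1 := by
    rintro rfl
    apply hne
    group
  set x : G := (r : G) with hx
  have hxs : x ^ 2 ^ (m - 1) = s := by
    have := congrArg Subtype.val hr
    simpa using this
  have hx1 : x ^ 2 ^ m = 1 := by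
    have := congrArg Subtype.val (Cfsg.Agent.TwoFusion.RankTwoWreath.pow_eq_one' e r)
    simpa using this
  have hxo : orderOf x = 2 ^ m := by
    obtain ⟨j, rfl⟩ : ∃ j, m = j + 1 := ⟨m - 1, by omega⟩
    apply orderOf_eq_prime_pow
    · rw [Nat.add_sub_cancel] at hxs
      rw [hxs]; exact hs1
    · exact hx1
  set y : G := z * x * z⁻¹ with hy
  have hyo : orderOf y = 2 ^ m := by
    rw [← hxo, hy]
    exact (MulAut.conj z).orderOf_eq x
  have hys : y ^ 2 ^ (m - 1) = z * s * z⁻¹ := by rw [hy, conj_pow, hxs]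
  have hso : orderOf s = 2 := orderOf_eq_prime (by rw [pow_two, hss]) hs1
  have hdisj : ∀ g ∈ zpowers x, g ∈ zpowers y → g = 1 := by
    intro g hgx hgy
    by_contra hg1
    have h2 : IsPGroup 2 (zpowers x) := by
      rw [IsPGroup.iff_card]
      exact ⟨m, by rw [Nat.card_zpowers, hxo]⟩
    have hg1' : ¬ ((⟨g, hgx⟩ : zpowers x) = 1) := fun e => hg1 (congrArg Subtype.val e)
    obtain ⟨i, h3, h4⟩ := Cfsg.Agent.TwoFusion.FpfPowBasic.exists_step h2 (fun z => z = 1) rfl hg1'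
    set c : G := g ^ 2 ^ i with hc
    have hc1 : c ≠ 1 := fun e => h3 (Subtype.ext (by simpa using e))
    have hc2 : c ^ 2 = 1 := by simpa using congrArg Subtype.val h4
    have hco : orderOf c = 2 := orderOf_eq_prime hc2 hc1
    have h5 := Cfsg.Agent.TwoFusion.RankTwoWreath.eq_of_mem_zpowers (by omega : 1 ≤ m) hxo
      (pow_mem hgx _) hco
    have h6 := Cfsg.Agent.TwoFusion.RankTwoWreath.eq_of_mem_zpowers (by omega : 1 ≤ m) hyo
      (pow_mem hgy _) hco
    rw [hxs] at h5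
    rw [hys] at h6
    exact hne (h6.symm.trans h5)
  have hcommA : ∀ a ∈ A, ∀ b ∈ A, a * b = b * a := by
    intro a ha b hb
    have h : (⟨a, ha⟩ : A) * ⟨b, hb⟩ = ⟨b, hb⟩ * ⟨a, ha⟩ := by
      apply e.injective
      rw [map_mul, map_mul, mul_comm]
    exact congrArg Subtype.val h
  have hxA : x ∈ A := r.2
  have hyA : y ∈ A := hzA x hxA
  have hcardA : Nat.card A = 2 ^ m * 2 ^ m := by
    rw [Nat.card_congr e.toEquiv]
    rw [Nat.card_congr Multiplicative.toAdd, Nat.card_prod, Nat.card_zmod]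
  have hcardW : Nat.card W = 2 ^ (2 * m + 1) := by
    rw [← relIndex_bot_left W, ← relIndex_mul_relIndex ⊥ A W bot_le hAW, relIndex_bot_left, hcardA, hidx,
      pow_succ, two_mul, pow_add]
  refine ⟨m, hm, hcardW, ⟨x, hAW hxA⟩, ⟨y, hAW hyA⟩, ⟨z, hz⟩, ?_, ?_, ?_, ?_, ?_⟩
  · rw [Subgroup.orderOf_mk]; exact hxo
  · exact Subtype.ext (hcommA x hxA y hyA)
  · rw [eq_bot_iff_forall]
    rintro ⟨g, hgW⟩ hg
    obtain ⟨⟨i, hi⟩, ⟨j, hj⟩⟩ := mem_inf.1 hg
    apply Subtype.ext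
    refine hdisj g ⟨i, ?_⟩ ⟨j, ?_⟩
    · exact congrArg Subtype.val hi
    · exact congrArg Subtype.val hj
  · rw [Subgroup.orderOf_mk]; exact orderOf_eq_prime (by rw [pow_two, hzz]) hz1
  · exact Subtype.ext hy.symm

/-- (iii), second part: a 3-element normalising `S0` and `A` centralises an element of `S0 - A`, if
`S0 - A` is a coset of `A` and `|A|` is prime to 3. -/
theorem exists_commute [Finite G] {A S0 : Subgroup G} (hAS : A ≤ S0)
    (idxA : ∀ x ∈ S0, x ∉ A → ∀ y ∈ S0, y ∉ A → x * y ∈ A) (exw : ∃ w ∈ S0, w ∉ A) (hA3 : ¬ 3 ∣ Nat.card A)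
    {x : G} {k : ℕ} (hx : orderOf x = 3 ^ k) (hxS : ∀ y ∈ S0, x * y * x⁻¹ ∈ S0)
    (hxA : ∀ y ∈ A, x * y * x⁻¹ ∈ A) : ∃ w ∈ S0, w ∉ A ∧ x * w = w * x := by
  haveI : Fact (Nat.Prime 3) := ⟨Nat.prime_three⟩
  let Ω : Type _ := {w : G // w ∈ S0 ∧ w ∉ A}
  have hxn : ∀ y : G, y ∉ A → x * y * x⁻¹ ∉ A := by
    -- conjugation by `x` is injective on `A`
    intro y hy hmem
    apply hy
    have h1 : A.map (MulAut.conj x).toMonoidHom = A := by
      refine eq_of_le_of_card_ge ?_ (by rw [card_map_of_injective (MulAut.conj x).injective])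
      rintro _ ⟨a, ha, rfl⟩
      exact hxA a ha
    rw [← h1] at hmem
    obtain ⟨a, ha, e⟩ := hmem
    have e' : x * a * x⁻¹ = x * y * x⁻¹ := e
    have h2 : a = y := by
      have := mul_right_cancel e'
      exact mul_left_cancel this
    rw [← h2]
    exact ha
  have hpow : ∀ g ∈ zpowers x, (∀ y ∈ S0, g * y * g⁻¹ ∈ S0) ∧ ∀ y, y ∉ A → g * y * g⁻¹ ∉ A := by
    intro g hg
    obtain ⟨n, rfl⟩ := mem_powers_iff_mem_zpowers.2 hg
    refine ⟨pow_conj_mem hxS n, ?_⟩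
    clear hg
    induction n with
    | zero => intro y hy; simpa using hy
    | succ n ih =>
      intro y hy
      have e : x ^ (n + 1) * y * (x ^ (n + 1))⁻¹ = x ^ n * (x * y * x⁻¹) * (x ^ n)⁻¹ := by rw [pow_succ]; group
      rw [e]
      exact ih _ (hxn y hy)
  let _ : MulAction (zpowers x) Ω :=
    { smul := fun g w => ⟨g * w * (g : G)⁻¹, (hpow g g.2).1 _ w.2.1, (hpow g g.2).2 _ w.2.2⟩
      one_smul := fun w => Subtype.ext (by
        change ((1 : zpowers x) : G) * (w : G) * ((1 : zpowers x) : G)⁻¹ = w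
        simp)
      mul_smul := fun g h w => Subtype.ext (by
        change ((g * h : zpowers x) : G) * (w : G) * ((g * h : zpowers x) : G)⁻¹ =
          (g : G) * ((h : G) * w * (h : G)⁻¹) * (g : G)⁻¹
        rw [coe_mul]
        group) }
  have hcard : Nat.card Ω = Nat.card A := by
    obtain ⟨w, hw, hwA⟩ := exw
    refine Nat.card_congr ⟨fun y => ⟨w * y, idxA w hw hwA y y.2.1 y.2.2⟩,
      fun a => ⟨w⁻¹ * a, mul_mem (inv_mem hw) (hAS a.2), fun h => hwA ?_⟩, ?_, ?_⟩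
    · have : w = a * (w⁻¹ * a)⁻¹ := by group
      rw [this]
      exact mul_mem a.2 (inv_mem h)
    · intro y
      exact Subtype.ext (by simp)
    · intro a
      exact Subtype.ext (by simp)
  have hp : IsPGroup 3 (zpowers x) := by
    rw [IsPGroup.iff_card]
    exact ⟨k, by rw [Nat.card_zpowers, hx]⟩
  obtain ⟨w, hw⟩ := hp.nonempty_fixed_point_of_prime_not_dvd_card Ω (by rw [hcard]; exact hA3)
  refine ⟨w, w.2.1, w.2.2, ?_⟩
  have h1 := congrArg Subtype.val (hw ⟨x, mem_zpowers x⟩)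
  have h2 : x * (w : G) * x⁻¹ = w := h1
  calc x * (w : G) = x * w * x⁻¹ * x := by group
    _ = w * x := by rw [h2]

end Cfsg.Agent.GTwoOdd.Core.Homo
end

-- part: GTwoOdd/CentPSL
section
set_option linter.all false
open scoped Cfsg.Agent.FastGrp

/-!
# Involution centralisers of `PSL(3, F)` have the form `CentForm`
-/

set_option autoImplicit false

namespace Cfsg.Agent.GTwoOdd.CentPSL

open Matrix Cfsg.Agent.TwoFusion.PSL3Inv

variable {F : Type*} [Field F]

/-- the embedding of `SL(2,F)` -/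
noncomputable def f (P : SpecialLinearGroup (Fin 3) F) :
    SpecialLinearGroup (Fin 2) F →* ProjectiveSpecialLinearGroup (Fin 3) F :=
  (phi P).comp SpecialLinearGroup.toGL

theorem f_injective (P : SpecialLinearGroup (Fin 3) F) : Function.Injective (f P) := by
  rw [injective_iff_map_eq_one]
  intro x hx
  have h1 : SpecialLinearGroup.toGL x ∈ (phi P).ker := hx
  rw [mem_ker_phi] at h1
  obtain ⟨u, hu, hux⟩ := h1
  have h2 : x.1 = Matrix.scalar (Fin 2) (u : F) := by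
    have := congrArg Units.val hux
    exact this.symm
  have h3 : (u : F) ^ 2 = 1 := by
    have h4 := x.2
    rw [h2, Matrix.det_fin_two] at h4
    simpa [Matrix.scalar_apply, pow_two] using h4
  have h5 : (u : F) ^ 3 = 1 := by
    rw [← Units.val_pow_eq_pow_val, hu, Units.val_one]
  have h6 : (u : F) = 1 := by
    rw [pow_succ, h3, one_mul] at h5
    exact h5
  apply Subtype.ext
  rw [h2, h6, map_one]
  rfl

theorem exists_sl (A : GL (Fin 2) F) (h : A.1.det = 1) : ∃ y : SpecialLinearGroup (Fin 2) F,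
    SpecialLinearGroup.toGL y = A := ⟨⟨A.1, h⟩, Units.ext rfl⟩

theorem gl_det (A : GL (Fin 2) F) : A.1.det * (A⁻¹).1.det = 1 := by
  rw [← Matrix.det_mul, ← Units.val_mul, mul_inv_cancel, Units.val_one, Matrix.det_one]

/-- the index of an involution centraliser of `PSL(3, F)` -/
theorem index [Fintype F] (h2 : (2 : F) ≠ 0) {q : ℕ} (hq : Fintype.card F = q + 1)
    (t : ProjectiveSpecialLinearGroup (Fin 3) F) (ht : orderOf t = 2) :
    (Subgroup.centralizer ({t} : Set (ProjectiveSpecialLinearGroup (Fin 3) F))).index =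
      (q + 1) ^ 2 * (q ^ 2 + 3 * q + 3) := by
  classical
  obtain ⟨Z, hZn, -, hZ, ⟨e⟩⟩ := main h2 t ht
  have h1 : 0 < q := by
    have := Fintype.one_lt_card (α := F)
    omega
  have hG := Cfsg.Agent.S0243.result (F := F) hq 3 (by norm_num)
  rw [Nat.add_sub_cancel, Fin.prod_univ_three] at hG
  have e0 : (q + 1) ^ 3 - (q + 1) ^ ((0 : Fin 3) : ℕ) = q * (q ^ 2 + 3 * q + 3) := by
    apply Nat.sub_eq_of_eq_add
    change _ = _ + (q + 1) ^ 0
    ring
  have e1 : (q + 1) ^ 3 - (q + 1) ^ ((1 : Fin 3) : ℕ) = (q + 1) * (q * (q + 2)) := by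
    apply Nat.sub_eq_of_eq_add
    change _ = _ + (q + 1) ^ 1
    ring
  have e2 : (q + 1) ^ 3 - (q + 1) ^ ((2 : Fin 3) : ℕ) = (q + 1) ^ 2 * q := by
    apply Nat.sub_eq_of_eq_add
    change _ = _ + (q + 1) ^ 2
    ring
  rw [e0, e1, e2] at hG
  have hL : Nat.card (GL (Fin 2) F) = (q * (q + 2)) * ((q + 1) * q) := by
    have h3 : Nat.card (GL (Fin 2) F) = ∏ i : Fin 2, (Fintype.card F ^ 2 - Fintype.card F ^ (i : ℕ)) :=
      Matrix.card_GL_field 2
    rw [h3, hq, Fin.prod_univ_two]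
    congr 1
    · apply Nat.sub_eq_of_eq_add
      change _ = _ + (q + 1) ^ 0
      ring
    · apply Nat.sub_eq_of_eq_add
      change _ = _ + (q + 1) ^ 1
      ring
  have hC : Nat.card (Subgroup.centralizer ({t} : Set (ProjectiveSpecialLinearGroup (Fin 3) F))) * Nat.gcd 3 q =
      (q * (q + 2)) * ((q + 1) * q) := by
    rw [← hL, Nat.card_congr e.toEquiv, Nat.gcd_comm,
      show q = Fintype.card F - 1 by rw [hq, Nat.add_sub_cancel], ← hZ]
    exact (Subgroup.card_eq_card_quotient_mul_card_subgroup Z).symm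
  have hI := Subgroup.card_mul_index
    (Subgroup.centralizer ({t} : Set (ProjectiveSpecialLinearGroup (Fin 3) F)))
  rw [← hI] at hG
  have h4 : 0 < q * ((q * (q + 2)) * ((q + 1) * q)) := by positivity
  apply Nat.eq_of_mul_eq_mul_left h4
  rw [← hC]
  calc q * (Nat.card (Subgroup.centralizer ({t} : Set (ProjectiveSpecialLinearGroup (Fin 3) F))) * Nat.gcd 3 q) *
        (Subgroup.centralizer ({t} : Set (ProjectiveSpecialLinearGroup (Fin 3) F))).index
      = q * (q ^ 2 + 3 * q + 3) * ((q + 1) * (q * (q + 2))) * ((q + 1) ^ 2 * q) := by rw [← hG]; ring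
    _ = q * ((q * (q + 2)) * ((q + 1) * q)) * ((q + 1) ^ 2 * (q ^ 2 + 3 * q + 3)) := by ring
    _ = _ := by rw [hC]

/-- **(CF2)** `PSL(3, F)` has the form `CentForm`. -/
theorem centForm_psl (F : Type) [Field F] [Fintype F] (hF : Odd (Fintype.card F)) :
    CentForm (ProjectiveSpecialLinearGroup (Fin 3) F) := by
  intro t ht
  have h2 : (2 : F) ≠ 0 := by
    intro h
    have h3 : ringChar F = 2 := by
      have h4 := ringChar.dvd (R := F) (x := 2) (by exact_mod_cast h)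
      rcases (Nat.dvd_prime Nat.prime_two).mp h4 with h5 | h5
      · exact absurd h5 (CharP.ringChar_ne_one)
      · exact h5
    have h4 := FiniteField.even_card_of_char_two h3
    exact (Nat.not_even_iff_odd.mpr hF) (Nat.even_iff.mpr h4)
  have hidx := index h2 (q := Fintype.card F - 1) (by have := Fintype.card_pos (α := F); omega) t ht
  obtain ⟨T, P, rfl, hTT, -, hTP⟩ := exists_conj_mk h2 t ht
  have hr := range_phi h2 hTT hTP
  have hmem : ∀ c : ProjectiveSpecialLinearGroup (Fin 3) F,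
      c * QuotientGroup.mk T = QuotientGroup.mk T * c → ∃ A, phi P A = c := by
    intro c hc
    have : c ∈ (phi P).range := by
      rw [hr, Subgroup.mem_centralizer_singleton_iff]
      exact hc
    exact this
  refine ⟨F, inferInstance, inferInstance, f P, f_injective P, hF, ?_, ?_, ?_, ?_⟩
  · intro x
    have : f P x ∈ (phi P).range := ⟨_, rfl⟩
    rw [hr, Subgroup.mem_centralizer_singleton_iff] at this
    exact this
  · intro c hc x
    obtain ⟨A, rfl⟩ := hmem c hc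
    obtain ⟨y, hy⟩ := exists_sl (A * SpecialLinearGroup.toGL x * A⁻¹) (by
      rw [Units.val_mul, Units.val_mul, Matrix.det_mul, Matrix.det_mul]
      have h5 : (SpecialLinearGroup.toGL x : GL (Fin 2) F).1.det = 1 := x.2
      rw [h5, mul_one]
      exact gl_det A)
    refine ⟨y, ?_⟩
    show phi P A * phi P (SpecialLinearGroup.toGL x) = phi P (SpecialLinearGroup.toGL y) * phi P A
    rw [hy, ← map_mul, ← map_mul]
    congr 1
    group
  · intro c d hc hd
    obtain ⟨A, rfl⟩ := hmem c hc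
    obtain ⟨B, rfl⟩ := hmem d hd
    obtain ⟨y, hy⟩ := exists_sl (A * B * A⁻¹ * B⁻¹) (by
      rw [Units.val_mul, Units.val_mul, Units.val_mul, Matrix.det_mul, Matrix.det_mul, Matrix.det_mul]
      have h5 := gl_det A
      have h6 := gl_det B
      linear_combination (B.1.det * (B⁻¹).1.det) * h5 + h6)
    refine ⟨y, ?_⟩
    show phi P A * phi P B = phi P (SpecialLinearGroup.toGL y) * (phi P B * phi P A)
    rw [hy, ← map_mul, ← map_mul, ← map_mul]
    congr 1
    group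
  · intro p hp hpF
    rw [hidx, Nat.sub_add_cancel (Fintype.card_pos (α := F))]
    exact (Dvd.dvd.pow hpF two_ne_zero).mul_right _

end Cfsg.Agent.GTwoOdd.CentPSL
end

-- part: GTwoOdd/TwoClass
section
set_option linter.all false
open scoped Cfsg.Agent.FastGrp

/-!
# A Sylow 2-subgroup of order 64 of `G₂(q)`, `q` odd, is isomorphic to a Sylow 2-subgroup of `M12`
-/

set_option autoImplicit false

namespace Cfsg.Agent.GTwoOdd.TwoClass

open Cfsg Cfsg.Agent.ClassificationK.GTwoModel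

/-- a 2-group of order 64 isomorphic to a Sylow 2-subgroup of `G₂(q)`, `q` odd, is isomorphic to a
Sylow 2-subgroup of `M12` -/
theorem exists_equiv_mTwelve {F : Type*} [Field F] [Fintype F] (hF : Odd (Fintype.card F))
    (hcard : Nat.card ↥(Cfsg.Lie.chevG2.group F) =
      Fintype.card F ^ 6 * (Fintype.card F ^ 2 - 1) * (Fintype.card F ^ 6 - 1))
    {H : Type*} [Group H] (P : Sylow 2 ↥(Cfsg.Lie.chevG2.group F))
    (hS : Nonempty (H ≃* ↥(P : Subgroup ↥(Cfsg.Lie.chevG2.group F))))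
    (h64 : Nat.card H = 64) (Q : Sylow 2 ↥Cfsg.Spor.M12) : Nonempty (H ≃* ↥(Q : Subgroup ↥Cfsg.Spor.M12)) := by
  obtain ⟨e⟩ := hS
  obtain ⟨k, hk, ⟨e'⟩⟩ := Cfsg.Agent.ClassificationK.GTwoSylow.exists_equiv hF hcard P
  have h1 : Nat.card (T (2 * 2 ^ k)) = 64 := by
    rw [Nat.card_congr (e'.trans e.symm).toEquiv, h64]
  have : NeZero (2 * 2 ^ k) := ⟨by positivity⟩
  rw [T.card_T] at h1
  have h2 : k = 1 := by
    by_contra h
    have h3 : 2 ≤ k := by omega
    have h4 : 2 ^ 2 ≤ 2 ^ k := Nat.pow_le_pow_right (by norm_num) h3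
    nlinarith
  subst h2
  obtain ⟨e''⟩ := Cfsg.Agent.MTwelveType.SylowModel.exists_equiv Q
  exact ⟨e.trans (e'.symm.trans e'')⟩

end Cfsg.Agent.GTwoOdd.TwoClass
end

-- part: GTwoOdd/GamSum
section
set_option linter.all false
open scoped Cfsg.Agent.FastGrp

/-!
# Sums over elements with a given involution among their powers
-/

set_option autoImplicit false

open Cfsg
open scoped ComplexConjugate

namespace Cfsg.Agent.GTwoOdd.GamSum

universe u
variable {H : Type u} [Group H]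

/-- a cyclic group has at most one involution -/
theorem inv_unique {x s s' : H} (hs : s ∈ Subgroup.zpowers x) (hs' : s' ∈ Subgroup.zpowers x)
    (h : s * s = 1) (h' : s' * s' = 1) (h1 : s ≠ 1) (h1' : s' ≠ 1) : s = s' := by
  obtain ⟨a, rfl⟩ := Subgroup.mem_zpowers_iff.1 hs
  obtain ⟨b, rfl⟩ := Subgroup.mem_zpowers_iff.1 hs'
  rw [← zpow_add, ← two_mul] at h h'
  rw [← orderOf_dvd_iff_zpow_eq_one] at h h'
  rw [Ne, ← orderOf_dvd_iff_zpow_eq_one] at h1 h1'
  obtain ⟨k, hk⟩ := h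
  obtain ⟨l, hl⟩ := h'
  have hk' : ¬ Even k := by
    rintro ⟨m, rfl⟩
    exact h1 ⟨m, by linarith⟩
  have hl' : ¬ Even l := by
    rintro ⟨m, rfl⟩
    exact h1' ⟨m, by linarith⟩
  rw [Int.not_even_iff_odd] at hk' hl'
  obtain ⟨m, hm⟩ := hk'.sub_odd hl'
  have h3 : (orderOf x : ℤ) ∣ a - b := ⟨m, by
    have : (2 : ℤ) * (a - b) = 2 * ((orderOf x : ℤ) * m) := by
      have e : (orderOf x : ℤ) * (k - l) = orderOf x * (m + m) := by rw [hm]
      linarith
    linarith⟩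
  have h4 : x ^ (a - b) = 1 := orderOf_dvd_iff_zpow_eq_one.1 h3
  rw [zpow_sub, mul_inv_eq_one] at h4
  exact h4

theorem zpowers_conj_mem {g x s : H} : s ∈ Subgroup.zpowers (g⁻¹ * x * g) ↔ g * s * g⁻¹ ∈ Subgroup.zpowers x := by
  have key : ∀ k : ℤ, (g⁻¹ * x * g) ^ k = g⁻¹ * x ^ k * g := by
    intro k
    have := conj_zpow (a := g⁻¹) (b := x) (i := k)
    rwa [inv_inv] at this
  constructor
  · intro h
    obtain ⟨k, rfl⟩ := Subgroup.mem_zpowers_iff.1 h
    refine Subgroup.mem_zpowers_iff.2 ⟨k, ?_⟩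
    rw [key]; group
  · intro h
    obtain ⟨k, hk⟩ := Subgroup.mem_zpowers_iff.1 h
    refine Subgroup.mem_zpowers_iff.2 ⟨k, ?_⟩
    rw [key, hk]; group

theorem zpowers_conj_mem' {g x s : H} : s ∈ Subgroup.zpowers (g * x * g⁻¹) ↔ g⁻¹ * s * g ∈ Subgroup.zpowers x := by
  have := zpowers_conj_mem (g := g⁻¹) (x := x) (s := s)
  rwa [inv_inv] at this

theorem comm_of_mem_zpowers {x s : H} (h : s ∈ Subgroup.zpowers x) : x * s = s * x := by
  obtain ⟨k, rfl⟩ := Subgroup.mem_zpowers_iff.1 h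
  exact (Commute.refl x).zpow_right k

open scoped Classical in
/-- conjugates of an involution `s` with known centraliser in `Q` -/
theorem sum_conj [Fintype H] (Q T : Subgroup H) (hTQ : T ≤ Q) (s : H) (ss : s * s = 1) (s1 : s ≠ 1)
    (hT : ∀ q ∈ Q, q * s = s * q ↔ q ∈ T) (f : H → ℂ)
    (hf : ∀ q ∈ Q, ∀ x, f (q * x * q⁻¹) = f x) :
    ∑ x : H, (if ∃ q ∈ Q, q * s * q⁻¹ ∈ Subgroup.zpowers x then f x else 0) =
      (Nat.card Q : ℂ) / (Nat.card T : ℂ) * ∑ x : H, (if s ∈ Subgroup.zpowers x then f x else 0) := by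
  have hTne : (Nat.card T : ℂ) ≠ 0 := by exact_mod_cast Nat.card_pos.ne'
  have e1 : ∑ g : Q, ∑ x : H, (if s ∈ Subgroup.zpowers x then f ((g : H) * x * (g : H)⁻¹) else 0) =
      (Nat.card Q : ℂ) * ∑ x : H, (if s ∈ Subgroup.zpowers x then f x else 0) := by
    have : ∀ g : Q, ∑ x : H, (if s ∈ Subgroup.zpowers x then f ((g : H) * x * (g : H)⁻¹) else 0) =
        ∑ x : H, (if s ∈ Subgroup.zpowers x then f x else 0) := by
      intro g
      refine Finset.sum_congr rfl fun x _ => ?_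
      rw [hf g g.2]
    rw [Finset.sum_congr rfl fun g _ => this g, Finset.sum_const, Finset.card_univ, nsmul_eq_mul,
      Nat.card_eq_fintype_card]
  have e2 : ∑ g : Q, ∑ x : H, (if s ∈ Subgroup.zpowers x then f ((g : H) * x * (g : H)⁻¹) else 0) =
      ∑ x : H, (if ∃ q ∈ Q, q * s * q⁻¹ ∈ Subgroup.zpowers x then (Nat.card T : ℂ) * f x else 0) := by
    have h1 : ∀ g : Q, ∑ x : H, (if s ∈ Subgroup.zpowers x then f ((g : H) * x * (g : H)⁻¹) else 0) =
        ∑ y : H, (if (g : H) * s * (g : H)⁻¹ ∈ Subgroup.zpowers y then f y else 0) := by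
      intro g
      rw [← Equiv.sum_comp (MulAut.conj (g : H)).toEquiv (fun y => if (g : H) * s * (g : H)⁻¹ ∈ Subgroup.zpowers y then f y else 0)]
      refine Finset.sum_congr rfl fun x _ => ?_
      have e3 : (MulAut.conj (g : H)).toEquiv x = (g : H) * x * (g : H)⁻¹ := rfl
      rw [e3]
      have e4 : ((g : H) * s * (g : H)⁻¹ ∈ Subgroup.zpowers ((g : H) * x * (g : H)⁻¹)) ↔ s ∈ Subgroup.zpowers x := by
        rw [zpowers_conj_mem']
        have : (g : H)⁻¹ * ((g : H) * s * (g : H)⁻¹) * g = s := by group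
        rw [this]
      simp only [e4]
    rw [Finset.sum_congr rfl fun g _ => h1 g, Finset.sum_comm]
    refine Finset.sum_congr rfl fun y _ => ?_
    split_ifs with hy
    · obtain ⟨q, hq, hqy⟩ := hy
      have hset : (Finset.univ.filter fun g : Q => (g : H) * s * (g : H)⁻¹ ∈ Subgroup.zpowers y) =
          Finset.univ.map ⟨fun τ : T => (⟨q * τ, Q.mul_mem hq (hTQ τ.2)⟩ : Q), by
            intro a b hab
            have : q * (a : H) = q * b := congrArg Subtype.val hab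
            exact Subtype.ext (mul_left_cancel this)⟩ := by
        ext g
        simp only [Finset.mem_filter, Finset.mem_univ, true_and, Finset.mem_map,
          Function.Embedding.coeFn_mk]
        constructor
        · intro hg
          have h2 : (g : H) * s * (g : H)⁻¹ = q * s * q⁻¹ := by
            apply inv_unique hg hqy
            · calc (g : H) * s * (g : H)⁻¹ * ((g : H) * s * (g : H)⁻¹) = (g : H) * (s * s) * (g : H)⁻¹ := by group
                _ = 1 := by rw [ss]; group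
            · calc q * s * q⁻¹ * (q * s * q⁻¹) = q * (s * s) * q⁻¹ := by group
                _ = 1 := by rw [ss]; group
            · intro h
              apply s1
              calc s = (g : H)⁻¹ * ((g : H) * s * (g : H)⁻¹) * g := by group
                _ = 1 := by rw [h]; group
            · intro h
              apply s1
              calc s = q⁻¹ * (q * s * q⁻¹) * q := by group
                _ = 1 := by rw [h]; group
          have h3 : q⁻¹ * g ∈ T := by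
            rw [← hT _ (Q.mul_mem (Q.inv_mem hq) g.2)]
            calc q⁻¹ * g * s = q⁻¹ * ((g : H) * s * (g : H)⁻¹) * g := by group
              _ = s * (q⁻¹ * g) := by rw [h2]; group
          refine ⟨⟨q⁻¹ * g, h3⟩, Subtype.ext ?_⟩
          change q * (q⁻¹ * (g : H)) = g
          group
        · rintro ⟨τ, rfl⟩
          have h2 : (τ : H) * s = s * τ := (hT τ (hTQ τ.2)).2 τ.2
          have : q * (τ : H) * s * (q * τ)⁻¹ = q * s * q⁻¹ := by
            rw [mul_assoc q, h2]; group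
          change q * (τ : H) * s * (q * τ)⁻¹ ∈ _
          rw [this]
          exact hqy
      rw [← Finset.sum_filter, Finset.sum_const, hset, Finset.card_map, Finset.card_univ, nsmul_eq_mul,
        Nat.card_eq_fintype_card]
    · apply Finset.sum_eq_zero
      intro g _
      rw [if_neg]
      intro h
      exact hy ⟨g, g.2, h⟩
  have e3 : ∑ x : H, (if ∃ q ∈ Q, q * s * q⁻¹ ∈ Subgroup.zpowers x then (Nat.card T : ℂ) * f x else 0) =
      (Nat.card T : ℂ) * ∑ x : H, (if ∃ q ∈ Q, q * s * q⁻¹ ∈ Subgroup.zpowers x then f x else 0) := by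
    rw [Finset.mul_sum]
    refine Finset.sum_congr rfl fun x _ => ?_
    split_ifs <;> simp
  rw [e1, e3] at e2
  rw [div_mul_eq_mul_div, e2, mul_div_cancel_left₀ _ hTne]

/-- Frobenius reciprocity as an identity of sums -/
theorem sum_indFun_mul [Fintype H] (Q : Subgroup H) (θ : Q → ℂ) (φ : H → ℂ)
    (hφ : ∀ g x, φ (g * x * g⁻¹) = φ x) :
    ∑ x : H, indFun Q θ x * φ x =
      (Nat.card H : ℂ) / (Nat.card Q : ℂ) * ∑ x : H, extendByZero Q θ x * φ x := by
  have h1 : ∀ x, indFun Q θ x * φ x =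
      ∑ g : H, (Nat.card Q : ℂ)⁻¹ * (extendByZero Q θ (g⁻¹ * x * g) * φ x) := by
    intro x
    rw [indFun, Finset.mul_sum, Finset.sum_mul]
    refine Finset.sum_congr rfl fun g _ => ?_
    ring
  rw [Finset.sum_congr rfl fun x _ => h1 x, Finset.sum_comm]
  have h2 : ∀ g : H, ∑ x : H, (Nat.card Q : ℂ)⁻¹ * (extendByZero Q θ (g⁻¹ * x * g) * φ x) =
      (Nat.card Q : ℂ)⁻¹ * ∑ x : H, extendByZero Q θ x * φ x := by
    intro g
    rw [Finset.mul_sum, ← Equiv.sum_comp (MulAut.conj g).toEquiv]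
    refine Finset.sum_congr rfl fun x _ => ?_
    have e3 : (MulAut.conj g).toEquiv x = g * x * g⁻¹ := rfl
    rw [e3, hφ]
    have e4 : g⁻¹ * (g * x * g⁻¹) * g = x := by group
    rw [e4]
  rw [Finset.sum_congr rfl fun g _ => h2 g, Finset.sum_const, Finset.card_univ, nsmul_eq_mul,
    Nat.card_eq_fintype_card (α := H)]
  ring

/-- sums of an irreducible character over products of two elements of a normal subset -/
theorem sum_sum_mul [Fintype H] {χ : H → ℂ} (hχ : IsIrrCharacter H χ) (a : H → ℂ)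
    (ha : ∀ x g, a (g * x * g⁻¹) = a x) :
    ∑ i : H, ∑ j : H, a i * a j * χ (i * j) = (∑ i : H, a i * χ i) ^ 2 / χ 1 := by
  obtain ⟨n, ρ, hρ, rfl⟩ := hχ
  have h1 := Cfsg.Agent.Characters.CentralCharacter.sum_classFunction_smul_eq ρ a ha
  set A : Module.End ℂ (Fin n → ℂ) := ∑ x, a x • (ρ x : Module.End ℂ (Fin n → ℂ)) with hA
  set c : ℂ := (∑ x, a x * ρ.character x) / (Module.finrank ℂ (Fin n → ℂ) : ℂ) with hc
  have h1' : A = c • (1 : Module.End ℂ (Fin n → ℂ)) := h1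
  have h2 : A * A = ∑ i : H, ∑ j : H, (a i * a j) • (ρ (i * j) : Module.End ℂ (Fin n → ℂ)) := by
    rw [hA, Finset.sum_mul_sum]
    refine Finset.sum_congr rfl fun i _ => Finset.sum_congr rfl fun j _ => ?_
    rw [map_mul, smul_mul_smul_comm]
  have h3 : LinearMap.trace ℂ (Fin n → ℂ) (A * A) = ∑ i : H, ∑ j : H, a i * a j * ρ.character (i * j) := by
    rw [h2]
    simp only [map_sum, map_smul, smul_eq_mul]
    rfl
  have hd : (Module.finrank ℂ (Fin n → ℂ) : ℂ) ≠ 0 := by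
    exact_mod_cast (Cfsg.Agent.Characters.CentralCharacter.finrank_pos_of_irreducible ρ).ne'
  have h4 : ρ.character 1 = (Module.finrank ℂ (Fin n → ℂ) : ℂ) := by
    rw [Representation.char_one]
  rw [← h3, h1', h4, smul_mul_smul_comm, map_smul, mul_one, LinearMap.trace_one, smul_eq_mul, hc]
  field_simp

end Cfsg.Agent.GTwoOdd.GamSum

private theorem dce_7ad492ebcca0 : _root_.True := by
  try have : _root_.True := by simp only [_root_.Cfsg.indFun.eq_1]
  exact _root_.True.intro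
end

-- part: GTwoOdd/GamC
section
set_option linter.all false
open scoped Cfsg.Agent.FastGrp

/-!
# The class function on the centraliser: four irreducible characters
-/

set_option autoImplicit false

open Cfsg
open scoped ComplexConjugate

namespace Cfsg.Agent.GTwoOdd.GamC

open Cfsg.Agent.GTwoOdd.GamSum

universe u
variable {H : Type u} [Group H]

/-- a linear character of a subgroup, extended by zero -/
noncomputable def ez (Q : Subgroup H) (ξ : Q →* ℂˣ) : H → ℂ := extendByZero Q (fun x => (ξ x : ℂ))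

theorem ez_mem (Q : Subgroup H) (ξ : Q →* ℂˣ) {x : H} (hx : x ∈ Q) : ez Q ξ x = (ξ ⟨x, hx⟩ : ℂ) :=
  Cfsg.Agent.Characters.Core.extendByZero_of_mem Q _ hx

theorem ez_notMem (Q : Subgroup H) (ξ : Q →* ℂˣ) {x : H} (hx : x ∉ Q) : ez Q ξ x = 0 :=
  Cfsg.Agent.Characters.Core.extendByZero_of_notMem Q _ hx

theorem ez_one (Q : Subgroup H) (ξ : Q →* ℂˣ) : ez Q ξ 1 = 1 := by
  rw [ez_mem Q ξ Q.one_mem]
  have : (⟨1, Q.one_mem⟩ : Q) = 1 := rfl
  rw [this, map_one, Units.val_one]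

theorem ez_mul (Q : Subgroup H) (ξ : Q →* ℂˣ) {x y : H} (hx : x ∈ Q) (hy : y ∈ Q) :
    ez Q ξ (x * y) = ez Q ξ x * ez Q ξ y := by
  rw [ez_mem Q ξ hx, ez_mem Q ξ hy, ez_mem Q ξ (Q.mul_mem hx hy), ← Units.val_mul, ← map_mul]
  rfl

theorem ez_conj (Q : Subgroup H) (ξ : Q →* ℂˣ) {q : H} (hq : q ∈ Q) (x : H) :
    ez Q ξ (q * x * q⁻¹) = ez Q ξ x := by
  by_cases hx : x ∈ Q
  · rw [ez_mul Q ξ (Q.mul_mem hq hx) (Q.inv_mem hq), ez_mul Q ξ hq hx]
    have h1 : ez Q ξ q * ez Q ξ q⁻¹ = 1 := by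
      rw [← ez_mul Q ξ hq (Q.inv_mem hq), mul_inv_cancel, ez_one]
    calc ez Q ξ q * ez Q ξ x * ez Q ξ q⁻¹ = ez Q ξ x * (ez Q ξ q * ez Q ξ q⁻¹) := by ring
      _ = _ := by rw [h1, mul_one]
  · have hx' : q * x * q⁻¹ ∉ Q := by
      intro h
      apply hx
      have := Q.mul_mem (Q.mul_mem (Q.inv_mem hq) h) hq
      have e : q⁻¹ * (q * x * q⁻¹) * q = x := by group
      rwa [e] at this
    rw [ez_notMem Q ξ hx, ez_notMem Q ξ hx']

/-- the data on the centraliser -/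
structure CData (H : Type u) [Group H] where
  /-- the central involution -/
  t : H
  /-- the second involution -/
  t2 : H
  /-- the third involution -/
  t3 : H
  /-- the torus -/
  T : Subgroup H
  /-- the Borel subgroup -/
  B : Subgroup H
  /-- the parabolic subgroup -/
  Q : Subgroup H
  /-- the first character -/
  lam : Q →* ℂˣ
  /-- the second character -/
  mu : Q →* ℂˣ
  /-- the conjugate of the first character -/
  lam1 : B →* ℂˣ
  /-- the conjugate of the second character -/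
  mu1 : B →* ℂˣ
  tt : t * t = 1
  t1 : t ≠ 1
  tc : ∀ x, x * t = t * x
  t2t2 : t2 * t2 = 1
  t2_ne : t2 ≠ 1
  t2_ne_t : t2 ≠ t
  t3_eq : t3 = t * t2
  TB : T ≤ B
  BQ : B ≤ Q
  t_mem : t ∈ T
  t2_mem : t2 ∈ T
  comm : ∀ x ∈ T, ∀ y ∈ T, x * y = y * x
  Qinv : ∀ s ∈ Q, s * s = 1 → s ≠ 1 → s ≠ t → ∃ q ∈ Q, q * t2 * q⁻¹ = s
  Qcent : ∀ q ∈ Q, q * t2 = t2 * q → q ∈ T
  Binv : ∀ s ∈ B, s * s = 1 → s ≠ 1 → s ≠ t → (∃ b ∈ B, b * t2 * b⁻¹ = s) ∨ ∃ b ∈ B, b * t3 * b⁻¹ = s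
  Bne : ∀ b ∈ B, b * t2 * b⁻¹ ≠ t3
  dec : ∀ c : H, ∃ b ∈ B, ∃ n, (∀ τ ∈ T, n * τ * n⁻¹ ∈ T) ∧ ∃ b' ∈ B, c = b * n * b'
  odd : ∀ x : H, (∀ s ∈ Subgroup.zpowers x, s * s = 1 → s = 1) → ez Q lam x = ez Q mu x
  odd1 : ∀ x : H, (∀ s ∈ Subgroup.zpowers x, s * s = 1 → s = 1) → ez B lam1 x = ez B mu1 x
  lam_t : ez Q lam t = 1
  lam_t2 : ez Q lam t2 = 1
  mu_t : ez Q mu t = 1
  mu_t2 : ez Q mu t2 = -1
  lam1_t : ez B lam1 t = 1
  lam1_t2 : ez B lam1 t2 = 1
  mu1_t : ez B mu1 t = -1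
  mu1_t2 : ez B mu1 t2 = -1
  st : ∀ n, (∀ τ ∈ T, n * τ * n⁻¹ ∈ T) → (∀ τ ∈ T, ez Q lam τ = ez Q lam (n * τ * n⁻¹)) → n ∈ Q
  st' : ∀ n, (∀ τ ∈ T, n * τ * n⁻¹ ∈ T) → (∀ τ ∈ T, ez Q mu τ = ez Q mu (n * τ * n⁻¹)) → n ∈ Q
  st1 : ∀ n, (∀ τ ∈ T, n * τ * n⁻¹ ∈ T) → (∀ τ ∈ T, ez B lam1 τ = ez B lam1 (n * τ * n⁻¹)) → n ∈ B
  st1' : ∀ n, (∀ τ ∈ T, n * τ * n⁻¹ ∈ T) → (∀ τ ∈ T, ez B mu1 τ = ez B mu1 (n * τ * n⁻¹)) → n ∈ B
  ne1 : ∀ n, (∀ τ ∈ T, n * τ * n⁻¹ ∈ T) → ¬ ∀ τ ∈ T, ez Q lam τ = ez Q mu (n * τ * n⁻¹)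
  ne2 : ∀ n, (∀ τ ∈ T, n * τ * n⁻¹ ∈ T) → ¬ ∀ τ ∈ T, ez B lam1 τ = ez B mu1 (n * τ * n⁻¹)
  ne3 : ∀ n, (∀ τ ∈ T, n * τ * n⁻¹ ∈ T) → ¬ ∀ τ ∈ T, ez Q lam τ = ez B lam1 (n * τ * n⁻¹)
  ne4 : ∀ n, (∀ τ ∈ T, n * τ * n⁻¹ ∈ T) → ¬ ∀ τ ∈ T, ez Q lam τ = ez B mu1 (n * τ * n⁻¹)
  ne5 : ∀ n, (∀ τ ∈ T, n * τ * n⁻¹ ∈ T) → ¬ ∀ τ ∈ T, ez Q mu τ = ez B lam1 (n * τ * n⁻¹)
  ne6 : ∀ n, (∀ τ ∈ T, n * τ * n⁻¹ ∈ T) → ¬ ∀ τ ∈ T, ez Q mu τ = ez B mu1 (n * τ * n⁻¹)

namespace CData

variable (D : CData H)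

theorem t2t : D.t2 * D.t = D.t * D.t2 := D.tc D.t2

theorem t3t3 : D.t3 * D.t3 = 1 := by
  rw [D.t3_eq]
  calc D.t * D.t2 * (D.t * D.t2) = D.t * (D.t2 * D.t) * D.t2 := by group
    _ = (D.t * D.t) * (D.t2 * D.t2) := by rw [D.t2t]; group
    _ = 1 := by rw [D.tt, D.t2t2, one_mul]

theorem t3_ne : D.t3 ≠ 1 := by
  rw [D.t3_eq]
  intro h
  apply D.t2_ne_t
  have : D.t * (D.t * D.t2) = D.t := by rw [h, mul_one]
  rw [← mul_assoc, D.tt, one_mul] at this
  exact this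

theorem t3_ne_t : D.t3 ≠ D.t := by
  rw [D.t3_eq]
  intro h
  apply D.t2_ne
  exact mul_left_cancel (h.trans (mul_one _).symm)

theorem t3_ne_t2 : D.t3 ≠ D.t2 := by
  rw [D.t3_eq]
  intro h
  apply D.t1
  exact mul_right_cancel (h.trans (one_mul _).symm)

theorem TQ : D.T ≤ D.Q := D.TB.trans D.BQ

/-- `C_Q(t2) = T` -/
theorem Qcent_iff : ∀ q ∈ D.Q, q * D.t2 = D.t2 * q ↔ q ∈ D.T :=
  fun q hq => ⟨D.Qcent q hq, fun h => D.comm q h _ D.t2_mem⟩

theorem Bcent_iff : ∀ q ∈ D.B, q * D.t2 = D.t2 * q ↔ q ∈ D.T :=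
  fun q hq => D.Qcent_iff q (D.BQ hq)

theorem Bcent_iff3 : ∀ q ∈ D.B, q * D.t3 = D.t3 * q ↔ q ∈ D.T := by
  intro q hq
  rw [← D.Bcent_iff q hq, D.t3_eq]
  constructor
  · intro h
    have h1 : D.t * (q * D.t2) = D.t * (D.t2 * q) := by
      rw [← mul_assoc, ← D.tc q, mul_assoc, h, mul_assoc]
    exact mul_left_cancel h1
  · intro h
    rw [← mul_assoc, D.tc q, mul_assoc, h, mul_assoc]

/-- the third values -/
theorem lam_t3 : ez D.Q D.lam D.t3 = 1 := by
  rw [D.t3_eq, ez_mul _ _ (D.TQ D.t_mem) (D.TQ D.t2_mem), D.lam_t, D.lam_t2, one_mul]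

theorem mu_t3 : ez D.Q D.mu D.t3 = -1 := by
  rw [D.t3_eq, ez_mul _ _ (D.TQ D.t_mem) (D.TQ D.t2_mem), D.mu_t, D.mu_t2, one_mul]

theorem lam1_t3 : ez D.B D.lam1 D.t3 = 1 := by
  rw [D.t3_eq, ez_mul _ _ (D.TB D.t_mem) (D.TB D.t2_mem), D.lam1_t, D.lam1_t2, one_mul]

theorem mu1_t3 : ez D.B D.mu1 D.t3 = 1 := by
  rw [D.t3_eq, ez_mul _ _ (D.TB D.t_mem) (D.TB D.t2_mem), D.mu1_t, D.mu1_t2]
  norm_num

/-- `x` has an involution different from `t` among its powers -/
def E (x : H) : Prop := ∃ s ∈ Subgroup.zpowers x, s * s = 1 ∧ s ≠ 1 ∧ s ≠ D.t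

variable [Fintype H]

/-- the induced character -/
noncomputable def X (Q : Subgroup H) (ξ : Q →* ℂˣ) : H → ℂ := indFun Q (fun x => (ξ x : ℂ))

/-- the class function -/
noncomputable def F : H → ℂ := X D.Q D.lam - X D.Q D.mu + (X D.B D.lam1 - X D.B D.mu1)

omit D in
theorem X_class (Q : Subgroup H) (ξ : Q →* ℂˣ) (g x : H) : X Q ξ (g * x * g⁻¹) = X Q ξ x :=
  Cfsg.Agent.OddOrderCharacters.IndRes.isClassFunction_indFun Q _ x g

omit D in
theorem X_def (Q : Subgroup H) (ξ : Q →* ℂˣ) (x : H) :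
    X Q ξ x = (Nat.card Q : ℂ)⁻¹ * ∑ g : H, ez Q ξ (g⁻¹ * x * g) := rfl

theorem F_class (g x : H) : D.F (g * x * g⁻¹) = D.F x := by
  simp only [F, Pi.add_apply, Pi.sub_apply, X_class]

/-- `F` vanishes on the elements without involutions -/
theorem F_odd {x : H} (hx : ∀ s ∈ Subgroup.zpowers x, s * s = 1 → s = 1) : D.F x = 0 := by
  have h : ∀ g : H, ∀ s ∈ Subgroup.zpowers (g⁻¹ * x * g), s * s = 1 → s = 1 := by
    intro g s hs hss
    rw [zpowers_conj_mem] at hs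
    have h1 := hx _ hs (by
      calc g * s * g⁻¹ * (g * s * g⁻¹) = g * (s * s) * g⁻¹ := by group
        _ = 1 := by rw [hss]; group)
    calc s = g⁻¹ * (g * s * g⁻¹) * g := by group
      _ = 1 := by rw [h1]; group
  have e1 : X D.Q D.lam x = X D.Q D.mu x := by
    rw [X_def, X_def]
    congr 1
    exact Finset.sum_congr rfl fun g _ => D.odd _ (h g)
  have e2 : X D.B D.lam1 x = X D.B D.mu1 x := by
    rw [X_def, X_def]
    congr 1
    exact Finset.sum_congr rfl fun g _ => D.odd1 _ (h g)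
  simp only [F, Pi.add_apply, Pi.sub_apply, e1, e2, sub_self, add_zero]

omit D [Fintype H] in
/-- the common Mackey argument -/
theorem mackey {A B T R : Subgroup H} (hA : R ≤ A) (hB : R ≤ B) (hT : T ≤ R) (ξ : A →* ℂˣ) (ξ' : B →* ℂˣ)
    (dec : ∀ c : H, ∃ b ∈ R, ∃ n, (∀ τ ∈ T, n * τ * n⁻¹ ∈ T) ∧ ∃ b' ∈ R, c = b * n * b') {g : H}
    (h : ∀ (a : ↥A) (b : ↥B), (b : H) = g * a * g⁻¹ → ξ a = ξ' b) :
    ∃ b ∈ R, ∃ n, (∀ τ ∈ T, n * τ * n⁻¹ ∈ T) ∧ (∃ b' ∈ R, g = b * n * b') ∧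
      ∀ τ ∈ T, ez A ξ τ = ez B ξ' (n * τ * n⁻¹) := by
  obtain ⟨b, hb, n, hn, b', hb', rfl⟩ := dec g
  refine ⟨b, hb, n, hn, ⟨b', hb', rfl⟩, fun τ hτ => ?_⟩
  have hτ' := hn τ hτ
  have h1 : b'⁻¹ * τ * b' ∈ A := A.mul_mem (A.mul_mem (A.inv_mem (hA hb')) (hA (hT hτ))) (hA hb')
  have h2 : b * (n * τ * n⁻¹) * b⁻¹ ∈ B := B.mul_mem (B.mul_mem (hB hb) (hB (hT hτ'))) (B.inv_mem (hB hb))
  have h3 := h ⟨_, h1⟩ ⟨_, h2⟩ (by
    change b * (n * τ * n⁻¹) * b⁻¹ = b * n * b' * (b'⁻¹ * τ * b') * (b * n * b')⁻¹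
    group)
  have h4 : ez A ξ (b'⁻¹ * τ * b') = ez B ξ' (b * (n * τ * n⁻¹) * b⁻¹) := by
    rw [ez_mem _ _ h1, ez_mem _ _ h2, h3]
  rw [ez_conj B ξ' (hB hb)] at h4
  have h5 := ez_conj A ξ (A.inv_mem (hA hb')) τ
  rw [inv_inv] at h5
  rw [← h5, h4]

theorem irr_lam : IsIrrCharacter H (X D.Q D.lam) := by
  apply Cfsg.Agent.OddOrderCharacters.PF9.MackeyIrr.isIrr_ind
  intro g hg
  obtain ⟨b, hb, n, hn, ⟨b', hb', rfl⟩, h⟩ := mackey D.BQ D.BQ D.TB D.lam D.lam D.dec hg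
  exact D.Q.mul_mem (D.Q.mul_mem (D.BQ hb) (D.st n hn h)) (D.BQ hb')

theorem irr_mu : IsIrrCharacter H (X D.Q D.mu) := by
  apply Cfsg.Agent.OddOrderCharacters.PF9.MackeyIrr.isIrr_ind
  intro g hg
  obtain ⟨b, hb, n, hn, ⟨b', hb', rfl⟩, h⟩ := mackey D.BQ D.BQ D.TB D.mu D.mu D.dec hg
  exact D.Q.mul_mem (D.Q.mul_mem (D.BQ hb) (D.st' n hn h)) (D.BQ hb')

theorem irr_lam1 : IsIrrCharacter H (X D.B D.lam1) := by
  apply Cfsg.Agent.OddOrderCharacters.PF9.MackeyIrr.isIrr_ind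
  intro g hg
  obtain ⟨b, hb, n, hn, ⟨b', hb', rfl⟩, h⟩ := mackey le_rfl le_rfl D.TB D.lam1 D.lam1 D.dec hg
  exact D.B.mul_mem (D.B.mul_mem hb (D.st1 n hn h)) hb'

theorem irr_mu1 : IsIrrCharacter H (X D.B D.mu1) := by
  apply Cfsg.Agent.OddOrderCharacters.PF9.MackeyIrr.isIrr_ind
  intro g hg
  obtain ⟨b, hb, n, hn, ⟨b', hb', rfl⟩, h⟩ := mackey le_rfl le_rfl D.TB D.mu1 D.mu1 D.dec hg
  exact D.B.mul_mem (D.B.mul_mem hb (D.st1' n hn h)) hb'

omit D in
theorem inner_zero {A B T R : Subgroup H} (hA : R ≤ A) (hB : R ≤ B) (hT : T ≤ R) (ξ : A →* ℂˣ) (ξ' : B →* ℂˣ)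
    (dec : ∀ c : H, ∃ b ∈ R, ∃ n, (∀ τ ∈ T, n * τ * n⁻¹ ∈ T) ∧ ∃ b' ∈ R, c = b * n * b')
    (hne : ∀ n, (∀ τ ∈ T, n * τ * n⁻¹ ∈ T) → ¬ ∀ τ ∈ T, ez A ξ τ = ez B ξ' (n * τ * n⁻¹)) :
    classInner (X A ξ) (X B ξ') = 0 := by
  by_contra h
  obtain ⟨g, hg⟩ := Cfsg.Agent.OddOrderCharacters.PF9.Mackey.exists_conj_of_inner_ne A B ξ ξ' h
  obtain ⟨b, hb, n, hn, -, h1⟩ := mackey hA hB hT ξ ξ' dec hg
  exact hne n hn h1

theorem inner_symm_zero {φ ψ : H → ℂ} (h : classInner φ ψ = 0) : classInner ψ φ = 0 := by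
  rw [← Cfsg.Agent.Characters.Core.classInner_conj_symm, h, map_zero]

/-- the norm of `F` -/
theorem norm_F : classInner D.F D.F = 4 := by
  have h11 := Cfsg.Agent.Characters.Core.classInner_irr_self D.irr_lam
  have h22 := Cfsg.Agent.Characters.Core.classInner_irr_self D.irr_mu
  have h33 := Cfsg.Agent.Characters.Core.classInner_irr_self D.irr_lam1
  have h44 := Cfsg.Agent.Characters.Core.classInner_irr_self D.irr_mu1
  have h12 := inner_zero D.BQ D.BQ D.TB D.lam D.mu D.dec D.ne1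
  have h34 := inner_zero le_rfl le_rfl D.TB D.lam1 D.mu1 D.dec D.ne2
  have h13 := inner_zero D.BQ le_rfl D.TB D.lam D.lam1 D.dec D.ne3
  have h14 := inner_zero D.BQ le_rfl D.TB D.lam D.mu1 D.dec D.ne4
  have h23 := inner_zero D.BQ le_rfl D.TB D.mu D.lam1 D.dec D.ne5
  have h24 := inner_zero D.BQ le_rfl D.TB D.mu D.mu1 D.dec D.ne6
  have h21 := inner_symm_zero h12
  have h43 := inner_symm_zero h34
  have h31 := inner_symm_zero h13
  have h41 := inner_symm_zero h14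
  have h32 := inner_symm_zero h23
  have h42 := inner_symm_zero h24
  unfold F
  simp only [Cfsg.Agent.Characters.Core.classInner_add_left, Cfsg.Agent.Characters.Core.classInner_sub_left,
    Cfsg.Agent.Characters.Core.classInner_add_right, Cfsg.Agent.Characters.Core.classInner_sub_right,
    h11, h22, h33, h44, h12, h34, h13, h14, h23, h24, h21, h43, h31, h41, h32, h42]
  norm_num

/-- `F` is a generalised character -/
theorem gen_F : IsGeneralizedCharacter H D.F := by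
  refine ⟨X D.Q D.lam + X D.B D.lam1, X D.Q D.mu + X D.B D.mu1, ?_, ?_, ?_⟩
  · exact Cfsg.Agent.Characters.Core.isCharacter_add
      (Cfsg.Agent.Characters.Core.isIrr_isCharacter D.irr_lam)
      (Cfsg.Agent.Characters.Core.isIrr_isCharacter D.irr_lam1)
  · exact Cfsg.Agent.Characters.Core.isCharacter_add
      (Cfsg.Agent.Characters.Core.isIrr_isCharacter D.irr_mu)
      (Cfsg.Agent.Characters.Core.isIrr_isCharacter D.irr_mu1)
  · unfold F; abel

end CData

end Cfsg.Agent.GTwoOdd.GamC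

private theorem dce_b2db0f110430 : _root_.True := by
  try have : _root_.True := by simp only [_root_.Cfsg.Agent.GTwoOdd.GamC.CData.F.eq_1]
  exact _root_.True.intro
end

-- part: GTwoOdd/GamE
section
prune_inst 0x80000000000000c010000
set_option linter.all false
open scoped Cfsg.Agent.FastGrp

/-!
# Sums over the elements with an involution different from `t` among their powers
-/

set_option autoImplicit false

open Cfsg
open scoped ComplexConjugate

namespace Cfsg.Agent.GTwoOdd.GamC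

open Cfsg.Agent.GTwoOdd.GamSum

universe u
variable {H : Type u} [Group H]

namespace CData

variable (D : CData H)

theorem E_conj {x : H} (g : H) : D.E (g * x * g⁻¹) ↔ D.E x := by
  constructor
  · rintro ⟨s, hs, h1, h2, h3⟩
    rw [zpowers_conj_mem'] at hs
    refine ⟨_, hs, ?_, ?_, ?_⟩
    · calc g⁻¹ * s * g * (g⁻¹ * s * g) = g⁻¹ * (s * s) * g := by group
        _ = 1 := by rw [h1]; group
    · intro h
      apply h2
      calc s = g * (g⁻¹ * s * g) * g⁻¹ := by group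
        _ = 1 := by rw [h]; group
    · intro h
      apply h3
      calc s = g * (g⁻¹ * s * g) * g⁻¹ := by group
        _ = D.t := by rw [h, D.tc]; group
  · rintro ⟨s, hs, h1, h2, h3⟩
    refine ⟨g * s * g⁻¹, ?_, ?_, ?_, ?_⟩
    · rw [zpowers_conj_mem']
      have : g⁻¹ * (g * s * g⁻¹) * g = s := by group
      rwa [this]
    · calc g * s * g⁻¹ * (g * s * g⁻¹) = g * (s * s) * g⁻¹ := by group
        _ = 1 := by rw [h1]; group
    · intro h
      apply h2
      calc s = g⁻¹ * (g * s * g⁻¹) * g := by group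
        _ = 1 := by rw [h]; group
    · intro h
      apply h3
      calc s = g⁻¹ * (g * s * g⁻¹) * g := by group
        _ = g⁻¹ * (D.t * g) := by rw [h]; group
        _ = D.t := by rw [← D.tc]; group

theorem conj_ne_t {g s : H} (h : s ≠ D.t) : g * s * g⁻¹ ≠ D.t := by
  intro h'
  apply h
  calc s = g⁻¹ * (g * s * g⁻¹) * g := by group
    _ = g⁻¹ * (D.t * g) := by rw [h']; group
    _ = D.t := by rw [← D.tc]; group

omit D in
theorem conj_invol {g s : H} (h : s * s = 1) : g * s * g⁻¹ * (g * s * g⁻¹) = 1 := by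
  calc g * s * g⁻¹ * (g * s * g⁻¹) = g * (s * s) * g⁻¹ := by group
    _ = 1 := by rw [h]; group

omit D in
theorem conj_ne_one {g s : H} (h : s ≠ 1) : g * s * g⁻¹ ≠ 1 := by
  intro h'
  apply h
  calc s = g⁻¹ * (g * s * g⁻¹) * g := by group
    _ = 1 := by rw [h']; group

omit D in
theorem zp_le {x s : H} {Q : Subgroup H} (hx : x ∈ Q) (hs : s ∈ Subgroup.zpowers x) : s ∈ Q := by
  have : Subgroup.zpowers x ≤ Q := by rwa [Subgroup.zpowers_le]
  exact this hs

theorem E_iff_Q {x : H} (hx : x ∈ D.Q) : D.E x ↔ ∃ q ∈ D.Q, q * D.t2 * q⁻¹ ∈ Subgroup.zpowers x := by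
  constructor
  · rintro ⟨s, hs, h1, h2, h3⟩
    obtain ⟨q, hq, rfl⟩ := D.Qinv s (zp_le hx hs) h1 h2 h3
    exact ⟨q, hq, hs⟩
  · rintro ⟨q, hq, h⟩
    exact ⟨_, h, conj_invol D.t2t2, conj_ne_one D.t2_ne, D.conj_ne_t D.t2_ne_t⟩

theorem E_iff_B {x : H} (hx : x ∈ D.B) : D.E x ↔ (∃ q ∈ D.B, q * D.t2 * q⁻¹ ∈ Subgroup.zpowers x) ∨
    ∃ q ∈ D.B, q * D.t3 * q⁻¹ ∈ Subgroup.zpowers x := by
  constructor
  · rintro ⟨s, hs, h1, h2, h3⟩
    rcases D.Binv s (zp_le hx hs) h1 h2 h3 with ⟨q, hq, rfl⟩ | ⟨q, hq, rfl⟩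
    · exact Or.inl ⟨q, hq, hs⟩
    · exact Or.inr ⟨q, hq, hs⟩
  · rintro (⟨q, hq, h⟩ | ⟨q, hq, h⟩)
    · exact ⟨_, h, conj_invol D.t2t2, conj_ne_one D.t2_ne, D.conj_ne_t D.t2_ne_t⟩
    · exact ⟨_, h, conj_invol D.t3t3, conj_ne_one D.t3_ne, D.conj_ne_t D.t3_ne_t⟩

theorem not_both {x : H} (h : ∃ q ∈ D.B, q * D.t2 * q⁻¹ ∈ Subgroup.zpowers x)
    (h' : ∃ q ∈ D.B, q * D.t3 * q⁻¹ ∈ Subgroup.zpowers x) : False := by
  obtain ⟨q, hq, h⟩ := h
  obtain ⟨r, hr, h'⟩ := h'
  have h1 := inv_unique h h' (conj_invol D.t2t2) (conj_invol D.t3t3) (conj_ne_one D.t2_ne)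
    (conj_ne_one D.t3_ne)
  apply D.Bne (r⁻¹ * q) (D.B.mul_mem (D.B.inv_mem hr) hq)
  calc r⁻¹ * q * D.t2 * (r⁻¹ * q)⁻¹ = r⁻¹ * (q * D.t2 * q⁻¹) * r := by group
    _ = D.t3 := by rw [h1]; group

variable [Fintype H]

open scoped Classical in
theorem sum_E_Q (ξ : D.Q →* ℂˣ) (ψ : H → ℂ) (hψ : ∀ g x, ψ (g * x * g⁻¹) = ψ x) :
    ∑ x : H, (if D.E x then X D.Q ξ x * ψ x else 0) = (Nat.card H : ℂ) / (Nat.card D.T : ℂ) *
      ∑ x : H, (if D.t2 ∈ Subgroup.zpowers x then ez D.Q ξ x * ψ x else 0) := by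
  have hQ : (Nat.card D.Q : ℂ) ≠ 0 := by exact_mod_cast Nat.card_pos.ne'
  have h1 := sum_indFun_mul D.Q (fun x => (ξ x : ℂ)) (fun x => if D.E x then ψ x else 0) (by
    intro g x
    simp only [E_conj, hψ])
  have h2 := sum_conj D.Q D.T D.TQ D.t2 D.t2t2 D.t2_ne D.Qcent_iff (fun x => ez D.Q ξ x * ψ x) (by
    intro q hq x
    simp only [hψ, ez_conj D.Q ξ hq])
  have e1 : ∑ x : H, (if D.E x then X D.Q ξ x * ψ x else 0) =
      ∑ x : H, indFun D.Q (fun x => (ξ x : ℂ)) x * (if D.E x then ψ x else 0) := by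
    refine Finset.sum_congr rfl fun x _ => ?_
    split_ifs
    · rfl
    · rw [mul_zero]
  have e2 : ∑ x : H, extendByZero D.Q (fun x => (ξ x : ℂ)) x * (if D.E x then ψ x else 0) =
      ∑ x : H, (if ∃ q ∈ D.Q, q * D.t2 * q⁻¹ ∈ Subgroup.zpowers x then ez D.Q ξ x * ψ x else 0) := by
    refine Finset.sum_congr rfl fun x _ => ?_
    by_cases hx : x ∈ D.Q
    · simp only [D.E_iff_Q hx]
      split_ifs
      · rfl
      · rw [mul_zero]
    · have : extendByZero D.Q (fun x => (ξ x : ℂ)) x = 0 := ez_notMem D.Q ξ hx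
      rw [this, zero_mul]
      split_ifs
      · rw [ez_notMem D.Q ξ hx, zero_mul]
      · rfl
  rw [e1, h1, e2, h2]
  field_simp

open scoped Classical in
theorem sum_E_B (ξ : D.B →* ℂˣ) (ψ : H → ℂ) (hψ : ∀ g x, ψ (g * x * g⁻¹) = ψ x) :
    ∑ x : H, (if D.E x then X D.B ξ x * ψ x else 0) = (Nat.card H : ℂ) / (Nat.card D.T : ℂ) *
      (∑ x : H, (if D.t2 ∈ Subgroup.zpowers x then ez D.B ξ x * ψ x else 0) +
        ∑ x : H, (if D.t3 ∈ Subgroup.zpowers x then ez D.B ξ x * ψ x else 0)) := by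
  have hB : (Nat.card D.B : ℂ) ≠ 0 := by exact_mod_cast Nat.card_pos.ne'
  have h1 := sum_indFun_mul D.B (fun x => (ξ x : ℂ)) (fun x => if D.E x then ψ x else 0) (by
    intro g x
    simp only [E_conj, hψ])
  have h2 := sum_conj D.B D.T D.TB D.t2 D.t2t2 D.t2_ne D.Bcent_iff (fun x => ez D.B ξ x * ψ x) (by
    intro q hq x
    simp only [hψ, ez_conj D.B ξ hq])
  have h3 := sum_conj D.B D.T D.TB D.t3 D.t3t3 D.t3_ne D.Bcent_iff3 (fun x => ez D.B ξ x * ψ x) (by
    intro q hq x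
    simp only [hψ, ez_conj D.B ξ hq])
  have e1 : ∑ x : H, (if D.E x then X D.B ξ x * ψ x else 0) =
      ∑ x : H, indFun D.B (fun x => (ξ x : ℂ)) x * (if D.E x then ψ x else 0) := by
    refine Finset.sum_congr rfl fun x _ => ?_
    split_ifs
    · rfl
    · rw [mul_zero]
  have e2 : ∑ x : H, extendByZero D.B (fun x => (ξ x : ℂ)) x * (if D.E x then ψ x else 0) =
      ∑ x : H, (if ∃ q ∈ D.B, q * D.t2 * q⁻¹ ∈ Subgroup.zpowers x then ez D.B ξ x * ψ x else 0) +
      ∑ x : H, (if ∃ q ∈ D.B, q * D.t3 * q⁻¹ ∈ Subgroup.zpowers x then ez D.B ξ x * ψ x else 0) := by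
    rw [← Finset.sum_add_distrib]
    refine Finset.sum_congr rfl fun x _ => ?_
    by_cases hx : x ∈ D.B
    · simp only [D.E_iff_B hx]
      by_cases c1 : ∃ q ∈ D.B, q * D.t2 * q⁻¹ ∈ Subgroup.zpowers x
      · have c2 : ¬ ∃ q ∈ D.B, q * D.t3 * q⁻¹ ∈ Subgroup.zpowers x := fun h => D.not_both c1 h
        rw [if_pos (Or.inl c1), if_pos c1, if_neg c2, add_zero]
        rfl
      · by_cases c2 : ∃ q ∈ D.B, q * D.t3 * q⁻¹ ∈ Subgroup.zpowers x
        · rw [if_pos (Or.inr c2), if_neg c1, if_pos c2, zero_add]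
          rfl
        · rw [if_neg (not_or.2 ⟨c1, c2⟩), if_neg c1, if_neg c2, mul_zero, add_zero]
    · have : extendByZero D.B (fun x => (ξ x : ℂ)) x = 0 := ez_notMem D.B ξ hx
      rw [this, zero_mul, ez_notMem D.B ξ hx, zero_mul]
      simp
  rw [e1, h1, e2, h2, h3]
  field_simp

/-- `ζ = λ - μ` -/
noncomputable def z (x : H) : ℂ := ez D.Q D.lam x - ez D.Q D.mu x

/-- `ζ₁ = λ₁ - μ₁` -/
noncomputable def z1 (x : H) : ℂ := ez D.B D.lam1 x - ez D.B D.mu1 x

open scoped Classical in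
/-- the `E` part of a scalar product with `F` -/
theorem sum_E (ψ : H → ℂ) (hψ : ∀ g x, ψ (g * x * g⁻¹) = ψ x) :
    ∑ x : H, (if D.E x then D.F x * ψ x else 0) = (Nat.card H : ℂ) / (Nat.card D.T : ℂ) *
      (∑ x : H, (if D.t2 ∈ Subgroup.zpowers x then D.z x * ψ x else 0) +
        (∑ x : H, (if D.t2 ∈ Subgroup.zpowers x then D.z1 x * ψ x else 0) +
        ∑ x : H, (if D.t3 ∈ Subgroup.zpowers x then D.z1 x * ψ x else 0))) := by
  have a1 := D.sum_E_Q D.lam ψ hψ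
  have a2 := D.sum_E_Q D.mu ψ hψ
  have a3 := D.sum_E_B D.lam1 ψ hψ
  have a4 := D.sum_E_B D.mu1 ψ hψ
  have e1 : ∑ x : H, (if D.E x then D.F x * ψ x else 0) =
      ∑ x : H, (if D.E x then X D.Q D.lam x * ψ x else 0) - ∑ x : H, (if D.E x then X D.Q D.mu x * ψ x else 0) +
      (∑ x : H, (if D.E x then X D.B D.lam1 x * ψ x else 0) - ∑ x : H, (if D.E x then X D.B D.mu1 x * ψ x else 0)) := by
    rw [← Finset.sum_sub_distrib, ← Finset.sum_sub_distrib, ← Finset.sum_add_distrib]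
    refine Finset.sum_congr rfl fun x _ => ?_
    split_ifs
    · simp only [F, Pi.add_apply, Pi.sub_apply]; ring
    · ring
  have e2 : ∀ (P : H → Prop) (u v : H → ℂ), ∑ x : H, (if P x then (u x - v x) * ψ x else 0) =
      ∑ x : H, (if P x then u x * ψ x else 0) - ∑ x : H, (if P x then v x * ψ x else 0) := by
    intro P u v
    rw [← Finset.sum_sub_distrib]
    refine Finset.sum_congr rfl fun x _ => ?_
    split_ifs <;> ring
  rw [e1, a1, a2, a3, a4]
  simp only [z, z1]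
  rw [e2, e2, e2]
  ring

open scoped Classical in
/-- value of an induced character at an element with the involution `s` among its powers -/
theorem X_apply (R : Subgroup H) (ξ : R →* ℂˣ) (S : H → Prop)
    (hS : ∀ y ∈ R, y * y = 1 → y ≠ 1 → y ≠ D.t → ∃ b ∈ R, ∀ q ∈ R, S (q⁻¹ * y * q) ↔ b⁻¹ * q ∈ D.T)
    (hT : D.T ≤ R) {x s : H} (hs : s ∈ Subgroup.zpowers x) (h1 : s * s = 1) (h2 : s ≠ 1) (h3 : s ≠ D.t) :
    X R ξ x = (Nat.card D.T : ℂ)⁻¹ * ∑ c : H, (if S (c⁻¹ * s * c) then ez R ξ (c⁻¹ * x * c) else 0) := by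
  have hR0 : (Nat.card R : ℂ) ≠ 0 := by exact_mod_cast Nat.card_pos.ne'
  have hT0 : (Nat.card D.T : ℂ) ≠ 0 := by exact_mod_cast Nat.card_pos.ne'
  have key : ∀ g : H, ∑ q : R, (if S ((g * q)⁻¹ * s * (g * q)) then ez R ξ ((g * q)⁻¹ * x * (g * q)) else 0) =
      (Nat.card D.T : ℂ) * ez R ξ (g⁻¹ * x * g) := by
    intro g
    have e1 : ∀ q : R, ez R ξ ((g * q)⁻¹ * x * (g * q)) = ez R ξ (g⁻¹ * x * g) := by
      intro q
      have h := ez_conj R ξ (R.inv_mem q.2) (g⁻¹ * x * g)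
      rw [inv_inv] at h
      rw [← h]
      congr 1
      group
    simp only [e1]
    by_cases hx : g⁻¹ * x * g ∈ R
    · have hsR : g⁻¹ * s * g ∈ R := by
        apply zp_le hx
        rw [zpowers_conj_mem]
        have : g * (g⁻¹ * s * g) * g⁻¹ = s := by group
        rwa [this]
      have i1 : g⁻¹ * s * g * (g⁻¹ * s * g) = 1 := by
        have := conj_invol (g := g⁻¹) h1
        rwa [inv_inv] at this
      have i2 : g⁻¹ * s * g ≠ 1 := by
        have := conj_ne_one (g := g⁻¹) h2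
        rwa [inv_inv] at this
      have i3 : g⁻¹ * s * g ≠ D.t := by
        have := D.conj_ne_t (g := g⁻¹) h3
        rwa [inv_inv] at this
      obtain ⟨b, hb, hbq⟩ := hS _ hsR i1 i2 i3
      have hset : (Finset.univ.filter fun q : R => S ((g * q)⁻¹ * s * (g * q))) =
          Finset.univ.map ⟨fun τ : D.T => (⟨b * τ, R.mul_mem hb (hT τ.2)⟩ : R), by
            intro a c hac
            have : b * (a : H) = b * c := congrArg Subtype.val hac
            exact Subtype.ext (mul_left_cancel this)⟩ := by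
        ext q
        simp only [Finset.mem_filter, Finset.mem_univ, true_and, Finset.mem_map]
        have e3 : (g * (q : H))⁻¹ * s * (g * q) = (q : H)⁻¹ * (g⁻¹ * s * g) * q := by group
        rw [e3, hbq q q.2]
        constructor
        · intro h
          refine ⟨⟨_, h⟩, Subtype.ext ?_⟩
          change b * (b⁻¹ * (q : H)) = q
          group
        · rintro ⟨τ, rfl⟩
          change b⁻¹ * (b * (τ : H)) ∈ D.T
          rw [inv_mul_cancel_left]
          exact τ.2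
      rw [← Finset.sum_filter, Finset.sum_const, hset, Finset.card_map, Finset.card_univ, nsmul_eq_mul,
        Nat.card_eq_fintype_card]
    · rw [ez_notMem R ξ hx, mul_zero]
      simp
  have h4 : ∑ g : H, ∑ q : R, (if S ((g * q)⁻¹ * s * (g * q)) then ez R ξ ((g * q)⁻¹ * x * (g * q)) else 0) =
      (Nat.card R : ℂ) * ∑ c : H, (if S (c⁻¹ * s * c) then ez R ξ (c⁻¹ * x * c) else 0) := by
    rw [Finset.sum_comm]
    have : ∀ q : R, ∑ g : H, (if S ((g * q)⁻¹ * s * (g * q)) then ez R ξ ((g * q)⁻¹ * x * (g * q)) else 0) =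
        ∑ c : H, (if S (c⁻¹ * s * c) then ez R ξ (c⁻¹ * x * c) else 0) := by
      intro q
      exact Equiv.sum_comp (Equiv.mulRight (q : H)) (fun c => if S (c⁻¹ * s * c) then ez R ξ (c⁻¹ * x * c) else 0)
    rw [Finset.sum_congr rfl fun q _ => this q, Finset.sum_const, Finset.card_univ, nsmul_eq_mul,
      Nat.card_eq_fintype_card]
  rw [Finset.sum_congr rfl fun g _ => key g, ← Finset.mul_sum] at h4
  have h5 : ∑ c : H, (if S (c⁻¹ * s * c) then ez R ξ (c⁻¹ * x * c) else 0) =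
      (Nat.card R : ℂ)⁻¹ * ((Nat.card D.T : ℂ) * ∑ g : H, ez R ξ (g⁻¹ * x * g)) := by
    rw [h4, ← mul_assoc, inv_mul_cancel₀ hR0, one_mul]
  rw [X_def, h5]
  calc (Nat.card R : ℂ)⁻¹ * ∑ g : H, ez R ξ (g⁻¹ * x * g)
      = ((Nat.card D.T : ℂ)⁻¹ * (Nat.card D.T : ℂ)) * ((Nat.card R : ℂ)⁻¹ * ∑ g : H, ez R ξ (g⁻¹ * x * g)) := by
        rw [inv_mul_cancel₀ hT0, one_mul]
    _ = _ := by ring

open scoped Classical in
theorem X_apply_Q (ξ : D.Q →* ℂˣ) {x s : H} (hs : s ∈ Subgroup.zpowers x) (h1 : s * s = 1) (h2 : s ≠ 1)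
    (h3 : s ≠ D.t) : X D.Q ξ x = (Nat.card D.T : ℂ)⁻¹ *
      ∑ c : H, (if c⁻¹ * s * c = D.t2 then ez D.Q ξ (c⁻¹ * x * c) else 0) := by
  apply D.X_apply D.Q ξ (fun y => y = D.t2) _ D.TQ hs h1 h2 h3
  intro y hy y1 y2 y3
  obtain ⟨b, hb, rfl⟩ := D.Qinv y hy y1 y2 y3
  refine ⟨b, hb, fun q hq => ?_⟩
  rw [← D.Qcent_iff _ (D.Q.mul_mem (D.Q.inv_mem hb) hq)]
  constructor
  · intro h
    calc b⁻¹ * q * D.t2 = b⁻¹ * q * (q⁻¹ * (b * D.t2 * b⁻¹) * q) := by rw [h]
      _ = D.t2 * (b⁻¹ * q) := by group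
  · intro h
    calc q⁻¹ * (b * D.t2 * b⁻¹) * q = q⁻¹ * b * (D.t2 * (b⁻¹ * q)) := by group
      _ = D.t2 := by rw [← h]; group

omit [Fintype H] in
/-- `t2` or `t3` -/
def R23 (y : H) : Prop := y = D.t2 ∨ y = D.t3

open scoped Classical in
theorem X_apply_B (ξ : D.B →* ℂˣ) {x s : H} (hs : s ∈ Subgroup.zpowers x) (h1 : s * s = 1) (h2 : s ≠ 1)
    (h3 : s ≠ D.t) : X D.B ξ x = (Nat.card D.T : ℂ)⁻¹ *
      ∑ c : H, (if D.R23 (c⁻¹ * s * c) then ez D.B ξ (c⁻¹ * x * c) else 0) := by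
  apply D.X_apply D.B ξ D.R23 _ D.TB hs h1 h2 h3
  intro y hy y1 y2 y3
  rcases D.Binv y hy y1 y2 y3 with ⟨b, hb, rfl⟩ | ⟨b, hb, rfl⟩
  · refine ⟨b, hb, fun q hq => ?_⟩
    rw [← D.Bcent_iff _ (D.B.mul_mem (D.B.inv_mem hb) hq)]
    constructor
    · rintro (h | h)
      · calc b⁻¹ * q * D.t2 = b⁻¹ * q * (q⁻¹ * (b * D.t2 * b⁻¹) * q) := by rw [h]
          _ = D.t2 * (b⁻¹ * q) := by group
      · exfalso
        apply D.Bne (q⁻¹ * b) (D.B.mul_mem (D.B.inv_mem hq) hb)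
        rw [← h]; group
    · intro h
      left
      calc q⁻¹ * (b * D.t2 * b⁻¹) * q = q⁻¹ * b * (D.t2 * (b⁻¹ * q)) := by group
        _ = D.t2 := by rw [← h]; group
  · refine ⟨b, hb, fun q hq => ?_⟩
    rw [← D.Bcent_iff3 _ (D.B.mul_mem (D.B.inv_mem hb) hq)]
    constructor
    · rintro (h | h)
      · exfalso
        apply D.Bne (b⁻¹ * q) (D.B.mul_mem (D.B.inv_mem hb) hq)
        rw [← h]; group
      · calc b⁻¹ * q * D.t3 = b⁻¹ * q * (q⁻¹ * (b * D.t3 * b⁻¹) * q) := by rw [h]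
          _ = D.t3 * (b⁻¹ * q) := by group
    · intro h
      right
      calc q⁻¹ * (b * D.t3 * b⁻¹) * q = q⁻¹ * b * (D.t3 * (b⁻¹ * q)) := by group
        _ = D.t3 := by rw [← h]; group

open scoped Classical in
/-- value of `F` at an element with the involution `s ≠ t` among its powers -/
theorem F_apply {x s : H} (hs : s ∈ Subgroup.zpowers x) (h1 : s * s = 1) (h2 : s ≠ 1) (h3 : s ≠ D.t) :
    D.F x = (Nat.card D.T : ℂ)⁻¹ *
      (∑ c : H, (if c⁻¹ * s * c = D.t2 then D.z (c⁻¹ * x * c) else 0) +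
      ∑ c : H, (if D.R23 (c⁻¹ * s * c) then D.z1 (c⁻¹ * x * c) else 0)) := by
  have e2 : ∀ (P : H → Prop) (u v : H → ℂ), ∑ x : H, (if P x then (u x - v x) else 0) =
      ∑ x : H, (if P x then u x else 0) - ∑ x : H, (if P x then v x else 0) := by
    intro P u v
    rw [← Finset.sum_sub_distrib]
    refine Finset.sum_congr rfl fun x _ => ?_
    split_ifs <;> ring
  simp only [z, z1]
  rw [e2 (fun c => c⁻¹ * s * c = D.t2) (fun c => ez D.Q D.lam (c⁻¹ * x * c)) (fun c => ez D.Q D.mu (c⁻¹ * x * c)),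
    e2 (fun c => D.R23 (c⁻¹ * s * c)) (fun c => ez D.B D.lam1 (c⁻¹ * x * c))
      (fun c => ez D.B D.mu1 (c⁻¹ * x * c))]
  simp only [F, Pi.add_apply, Pi.sub_apply]
  rw [D.X_apply_Q D.lam hs h1 h2 h3, D.X_apply_Q D.mu hs h1 h2 h3, D.X_apply_B D.lam1 hs h1 h2 h3,
    D.X_apply_B D.mu1 hs h1 h2 h3]
  ring

end CData

end Cfsg.Agent.GTwoOdd.GamC

private theorem dce_81b23379a7a8 : _root_.True := by
  try have : _root_.True := by simp only [_root_.Cfsg.Agent.GTwoOdd.GamC.CData.z.eq_1]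
  try have : _root_.True := by simp only [_root_.Cfsg.Agent.GTwoOdd.GamC.CData.z1.eq_1]
  exact _root_.True.intro
end

-- part: GTwoOdd/GamI
section
set_option linter.all false
open scoped Cfsg.Agent.FastGrp

/-!
# Sums over pairs of involutions of the centraliser
-/

set_option autoImplicit false

open Cfsg
open scoped ComplexConjugate

namespace Cfsg.Agent.GTwoOdd.GamC

open Cfsg.Agent.GTwoOdd.GamSum

universe u
variable {H : Type u} [Group H]

open scoped Classical in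
/-- indicator of the involutions -/
noncomputable def ai (x : H) : ℂ := if x * x = 1 ∧ x ≠ 1 then 1 else 0

theorem ai_conj (x g : H) : ai (g * x * g⁻¹) = ai x := by
  unfold ai
  have h1 : g * x * g⁻¹ * (g * x * g⁻¹) = 1 ↔ x * x = 1 := by
    constructor
    · intro h
      calc x * x = g⁻¹ * (g * x * g⁻¹ * (g * x * g⁻¹)) * g := by group
        _ = 1 := by rw [h]; group
    · intro h
      calc g * x * g⁻¹ * (g * x * g⁻¹) = g * (x * x) * g⁻¹ := by group
        _ = 1 := by rw [h]; group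
  have h2 : g * x * g⁻¹ ≠ 1 ↔ x ≠ 1 := by
    rw [not_iff_not]
    constructor
    · intro h
      calc x = g⁻¹ * (g * x * g⁻¹) * g := by group
        _ = 1 := by rw [h]; group
    · rintro rfl
      group
  by_cases h : x * x = 1 ∧ x ≠ 1
  · rw [if_pos h, if_pos ⟨h1.2 h.1, h2.2 h.2⟩]
  · rw [if_neg h, if_neg (fun k => h ⟨h1.1 k.1, h2.1 k.2⟩)]

theorem zp_of_sq {x s : H} (hx : x * x = 1) (hs : s ∈ Subgroup.zpowers x) : s = 1 ∨ s = x := by
  obtain ⟨k, hk⟩ := Subgroup.mem_zpowers_iff.1 hs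
  have h2 : x ^ (2 : ℤ) = 1 := by rw [zpow_two]; exact hx
  rcases Int.even_or_odd' k with ⟨m, rfl | rfl⟩
  · left
    rw [← hk, zpow_mul, h2, one_zpow]
  · right
    rw [← hk, zpow_add, zpow_mul, h2, one_zpow, one_mul, zpow_one]

namespace CData

variable (D : CData H) [Fintype H]

/-- class sums of involutions in `Q` -/
theorem sum_inv_Q (ξ : D.Q →* ℂˣ) : ∑ x : H, ez D.Q ξ x * ai x =
    ez D.Q ξ D.t + (Nat.card D.Q : ℂ) / (Nat.card D.T : ℂ) * ez D.Q ξ D.t2 := by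
  classical
  have h2 := sum_conj D.Q D.T D.TQ D.t2 D.t2t2 D.t2_ne D.Qcent_iff (fun x => ez D.Q ξ x * ai x) (by
    intro q hq x
    simp only [ai_conj, ez_conj D.Q ξ hq])
  have e1 : ∑ x : H, ez D.Q ξ x * ai x = ∑ x : H, (if x = D.t then ez D.Q ξ x else 0) +
      ∑ x : H, (if ∃ q ∈ D.Q, q * D.t2 * q⁻¹ ∈ Subgroup.zpowers x then ez D.Q ξ x * ai x else 0) := by
    rw [← Finset.sum_add_distrib]
    refine Finset.sum_congr rfl fun x _ => ?_
    by_cases hx : x ∈ D.Q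
    · by_cases hai : x * x = 1 ∧ x ≠ 1
      · have ha : ai x = 1 := by unfold ai; rw [if_pos hai]
        by_cases hxt : x = D.t
        · have hn : ¬ ∃ q ∈ D.Q, q * D.t2 * q⁻¹ ∈ Subgroup.zpowers x := by
            rintro ⟨q, hq, h⟩
            rcases zp_of_sq hai.1 h with h | h
            · exact conj_ne_one D.t2_ne h
            · exact D.conj_ne_t D.t2_ne_t (h.trans hxt)
          rw [if_pos hxt, if_neg hn, ha, mul_one, add_zero]
        · obtain ⟨q, hq, hq'⟩ := D.Qinv x hx hai.1 hai.2 hxt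
          have hp : ∃ q ∈ D.Q, q * D.t2 * q⁻¹ ∈ Subgroup.zpowers x :=
            ⟨q, hq, by rw [hq']; exact Subgroup.mem_zpowers x⟩
          rw [if_neg hxt, if_pos hp, zero_add]
      · have ha : ai x = 0 := by unfold ai; rw [if_neg hai]
        have hxt : x ≠ D.t := by
          rintro rfl
          exact hai ⟨D.tt, D.t1⟩
        rw [ha, mul_zero, if_neg hxt]
        simp
    · have hxt : x ≠ D.t := by
        rintro rfl
        exact hx (D.TQ D.t_mem)
      rw [ez_notMem D.Q ξ hx, zero_mul, if_neg hxt]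
      simp
  have e2 : ∑ x : H, (if D.t2 ∈ Subgroup.zpowers x then ez D.Q ξ x * ai x else 0) = ez D.Q ξ D.t2 := by
    rw [Finset.sum_eq_single D.t2]
    · rw [if_pos (Subgroup.mem_zpowers _)]
      unfold ai
      rw [if_pos ⟨D.t2t2, D.t2_ne⟩, mul_one]
    · intro x _ hx
      split_ifs with h
      · have : ai x = 0 := by
          unfold ai
          rw [if_neg]
          rintro ⟨h1, h2⟩
          rcases zp_of_sq h1 h with h3 | h3
          · exact D.t2_ne h3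
          · exact hx h3.symm
        rw [this, mul_zero]
      · rfl
    · intro h
      exact absurd (Finset.mem_univ _) h
  rw [e1, h2, e2]
  simp

/-- class sums of involutions in `B` -/
theorem sum_inv_B (ξ : D.B →* ℂˣ) : ∑ x : H, ez D.B ξ x * ai x =
    ez D.B ξ D.t + (Nat.card D.B : ℂ) / (Nat.card D.T : ℂ) * (ez D.B ξ D.t2 + ez D.B ξ D.t3) := by
  classical
  have h2 := sum_conj D.B D.T D.TB D.t2 D.t2t2 D.t2_ne D.Bcent_iff (fun x => ez D.B ξ x * ai x) (by
    intro q hq x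
    simp only [ai_conj, ez_conj D.B ξ hq])
  have h3 := sum_conj D.B D.T D.TB D.t3 D.t3t3 D.t3_ne D.Bcent_iff3 (fun x => ez D.B ξ x * ai x) (by
    intro q hq x
    simp only [ai_conj, ez_conj D.B ξ hq])
  have e1 : ∑ x : H, ez D.B ξ x * ai x = ∑ x : H, (if x = D.t then ez D.B ξ x else 0) +
      (∑ x : H, (if ∃ q ∈ D.B, q * D.t2 * q⁻¹ ∈ Subgroup.zpowers x then ez D.B ξ x * ai x else 0) +
      ∑ x : H, (if ∃ q ∈ D.B, q * D.t3 * q⁻¹ ∈ Subgroup.zpowers x then ez D.B ξ x * ai x else 0)) := by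
    rw [← Finset.sum_add_distrib, ← Finset.sum_add_distrib]
    refine Finset.sum_congr rfl fun x _ => ?_
    by_cases hx : x ∈ D.B
    · by_cases hai : x * x = 1 ∧ x ≠ 1
      · have ha : ai x = 1 := by unfold ai; rw [if_pos hai]
        by_cases hxt : x = D.t
        · have hn : ¬ ∃ q ∈ D.B, q * D.t2 * q⁻¹ ∈ Subgroup.zpowers x := by
            rintro ⟨q, hq, h⟩
            rcases zp_of_sq hai.1 h with h | h
            · exact conj_ne_one D.t2_ne h
            · exact D.conj_ne_t D.t2_ne_t (h.trans hxt)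
          have hn' : ¬ ∃ q ∈ D.B, q * D.t3 * q⁻¹ ∈ Subgroup.zpowers x := by
            rintro ⟨q, hq, h⟩
            rcases zp_of_sq hai.1 h with h | h
            · exact conj_ne_one D.t3_ne h
            · exact D.conj_ne_t D.t3_ne_t (h.trans hxt)
          rw [if_pos hxt, if_neg hn, if_neg hn', ha, mul_one, add_zero, add_zero]
        · rcases D.Binv x hx hai.1 hai.2 hxt with ⟨q, hq, hq'⟩ | ⟨q, hq, hq'⟩
          · have hp : ∃ q ∈ D.B, q * D.t2 * q⁻¹ ∈ Subgroup.zpowers x :=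
              ⟨q, hq, by rw [hq']; exact Subgroup.mem_zpowers x⟩
            rw [if_neg hxt, if_pos hp, if_neg (fun h => D.not_both hp h), zero_add, add_zero]
          · have hp : ∃ q ∈ D.B, q * D.t3 * q⁻¹ ∈ Subgroup.zpowers x :=
              ⟨q, hq, by rw [hq']; exact Subgroup.mem_zpowers x⟩
            rw [if_neg hxt, if_pos hp, if_neg (fun h => D.not_both h hp), zero_add, zero_add]
      · have ha : ai x = 0 := by unfold ai; rw [if_neg hai]
        have hxt : x ≠ D.t := by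
          rintro rfl
          exact hai ⟨D.tt, D.t1⟩
        rw [ha, mul_zero, if_neg hxt]
        simp
    · have hxt : x ≠ D.t := by
        rintro rfl
        exact hx (D.TB D.t_mem)
      rw [ez_notMem D.B ξ hx, zero_mul, if_neg hxt]
      simp
  have e2 : ∀ s : H, s * s = 1 → s ≠ 1 →
      ∑ x : H, (if s ∈ Subgroup.zpowers x then ez D.B ξ x * ai x else 0) = ez D.B ξ s := by
    intro s ss s1
    rw [Finset.sum_eq_single s]
    · rw [if_pos (Subgroup.mem_zpowers _)]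
      unfold ai
      rw [if_pos ⟨ss, s1⟩, mul_one]
    · intro x _ hx
      split_ifs with h
      · have : ai x = 0 := by
          unfold ai
          rw [if_neg]
          rintro ⟨h1, h2⟩
          rcases zp_of_sq h1 h with h3 | h3
          · exact s1 h3
          · exact hx h3.symm
        rw [this, mul_zero]
      · rfl
    · intro h
      exact absurd (Finset.mem_univ _) h
  rw [e1, h2, h3, e2 _ D.t2t2 D.t2_ne, e2 _ D.t3t3 D.t3_ne]
  simp only [Finset.sum_ite_eq', Finset.mem_univ, if_true]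
  ring

omit D in
theorem X_one (Q : Subgroup H) (ξ : Q →* ℂˣ) : X Q ξ 1 = (Nat.card H : ℂ) / (Nat.card Q : ℂ) := by
  have hQ0 : (Nat.card Q : ℂ) ≠ 0 := by exact_mod_cast Nat.card_pos.ne'
  have h := Cfsg.Agent.OddOrderCharacters.PF9.Mackey.indFun_lin_apply_one Q ξ
  have e : X Q ξ 1 = (Q.index : ℂ) := h
  rw [e, eq_div_iff hQ0]
  exact_mod_cast Q.index_mul_card

omit D in
theorem X_central (Q : Subgroup H) (ξ : Q →* ℂˣ) {t : H} (ht : ∀ x, x * t = t * x) :
    X Q ξ t = (Nat.card H : ℂ) / (Nat.card Q : ℂ) * ez Q ξ t := by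
  rw [X_def]
  have : ∀ g : H, ez Q ξ (g⁻¹ * t * g) = ez Q ξ t := by
    intro g
    have : g⁻¹ * t * g = t := by
      rw [mul_assoc, ← ht g]; group
    rw [this]
  rw [Finset.sum_congr rfl fun g _ => this g, Finset.sum_const, Finset.card_univ, nsmul_eq_mul,
    Nat.card_eq_fintype_card (α := H)]
  ring

/-- `F(t)` -/
theorem F_t : D.F D.t = 2 * ((Nat.card H : ℂ) / (Nat.card D.B : ℂ)) := by
  simp only [F, Pi.add_apply, Pi.sub_apply]
  rw [X_central _ _ D.tc, X_central _ _ D.tc, X_central _ _ D.tc, X_central _ _ D.tc, D.lam_t, D.mu_t,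
    D.lam1_t, D.mu1_t]
  ring

omit D in
theorem pair_sum (Q : Subgroup H) (ξ : Q →* ℂˣ) (hirr : IsIrrCharacter H (X Q ξ)) :
    ∑ i : H, ∑ j : H, ai i * ai j * X Q ξ (i * j) =
      (Nat.card H : ℂ) / (Nat.card Q : ℂ) * (∑ x : H, ez Q ξ x * ai x) ^ 2 := by
  have hH0 : (Nat.card H : ℂ) ≠ 0 := by exact_mod_cast Nat.card_pos.ne'
  have hQ0 : (Nat.card Q : ℂ) ≠ 0 := by exact_mod_cast Nat.card_pos.ne'
  rw [sum_sum_mul hirr ai ai_conj, X_one]
  have h1 : ∑ i : H, ai i * X Q ξ i = (Nat.card H : ℂ) / (Nat.card Q : ℂ) * ∑ x : H, ez Q ξ x * ai x := by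
    have h := sum_indFun_mul Q (fun x => (ξ x : ℂ)) ai (fun g x => ai_conj x g)
    have e : ∑ i : H, ai i * X Q ξ i = ∑ x : H, indFun Q (fun x => (ξ x : ℂ)) x * ai x := by
      refine Finset.sum_congr rfl fun x _ => ?_
      rw [mul_comm]; rfl
    rw [e, h]
    rfl
  rw [h1]
  field_simp

/-- sum of `F` over the products of two involutions -/
theorem pair_F : ∑ i : H, ∑ j : H, ai i * ai j * D.F (i * j) =
    (Nat.card H : ℂ) / (Nat.card D.T : ℂ) * (8 + 4 * ((Nat.card D.B : ℂ) / (Nat.card D.T : ℂ))) := by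
  have hH0 : (Nat.card H : ℂ) ≠ 0 := by exact_mod_cast Nat.card_pos.ne'
  have hQ0 : (Nat.card D.Q : ℂ) ≠ 0 := by exact_mod_cast Nat.card_pos.ne'
  have hB0 : (Nat.card D.B : ℂ) ≠ 0 := by exact_mod_cast Nat.card_pos.ne'
  have hT0 : (Nat.card D.T : ℂ) ≠ 0 := by exact_mod_cast Nat.card_pos.ne'
  have e1 : ∑ i : H, ∑ j : H, ai i * ai j * D.F (i * j) =
      ∑ i : H, ∑ j : H, ai i * ai j * X D.Q D.lam (i * j) - ∑ i : H, ∑ j : H, ai i * ai j * X D.Q D.mu (i * j) +
      (∑ i : H, ∑ j : H, ai i * ai j * X D.B D.lam1 (i * j) -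
        ∑ i : H, ∑ j : H, ai i * ai j * X D.B D.mu1 (i * j)) := by
    simp only [← Finset.sum_sub_distrib, ← Finset.sum_add_distrib]
    refine Finset.sum_congr rfl fun i _ => Finset.sum_congr rfl fun j _ => ?_
    simp only [F, Pi.add_apply, Pi.sub_apply]
    ring
  rw [e1, pair_sum _ _ D.irr_lam, pair_sum _ _ D.irr_mu, pair_sum _ _ D.irr_lam1, pair_sum _ _ D.irr_mu1,
    D.sum_inv_Q, D.sum_inv_Q, D.sum_inv_B, D.sum_inv_B, D.lam_t, D.lam_t2, D.mu_t, D.mu_t2, D.lam1_t,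
    D.lam1_t2, D.lam1_t3, D.mu1_t, D.mu1_t2, D.mu1_t3]
  field_simp
  ring

/-- number of pairs of involutions with a given product -/
noncomputable def be (x : H) : ℂ := ∑ i : H, ai i * ai (i⁻¹ * x)

theorem be_conj (g x : H) : be (g * x * g⁻¹) = be x := by
  unfold be
  rw [← Equiv.sum_comp (MulAut.conj g).toEquiv]
  refine Finset.sum_congr rfl fun i _ => ?_
  have e3 : (MulAut.conj g).toEquiv i = g * i * g⁻¹ := rfl
  rw [e3, ai_conj]
  have : (g * i * g⁻¹)⁻¹ * (g * x * g⁻¹) = g * (i⁻¹ * x) * g⁻¹ := by group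
  rw [this, ai_conj]

theorem sum_F_be : ∑ x : H, D.F x * be x = ∑ i : H, ∑ j : H, ai i * ai j * D.F (i * j) := by
  unfold be
  simp only [Finset.mul_sum]
  rw [Finset.sum_comm]
  refine Finset.sum_congr rfl fun i _ => ?_
  rw [← Equiv.sum_comp (Equiv.mulLeft i)]
  refine Finset.sum_congr rfl fun j _ => ?_
  simp only [Equiv.coe_mulLeft]
  rw [inv_mul_cancel_left]
  ring

end CData

end Cfsg.Agent.GTwoOdd.GamC
end

-- part: GTwoOdd/GamG
section
prune_inst 0x80000000000000c010000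
set_option linter.all false
open scoped Cfsg.Agent.FastGrp

/-!
# The data in `G` and the data on the centraliser
-/

set_option autoImplicit false

open Cfsg
open scoped ComplexConjugate

namespace Cfsg.Agent.GTwoOdd.GamC

open Cfsg.Agent.GTwoOdd.GamSum

universe u

/-- the data in `G` -/
structure GData (G : Type u) [Group G] where
  /-- the involution -/
  t : G
  /-- the second involution -/
  t2 : G
  /-- the element of order `3` modulo `T` -/
  ρ : G
  /-- the first reflection -/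
  n1 : G
  /-- the element inverting `T` -/
  w : G
  /-- the torus -/
  T : Subgroup G
  /-- the Borel subgroup -/
  B : Subgroup G
  /-- the parabolic subgroup -/
  Q : Subgroup G
  /-- the first character -/
  lam : Q →* ℂˣ
  /-- the second character -/
  mu : Q →* ℂˣ
  /-- the conjugate of the first character -/
  lam1 : B →* ℂˣ
  /-- the conjugate of the second character -/
  mu1 : B →* ℂˣ
  tt : t * t = 1
  t1 : t ≠ 1
  t2t2 : t2 * t2 = 1
  t2_ne : t2 ≠ 1
  t2_ne_t : t2 ≠ t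
  TB : T ≤ B
  BQ : B ≤ Q
  QC : ∀ c ∈ Q, c * t = t * c
  t_mem : t ∈ T
  t2_mem : t2 ∈ T
  comm : ∀ x ∈ T, ∀ y ∈ T, x * y = y * x
  Tinv : ∀ x ∈ T, x * x = 1 → x = 1 ∨ x = t ∨ x = t2 ∨ x = t * t2
  Qinv : ∀ s ∈ Q, s * s = 1 → s ≠ 1 → s ≠ t → ∃ q ∈ Q, q * t2 * q⁻¹ = s
  Qcent : ∀ q ∈ Q, q * t2 = t2 * q → q ∈ T
  Binv : ∀ s ∈ B, s * s = 1 → s ≠ 1 → s ≠ t →
    (∃ b ∈ B, b * t2 * b⁻¹ = s) ∨ ∃ b ∈ B, b * (t * t2) * b⁻¹ = s
  Bne : ∀ b ∈ B, b * t2 * b⁻¹ ≠ t * t2
  dec : ∀ c : G, c * t = t * c → ∃ b ∈ B, ∃ n, (∀ τ ∈ T, n * τ * n⁻¹ ∈ T) ∧ ∃ b' ∈ B, c = b * n * b'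
  ρt : ρ * t * ρ⁻¹ = t2
  ρt2 : ρ * t2 * ρ⁻¹ = t * t2
  ρT : ∀ τ ∈ T, ρ * τ * ρ⁻¹ ∈ T
  lam1_eq : ∀ τ ∈ T, ez B lam1 τ = ez Q lam (ρ * τ * ρ⁻¹)
  mu1_eq : ∀ τ ∈ T, ez B mu1 τ = ez Q mu (ρ * τ * ρ⁻¹)
  odd : ∀ x : G, (∀ s ∈ Subgroup.zpowers x, s * s = 1 → s = 1) → ez Q lam x = ez Q mu x
  odd1 : ∀ x : G, (∀ s ∈ Subgroup.zpowers x, s * s = 1 → s = 1) → ez B lam1 x = ez B mu1 x
  lam_t : ez Q lam t = 1
  lam_t2 : ez Q lam t2 = 1
  mu_t : ez Q mu t = 1
  mu_t2 : ez Q mu t2 = -1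
  n1Q : n1 ∈ Q
  n1t2 : n1 * t2 * n1⁻¹ = t * t2
  n1T : ∀ τ ∈ T, n1 * τ * n1⁻¹ ∈ T
  stab : ∀ n, (∀ τ ∈ T, n * τ * n⁻¹ ∈ T) → (∀ τ ∈ T, ez Q lam (n * τ * n⁻¹) = ez Q lam τ) →
    n ∈ T ∨ n * n1⁻¹ ∈ T
  stab' : ∀ n, (∀ τ ∈ T, n * τ * n⁻¹ ∈ T) → (∀ τ ∈ T, ez Q mu (n * τ * n⁻¹) = ez Q mu τ) →
    n ∈ T ∨ n * n1⁻¹ ∈ T
  Kn : ∀ c, c * t = t * c → (c * t2 * c⁻¹ = t2 ∨ c * t2 * c⁻¹ = t * t2) → ∀ τ ∈ T, c * τ * c⁻¹ ∈ T
  ww : w * w = 1
  wt : w * t = t * w
  w_inv : ∀ τ ∈ T, w * τ * w⁻¹ = τ⁻¹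
  w_nm : w ∉ T
  Kinv : ∀ i, i * t = t * i → i * t2 = t2 * i → i * i = 1 → i ∈ T ∨ i * w ∈ T
  cls : ∀ s, s * s = 1 → s ≠ 1 → ∃ g, g * t * g⁻¹ = s

namespace GData

variable {G : Type u} [Group G] (D : GData G)

/-- the centraliser of `t` -/
abbrev C : Subgroup G := Subgroup.centralizer ({D.t} : Set G)

theorem mem_C {x : G} : x ∈ D.C ↔ x * D.t = D.t * x := by
  rw [Subgroup.mem_centralizer_singleton_iff]

/-- the third involution -/
def t3 : G := D.t * D.t2

theorem t_t2 : D.t2 * D.t = D.t * D.t2 := D.comm _ D.t2_mem _ D.t_mem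

theorem TQ : D.T ≤ D.Q := D.TB.trans D.BQ

theorem QleC : D.Q ≤ D.C := fun _ hc => D.mem_C.2 (D.QC _ hc)

theorem BleC : D.B ≤ D.C := D.BQ.trans D.QleC

theorem TleC : D.T ≤ D.C := D.TB.trans D.BleC

/-- the inclusion of subgroups of the centraliser -/
def incl (Q : Subgroup G) : ↥(Q.subgroupOf D.C) →* ↥Q where
  toFun x := ⟨(x : D.C), Subgroup.mem_subgroupOf.1 x.2⟩
  map_one' := rfl
  map_mul' _ _ := rfl

theorem ez_incl (Q : Subgroup G) (ξ : Q →* ℂˣ) (y : D.C) :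
    ez (Q.subgroupOf D.C) (ξ.comp (D.incl Q)) y = ez Q ξ (y : G) := by
  by_cases h : (y : G) ∈ Q
  · rw [ez_mem Q ξ h, ez_mem _ _ (Subgroup.mem_subgroupOf.2 h)]
    rfl
  · rw [ez_notMem Q ξ h, ez_notMem _ _ (fun k => h (Subgroup.mem_subgroupOf.1 k))]

theorem zp_coe {x s : D.C} : s ∈ Subgroup.zpowers x ↔ (s : G) ∈ Subgroup.zpowers (x : G) := by
  constructor
  · intro h
    obtain ⟨k, rfl⟩ := Subgroup.mem_zpowers_iff.1 h
    exact Subgroup.mem_zpowers_iff.2 ⟨k, by simp⟩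
  · intro h
    obtain ⟨k, hk⟩ := Subgroup.mem_zpowers_iff.1 h
    refine Subgroup.mem_zpowers_iff.2 ⟨k, Subtype.ext ?_⟩
    simpa using hk

theorem sub_conj {x y : D.C} : ((x * y * x⁻¹ : D.C) : G) = (x : G) * y * (x : G)⁻¹ := rfl

theorem lift_norm {n : D.C} (h : ∀ τ ∈ D.T.subgroupOf D.C, n * τ * n⁻¹ ∈ D.T.subgroupOf D.C) :
    ∀ τ ∈ D.T, (n : G) * τ * (n : G)⁻¹ ∈ D.T := by
  intro τ hτ
  exact h ⟨τ, D.TleC hτ⟩ (Subgroup.mem_subgroupOf.2 hτ)

theorem ρ_surj [Finite G] {τ : G} (hτ : τ ∈ D.T) : ∃ σ ∈ D.T, D.ρ * σ * D.ρ⁻¹ = τ := by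
  have hle : D.T.map (MulAut.conj D.ρ).toMonoidHom ≤ D.T := by
    rintro _ ⟨x, hx, rfl⟩
    exact D.ρT x hx
  have heq : D.T.map (MulAut.conj D.ρ).toMonoidHom = D.T := by
    apply Subgroup.eq_of_le_of_card_ge hle
    rw [Subgroup.card_map_of_injective (MulAut.conj D.ρ).injective]
  rw [← heq] at hτ
  obtain ⟨x, hx, rfl⟩ := hτ
  exact ⟨x, hx, rfl⟩

theorem norm_inv [Finite G] {n : G} (h : ∀ τ ∈ D.T, n * τ * n⁻¹ ∈ D.T) : ∀ τ ∈ D.T, n⁻¹ * τ * n ∈ D.T := by
  intro τ hτ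
  have hle : D.T.map (MulAut.conj n).toMonoidHom ≤ D.T := by
    rintro _ ⟨x, hx, rfl⟩
    exact h x hx
  have heq : D.T.map (MulAut.conj n).toMonoidHom = D.T := by
    apply Subgroup.eq_of_le_of_card_ge hle
    rw [Subgroup.card_map_of_injective (MulAut.conj n).injective]
  rw [← heq] at hτ
  obtain ⟨x, hx, rfl⟩ := hτ
  have : n⁻¹ * (MulAut.conj n).toMonoidHom x * n = x := by
    change n⁻¹ * (n * x * n⁻¹) * n = x
    group
  rw [this]
  exact hx

theorem t3_ne_t2 : D.t * D.t2 ≠ D.t2 := by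
  intro h
  apply D.t1
  exact mul_right_cancel (h.trans (one_mul _).symm)

theorem t3_ne_t : D.t * D.t2 ≠ D.t := by
  intro h
  apply D.t2_ne
  exact mul_left_cancel (h.trans (mul_one _).symm)

theorem t3_ne : D.t * D.t2 ≠ 1 := by
  intro h
  apply D.t2_ne_t
  have : D.t * (D.t * D.t2) = D.t := by rw [h, mul_one]
  rw [← mul_assoc, D.tt, one_mul] at this
  exact this

theorem t3t3 : D.t * D.t2 * (D.t * D.t2) = 1 := by
  calc D.t * D.t2 * (D.t * D.t2) = D.t * (D.t2 * D.t) * D.t2 := by group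
    _ = (D.t * D.t) * (D.t2 * D.t2) := by rw [D.t_t2]; group
    _ = 1 := by rw [D.tt, D.t2t2, one_mul]

theorem ρt3 : D.ρ * (D.t * D.t2) * D.ρ⁻¹ = D.t := by
  calc D.ρ * (D.t * D.t2) * D.ρ⁻¹ = (D.ρ * D.t * D.ρ⁻¹) * (D.ρ * D.t2 * D.ρ⁻¹) := by group
    _ = D.t2 * (D.t * D.t2) := by rw [D.ρt, D.ρt2]
    _ = (D.t2 * D.t) * D.t2 := by group
    _ = D.t * (D.t2 * D.t2) := by rw [D.t_t2]; group
    _ = D.t := by rw [D.t2t2, mul_one]

theorem lam_t3 : ez D.Q D.lam (D.t * D.t2) = 1 := by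
  rw [ez_mul _ _ (D.TQ D.t_mem) (D.TQ D.t2_mem), D.lam_t, D.lam_t2, one_mul]

theorem mu_t3 : ez D.Q D.mu (D.t * D.t2) = -1 := by
  rw [ez_mul _ _ (D.TQ D.t_mem) (D.TQ D.t2_mem), D.mu_t, D.mu_t2, one_mul]

/-- an element of `C(t)` which normalises `T` permutes `t2`, `t3` -/
theorem perm23 {n : G} (hn : n * D.t = D.t * n) (h : ∀ τ ∈ D.T, n * τ * n⁻¹ ∈ D.T) :
    n * D.t2 * n⁻¹ = D.t2 ∨ n * D.t2 * n⁻¹ = D.t * D.t2 := by
  have h1 := D.Tinv _ (h _ D.t2_mem) (CData.conj_invol D.t2t2)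
  rcases h1 with h1 | h1 | h1
  · exact absurd h1 (CData.conj_ne_one D.t2_ne)
  · exfalso
    apply D.t2_ne_t
    calc D.t2 = n⁻¹ * (n * D.t2 * n⁻¹) * n := by group
      _ = n⁻¹ * (D.t * n) := by rw [h1]; group
      _ = D.t := by rw [← hn]; group
  · exact h1

/-- stabilisers are in `C(t)` -/
theorem stab_C {n : G} (h : n ∈ D.T ∨ n * D.n1⁻¹ ∈ D.T) : n ∈ D.Q := by
  rcases h with h | h
  · exact D.TQ h
  · have := D.Q.mul_mem (D.TQ h) D.n1Q
    rwa [inv_mul_cancel_right] at this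

theorem ρ_not {n : G} (hn : n * D.t = D.t * n) (h : D.ρ * n ∈ D.Q) : False := by
  have h1 := D.QC _ h
  apply D.t2_ne_t
  calc D.t2 = D.ρ * D.t * D.ρ⁻¹ := D.ρt.symm
    _ = D.ρ * (D.t * n) * n⁻¹ * D.ρ⁻¹ := by group
    _ = (D.ρ * n * D.t) * n⁻¹ * D.ρ⁻¹ := by rw [← hn]; group
    _ = D.t := by rw [h1]; group

/-- the stabiliser of a conjugate character -/
theorem stab1 [Finite G] {ξ : D.Q →* ℂˣ} {ξ1 : D.B →* ℂˣ} (heq : ∀ τ ∈ D.T, ez D.B ξ1 τ = ez D.Q ξ (D.ρ * τ * D.ρ⁻¹))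
    (hst : ∀ n, (∀ τ ∈ D.T, n * τ * n⁻¹ ∈ D.T) → (∀ τ ∈ D.T, ez D.Q ξ (n * τ * n⁻¹) = ez D.Q ξ τ) →
      n ∈ D.T ∨ n * D.n1⁻¹ ∈ D.T) {n : G} (hnt : n * D.t = D.t * n) (hn : ∀ τ ∈ D.T, n * τ * n⁻¹ ∈ D.T)
    (h : ∀ τ ∈ D.T, ez D.B ξ1 τ = ez D.B ξ1 (n * τ * n⁻¹)) : n ∈ D.B := by
  have hm : ∀ τ ∈ D.T, (D.ρ * n * D.ρ⁻¹) * τ * (D.ρ * n * D.ρ⁻¹)⁻¹ ∈ D.T := by
    intro τ hτ
    obtain ⟨σ, hσ, rfl⟩ := D.ρ_surj hτ
    have := D.ρT _ (hn _ hσ)
    have e : D.ρ * n * D.ρ⁻¹ * (D.ρ * σ * D.ρ⁻¹) * (D.ρ * n * D.ρ⁻¹)⁻¹ = D.ρ * (n * σ * n⁻¹) * D.ρ⁻¹ := by group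
    rwa [e]
  have hs := hst _ hm (by
    intro τ hτ
    obtain ⟨σ, hσ, rfl⟩ := D.ρ_surj hτ
    have e : D.ρ * n * D.ρ⁻¹ * (D.ρ * σ * D.ρ⁻¹) * (D.ρ * n * D.ρ⁻¹)⁻¹ = D.ρ * (n * σ * n⁻¹) * D.ρ⁻¹ := by group
    rw [e, ← heq _ (hn _ hσ), ← heq _ hσ, h σ hσ])
  rcases hs with hs | hs
  · have := D.norm_inv D.ρT _ hs
    have e : D.ρ⁻¹ * (D.ρ * n * D.ρ⁻¹) * D.ρ = n := by group
    rw [e] at this
    exact D.TB this
  · exfalso
    apply D.t3_ne_t2
    have h1 : D.ρ⁻¹ * D.t2 * D.ρ = D.t := by rw [← D.ρt]; group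
    have h2 : (D.ρ * n * D.ρ⁻¹) * D.t2 * (D.ρ * n * D.ρ⁻¹)⁻¹ = D.t2 := by
      calc (D.ρ * n * D.ρ⁻¹) * D.t2 * (D.ρ * n * D.ρ⁻¹)⁻¹ = D.ρ * (n * (D.ρ⁻¹ * D.t2 * D.ρ)) * n⁻¹ * D.ρ⁻¹ := by group
        _ = D.ρ * (D.t * n) * n⁻¹ * D.ρ⁻¹ := by rw [h1, hnt]
        _ = D.ρ * D.t * D.ρ⁻¹ := by group
        _ = D.t2 := D.ρt
    have h3 := D.comm _ hs _ (D.n1T _ D.t2_mem)
    calc D.t * D.t2 = D.n1 * D.t2 * D.n1⁻¹ := D.n1t2.symm
      _ = (D.ρ * n * D.ρ⁻¹ * D.n1⁻¹) * (D.n1 * D.t2 * D.n1⁻¹) * (D.ρ * n * D.ρ⁻¹ * D.n1⁻¹)⁻¹ := by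
        rw [h3]; group
      _ = (D.ρ * n * D.ρ⁻¹) * D.t2 * (D.ρ * n * D.ρ⁻¹)⁻¹ := by group
      _ = D.t2 := h2

/-- the data on the centraliser -/
noncomputable def toC [Finite G] : CData D.C where
  t := ⟨D.t, D.TleC D.t_mem⟩
  t2 := ⟨D.t2, D.TleC D.t2_mem⟩
  t3 := ⟨D.t, D.TleC D.t_mem⟩ * ⟨D.t2, D.TleC D.t2_mem⟩
  T := D.T.subgroupOf D.C
  B := D.B.subgroupOf D.C
  Q := D.Q.subgroupOf D.C
  lam := D.lam.comp (D.incl D.Q)
  mu := D.mu.comp (D.incl D.Q)
  lam1 := D.lam1.comp (D.incl D.B)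
  mu1 := D.mu1.comp (D.incl D.B)
  tt := Subtype.ext D.tt
  t1 := fun h => D.t1 (congrArg Subtype.val h)
  tc x := Subtype.ext (D.mem_C.1 x.2)
  t2t2 := Subtype.ext D.t2t2
  t2_ne := fun h => D.t2_ne (congrArg Subtype.val h)
  t2_ne_t := fun h => D.t2_ne_t (congrArg Subtype.val h)
  t3_eq := rfl
  TB := fun x hx => Subgroup.mem_subgroupOf.2 (D.TB (Subgroup.mem_subgroupOf.1 hx))
  BQ := fun x hx => Subgroup.mem_subgroupOf.2 (D.BQ (Subgroup.mem_subgroupOf.1 hx))
  t_mem := Subgroup.mem_subgroupOf.2 D.t_mem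
  t2_mem := Subgroup.mem_subgroupOf.2 D.t2_mem
  comm := fun x hx y hy => Subtype.ext (D.comm _ (Subgroup.mem_subgroupOf.1 hx) _ (Subgroup.mem_subgroupOf.1 hy))
  Qinv := by
    intro s hs h1 h2 h3
    obtain ⟨q, hq, h⟩ := D.Qinv _ (Subgroup.mem_subgroupOf.1 hs) (congrArg Subtype.val h1)
      (fun h => h2 (Subtype.ext h)) (fun h => h3 (Subtype.ext h))
    exact ⟨⟨q, D.QleC hq⟩, Subgroup.mem_subgroupOf.2 hq, Subtype.ext h⟩
  Qcent := by
    intro q hq h
    exact Subgroup.mem_subgroupOf.2 (D.Qcent _ (Subgroup.mem_subgroupOf.1 hq) (congrArg Subtype.val h))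
  Binv := by
    intro s hs h1 h2 h3
    rcases D.Binv _ (Subgroup.mem_subgroupOf.1 hs) (congrArg Subtype.val h1)
      (fun h => h2 (Subtype.ext h)) (fun h => h3 (Subtype.ext h)) with ⟨q, hq, h⟩ | ⟨q, hq, h⟩
    · exact Or.inl ⟨⟨q, D.BleC hq⟩, Subgroup.mem_subgroupOf.2 hq, Subtype.ext h⟩
    · exact Or.inr ⟨⟨q, D.BleC hq⟩, Subgroup.mem_subgroupOf.2 hq, Subtype.ext h⟩
  Bne := fun b hb h => D.Bne _ (Subgroup.mem_subgroupOf.1 hb) (congrArg Subtype.val h)
  dec := by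
    intro c
    obtain ⟨b, hb, n, hn, b', hb', h⟩ := D.dec c (D.mem_C.1 c.2)
    have hnC : n ∈ D.C := by
      have : n = b⁻¹ * (c : G) * b'⁻¹ := by rw [h]; group
      rw [this]
      exact D.C.mul_mem (D.C.mul_mem (D.C.inv_mem (D.BleC hb)) c.2) (D.C.inv_mem (D.BleC hb'))
    refine ⟨⟨b, D.BleC hb⟩, Subgroup.mem_subgroupOf.2 hb, ⟨n, hnC⟩, fun τ hτ => ?_, ⟨b', D.BleC hb'⟩,
      Subgroup.mem_subgroupOf.2 hb', Subtype.ext h⟩
    exact Subgroup.mem_subgroupOf.2 (hn _ (Subgroup.mem_subgroupOf.1 hτ))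
  odd := by
    intro x hx
    rw [ez_incl, ez_incl]
    apply D.odd
    intro s hs hss
    have hsC : s ∈ D.C := CData.zp_le x.2 hs
    exact congrArg Subtype.val (hx ⟨s, hsC⟩ (D.zp_coe.2 hs) (Subtype.ext hss))
  odd1 := by
    intro x hx
    rw [ez_incl, ez_incl]
    apply D.odd1
    intro s hs hss
    have hsC : s ∈ D.C := CData.zp_le x.2 hs
    exact congrArg Subtype.val (hx ⟨s, hsC⟩ (D.zp_coe.2 hs) (Subtype.ext hss))
  lam_t := by rw [ez_incl]; exact D.lam_t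
  lam_t2 := by rw [ez_incl]; exact D.lam_t2
  mu_t := by rw [ez_incl]; exact D.mu_t
  mu_t2 := by rw [ez_incl]; exact D.mu_t2
  lam1_t := by rw [ez_incl, D.lam1_eq _ D.t_mem, D.ρt, D.lam_t2]
  lam1_t2 := by rw [ez_incl, D.lam1_eq _ D.t2_mem, D.ρt2, D.lam_t3]
  mu1_t := by rw [ez_incl, D.mu1_eq _ D.t_mem, D.ρt, D.mu_t2]
  mu1_t2 := by rw [ez_incl, D.mu1_eq _ D.t2_mem, D.ρt2, D.mu_t3]
  st := by
    intro n hn h
    apply Subgroup.mem_subgroupOf.2
    apply D.stab_C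
    apply D.stab _ (D.lift_norm hn)
    intro τ hτ
    have := h ⟨τ, D.TleC hτ⟩ (Subgroup.mem_subgroupOf.2 hτ)
    rw [ez_incl, ez_incl] at this
    exact this.symm
  st' := by
    intro n hn h
    apply Subgroup.mem_subgroupOf.2
    apply D.stab_C
    apply D.stab' _ (D.lift_norm hn)
    intro τ hτ
    have := h ⟨τ, D.TleC hτ⟩ (Subgroup.mem_subgroupOf.2 hτ)
    rw [ez_incl, ez_incl] at this
    exact this.symm
  st1 := by
    intro n hn h
    apply Subgroup.mem_subgroupOf.2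
    apply D.stab1 D.lam1_eq D.stab (D.mem_C.1 n.2) (D.lift_norm hn)
    intro τ hτ
    have := h ⟨τ, D.TleC hτ⟩ (Subgroup.mem_subgroupOf.2 hτ)
    rw [ez_incl, ez_incl] at this
    exact this
  st1' := by
    intro n hn h
    apply Subgroup.mem_subgroupOf.2
    apply D.stab1 D.mu1_eq D.stab' (D.mem_C.1 n.2) (D.lift_norm hn)
    intro τ hτ
    have := h ⟨τ, D.TleC hτ⟩ (Subgroup.mem_subgroupOf.2 hτ)
    rw [ez_incl, ez_incl] at this
    exact this
  ne1 := by
    intro n hn h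
    have h1 := h ⟨D.t2, D.TleC D.t2_mem⟩ (Subgroup.mem_subgroupOf.2 D.t2_mem)
    rw [ez_incl, ez_incl, sub_conj] at h1
    change ez D.Q D.lam D.t2 = ez D.Q D.mu ((n : G) * D.t2 * (n : G)⁻¹) at h1
    rcases D.perm23 (D.mem_C.1 n.2) (D.lift_norm hn) with h2 | h2
    · rw [h2, D.lam_t2, D.mu_t2] at h1
      norm_num at h1
    · rw [h2, D.lam_t2, D.mu_t3] at h1
      norm_num at h1
  ne2 := by
    intro n hn h
    have h1 := h ⟨D.t, D.TleC D.t_mem⟩ (Subgroup.mem_subgroupOf.2 D.t_mem)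
    rw [ez_incl, ez_incl, sub_conj] at h1
    change ez D.B D.lam1 D.t = ez D.B D.mu1 ((n : G) * D.t * (n : G)⁻¹) at h1
    rw [D.mem_C.1 n.2, mul_inv_cancel_right, D.lam1_eq _ D.t_mem, D.mu1_eq _ D.t_mem, D.ρt, D.lam_t2, D.mu_t2] at h1
    norm_num at h1
  ne3 := by
    intro n hn h
    have hnt := D.mem_C.1 n.2
    have hn' := D.lift_norm hn
    apply D.ρ_not hnt
    apply D.stab_C
    apply D.stab
    · intro τ hτ
      have e : D.ρ * n * τ * (D.ρ * n)⁻¹ = D.ρ * (n * τ * (n : G)⁻¹) * D.ρ⁻¹ := by group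
      rw [e]
      exact D.ρT _ (hn' _ hτ)
    · intro τ hτ
      have e : D.ρ * n * τ * (D.ρ * n)⁻¹ = D.ρ * (n * τ * (n : G)⁻¹) * D.ρ⁻¹ := by group
      rw [e, ← D.lam1_eq _ (hn' _ hτ)]
      have := h ⟨τ, D.TleC hτ⟩ (Subgroup.mem_subgroupOf.2 hτ)
      rw [ez_incl, ez_incl] at this
      exact this.symm
  ne4 := by
    intro n hn h
    have h1 := h ⟨D.t, D.TleC D.t_mem⟩ (Subgroup.mem_subgroupOf.2 D.t_mem)
    rw [ez_incl, ez_incl, sub_conj] at h1
    change ez D.Q D.lam D.t = ez D.B D.mu1 ((n : G) * D.t * (n : G)⁻¹) at h1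
    rw [D.mem_C.1 n.2, mul_inv_cancel_right, D.mu1_eq _ D.t_mem, D.ρt, D.lam_t, D.mu_t2] at h1
    norm_num at h1
  ne5 := by
    intro n hn h
    have h1 := h ⟨D.t2, D.TleC D.t2_mem⟩ (Subgroup.mem_subgroupOf.2 D.t2_mem)
    rw [ez_incl, ez_incl, sub_conj] at h1
    change ez D.Q D.mu D.t2 = ez D.B D.lam1 ((n : G) * D.t2 * (n : G)⁻¹) at h1
    rcases D.perm23 (D.mem_C.1 n.2) (D.lift_norm hn) with h2 | h2
    · rw [h2, D.lam1_eq _ D.t2_mem, D.ρt2, D.lam_t3, D.mu_t2] at h1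
      norm_num at h1
    · rw [h2, D.lam1_eq _ (D.T.mul_mem D.t_mem D.t2_mem), D.ρt3, D.lam_t, D.mu_t2] at h1
      norm_num at h1
  ne6 := by
    intro n hn h
    have h1 := h ⟨D.t, D.TleC D.t_mem⟩ (Subgroup.mem_subgroupOf.2 D.t_mem)
    rw [ez_incl, ez_incl, sub_conj] at h1
    change ez D.Q D.mu D.t = ez D.B D.mu1 ((n : G) * D.t * (n : G)⁻¹) at h1
    rw [D.mem_C.1 n.2, mul_inv_cancel_right, D.mu1_eq _ D.t_mem, D.ρt, D.mu_t, D.mu_t2] at h1
    norm_num at h1

end GData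

end Cfsg.Agent.GTwoOdd.GamC
end

-- part: GTwoOdd/GamT
section
set_option linter.all false
open scoped Cfsg.Agent.FastGrp

/-!
# Sums over the torus
-/

set_option autoImplicit false

open Cfsg
open scoped ComplexConjugate

namespace Cfsg.Agent.GTwoOdd.GamC

open Cfsg.Agent.GTwoOdd.GamSum

universe u

namespace GData

variable {G : Type u} [Group G] (D : GData G)

open scoped Classical in
/-- `ζ` on `T`, extended by zero -/
noncomputable def Z (x : G) : ℂ := if x ∈ D.T then ez D.Q D.lam x - ez D.Q D.mu x else 0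

theorem Z_mem {x : G} (h : x ∈ D.T) : D.Z x = ez D.Q D.lam x - ez D.Q D.mu x := if_pos h

theorem Z_notMem {x : G} (h : x ∉ D.T) : D.Z x = 0 := if_neg h

theorem Z_odd {x : G} (h : ∀ s ∈ Subgroup.zpowers x, s * s = 1 → s = 1) : D.Z x = 0 := by
  by_cases hx : x ∈ D.T
  · rw [D.Z_mem hx, D.odd x h, sub_self]
  · exact D.Z_notMem hx

theorem Z_one : D.Z 1 = 0 := by
  rw [D.Z_mem D.T.one_mem, ez_one, ez_one, sub_self]

theorem Z_t : D.Z D.t = 0 := by
  rw [D.Z_mem D.t_mem, D.lam_t, D.mu_t, sub_self]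

theorem Z_t2 : D.Z D.t2 = 2 := by
  rw [D.Z_mem D.t2_mem, D.lam_t2, D.mu_t2]; norm_num

theorem Z_t3 : D.Z (D.t * D.t2) = 2 := by
  rw [D.Z_mem (D.T.mul_mem D.t_mem D.t2_mem), D.lam_t3, D.mu_t3]; norm_num

theorem ρT_iff [Finite G] {x : G} : D.ρ * x * D.ρ⁻¹ ∈ D.T ↔ x ∈ D.T := by
  constructor
  · intro h
    have := D.norm_inv D.ρT _ h
    have e : D.ρ⁻¹ * (D.ρ * x * D.ρ⁻¹) * D.ρ = x := by group
    rwa [e] at this
  · exact D.ρT x

theorem n1_inv_T [Finite G] {x : G} : D.n1⁻¹ * x * D.n1 ∈ D.T ↔ x ∈ D.T := by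
  constructor
  · intro h
    have := D.n1T _ h
    have e : D.n1 * (D.n1⁻¹ * x * D.n1) * D.n1⁻¹ = x := by group
    rwa [e] at this
  · exact D.norm_inv D.n1T x

theorem Z_n1 [Finite G] (x : G) : D.Z (D.n1⁻¹ * x * D.n1) = D.Z x := by
  by_cases hx : x ∈ D.T
  · rw [D.Z_mem hx, D.Z_mem (D.n1_inv_T.2 hx)]
    have h1 := ez_conj D.Q D.lam (D.Q.inv_mem D.n1Q) x
    have h2 := ez_conj D.Q D.mu (D.Q.inv_mem D.n1Q) x
    rw [inv_inv] at h1 h2
    rw [h1, h2]
  · rw [D.Z_notMem hx, D.Z_notMem (fun h => hx (D.n1_inv_T.1 h))]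

variable [Fintype G]

open scoped Classical in
/-- the sum on the torus -/
noncomputable def S (φ : G → ℂ) : ℂ :=
  ∑ x : G, (if D.t2 ∈ Subgroup.zpowers x then D.Z x * φ x else 0) +
    (∑ x : G, (if D.t2 ∈ Subgroup.zpowers x then D.Z (D.ρ * x * D.ρ⁻¹) * φ x else 0) +
    ∑ x : G, (if D.t * D.t2 ∈ Subgroup.zpowers x then D.Z (D.ρ * x * D.ρ⁻¹) * φ x else 0))

theorem sum_coe [Fintype D.C] (f : G → ℂ) (hf : ∀ x, x ∉ D.C → f x = 0) :
    ∑ y : D.C, f (y : G) = ∑ x : G, f x := by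
  classical
  rw [← Finset.sum_subset (Finset.subset_univ (Finset.univ.filter fun x : G => x ∈ D.C))]
  · rw [Finset.sum_subtype (Finset.univ.filter fun x : G => x ∈ D.C) (p := fun x => x ∈ D.C)
      (fun x => by simp)]
  · intro x _ hx
    apply hf
    intro h
    exact hx (by simp [h])

theorem zp_t2 {y : D.C} : (D.toC.t2 ∈ Subgroup.zpowers y) ↔ D.t2 ∈ Subgroup.zpowers (y : G) := D.zp_coe

theorem zp_t3 {y : D.C} : (D.toC.t3 ∈ Subgroup.zpowers y) ↔ D.t * D.t2 ∈ Subgroup.zpowers (y : G) := D.zp_coe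

theorem zp_t {y : D.C} : (D.toC.t ∈ Subgroup.zpowers y) ↔ D.t ∈ Subgroup.zpowers (y : G) := D.zp_coe

theorem z_eq {y : D.C} (h : D.t2 ∈ Subgroup.zpowers (y : G)) : D.toC.z y = D.Z y := by
  have e : D.toC.z y = ez D.Q D.lam y - ez D.Q D.mu y := by
    change ez (D.Q.subgroupOf D.C) (D.lam.comp (D.incl D.Q)) y - ez (D.Q.subgroupOf D.C) (D.mu.comp (D.incl D.Q)) y = _
    rw [ez_incl, ez_incl]
  rw [e]
  by_cases hy : (y : G) ∈ D.Q
  · rw [D.Z_mem (D.Qcent _ hy (comm_of_mem_zpowers h))]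
  · rw [D.Z_notMem (fun h => hy (D.TQ h)), ez_notMem _ _ hy, ez_notMem _ _ hy, sub_self]

theorem z_eq' {y : D.C} (h : (y : G) ∈ D.T) : D.toC.z y = D.Z y := by
  change ez (D.Q.subgroupOf D.C) (D.lam.comp (D.incl D.Q)) y - ez (D.Q.subgroupOf D.C) (D.mu.comp (D.incl D.Q)) y = _
  rw [ez_incl, ez_incl, D.Z_mem h]

theorem z1_eq' {y : D.C} (h : (y : G) ∈ D.T) : D.toC.z1 y = D.Z (D.ρ * y * D.ρ⁻¹) := by
  change ez (D.B.subgroupOf D.C) (D.lam1.comp (D.incl D.B)) y - ez (D.B.subgroupOf D.C) (D.mu1.comp (D.incl D.B)) y = _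
  rw [ez_incl, ez_incl, D.Z_mem (D.ρT _ h), D.lam1_eq _ h, D.mu1_eq _ h]

theorem z1_notMem {y : D.C} (h : (y : G) ∉ D.B) : D.toC.z1 y = D.Z (D.ρ * y * D.ρ⁻¹) := by
  change ez (D.B.subgroupOf D.C) (D.lam1.comp (D.incl D.B)) y - ez (D.B.subgroupOf D.C) (D.mu1.comp (D.incl D.B)) y = _
  rw [ez_incl, ez_incl, ez_notMem _ _ h, ez_notMem _ _ h, sub_self, D.Z_notMem]
  intro h'
  exact h (D.TB (D.ρT_iff.1 h'))

theorem mem_T_of_t2 {y : G} (hy : y ∈ D.B) (h : D.t2 ∈ Subgroup.zpowers y) : y ∈ D.T :=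
  D.Qcent _ (D.BQ hy) (comm_of_mem_zpowers h)

theorem mem_T_of_t3 {y : G} (hy : y ∈ D.B) (h : D.t * D.t2 ∈ Subgroup.zpowers y) : y ∈ D.T := by
  apply D.Qcent _ (D.BQ hy)
  have h1 := comm_of_mem_zpowers h
  have h2 := D.QC _ (D.BQ hy)
  have h3 : D.t * (y * D.t2) = D.t * (D.t2 * y) := by
    rw [← mul_assoc, ← h2, mul_assoc, h1, mul_assoc]
  exact mul_left_cancel h3

open scoped Classical in
/-- the `E` part of a scalar product with `F`, on the torus -/
theorem sum_E_S [Fintype D.C] (ψ : D.C → ℂ) (hψ : ∀ g x, ψ (g * x * g⁻¹) = ψ x) (φ : G → ℂ)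
    (hφ : ∀ y : D.C, (y : G) ∈ D.T →
      (D.t2 ∈ Subgroup.zpowers (y : G) ∨ D.t * D.t2 ∈ Subgroup.zpowers (y : G)) → ψ y = φ y) :
    ∑ y : D.C, (if D.toC.E y then D.toC.F y * ψ y else 0) =
      (Nat.card D.C : ℂ) / (Nat.card D.T : ℂ) * D.S φ := by
  have hcard : Nat.card (D.toC).T = Nat.card D.T := by
    change Nat.card (D.T.subgroupOf D.C) = Nat.card D.T
    exact Nat.card_congr (Subgroup.subgroupOfEquivOfLe D.TleC).toEquiv
  rw [D.toC.sum_E ψ hψ, hcard]
  congr 1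
  unfold S
  congr 1
  · rw [← D.sum_coe]
    · refine Finset.sum_congr rfl fun y _ => ?_
      by_cases h : D.t2 ∈ Subgroup.zpowers (y : G)
      · rw [if_pos (D.zp_t2.2 h), if_pos h, D.z_eq h]
        by_cases hT : (y : G) ∈ D.T
        · rw [hφ y hT (Or.inl h)]
        · rw [D.Z_notMem hT, zero_mul, zero_mul]
      · rw [if_neg (fun k => h (D.zp_t2.1 k)), if_neg h]
    · intro x hx
      rw [D.Z_notMem (fun h => hx (D.TleC h)), zero_mul, ite_self]
  · congr 1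
    · rw [← D.sum_coe]
      · refine Finset.sum_congr rfl fun y _ => ?_
        by_cases h : D.t2 ∈ Subgroup.zpowers (y : G)
        · rw [if_pos (D.zp_t2.2 h), if_pos h]
          by_cases hB : (y : G) ∈ D.B
          · have hT := D.mem_T_of_t2 hB h
            rw [D.z1_eq' hT, hφ y hT (Or.inl h)]
          · have h0 : D.Z (D.ρ * y * D.ρ⁻¹) = 0 := D.Z_notMem (fun h' => hB (D.TB (D.ρT_iff.1 h')))
            rw [D.z1_notMem hB, h0, zero_mul, zero_mul]
        · rw [if_neg (fun k => h (D.zp_t2.1 k)), if_neg h]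
      · intro x hx
        rw [D.Z_notMem (fun h => hx (D.TleC (D.ρT_iff.1 h))), zero_mul, ite_self]
    · rw [← D.sum_coe]
      · refine Finset.sum_congr rfl fun y _ => ?_
        by_cases h : D.t * D.t2 ∈ Subgroup.zpowers (y : G)
        · rw [if_pos (D.zp_t3.2 h), if_pos h]
          by_cases hB : (y : G) ∈ D.B
          · have hT := D.mem_T_of_t3 hB h
            rw [D.z1_eq' hT, hφ y hT (Or.inr h)]
          · have h0 : D.Z (D.ρ * y * D.ρ⁻¹) = 0 := D.Z_notMem (fun h' => hB (D.TB (D.ρT_iff.1 h')))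
            rw [D.z1_notMem hB, h0, zero_mul, zero_mul]
        · rw [if_neg (fun k => h (D.zp_t3.1 k)), if_neg h]
      · intro x hx
        rw [D.Z_notMem (fun h => hx (D.TleC (D.ρT_iff.1 h))), zero_mul, ite_self]

/-- the sum on the torus for a `ρ`-invariant function -/
theorem S_eq (φ : G → ℂ) (hφ : ∀ x ∈ D.T, φ (D.ρ * x * D.ρ⁻¹) = φ x) : D.S φ = ∑ x : G, D.Z x * φ x := by
  classical
  have key : ∀ s s' : G, D.ρ * s * D.ρ⁻¹ = s' →
      ∑ x : G, (if s ∈ Subgroup.zpowers x then D.Z (D.ρ * x * D.ρ⁻¹) * φ x else 0) =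
      ∑ x : G, (if s' ∈ Subgroup.zpowers x then D.Z x * φ x else 0) := by
    rintro s s' rfl
    rw [← Equiv.sum_comp (MulAut.conj D.ρ).toEquiv (fun x => if D.ρ * s * D.ρ⁻¹ ∈ Subgroup.zpowers x then D.Z x * φ x else 0)]
    refine Finset.sum_congr rfl fun x _ => ?_
    have e3 : (MulAut.conj D.ρ).toEquiv x = D.ρ * x * D.ρ⁻¹ := rfl
    rw [e3]
    have e4 : (D.ρ * s * D.ρ⁻¹ ∈ Subgroup.zpowers (D.ρ * x * D.ρ⁻¹)) ↔ s ∈ Subgroup.zpowers x := by
      rw [zpowers_conj_mem']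
      have : D.ρ⁻¹ * (D.ρ * s * D.ρ⁻¹) * D.ρ = s := by group
      rw [this]
    by_cases hs : s ∈ Subgroup.zpowers x
    · rw [if_pos hs, if_pos (e4.2 hs)]
      by_cases hx : x ∈ D.T
      · rw [hφ x hx]
      · rw [D.Z_notMem (fun h => hx (D.ρT_iff.1 h)), zero_mul, zero_mul]
    · rw [if_neg hs, if_neg (fun k => hs (e4.1 k))]
  unfold S
  rw [key _ _ D.ρt2, key _ _ D.ρt3, ← Finset.sum_add_distrib, ← Finset.sum_add_distrib]
  refine Finset.sum_congr rfl fun x _ => ?_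
  by_cases hx : x ∈ D.T
  · by_cases h0 : ∀ s ∈ Subgroup.zpowers x, s * s = 1 → s = 1
    · rw [D.Z_odd h0]; simp
    · push Not at h0
      obtain ⟨s, hs, hss, hs1⟩ := h0
      have hsT : s ∈ D.T := CData.zp_le hx hs
      have u2 : D.t2 ∈ Subgroup.zpowers x ↔ s = D.t2 :=
        ⟨fun h => inv_unique hs h hss D.t2t2 hs1 D.t2_ne, fun h => h ▸ hs⟩
      have u3 : D.t * D.t2 ∈ Subgroup.zpowers x ↔ s = D.t * D.t2 :=
        ⟨fun h => inv_unique hs h hss D.t3t3 hs1 D.t3_ne, fun h => h ▸ hs⟩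
      have u1 : D.t ∈ Subgroup.zpowers x ↔ s = D.t :=
        ⟨fun h => inv_unique hs h hss D.tt hs1 D.t1, fun h => h ▸ hs⟩
      have n12 := D.t2_ne_t
      have n13 := D.t3_ne_t
      have n23 := D.t3_ne_t2
      simp only [u1, u2, u3]
      rcases D.Tinv s hsT hss with h | h | h | h
      · exact absurd h hs1
      · rw [if_neg (by rw [h]; exact fun k => n12 k.symm), if_neg (by rw [h]; exact fun k => n13 k.symm),
          if_pos h, zero_add, zero_add]
      · rw [if_pos h, if_neg (by rw [h]; exact fun k => n23 k.symm), if_neg (by rw [h]; exact n12), add_zero, add_zero]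
      · rw [if_neg (by rw [h]; exact n23), if_pos h, if_neg (by rw [h]; exact n13), zero_add, add_zero]
  · rw [D.Z_notMem hx]; simp

end GData

end Cfsg.Agent.GTwoOdd.GamC
end

-- part: GTwoOdd/GamO
section
set_option linter.all false
open scoped Cfsg.Agent.FastGrp

/-!
# The invariant function on the torus
-/

set_option autoImplicit false

open Cfsg
open scoped ComplexConjugate

namespace Cfsg.Agent.GTwoOdd.GamC

open Cfsg.Agent.GTwoOdd.GamSum

universe u

namespace GData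

variable {G : Type u} [Group G] (D : GData G)

/-- `n` normalises `T` -/
def Nn (n : G) : Prop := ∀ τ ∈ D.T, n * τ * n⁻¹ ∈ D.T

theorem Nn_mul {n m : G} (hn : D.Nn n) (hm : D.Nn m) : D.Nn (n * m) := by
  intro τ hτ
  have := hn _ (hm τ hτ)
  have e : n * m * τ * (n * m)⁻¹ = n * (m * τ * m⁻¹) * n⁻¹ := by group
  rwa [e]

theorem Nn_inv [Finite G] {n : G} (hn : D.Nn n) : D.Nn n⁻¹ := by
  intro τ hτ
  rw [inv_inv]
  exact D.norm_inv hn τ hτ

theorem Nn_conj [Finite G] {n : G} (hn : D.Nn n) {x : G} : n⁻¹ * x * n ∈ D.T ↔ x ∈ D.T := by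
  constructor
  · intro h
    have := hn _ h
    have e : n * (n⁻¹ * x * n) * n⁻¹ = x := by group
    rwa [e] at this
  · exact D.norm_inv hn x

theorem Nn_n1 : D.Nn D.n1 := D.n1T

theorem Nn_ρ : D.Nn D.ρ := D.ρT

theorem Nn_mul_iff [Finite G] {n m : G} (hm : D.Nn m) : D.Nn (n * m) ↔ D.Nn n := by
  constructor
  · intro h
    have := D.Nn_mul h (D.Nn_inv hm)
    rwa [mul_inv_cancel_right] at this
  · intro h
    exact D.Nn_mul h hm

theorem Nn_mul_iff' [Finite G] {n m : G} (hm : D.Nn m) : D.Nn (m * n) ↔ D.Nn n := by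
  constructor
  · intro h
    have := D.Nn_mul (D.Nn_inv hm) h
    rwa [inv_mul_cancel_left] at this
  · intro h
    exact D.Nn_mul hm h

theorem n1c : D.n1 * D.t = D.t * D.n1 := D.QC _ D.n1Q

variable [Fintype G]

open scoped Classical in
/-- the invariant function -/
noncomputable def Om (x : G) : ℂ :=
  (2 * (Nat.card D.T : ℂ))⁻¹ * ∑ n : G, (if D.Nn n then D.Z (n⁻¹ * x * n) else 0)

theorem Om_ρ (x : G) : D.Om (D.ρ * x * D.ρ⁻¹) = D.Om x := by
  classical
  unfold Om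
  congr 1
  rw [← Equiv.sum_comp (Equiv.mulLeft D.ρ)]
  refine Finset.sum_congr rfl fun n _ => ?_
  change (if D.Nn (D.ρ * n) then D.Z ((D.ρ * n)⁻¹ * (D.ρ * x * D.ρ⁻¹) * (D.ρ * n)) else 0) = _
  have e1 : (D.ρ * n)⁻¹ * (D.ρ * x * D.ρ⁻¹) * (D.ρ * n) = n⁻¹ * x * n := by group
  rw [e1]
  by_cases h : D.Nn n
  · rw [if_pos h, if_pos ((D.Nn_mul_iff' D.Nn_ρ).2 h)]
  · rw [if_neg h, if_neg (fun k => h ((D.Nn_mul_iff' D.Nn_ρ).1 k))]

/-- right translation by `n1` -/
theorem sum_n1 (P P' : G → Prop) [DecidablePred P] [DecidablePred P'] (hP : ∀ n, D.Nn n → (P (n * D.n1) ↔ P' n))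
    (hn : ∀ n, P n → D.Nn n) (hn' : ∀ n, P' n → D.Nn n) (x : G) :
    ∑ n : G, (if P n then D.Z (n⁻¹ * x * n) else 0) = ∑ n : G, (if P' n then D.Z (n⁻¹ * x * n) else 0) := by
  rw [← Equiv.sum_comp (Equiv.mulRight D.n1)]
  refine Finset.sum_congr rfl fun n _ => ?_
  change (if P (n * D.n1) then D.Z ((n * D.n1)⁻¹ * x * (n * D.n1)) else 0) = _
  have e1 : (n * D.n1)⁻¹ * x * (n * D.n1) = D.n1⁻¹ * (n⁻¹ * x * n) * D.n1 := by group
  rw [e1, D.Z_n1]
  by_cases h : D.Nn n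
  · by_cases h' : P' n
    · rw [if_pos h', if_pos ((hP n h).2 h')]
    · rw [if_neg h', if_neg (fun k => h' ((hP n h).1 k))]
  · rw [if_neg (fun k => h ((D.Nn_mul_iff D.Nn_n1).1 (hn _ k))), if_neg (fun k => h (hn' _ k))]

omit [Fintype G] in
theorem n1_swap {n s : G} : (n * D.n1)⁻¹ * s * (n * D.n1) = D.t2 ↔ n⁻¹ * s * n = D.t * D.t2 := by
  have h := D.n1t2
  constructor
  · intro h1
    calc n⁻¹ * s * n = D.n1 * ((n * D.n1)⁻¹ * s * (n * D.n1)) * D.n1⁻¹ := by group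
      _ = D.t * D.t2 := by rw [h1, h]
  · intro h1
    calc (n * D.n1)⁻¹ * s * (n * D.n1) = D.n1⁻¹ * (n⁻¹ * s * n) * D.n1 := by group
      _ = D.n1⁻¹ * (D.n1 * D.t2 * D.n1⁻¹) * D.n1 := by rw [h1, h]
      _ = D.t2 := by group

omit [Fintype G] in
theorem n1_fix {n : G} : (n * D.n1)⁻¹ * D.t * (n * D.n1) = D.t ↔ n⁻¹ * D.t * n = D.t := by
  have h := D.n1c
  constructor
  · intro h1
    calc n⁻¹ * D.t * n = D.n1 * ((n * D.n1)⁻¹ * D.t * (n * D.n1)) * D.n1⁻¹ := by group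
      _ = D.t := by rw [h1, h]; group
  · intro h1
    calc (n * D.n1)⁻¹ * D.t * (n * D.n1) = D.n1⁻¹ * (n⁻¹ * D.t * n) * D.n1 := by group
      _ = D.n1⁻¹ * (D.t * D.n1) := by rw [h1]; group
      _ = D.t := by rw [← h]; group

/-- involutions of `T` under the normaliser -/
theorem Nn_V {n s : G} (hn : D.Nn n) (hs : s ∈ D.T) (ss : s * s = 1) (s1 : s ≠ 1) :
    n⁻¹ * s * n = D.t ∨ n⁻¹ * s * n = D.t2 ∨ n⁻¹ * s * n = D.t * D.t2 := by
  have h := D.Tinv _ (D.norm_inv hn s hs)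
    (by have := CData.conj_invol (g := n⁻¹) ss; rwa [inv_inv] at this)
  rcases h with h | h
  · exact absurd h (by have := CData.conj_ne_one (g := n⁻¹) s1; rwa [inv_inv] at this)
  · exact h

omit [Fintype G] in
/-- normalises `T`, fixes `t`, and `s ↦ t2` -/
def N2 (s n : G) : Prop := D.Nn n ∧ n⁻¹ * D.t * n = D.t ∧ n⁻¹ * s * n = D.t2

omit [Fintype G] in
/-- normalises `T`, fixes `t`, and `s ↦ t3` -/
def N3 (s n : G) : Prop := D.Nn n ∧ n⁻¹ * D.t * n = D.t ∧ n⁻¹ * s * n = D.t * D.t2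

omit [Fintype G] in
/-- normalises `T`, and `t ↦ t2` -/
def M2 (n : G) : Prop := D.Nn n ∧ n⁻¹ * D.t * n = D.t2

omit [Fintype G] in
/-- normalises `T`, and `t ↦ t3` -/
def M3 (n : G) : Prop := D.Nn n ∧ n⁻¹ * D.t * n = D.t * D.t2

open scoped Classical in
/-- `Ω` in terms of the three cosets -/
theorem Om_eq (x s : G) (hs : s = D.t2 ∨ s = D.t * D.t2) :
    (Nat.card D.T : ℂ) * D.Om x =
      ∑ n : G, (if D.N2 s n then D.Z (n⁻¹ * x * n) else 0) +
      ∑ n : G, (if D.M2 n then D.Z (n⁻¹ * x * n) else 0) := by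
  have hT0 : (Nat.card D.T : ℂ) ≠ 0 := by exact_mod_cast Nat.card_pos.ne'
  have sT : s ∈ D.T := by
    rcases hs with rfl | rfl
    · exact D.t2_mem
    · exact D.T.mul_mem D.t_mem D.t2_mem
  have ss : s * s = 1 := by
    rcases hs with rfl | rfl
    · exact D.t2t2
    · exact D.t3t3
  have s1 : s ≠ 1 := by
    rcases hs with rfl | rfl
    · exact D.t2_ne
    · exact D.t3_ne
  have st : s ≠ D.t := by
    rcases hs with rfl | rfl
    · exact D.t2_ne_t
    · exact D.t3_ne_t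
  have a1 := D.sum_n1 (D.N2 s) (D.N3 s) (by
      intro n hn
      unfold N2 N3
      rw [D.n1_swap, D.n1_fix, D.Nn_mul_iff D.Nn_n1]) (fun n h => h.1) (fun n h => h.1) x
  have a2 := D.sum_n1 D.M2 D.M3 (by
      intro n hn
      unfold M2 M3
      rw [D.n1_swap, D.Nn_mul_iff D.Nn_n1]) (fun n h => h.1) (fun n h => h.1) x
  have a3 : ∑ n : G, (if D.Nn n then D.Z (n⁻¹ * x * n) else 0) =
      (∑ n : G, (if D.N2 s n then D.Z (n⁻¹ * x * n) else 0) +
      ∑ n : G, (if D.N3 s n then D.Z (n⁻¹ * x * n) else 0)) +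
      (∑ n : G, (if D.M2 n then D.Z (n⁻¹ * x * n) else 0) +
      ∑ n : G, (if D.M3 n then D.Z (n⁻¹ * x * n) else 0)) := by
    rw [← Finset.sum_add_distrib, ← Finset.sum_add_distrib, ← Finset.sum_add_distrib]
    refine Finset.sum_congr rfl fun n _ => ?_
    by_cases hn : D.Nn n
    · rcases D.Nn_V hn D.t_mem D.tt D.t1 with h | h | h
      · have h' : n⁻¹ * s * n = D.t2 ∨ n⁻¹ * s * n = D.t * D.t2 := by
          rcases D.Nn_V hn sT ss s1 with k | k | k
          · exfalso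
            apply st
            calc s = n * (n⁻¹ * s * n) * n⁻¹ := by group
              _ = n * (n⁻¹ * D.t * n) * n⁻¹ := by rw [k, h]
              _ = D.t := by group
          · exact Or.inl k
          · exact Or.inr k
        have n1 : ¬ (n⁻¹ * D.t * n = D.t2) := by rw [h]; exact fun k => D.t2_ne_t k.symm
        have n2 : ¬ (n⁻¹ * D.t * n = D.t * D.t2) := by rw [h]; exact fun k => D.t3_ne_t k.symm
        rcases h' with h' | h'
        · have n3 : ¬ (n⁻¹ * s * n = D.t * D.t2) := by rw [h']; exact fun k => D.t3_ne_t2 k.symm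
          rw [if_pos hn, if_pos (show D.N2 s n from ⟨hn, h, h'⟩), if_neg (show ¬ D.N3 s n from fun k => n3 k.2.2),
            if_neg (show ¬ D.M2 n from fun k => n1 k.2),
            if_neg (show ¬ D.M3 n from fun k => n2 k.2), add_zero, add_zero, add_zero]
        · have n3 : ¬ (n⁻¹ * s * n = D.t2) := by rw [h']; exact D.t3_ne_t2
          rw [if_pos hn, if_neg (show ¬ D.N2 s n from fun k => n3 k.2.2), if_pos (show D.N3 s n from ⟨hn, h, h'⟩),
            if_neg (show ¬ D.M2 n from fun k => n1 k.2),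
            if_neg (show ¬ D.M3 n from fun k => n2 k.2), zero_add, add_zero, add_zero]
      · have n1 : ¬ (n⁻¹ * D.t * n = D.t) := by rw [h]; exact D.t2_ne_t
        have n2 : ¬ (n⁻¹ * D.t * n = D.t * D.t2) := by rw [h]; exact fun k => D.t3_ne_t2 k.symm
        rw [if_pos hn, if_neg (show ¬ D.N2 s n from fun k => n1 k.2.1),
          if_neg (show ¬ D.N3 s n from fun k => n1 k.2.1), if_pos (show D.M2 n from ⟨hn, h⟩),
          if_neg (show ¬ D.M3 n from fun k => n2 k.2), zero_add, zero_add, add_zero]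
      · have n1 : ¬ (n⁻¹ * D.t * n = D.t) := by rw [h]; exact D.t3_ne_t
        have n2 : ¬ (n⁻¹ * D.t * n = D.t2) := by rw [h]; exact D.t3_ne_t2
        rw [if_pos hn, if_neg (show ¬ D.N2 s n from fun k => n1 k.2.1),
          if_neg (show ¬ D.N3 s n from fun k => n1 k.2.1), if_neg (show ¬ D.M2 n from fun k => n2 k.2),
          if_pos (show D.M3 n from ⟨hn, h⟩), zero_add, zero_add, zero_add]
    · rw [if_neg hn, if_neg (show ¬ D.N2 s n from fun k => hn k.1), if_neg (show ¬ D.N3 s n from fun k => hn k.1),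
        if_neg (show ¬ D.M2 n from fun k => hn k.1),
        if_neg (show ¬ D.M3 n from fun k => hn k.1)]
      simp
  have a4 : (Nat.card D.T : ℂ) * D.Om x = 2⁻¹ * ∑ n : G, (if D.Nn n then D.Z (n⁻¹ * x * n) else 0) := by
    unfold Om
    rw [mul_inv]
    calc (Nat.card D.T : ℂ) * (2⁻¹ * (Nat.card D.T : ℂ)⁻¹ * ∑ n : G, (if D.Nn n then D.Z (n⁻¹ * x * n) else 0)) =
        2⁻¹ * ((Nat.card D.T : ℂ) * (Nat.card D.T : ℂ)⁻¹) * ∑ n : G, (if D.Nn n then D.Z (n⁻¹ * x * n) else 0) := by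
          ring
      _ = _ := by rw [mul_inv_cancel₀ hT0, mul_one]
  rw [a4, a3, ← a1, ← a2]
  ring

/-- `F = Ω` on the elements of `T` with `t2` or `t3` among their powers -/
theorem F_eq_Om [Fintype D.C] {y : D.C} (hy : (y : G) ∈ D.T) {s : G} (hs : s = D.t2 ∨ s = D.t * D.t2)
    (hsy : s ∈ Subgroup.zpowers (y : G)) : D.toC.F y = D.Om y := by
  classical
  have hT0 : (Nat.card D.T : ℂ) ≠ 0 := by exact_mod_cast Nat.card_pos.ne'
  have hcard : Nat.card (D.toC).T = Nat.card D.T := by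
    change Nat.card (D.T.subgroupOf D.C) = Nat.card D.T
    exact Nat.card_congr (Subgroup.subgroupOfEquivOfLe D.TleC).toEquiv
  have sT : s ∈ D.T := by
    rcases hs with rfl | rfl
    · exact D.t2_mem
    · exact D.T.mul_mem D.t_mem D.t2_mem
  have ss : s * s = 1 := by
    rcases hs with rfl | rfl
    · exact D.t2t2
    · exact D.t3t3
  have s1 : s ≠ 1 := by
    rcases hs with rfl | rfl
    · exact D.t2_ne
    · exact D.t3_ne
  have st : s ≠ D.t := by
    rcases hs with rfl | rfl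
    · exact D.t2_ne_t
    · exact D.t3_ne_t
  have h0 := D.toC.F_apply (x := y) (s := ⟨s, D.TleC sT⟩) (D.zp_coe.2 hsy) (Subtype.ext ss)
    (fun h => s1 (congrArg Subtype.val h)) (fun h => st (congrArg Subtype.val h))
  rw [h0, hcard]
  have hOm := D.Om_eq y s hs
  have e0 : D.Om y = (Nat.card D.T : ℂ)⁻¹ * ((Nat.card D.T : ℂ) * D.Om y) := by
    rw [← mul_assoc, inv_mul_cancel₀ hT0, one_mul]
  rw [e0, hOm]
  congr 1
  -- elements of `C` moving `s` to `t2` or `t3` normalise `T`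
  have norm : ∀ c : G, c * D.t = D.t * c → (c⁻¹ * s * c = D.t2 ∨ c⁻¹ * s * c = D.t * D.t2) → D.Nn c := by
    intro c hc h
    apply D.Kn c hc
    have hct : c * D.t * c⁻¹ = D.t := by rw [hc]; group
    rcases h with h | h
    · have h1 : c * D.t2 * c⁻¹ = s := by rw [← h]; group
      rw [h1]; exact hs
    · have h1 : c * (D.t * D.t2) * c⁻¹ = s := by rw [← h]; group
      have h2 : c * D.t2 * c⁻¹ = D.t * s := by
        rw [← h1]
        calc c * D.t2 * c⁻¹ = (D.t * D.t) * (c * D.t2 * c⁻¹) := by rw [D.tt, one_mul]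
          _ = D.t * ((c * D.t * c⁻¹) * (c * D.t2 * c⁻¹)) := by rw [hct]; group
          _ = D.t * (c * (D.t * D.t2) * c⁻¹) := by group
      rw [h2]
      rcases hs with rfl | rfl
      · right; rfl
      · left; rw [← mul_assoc, D.tt, one_mul]
  have ct : ∀ c : G, (c * D.t = D.t * c ↔ c⁻¹ * D.t * c = D.t) := by
    intro c
    constructor
    · intro h
      rw [mul_assoc, ← h]; group
    · intro h
      calc c * D.t = c * (c⁻¹ * D.t * c) := by rw [h]
        _ = D.t * c := by group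
  congr 1
  · rw [← D.sum_coe (fun n => if D.N2 s n then D.Z (n⁻¹ * y * n) else 0)]
    · refine Finset.sum_congr rfl fun c _ => ?_
      have hc := D.mem_C.1 c.2
      by_cases h : (c : G)⁻¹ * s * c = D.t2
      · have hN := norm c hc (Or.inl h)
        rw [if_pos (show c⁻¹ * ⟨s, D.TleC sT⟩ * c = (D.toC).t2 from Subtype.ext h),
          if_pos (show D.N2 s c from ⟨hN, (ct c).1 hc, h⟩)]
        exact D.z_eq' ((D.Nn_conj hN).2 hy)
      · rw [if_neg (fun k => h (congrArg Subtype.val k)), if_neg (fun k => h k.2.2)]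
    · intro x hx
      rw [if_neg]
      intro k
      exact hx (D.mem_C.2 ((ct x).2 k.2.1))
  · have e1 : ∑ n : G, (if D.M2 n then D.Z (n⁻¹ * y * n) else 0) =
        ∑ c : G, (if D.Nn c ∧ c⁻¹ * D.t * c = D.t then D.Z (D.ρ * (c⁻¹ * y * c) * D.ρ⁻¹) else 0) := by
      rw [← Equiv.sum_comp (Equiv.mulRight D.ρ⁻¹)]
      refine Finset.sum_congr rfl fun c _ => ?_
      change (if D.M2 (c * D.ρ⁻¹) then D.Z ((c * D.ρ⁻¹)⁻¹ * y * (c * D.ρ⁻¹)) else 0) = _
      have e2 : (c * D.ρ⁻¹)⁻¹ * (y : G) * (c * D.ρ⁻¹) = D.ρ * (c⁻¹ * y * c) * D.ρ⁻¹ := by group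
      have e3 : D.M2 (c * D.ρ⁻¹) ↔ (D.Nn c ∧ c⁻¹ * D.t * c = D.t) := by
        unfold M2
        rw [D.Nn_mul_iff (D.Nn_inv D.Nn_ρ)]
        have e4 : (c * D.ρ⁻¹)⁻¹ * D.t * (c * D.ρ⁻¹) = D.ρ * (c⁻¹ * D.t * c) * D.ρ⁻¹ := by group
        rw [e4]
        constructor
        · rintro ⟨h1, h2⟩
          refine ⟨h1, ?_⟩
          calc c⁻¹ * D.t * c = D.ρ⁻¹ * (D.ρ * (c⁻¹ * D.t * c) * D.ρ⁻¹) * D.ρ := by group
            _ = D.ρ⁻¹ * (D.ρ * D.t * D.ρ⁻¹) * D.ρ := by rw [h2, D.ρt]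
            _ = D.t := by group
        · rintro ⟨h1, h2⟩
          exact ⟨h1, by rw [h2, D.ρt]⟩
      rw [e2]
      by_cases h : D.Nn c ∧ c⁻¹ * D.t * c = D.t
      · rw [if_pos h, if_pos (e3.2 h)]
      · rw [if_neg h, if_neg (fun k => h (e3.1 k))]
    rw [e1, ← D.sum_coe]
    · refine Finset.sum_congr rfl fun c _ => ?_
      have hc := D.mem_C.1 c.2
      by_cases h : (c : G)⁻¹ * s * c = D.t2 ∨ (c : G)⁻¹ * s * c = D.t * D.t2
      · have hN := norm c hc h
        have hR : (D.toC).R23 (c⁻¹ * ⟨s, D.TleC sT⟩ * c) := by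
          rcases h with h | h
          · exact Or.inl (Subtype.ext h)
          · exact Or.inr (Subtype.ext h)
        rw [if_pos hR, if_pos ⟨hN, (ct c).1 hc⟩]
        exact D.z1_eq' ((D.Nn_conj hN).2 hy)
      · have hR : ¬ (D.toC).R23 (c⁻¹ * ⟨s, D.TleC sT⟩ * c) := by
          rintro (k | k)
          · exact h (Or.inl (congrArg Subtype.val k))
          · exact h (Or.inr (congrArg Subtype.val k))
        rw [if_neg hR, if_neg]
        rintro ⟨hN, hct⟩
        apply h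
        rcases D.Nn_V hN sT ss s1 with k | k | k
        · exfalso
          apply st
          calc s = c * ((c : G)⁻¹ * s * c) * (c : G)⁻¹ := by group
            _ = c * ((c : G)⁻¹ * D.t * c) * (c : G)⁻¹ := by rw [k, hct]
            _ = D.t := by group
        · exact Or.inl k
        · exact Or.inr k
    · intro x hx
      rw [if_neg]
      intro k
      exact hx (D.mem_C.2 ((ct x).2 k.2))

end GData

end Cfsg.Agent.GTwoOdd.GamC
end

-- part: GTwoOdd/GamN
section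
set_option linter.all false
open scoped Cfsg.Agent.FastGrp

/-!
# The norm on the torus
-/

set_option autoImplicit false

open Cfsg
open scoped ComplexConjugate

namespace Cfsg.Agent.GTwoOdd.GamC

open Cfsg.Agent.GTwoOdd.GamSum

universe u

namespace GData

variable {G : Type u} [Group G] (D : GData G)

/-- the restriction to `T` -/
def rT (ξ : D.Q →* ℂˣ) : D.T →* ℂˣ where
  toFun x := ξ ⟨x, D.TQ x.2⟩
  map_one' := by
    have : (⟨((1 : D.T) : G), D.TQ (1 : D.T).2⟩ : D.Q) = 1 := rfl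
    rw [this, map_one]
  map_mul' x y := by rw [← map_mul]; rfl

theorem rT_coe (ξ : D.Q →* ℂˣ) (x : D.T) : (D.rT ξ x : ℂ) = ez D.Q ξ x := by
  rw [ez_mem _ _ (D.TQ x.2)]
  rfl

variable [Fintype G]

/-- conjugation by an element of the normaliser -/
def cj {n : G} (hn : D.Nn n) : D.T →* D.T where
  toFun x := ⟨n⁻¹ * x * n, D.norm_inv hn x x.2⟩
  map_one' := Subtype.ext (by simp)
  map_mul' x y := Subtype.ext (by
    change n⁻¹ * ((x : G) * y) * n = n⁻¹ * x * n * (n⁻¹ * y * n)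
    group)

theorem cj_coe {n : G} (hn : D.Nn n) (x : D.T) : (D.cj hn x : G) = n⁻¹ * x * n := rfl

theorem lam_V {x : G} (hx : x ∈ D.T) (hxx : x * x = 1) : ez D.Q D.lam x = 1 := by
  rcases D.Tinv x hx hxx with rfl | rfl | rfl | rfl
  · exact ez_one _ _
  · exact D.lam_t
  · exact D.lam_t2
  · exact D.lam_t3

theorem lam_ne_mu {n : G} (hn : D.Nn n) : D.rT D.lam ≠ (D.rT D.mu).comp (D.cj hn) := by
  intro h
  -- `x = n t2 n⁻¹`
  have hx := hn _ D.t2_mem
  have h1 := congrArg (fun f => ((f ⟨_, hx⟩ : ℂˣ) : ℂ)) h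
  simp only [MonoidHom.comp_apply] at h1
  rw [rT_coe, rT_coe, cj_coe, D.lam_V hx (CData.conj_invol D.t2t2)] at h1
  have h2 : n⁻¹ * (n * D.t2 * n⁻¹) * n = D.t2 := by group
  rw [h2, D.mu_t2] at h1
  norm_num at h1

theorem mu_ne_lam {n : G} (hn : D.Nn n) : D.rT D.mu ≠ (D.rT D.lam).comp (D.cj hn) := by
  intro h
  have h1 := congrArg (fun f => ((f ⟨_, D.t2_mem⟩ : ℂˣ) : ℂ)) h
  simp only [MonoidHom.comp_apply] at h1
  rw [rT_coe, rT_coe, cj_coe, D.lam_V (D.norm_inv hn _ D.t2_mem)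
    (by have := CData.conj_invol (g := n⁻¹) D.t2t2; rwa [inv_inv] at this), D.mu_t2] at h1
  norm_num at h1

/-- the stabiliser -/
def St (n : G) : Prop := n⁻¹ ∈ D.T ∨ n⁻¹ * D.n1⁻¹ ∈ D.T

theorem St_Nn {n : G} (h : D.St n) : D.Nn n := by
  have hT : ∀ τ ∈ D.T, D.Nn τ := fun τ hτ σ hσ => D.T.mul_mem (D.T.mul_mem hτ hσ) (D.T.inv_mem hτ)
  rcases h with h | h
  · exact hT _ (by simpa using D.T.inv_mem h)
  · have h1 := D.Nn_inv (D.Nn_mul (hT _ h) D.Nn_n1)
    rwa [inv_mul_cancel_right, inv_inv] at h1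

theorem eq_iff_St {ξ : D.Q →* ℂˣ} (hst : ∀ n, (∀ τ ∈ D.T, n * τ * n⁻¹ ∈ D.T) →
      (∀ τ ∈ D.T, ez D.Q ξ (n * τ * n⁻¹) = ez D.Q ξ τ) → n ∈ D.T ∨ n * D.n1⁻¹ ∈ D.T) {n : G} (hn : D.Nn n) :
    D.rT ξ = (D.rT ξ).comp (D.cj hn) ↔ D.St n := by
  constructor
  · intro h
    apply hst _ (D.Nn_inv hn)
    intro τ hτ
    have h1 := congrArg (fun f => ((f ⟨_, hτ⟩ : ℂˣ) : ℂ)) h
    simp only [MonoidHom.comp_apply] at h1
    rw [rT_coe, rT_coe, cj_coe] at h1
    rw [inv_inv]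
    exact h1.symm
  · intro h
    have hQ : n⁻¹ ∈ D.Q := D.stab_C h
    ext x
    rw [MonoidHom.comp_apply, rT_coe, rT_coe, cj_coe]
    have := ez_conj D.Q ξ hQ x
    rw [inv_inv] at this
    exact this.symm

open scoped Classical in
theorem sum_T (f : G → ℂ) (hf : ∀ x, x ∉ D.T → f x = 0) : ∑ x : G, f x = ∑ x : D.T, f x := by
  rw [← Finset.sum_subset (Finset.subset_univ (Finset.univ.filter fun x : G => x ∈ D.T))]
  · rw [Finset.sum_subtype (Finset.univ.filter fun x : G => x ∈ D.T) (p := fun x => x ∈ D.T)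
      (fun x => by simp)]
  · intro x _ hx
    apply hf
    intro h
    exact hx (by simp [h])

open scoped Classical in
theorem inner_n {n : G} (hn : D.Nn n) : ∑ x : G, D.Z x * conj (D.Z (n⁻¹ * x * n)) =
    if D.St n then 2 * (Nat.card D.T : ℂ) else 0 := by
  rw [D.sum_T _ (fun x hx => by rw [D.Z_notMem hx, zero_mul])]
  have e1 : ∀ x : D.T, D.Z x * conj (D.Z (n⁻¹ * x * n)) =
      (D.rT D.lam x : ℂ) * conj (((D.rT D.lam).comp (D.cj hn) x : ℂˣ) : ℂ) -
      (D.rT D.lam x : ℂ) * conj (((D.rT D.mu).comp (D.cj hn) x : ℂˣ) : ℂ) -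
      (D.rT D.mu x : ℂ) * conj (((D.rT D.lam).comp (D.cj hn) x : ℂˣ) : ℂ) +
      (D.rT D.mu x : ℂ) * conj (((D.rT D.mu).comp (D.cj hn) x : ℂˣ) : ℂ) := by
    intro x
    rw [D.Z_mem x.2, D.Z_mem (D.norm_inv hn x x.2)]
    simp only [MonoidHom.comp_apply]
    rw [rT_coe, rT_coe, rT_coe, rT_coe, cj_coe, map_sub]
    ring
  rw [Finset.sum_congr rfl fun x _ => e1 x, Finset.sum_add_distrib, Finset.sum_sub_distrib,
    Finset.sum_sub_distrib]
  rw [Cfsg.Agent.OddOrderCharacters.CyclicTI.sum_hom_mul_conj, Cfsg.Agent.OddOrderCharacters.CyclicTI.sum_hom_mul_conj,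
    Cfsg.Agent.OddOrderCharacters.CyclicTI.sum_hom_mul_conj, Cfsg.Agent.OddOrderCharacters.CyclicTI.sum_hom_mul_conj]
  rw [if_neg (D.lam_ne_mu hn), if_neg (D.mu_ne_lam hn)]
  have h1 := D.eq_iff_St D.stab hn
  have h2 := D.eq_iff_St D.stab' hn
  by_cases h : D.St n
  · rw [if_pos h, if_pos (h1.2 h), if_pos (h2.2 h)]
    ring
  · rw [if_neg h, if_neg (fun k => h (h1.1 k)), if_neg (fun k => h (h2.1 k))]
    ring

theorem n1_notMem : D.n1 ∉ D.T := by
  intro h
  apply D.t3_ne_t2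
  rw [← D.n1t2, D.comm _ h _ D.t2_mem]
  group

open scoped Classical in
theorem card_St (c : ℂ) : ∑ n : G, (if D.St n then c else 0) = 2 * (Nat.card D.T : ℂ) * c := by
  have e1 : ∀ n, (if D.St n then c else 0) = (if n⁻¹ ∈ D.T then c else 0) + (if n⁻¹ * D.n1⁻¹ ∈ D.T then c else 0) := by
    intro n
    unfold St
    by_cases h1 : n⁻¹ ∈ D.T
    · have h2 : ¬ (n⁻¹ * D.n1⁻¹ ∈ D.T) := by
        intro h2
        apply D.n1_notMem
        have := D.T.mul_mem (D.T.inv_mem h2) h1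
        have e : (n⁻¹ * D.n1⁻¹)⁻¹ * n⁻¹ = D.n1 := by group
        rwa [e] at this
      rw [if_pos (Or.inl h1), if_pos h1, if_neg h2, add_zero]
    · by_cases h2 : n⁻¹ * D.n1⁻¹ ∈ D.T
      · rw [if_pos (Or.inr h2), if_neg h1, if_pos h2, zero_add]
      · rw [if_neg (not_or.2 ⟨h1, h2⟩), if_neg h1, if_neg h2, add_zero]
  have e2 : ∑ n : G, (if n ∈ D.T then c else 0) = (Nat.card D.T : ℂ) * c := by
    rw [D.sum_T _ (fun x hx => if_neg hx)]
    rw [Finset.sum_congr rfl (fun x _ => if_pos x.2), Finset.sum_const, Finset.card_univ, nsmul_eq_mul,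
      Nat.card_eq_fintype_card]
  have e3 : ∑ n : G, (if n⁻¹ ∈ D.T then c else 0) = (Nat.card D.T : ℂ) * c := by
    rw [← e2, ← Equiv.sum_comp (Equiv.inv G) (fun n => if n ∈ D.T then c else 0)]
    rfl
  have e4 : ∑ n : G, (if n⁻¹ * D.n1⁻¹ ∈ D.T then c else 0) = (Nat.card D.T : ℂ) * c := by
    rw [← e3, ← Equiv.sum_comp (Equiv.mulLeft D.n1) (fun n => if n⁻¹ ∈ D.T then c else 0)]
    refine Finset.sum_congr rfl fun n _ => ?_
    have : ((Equiv.mulLeft D.n1) n)⁻¹ = n⁻¹ * D.n1⁻¹ := by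
      change (D.n1 * n)⁻¹ = _
      group
    rw [this]
  rw [Finset.sum_congr rfl fun n _ => e1 n, Finset.sum_add_distrib, e3, e4]
  ring

/-- scalar product of `ζ` and `Ω` -/
theorem sum_Z_Om : ∑ x : G, D.Z x * conj (D.Om x) = 2 * (Nat.card D.T : ℂ) := by
  classical
  have hT0 : (Nat.card D.T : ℂ) ≠ 0 := by exact_mod_cast Nat.card_pos.ne'
  have e1 : ∀ x, D.Z x * conj (D.Om x) = ∑ n : G, (2 * (Nat.card D.T : ℂ))⁻¹ *
      (if D.Nn n then D.Z x * conj (D.Z (n⁻¹ * x * n)) else 0) := by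
    intro x
    unfold Om
    rw [map_mul, map_sum, map_inv₀, map_mul, Complex.conj_natCast]
    have : (conj (2 : ℂ)) = 2 := Complex.conj_ofNat 2
    rw [this, Finset.mul_sum, Finset.mul_sum]
    refine Finset.sum_congr rfl fun n _ => ?_
    split_ifs
    · ring
    · simp
  rw [Finset.sum_congr rfl fun x _ => e1 x, Finset.sum_comm]
  have e2 : ∀ n : G, ∑ x : G, (2 * (Nat.card D.T : ℂ))⁻¹ *
      (if D.Nn n then D.Z x * conj (D.Z (n⁻¹ * x * n)) else 0) = if D.St n then 1 else 0 := by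
    intro n
    rw [← Finset.mul_sum]
    by_cases hn : D.Nn n
    · simp only [if_pos hn]
      rw [D.inner_n hn]
      split_ifs
      · field_simp
      · rw [mul_zero]
    · simp only [if_neg hn]
      rw [if_neg (fun h => hn (D.St_Nn h))]
      simp
  rw [Finset.sum_congr rfl fun n _ => e2 n, D.card_St, mul_one]

/-- `λ` is not trivial on `T` -/
theorem sum_Z : ∑ x : G, D.Z x = 0 := by
  classical
  rw [D.sum_T _ (fun x hx => D.Z_notMem hx)]
  have e1 : ∀ x : D.T, D.Z x = (D.rT D.lam x : ℂ) * conj (((1 : D.T →* ℂˣ) x : ℂˣ) : ℂ) -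
      (D.rT D.mu x : ℂ) * conj (((1 : D.T →* ℂˣ) x : ℂˣ) : ℂ) := by
    intro x
    rw [D.Z_mem x.2, rT_coe, rT_coe]
    simp
  rw [Finset.sum_congr rfl fun x _ => e1 x, Finset.sum_sub_distrib]
  rw [Cfsg.Agent.OddOrderCharacters.CyclicTI.sum_hom_mul_conj, Cfsg.Agent.OddOrderCharacters.CyclicTI.sum_hom_mul_conj]
  have h1 : D.rT D.lam ≠ 1 := by
    intro h
    have hl : ∀ x ∈ D.T, ez D.Q D.lam x = 1 := by
      intro x hx
      have := D.rT_coe D.lam ⟨x, hx⟩
      rw [h] at this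
      simpa using this.symm
    apply D.ρ_not (n := 1) (by simp)
    rw [mul_one]
    apply D.stab_C
    apply D.stab _ D.ρT
    intro τ hτ
    rw [hl _ (D.ρT _ hτ), hl _ hτ]
  have h2 : D.rT D.mu ≠ 1 := by
    intro h
    have := D.rT_coe D.mu ⟨D.t2, D.t2_mem⟩
    rw [h, D.mu_t2] at this
    norm_num at this
  rw [if_neg h1, if_neg h2, sub_zero]

end GData

end Cfsg.Agent.GTwoOdd.GamC

private theorem dce_6da5386f632b : _root_.True := by
  try have : _root_.True := by simp only [_root_.Cfsg.Agent.GTwoOdd.GamC.GData.cj.congr_simp]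
  exact _root_.True.intro
end

-- part: GTwoOdd/GamV
section
set_option linter.all false
open scoped Cfsg.Agent.FastGrp

/-!
# The vector on `Irr(G)` and the final equation
-/

set_option autoImplicit false

open Cfsg
open scoped ComplexConjugate

namespace Cfsg.Agent.GTwoOdd.GamC

open Cfsg.Agent.GTwoOdd.GamSum

universe u

namespace GData

variable {G : Type u} [Group G] (D : GData G)

theorem ai_coe (y : D.C) : ai y = ai (y : G) := by
  unfold ai
  by_cases h : (y : G) * y = 1 ∧ (y : G) ≠ 1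
  · rw [if_pos h, if_pos ⟨Subtype.ext h.1, fun k => h.2 (congrArg Subtype.val k)⟩]
  · rw [if_neg h, if_neg]
    rintro ⟨h1, h2⟩
    exact h ⟨congrArg Subtype.val h1, fun k => h2 (Subtype.ext k)⟩

theorem ai_eq_one {x : G} (h : x * x = 1) (h1 : x ≠ 1) : ai x = 1 := by
  unfold ai; rw [if_pos ⟨h, h1⟩]

theorem ai_ne {x : G} (h : ai x ≠ 0) : x * x = 1 ∧ x ≠ 1 := by
  unfold ai at h
  by_contra k
  rw [if_neg k] at h
  exact h rfl

theorem mul_w_sq {i : G} (h : i * D.w ∈ D.T) : i * i = 1 := by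
  have h1 := D.w_inv _ h
  have h2 : D.w⁻¹ = D.w := inv_eq_of_mul_eq_one_left D.ww
  have h3 : D.w * i = D.w⁻¹ * i⁻¹ := by
    calc D.w * i = D.w * (i * D.w) * D.w⁻¹ := by group
      _ = D.w⁻¹ * i⁻¹ := by rw [h1]; group
  rw [h2] at h3
  have h4 : i = i⁻¹ := mul_left_cancel h3
  calc i * i = i * i⁻¹ := by rw [← h4]
    _ = 1 := mul_inv_cancel i

theorem mul_w_ne {i : G} (h : i * D.w ∈ D.T) : i ≠ 1 := by
  rintro rfl
  rw [one_mul] at h
  exact D.w_nm h

/-- an involution whose product with `x` is an involution inverts the powers of `x` -/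
theorem inv_comm {i x s : G} (hi : i * i = 1) (hix : i⁻¹ * x * (i⁻¹ * x) = 1) (hs : s ∈ Subgroup.zpowers x)
    (ss : s * s = 1) : i * s = s * i := by
  have h0 : i⁻¹ = i := inv_eq_of_mul_eq_one_left hi
  have h1 : i * x * i⁻¹ = x⁻¹ := by
    rw [h0] at hix
    rw [eq_inv_iff_mul_eq_one, h0]
    calc i * x * i * x = i * x * (i * x) := by group
      _ = 1 := hix
  obtain ⟨k, rfl⟩ := Subgroup.mem_zpowers_iff.1 hs
  have h2 : i * x ^ k * i⁻¹ = x ^ k := by
    rw [← conj_zpow, h1, inv_zpow]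
    exact inv_eq_of_mul_eq_one_left ss
  calc i * x ^ k = i * x ^ k * i⁻¹ * i := by group
    _ = x ^ k * i := by rw [h2]

variable [Fintype G]

open scoped Classical in
/-- number of pairs of involutions with product `y` for `y` in the torus -/
theorem be_T [Fintype D.C] {y : D.C} (hy : (y : G) ∈ D.T)
    (hs : D.t2 ∈ Subgroup.zpowers (y : G) ∨ D.t * D.t2 ∈ Subgroup.zpowers (y : G)) :
    CData.be y = (Nat.card D.T : ℂ) + (if (y : G) * y = 1 then 2 else 0) := by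
  obtain ⟨s, hs2, hsy⟩ : ∃ s, (s = D.t2 ∨ s = D.t * D.t2) ∧ s ∈ Subgroup.zpowers (y : G) := by
    rcases hs with h | h
    · exact ⟨_, Or.inl rfl, h⟩
    · exact ⟨_, Or.inr rfl, h⟩
  have ss : s * s = 1 := by
    rcases hs2 with rfl | rfl
    · exact D.t2t2
    · exact D.t3t3
  have s1 : s ≠ 1 := by
    rcases hs2 with rfl | rfl
    · exact D.t2_ne
    · exact D.t3_ne
  have n12 := D.t2_ne_t
  have n13 := D.t3_ne_t
  have n23 := D.t3_ne_t2
  have term : ∀ i : D.C, ai i * ai (i⁻¹ * y) = (if (i : G) * D.w ∈ D.T then 1 else 0) +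
      (if (y : G) * y = 1 ∧ ((i : G) = D.t ∨ (i : G) = D.t2 ∨ (i : G) = D.t * D.t2) ∧ (i : G) ≠ y then 1 else 0) := by
    intro i
    rw [D.ai_coe, D.ai_coe]
    change ai (i : G) * ai ((i : G)⁻¹ * y) = _
    have hVT : ((i : G) = D.t ∨ (i : G) = D.t2 ∨ (i : G) = D.t * D.t2) → (i : G) ∈ D.T := by
      rintro (h | h | h)
      · rw [h]; exact D.t_mem
      · rw [h]; exact D.t2_mem
      · rw [h]; exact D.T.mul_mem D.t_mem D.t2_mem
    have hVi : ((i : G) = D.t ∨ (i : G) = D.t2 ∨ (i : G) = D.t * D.t2) → (i : G) * i = 1 ∧ (i : G) ≠ 1 := by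
      rintro (h | h | h)
      · rw [h]; exact ⟨D.tt, D.t1⟩
      · rw [h]; exact ⟨D.t2t2, D.t2_ne⟩
      · rw [h]; exact ⟨D.t3t3, D.t3_ne⟩
    by_cases hw : (i : G) * D.w ∈ D.T
    · have hiT : (i : G) ∉ D.T := by
        intro h
        apply D.w_nm
        have := D.T.mul_mem (D.T.inv_mem h) hw
        rwa [inv_mul_cancel_left] at this
      rw [if_pos hw, if_neg (fun k => hiT (hVT k.2.1)), add_zero, ai_eq_one (D.mul_w_sq hw) (D.mul_w_ne hw), one_mul]
      have h2 : (i : G)⁻¹ * y * D.w ∈ D.T := by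
        have h0 : (i : G)⁻¹ = i := inv_eq_of_mul_eq_one_left (D.mul_w_sq hw)
        have h3 := D.w_inv _ hy
        have h4 : D.w⁻¹ * (y : G) * D.w = (y : G)⁻¹ := by
          have h5 := D.w_inv _ (D.T.inv_mem hy)
          calc D.w⁻¹ * (y : G) * D.w = D.w⁻¹ * (y : G)⁻¹⁻¹ * D.w := by rw [inv_inv]
            _ = D.w⁻¹ * (D.w * (y : G)⁻¹ * D.w⁻¹) * D.w := by rw [h5]
            _ = (y : G)⁻¹ := by group
        have e : (i : G)⁻¹ * y * D.w = ((i : G) * D.w) * (D.w⁻¹ * (y : G) * D.w) := by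
          rw [h0]; group
        rw [e, h4]
        exact D.T.mul_mem hw (D.T.inv_mem hy)
      rw [ai_eq_one (D.mul_w_sq h2) (D.mul_w_ne h2)]
    · rw [if_neg hw, zero_add]
      by_cases hne : ai (i : G) * ai ((i : G)⁻¹ * y) = 0
      · rw [hne, if_neg]
        rintro ⟨h1, h2, h3⟩
        obtain ⟨k1, k2⟩ := hVi h2
        rw [ai_eq_one k1 k2, one_mul] at hne
        have k3 : (i : G)⁻¹ * y * ((i : G)⁻¹ * y) = 1 := by
          have h0 : (i : G)⁻¹ = i := inv_eq_of_mul_eq_one_left k1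
          have hc := D.comm _ (hVT h2) _ hy
          rw [h0]
          calc (i : G) * y * (i * y) = (i : G) * (y * i) * y := by group
            _ = (i : G) * (i * y) * y := by rw [hc]
            _ = (i * i) * ((y : G) * y) := by group
            _ = 1 := by rw [k1, h1, one_mul]
        have k4 : (i : G)⁻¹ * y ≠ 1 := by
          intro k
          exact h3 (inv_mul_eq_one.1 k)
        rw [ai_eq_one k3 k4] at hne
        exact one_ne_zero hne
      · have a1 := ai_ne (x := (i : G)) (fun k => hne (by rw [k, zero_mul]))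
        have a2 := ai_ne (x := (i : G)⁻¹ * y) (fun k => hne (by rw [k, mul_zero]))
        have hcs := inv_comm a1.1 a2.1 hsy ss
        have hct := D.mem_C.1 i.2
        have hct2 : (i : G) * D.t2 = D.t2 * i := by
          rcases hs2 with rfl | rfl
          · exact hcs
          · have : D.t * ((i : G) * D.t2) = D.t * (D.t2 * i) := by
              rw [← mul_assoc, ← hct, mul_assoc, hcs, mul_assoc]
            exact mul_left_cancel this
        have hiT : (i : G) ∈ D.T := (D.Kinv _ hct hct2 a1.1).resolve_right hw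
        have hV : ((i : G) = D.t ∨ (i : G) = D.t2 ∨ (i : G) = D.t * D.t2) :=
          (D.Tinv _ hiT a1.1).resolve_left a1.2
        have hyy : (y : G) * y = 1 := by
          have h0 : (i : G)⁻¹ = i := inv_eq_of_mul_eq_one_left a1.1
          have hc := D.comm _ hiT _ hy
          have := a2.1
          rw [h0] at this
          calc (y : G) * y = (i * i) * ((y : G) * y) := by rw [a1.1, one_mul]
            _ = (i : G) * (i * y) * y := by group
            _ = (i : G) * (y * i) * y := by rw [hc]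
            _ = (i : G) * y * (i * y) := by group
            _ = 1 := this
        have hiy : (i : G) ≠ y := by
          intro k
          apply a2.2
          rw [k]; group
        rw [ai_eq_one a1.1 a1.2, ai_eq_one a2.1 a2.2, if_pos ⟨hyy, hV, hiy⟩, mul_one]
  unfold CData.be
  rw [Finset.sum_congr rfl fun i _ => term i, Finset.sum_add_distrib]
  congr 1
  · rw [D.sum_coe (fun i : G => if i * D.w ∈ D.T then (1 : ℂ) else 0)]
    · have e2 : ∑ n : G, (if n ∈ D.T then (1 : ℂ) else 0) = (Nat.card D.T : ℂ) := by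
        rw [D.sum_T _ (fun x hx => if_neg hx)]
        rw [Finset.sum_congr rfl (fun x _ => if_pos x.2), Finset.sum_const, Finset.card_univ, nsmul_eq_mul,
          Nat.card_eq_fintype_card, mul_one]
      rw [← e2, ← Equiv.sum_comp (Equiv.mulRight D.w) (fun n => if n ∈ D.T then (1 : ℂ) else 0)]
      rfl
    · intro x hx
      rw [if_neg]
      intro k
      apply hx
      have h1 : x = x * D.w * D.w⁻¹ := by group
      rw [h1]
      exact D.C.mul_mem (D.TleC k) (D.C.inv_mem (D.mem_C.2 D.wt))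
  · rw [D.sum_coe (fun i : G => if (y : G) * y = 1 ∧ (i = D.t ∨ i = D.t2 ∨ i = D.t * D.t2) ∧ i ≠ y then (1 : ℂ) else 0)]
    · by_cases hyy : (y : G) * y = 1
      · rw [if_pos hyy]
        have hys : s = y := by
          rcases zp_of_sq hyy hsy with h | h
          · exact absurd h s1
          · exact h
        rw [← Finset.sum_filter, Finset.sum_const, nsmul_eq_mul, mul_one]
        have : (Finset.univ.filter fun i : G => (y : G) * y = 1 ∧ (i = D.t ∨ i = D.t2 ∨ i = D.t * D.t2) ∧ i ≠ y).card = 2 := by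
          rcases hs2 with h | h
          · have : (Finset.univ.filter fun i : G => (y : G) * y = 1 ∧ (i = D.t ∨ i = D.t2 ∨ i = D.t * D.t2) ∧ i ≠ y) =
                {D.t, D.t * D.t2} := by
              ext i
              simp only [Finset.mem_filter, Finset.mem_univ, true_and, Finset.mem_insert, Finset.mem_singleton]
              constructor
              · rintro ⟨-, h1 | h1 | h1, h2⟩
                · exact Or.inl h1
                · exact absurd (h1.trans (h.symm.trans hys)) h2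
                · exact Or.inr h1
              · rintro (rfl | rfl)
                · exact ⟨hyy, Or.inl rfl, fun k => n12 ((h.symm.trans hys).trans k.symm)⟩
                · exact ⟨hyy, Or.inr (Or.inr rfl), fun k => n23 (k.trans (hys.symm.trans h))⟩
            rw [this, Finset.card_pair n13.symm]
          · have : (Finset.univ.filter fun i : G => (y : G) * y = 1 ∧ (i = D.t ∨ i = D.t2 ∨ i = D.t * D.t2) ∧ i ≠ y) =
                {D.t, D.t2} := by
              ext i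
              simp only [Finset.mem_filter, Finset.mem_univ, true_and, Finset.mem_insert, Finset.mem_singleton]
              constructor
              · rintro ⟨-, h1 | h1 | h1, h2⟩
                · exact Or.inl h1
                · exact Or.inr h1
                · exact absurd (h1.trans (h.symm.trans hys)) h2
              · rintro (rfl | rfl)
                · exact ⟨hyy, Or.inl rfl, fun k => n13 ((h.symm.trans hys).trans k.symm)⟩
                · exact ⟨hyy, Or.inr (Or.inl rfl), fun k => n23 ((h.symm.trans hys).trans k.symm)⟩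
            rw [this, Finset.card_pair n12.symm]
        rw [this]
        norm_num
      · rw [if_neg hyy]
        apply Finset.sum_eq_zero
        intro i _
        rw [if_neg (fun k => hyy k.1)]
    · intro x hx
      rw [if_neg]
      rintro ⟨-, h | h | h, -⟩
      · exact hx (by rw [h]; exact D.TleC D.t_mem)
      · exact hx (by rw [h]; exact D.TleC D.t2_mem)
      · exact hx (by rw [h]; exact D.TleC (D.T.mul_mem D.t_mem D.t2_mem))

open scoped Classical in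
theorem S_const : D.S (fun x => (Nat.card D.T : ℂ) + (if x * x = 1 then 2 else 0)) = 8 := by
  rw [D.S_eq]
  · have e1 : ∀ x, D.Z x * ((Nat.card D.T : ℂ) + (if x * x = 1 then 2 else 0)) =
        D.Z x * (Nat.card D.T : ℂ) + (if x = D.t2 then 4 else 0) + (if x = D.t * D.t2 then 4 else 0) := by
      intro x
      by_cases hx : x ∈ D.T
      · by_cases hxx : x * x = 1
        · rw [if_pos hxx]
          rcases D.Tinv x hx hxx with rfl | rfl | rfl | rfl
          · rw [D.Z_one, if_neg D.t2_ne.symm, if_neg D.t3_ne.symm]; ring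
          · rw [D.Z_t, if_neg D.t2_ne_t.symm, if_neg D.t3_ne_t.symm]; ring
          · rw [D.Z_t2, if_pos rfl, if_neg D.t3_ne_t2.symm]; ring
          · rw [D.Z_t3, if_neg D.t3_ne_t2, if_pos rfl]; ring
        · rw [if_neg hxx, if_neg (fun h => hxx (by rw [h]; exact D.t2t2)),
            if_neg (fun h => hxx (by rw [h]; exact D.t3t3))]
          ring
      · have h2 : ¬ x = D.t2 := fun h => hx (by rw [h]; exact D.t2_mem)
        have h3 : ¬ x = D.t * D.t2 := fun h => hx (by rw [h]; exact D.T.mul_mem D.t_mem D.t2_mem)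
        rw [D.Z_notMem hx, if_neg h2, if_neg h3]
        ring
    rw [Finset.sum_congr rfl fun x _ => e1 x, Finset.sum_add_distrib, Finset.sum_add_distrib, ← Finset.sum_mul,
      D.sum_Z]
    simp only [Finset.sum_ite_eq', Finset.mem_univ, if_true]
    norm_num
  · intro x _
    congr 1
    have : D.ρ * x * D.ρ⁻¹ * (D.ρ * x * D.ρ⁻¹) = 1 ↔ x * x = 1 := by
      constructor
      · intro h
        calc x * x = D.ρ⁻¹ * (D.ρ * x * D.ρ⁻¹ * (D.ρ * x * D.ρ⁻¹)) * D.ρ := by group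
          _ = 1 := by rw [h]; group
      · intro h
        calc D.ρ * x * D.ρ⁻¹ * (D.ρ * x * D.ρ⁻¹) = D.ρ * (x * x) * D.ρ⁻¹ := by group
          _ = 1 := by rw [h]; group
    by_cases h : x * x = 1
    · rw [if_pos h, if_pos (this.2 h)]
    · rw [if_neg h, if_neg (fun k => h (this.1 k))]

open scoped Classical in
/-- splitting off the elements with `t` among their powers -/
theorem split_sum [Fintype D.C] (ψ : D.C → ℂ) :
    ∑ y : D.C, (if D.t ∈ Subgroup.zpowers (y : G) then D.toC.F y * ψ y else 0) =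
      ∑ y : D.C, D.toC.F y * ψ y - ∑ y : D.C, (if D.toC.E y then D.toC.F y * ψ y else 0) := by
  rw [← Finset.sum_sub_distrib]
  refine Finset.sum_congr rfl fun y _ => ?_
  by_cases ht : D.t ∈ Subgroup.zpowers (y : G)
  · have hE : ¬ D.toC.E y := by
      rintro ⟨s, hs, h1, h2, h3⟩
      exact h3 (inv_unique hs (D.zp_t.2 ht) h1 D.toC.tt h2 D.toC.t1)
    rw [if_pos ht, if_neg hE, sub_zero]
  · rw [if_neg ht]
    by_cases hE : D.toC.E y
    · rw [if_pos hE, sub_self]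
    · rw [if_neg hE, sub_zero]
      have hF : D.toC.F y = 0 := by
        apply D.toC.F_odd
        intro s hs hss
        by_contra h1
        apply hE
        refine ⟨s, hs, hss, h1, ?_⟩
        rintro rfl
        exact ht (D.zp_t.1 hs)
      rw [hF, zero_mul]

open scoped Classical in
/-- the norm of the `t`-part of `F` -/
theorem norm_D [Fintype D.C] : ∑ y : D.C, (if D.t ∈ Subgroup.zpowers (y : G) then D.toC.F y * conj (D.toC.F y) else 0) =
    2 * (Nat.card D.C : ℂ) := by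
  have hC0 : (Nat.card D.C : ℂ) ≠ 0 := by exact_mod_cast Nat.card_pos.ne'
  have hT0 : (Nat.card D.T : ℂ) ≠ 0 := by exact_mod_cast Nat.card_pos.ne'
  have h1 := D.toC.norm_F
  rw [Cfsg.Agent.Characters.Core.classInner_def] at h1
  have h2 : ∑ y : D.C, D.toC.F y * conj (D.toC.F y) = 4 * (Nat.card D.C : ℂ) := by
    rw [← h1]
    field_simp
  rw [D.split_sum (fun y => conj (D.toC.F y)), h2, D.sum_E_S (fun y => conj (D.toC.F y)) _ (fun x => conj (D.Om x))]
  · rw [D.S_eq, D.sum_Z_Om]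
    · field_simp
      ring
    · intro x _
      rw [D.Om_ρ]
  · intro y hy h
    rcases h with h | h
    · rw [D.F_eq_Om hy (Or.inl rfl) h]
    · rw [D.F_eq_Om hy (Or.inr rfl) h]
  · intro g x
    rw [D.toC.F_class]

open scoped Classical in
/-- the class sum of the `t`-part of `F` -/
theorem be_D [Fintype D.C] : ∑ y : D.C, (if D.t ∈ Subgroup.zpowers (y : G) then D.toC.F y * CData.be y else 0) =
    4 * ((Nat.card D.C : ℂ) / (Nat.card D.T : ℂ)) * ((Nat.card D.B : ℂ) / (Nat.card D.T : ℂ)) := by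
  have hcard : Nat.card (D.toC).T = Nat.card D.T := by
    change Nat.card (D.T.subgroupOf D.C) = Nat.card D.T
    exact Nat.card_congr (Subgroup.subgroupOfEquivOfLe D.TleC).toEquiv
  have hcardB : Nat.card (D.toC).B = Nat.card D.B := by
    change Nat.card (D.B.subgroupOf D.C) = Nat.card D.B
    exact Nat.card_congr (Subgroup.subgroupOfEquivOfLe D.BleC).toEquiv
  rw [D.split_sum CData.be, CData.sum_F_be, CData.pair_F, hcard, hcardB,
    D.sum_E_S CData.be (fun g x => CData.be_conj g x) (fun x => (Nat.card D.T : ℂ) + (if x * x = 1 then 2 else 0)),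
    D.S_const]
  · ring
  · intro y hy h
    exact D.be_T hy h

end GData

end Cfsg.Agent.GTwoOdd.GamC

private theorem dce_eb9cd1130d83 : _root_.True := by
  try have : _root_.True := by simp only [_root_.Cfsg.Agent.GTwoOdd.GamC.GData.toC.congr_simp]
  exact _root_.True.intro
end

-- part: GTwoOdd/GamW
section
prune_inst 0x75703744656200000018a510322060246c00019200608000f8e00f440b0b7342a08209410ea03d121a222a9100050020025c0040400000000a000000000401000028100090480008420090003186000000000000000000000000800000041000008000000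
set_option linter.all false
open scoped Cfsg.Agent.FastGrp

/-!
# The final equation
-/

set_option autoImplicit false

open Cfsg
open scoped ComplexConjugate

namespace Cfsg.Agent.GTwoOdd.GamC

open Cfsg.Agent.GTwoOdd.GamSum

universe u

/-- two opposite entries -/
theorem pair_of_norm_two {ι : Type*} [Fintype ι] (n : ι → ℤ) (hn : ∑ i, n i ^ 2 = 2) (d : ι → ℤ)
    (hd : ∀ i, 0 < d i) (h0 : ∑ i, n i * d i = 0) :
    ∃ i j, i ≠ j ∧ n i = 1 ∧ n j = -1 ∧ ∀ k, k ≠ i → k ≠ j → n k = 0 := by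
  classical
  have hex : ∃ i, n i ≠ 0 := by
    by_contra h
    push Not at h
    rw [Finset.sum_eq_zero (fun i _ => by rw [h i]; norm_num)] at hn
    norm_num at hn
  obtain ⟨i, hi⟩ := hex
  have h1 := Finset.add_sum_erase Finset.univ (fun i => n i ^ 2) (Finset.mem_univ i)
  have hi2 : n i ^ 2 = 1 := by
    have h2 : 0 ≤ ∑ x ∈ Finset.univ.erase i, n x ^ 2 := Finset.sum_nonneg fun x _ => sq_nonneg _
    have h3 : n i ^ 2 ≤ 2 := by
      rw [← hn, ← h1]; linarith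
    have h4 : 0 < n i ^ 2 := by positivity
    have h5 : n i < 2 := by nlinarith only [hn, h1, h2]
    have h6 : -2 < n i := by nlinarith only [hn, h1, h2]
    have : n i = 1 ∨ n i = -1 := by omega
    rcases this with h | h <;> rw [h] <;> norm_num
  have hex2 : ∃ j ∈ Finset.univ.erase i, n j ≠ 0 := by
    by_contra h
    push Not at h
    rw [Finset.sum_eq_zero (fun j hj => by rw [h j hj]; norm_num)] at h1
    rw [hn, hi2] at h1
    norm_num at h1
  obtain ⟨j, hj, hj0⟩ := hex2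
  have h2 := Finset.add_sum_erase (Finset.univ.erase i) (fun i => n i ^ 2) hj
  have hrest : n j ^ 2 = 1 ∧ ∑ x ∈ (Finset.univ.erase i).erase j, n x ^ 2 = 0 := by
    have h3 : 0 ≤ ∑ x ∈ (Finset.univ.erase i).erase j, n x ^ 2 := Finset.sum_nonneg fun x _ => sq_nonneg _
    have h4 : 0 < n j ^ 2 := by positivity
    constructor <;> linarith
  have hk : ∀ k, k ≠ i → k ≠ j → n k = 0 := by
    intro k hki hkj
    have h3 := (Finset.sum_eq_zero_iff_of_nonneg (fun x _ => sq_nonneg (n x))).1 hrest.2 k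
      (Finset.mem_erase.2 ⟨hkj, Finset.mem_erase.2 ⟨hki, Finset.mem_univ k⟩⟩)
    exact pow_eq_zero_iff (two_ne_zero) |>.1 h3
  have hji : j ≠ i := (Finset.mem_erase.1 hj).1
  have hsum : n i * d i + n j * d j = 0 := by
    rw [← h0]
    rw [Finset.sum_eq_add i j hji.symm (fun k _ hk' => by rw [hk k hk'.1 hk'.2, zero_mul])
      (fun h => absurd (Finset.mem_univ _) h) (fun h => absurd (Finset.mem_univ _) h)]
  have hsq : ∀ m : ℤ, m ^ 2 = 1 → m = 1 ∨ m = -1 := by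
    intro m hm
    have h3 : (m - 1) * (m + 1) = 0 := by linarith
    rcases mul_eq_zero.1 h3 with h4 | h4
    · left; linarith
    · right; linarith
  have hi1 : n i = 1 ∨ n i = -1 := hsq _ hi2
  have hj1 : n j = 1 ∨ n j = -1 := hsq _ hrest.1
  have hdi := hd i
  have hdj := hd j
  rcases hi1 with hi1 | hi1 <;> rcases hj1 with hj1 | hj1
  · rw [hi1, hj1] at hsum; linarith
  · exact ⟨i, j, hji.symm, hi1, hj1, hk⟩
  · exact ⟨j, i, hji, hj1, hi1, fun k h1 h2 => hk k h2 h1⟩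
  · rw [hi1, hj1] at hsum; linarith

namespace GData

variable {G : Type u} [Group G] (D : GData G) [Fintype G] [Fintype D.C]

open scoped Classical in
/-- the coefficients of the vector -/
noncomputable def cf (y : D.C) : ℂ :=
  (Nat.card D.C : ℂ)⁻¹ * (if D.t ∈ Subgroup.zpowers (y : G) then D.toC.F y else 0)

theorem cf_zero {y : D.C} (h : D.t ∉ Subgroup.zpowers (y : G)) : D.cf y = 0 := by
  unfold cf; rw [if_neg h, mul_zero]

theorem cf_pos {y : D.C} (h : D.t ∈ Subgroup.zpowers (y : G)) : D.cf y = (Nat.card D.C : ℂ)⁻¹ * D.toC.F y := by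
  unfold cf; rw [if_pos h]

theorem zp_t_conj (g y : D.C) : D.t ∈ Subgroup.zpowers ((g⁻¹ * y * g : D.C) : G) ↔
    D.t ∈ Subgroup.zpowers (y : G) := by
  change D.t ∈ Subgroup.zpowers ((g : G)⁻¹ * y * g) ↔ _
  rw [zpowers_conj_mem]
  have : (g : G) * D.t * (g : G)⁻¹ = D.t := by
    rw [D.mem_C.1 g.2]; group
  rw [this]

theorem cf_conj (g y : D.C) : D.cf (g⁻¹ * y * g) = D.cf y := by
  by_cases h : D.t ∈ Subgroup.zpowers (y : G)
  · rw [D.cf_pos h, D.cf_pos ((D.zp_t_conj g y).2 h)]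
    have := D.toC.F_class g⁻¹ y
    rw [inv_inv] at this
    rw [this]
  · rw [D.cf_zero h, D.cf_zero (fun k => h ((D.zp_t_conj g y).1 k))]

/-- the vector -/
noncomputable def v (χ : G → ℂ) : ℂ := ∑ y : D.C, D.cf y * conj (χ (y : G))

/-- elements conjugating two elements with `t` among their powers are in `C(t)` -/
theorem conj_mem_C {g y y' : G} (h : D.t ∈ Subgroup.zpowers y) (h' : D.t ∈ Subgroup.zpowers y')
    (hg : g * y' * g⁻¹ = y) : g ∈ D.C := by
  have h1 : g * D.t * g⁻¹ ∈ Subgroup.zpowers y := by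
    rw [← hg, zpowers_conj_mem']
    have : g⁻¹ * (g * D.t * g⁻¹) * g = D.t := by group
    rwa [this]
  have h2 := inv_unique h1 h (CData.conj_invol D.tt) D.tt (CData.conj_ne_one D.t1) D.t1
  rw [D.mem_C]
  calc g * D.t = g * D.t * g⁻¹ * g := by group
    _ = D.t * g := by rw [h2]

open scoped Classical in
theorem card_eq_sum {α : Type*} [Fintype α] (P : α → Prop) :
    (Nat.card {g : α // P g} : ℂ) = ∑ g : α, (if P g then (1 : ℂ) else 0) := by
  rw [Nat.card_eq_fintype_card, Fintype.card_subtype, Finset.card_filter]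
  push_cast
  rfl

variable [Fintype (IrrCharacter G)]

/-- the norm of the vector -/
theorem v_norm : ∑ χ : IrrCharacter G, D.v χ * conj (D.v χ) = 2 := by
  classical
  have hC0 : (Nat.card D.C : ℂ) ≠ 0 := by exact_mod_cast Nat.card_pos.ne'
  have h0 := Cfsg.Agent.Ree.VecDef.sum_vec_mul (G := G) D.cf (fun y : D.C => (y : G)) D.cf (fun y : D.C => (y : G))
  unfold v
  rw [h0]
  have key : ∀ y : D.C, ∑ y' : D.C, D.cf y * conj (D.cf y') * (Nat.card {g : G // g * (y' : G) * g⁻¹ = y} : ℂ) =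
      (Nat.card D.C : ℂ) * (D.cf y * conj (D.cf y)) := by
    intro y
    by_cases hy : D.t ∈ Subgroup.zpowers (y : G)
    · have e1 : ∀ y' : D.C, D.cf y * conj (D.cf y') * (Nat.card {g : G // g * (y' : G) * g⁻¹ = y} : ℂ) =
          ∑ g : D.C, (if (g⁻¹ * y * g : D.C) = y' then D.cf y * conj (D.cf y') else 0) := by
        intro y'
        by_cases hy' : D.t ∈ Subgroup.zpowers (y' : G)
        · rw [card_eq_sum, Finset.mul_sum]
          rw [← D.sum_coe (fun g : G => D.cf y * conj (D.cf y') * (if g * (y' : G) * g⁻¹ = y then (1 : ℂ) else 0))]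
          · refine Finset.sum_congr rfl fun g _ => ?_
            have h1 : (g : G) * y' * (g : G)⁻¹ = y ↔ (g⁻¹ * y * g : D.C) = y' := by
              constructor
              · intro h
                apply Subtype.ext
                change (g : G)⁻¹ * y * g = y'
                rw [← h]; group
              · intro h
                have : (g : G)⁻¹ * y * g = y' := congrArg Subtype.val h
                rw [← this]; group
            by_cases h2 : (g⁻¹ * y * g : D.C) = y'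
            · rw [if_pos h2, if_pos (h1.2 h2), mul_one]
            · rw [if_neg h2, if_neg (fun k => h2 (h1.1 k)), mul_zero]
          · intro g hg
            rw [if_neg, mul_zero]
            intro k
            exact hg (D.conj_mem_C hy hy' k)
        · rw [D.cf_zero hy', map_zero, mul_zero, zero_mul]
          simp only [_root_.ite_self, _root_.Finset.sum_const_zero]
      rw [Finset.sum_congr rfl fun y' _ => e1 y', Finset.sum_comm]
      have e2 : ∀ g : D.C, ∑ y' : D.C, (if (g⁻¹ * y * g : D.C) = y' then D.cf y * conj (D.cf y') else 0) =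
          D.cf y * conj (D.cf y) := by
        intro g
        rw [Finset.sum_ite_eq, if_pos (Finset.mem_univ _), D.cf_conj]
      rw [Finset.sum_congr rfl fun g _ => e2 g, Finset.sum_const, Finset.card_univ, nsmul_eq_mul,
        Nat.card_eq_fintype_card]
    · rw [D.cf_zero hy]
      simp only [_root_.MulZeroClass.zero_mul, _root_.Nat.card_eq_fintype_card, _root_.Finset.sum_const_zero, _root_.map_zero, _root_.MulZeroClass.mul_zero]
  rw [Finset.sum_congr rfl fun y _ => key y, ← Finset.mul_sum]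
  have e3 : ∑ y : D.C, D.cf y * conj (D.cf y) = (Nat.card D.C : ℂ)⁻¹ * (Nat.card D.C : ℂ)⁻¹ *
      ∑ y : D.C, (if D.t ∈ Subgroup.zpowers (y : G) then D.toC.F y * conj (D.toC.F y) else 0) := by
    rw [Finset.mul_sum]
    refine Finset.sum_congr rfl fun y _ => ?_
    by_cases hy : D.t ∈ Subgroup.zpowers (y : G)
    · rw [D.cf_pos hy, if_pos hy, map_mul, map_inv₀, Complex.conj_natCast]
      ring
    · rw [D.cf_zero hy, if_neg hy]; ring
  rw [e3, D.norm_D]
  field_simp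

/-- the vector is integral -/
theorem v_int (χ : IrrCharacter G) : ∃ n : ℤ, D.v χ = n := by
  classical
  have hC0 : (Nat.card D.C : ℂ) ≠ 0 := by exact_mod_cast Nat.card_pos.ne'
  have hT0 : (Nat.card D.T : ℂ) ≠ 0 := by exact_mod_cast Nat.card_pos.ne'
  have hcl := Cfsg.Agent.Characters.Core.isIrr_isClassFunction χ.2
  obtain ⟨a, ha⟩ := Cfsg.Agent.Ree.VecDef.exists_int D.C D.toC.gen_F χ
  obtain ⟨b, hb⟩ := Cfsg.Agent.Ree.VecDef.exists_int D.T (θ := fun x : D.T => (D.rT D.lam x : ℂ) - (D.rT D.mu x : ℂ))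
    ⟨fun x : D.T => (D.rT D.lam x : ℂ), fun x : D.T => (D.rT D.mu x : ℂ),
      Cfsg.Agent.Characters.Linear.isCharacter_hom _, Cfsg.Agent.Characters.Linear.isCharacter_hom _, rfl⟩ χ
  refine ⟨a - b, ?_⟩
  have e1 : D.v χ = (Nat.card D.C : ℂ)⁻¹ *
      ∑ y : D.C, (if D.t ∈ Subgroup.zpowers (y : G) then D.toC.F y * conj ((χ : G → ℂ) y) else 0) := by
    unfold v
    rw [Finset.mul_sum]
    refine Finset.sum_congr rfl fun y _ => ?_
    by_cases hy : D.t ∈ Subgroup.zpowers (y : G)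
    · rw [D.cf_pos hy, if_pos hy]; ring
    · rw [D.cf_zero hy, if_neg hy]; ring
  rw [e1, D.split_sum (fun y => conj ((χ : G → ℂ) y)), D.sum_E_S (fun y => conj ((χ : G → ℂ) y)) _
    (fun x => conj ((χ : G → ℂ) x)) (fun y _ _ => rfl), D.S_eq]
  · have e2 : ∑ x : G, D.Z x * conj ((χ : G → ℂ) x) =
        ∑ x : D.T, ((D.rT D.lam x : ℂ) - (D.rT D.mu x : ℂ)) * conj ((χ : G → ℂ) x) := by
      rw [D.sum_T _ (fun x hx => by rw [D.Z_notMem hx, zero_mul])]
      refine Finset.sum_congr rfl fun x _ => ?_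
      rw [D.Z_mem x.2, rT_coe, rT_coe]
    rw [e2]
    have e3 : ∑ x : D.T, ((D.rT D.lam x : ℂ) - (D.rT D.mu x : ℂ)) * conj ((χ : G → ℂ) x) = (Nat.card D.T : ℂ) * b := by
      rw [← hb, ← mul_assoc, mul_inv_cancel₀ hT0, one_mul]
    have e4 : ∑ h : D.C, D.toC.F h * conj ((χ : G → ℂ) h) = (Nat.card D.C : ℂ) * a := by
      rw [← ha, ← mul_assoc, mul_inv_cancel₀ hC0, one_mul]
    rw [e3, e4]
    push_cast
    field_simp
  · intro x _
    rw [hcl]
  · intro g x
    have := hcl (x : G) (g : G)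
    change conj ((χ : G → ℂ) ((g : G) * x * (g : G)⁻¹)) = _
    rw [this]

/-- the degrees -/
theorem v_one : ∑ χ : IrrCharacter G, D.v χ * (χ : G → ℂ) 1 = 0 := by
  classical
  have h0 := Cfsg.Agent.Ree.VecDef.sum_vec_mul (G := G) D.cf (fun y : D.C => (y : G)) (fun _ : Unit => (1 : ℂ)) (fun _ => (1 : G))
  have e1 : ∑ χ : IrrCharacter G, D.v χ * (χ : G → ℂ) 1 =
      ∑ χ : IrrCharacter G, (∑ i, D.cf i * conj ((χ : G → ℂ) (i : G))) *
        conj (∑ j : Unit, (1 : ℂ) * conj ((χ : G → ℂ) ((fun _ => (1 : G)) j))) := by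
    refine Finset.sum_congr rfl fun χ _ => ?_
    unfold v
    simp only [_root_.Finset.univ_unique, _root_.PUnit.default_eq_unit, _root_.one_mul, _root_.Finset.sum_const, _root_.Finset.card_singleton, _root_.one_smul, _root_.RingHomCompTriple.comp_apply, _root_.RingHom.id_apply]
  rw [e1, h0]
  apply Finset.sum_eq_zero
  intro y _
  apply Finset.sum_eq_zero
  intro _ _
  by_cases hy : D.t ∈ Subgroup.zpowers (y : G)
  · have : Nat.card {g : G // g * 1 * g⁻¹ = (y : G)} = 0 := by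
      rw [Nat.card_eq_zero]
      left
      constructor
      rintro ⟨g, hg⟩
      have h1 : (y : G) = 1 := by rw [← hg]; group
      rw [h1] at hy
      have h2 : D.t = 1 := by simpa using hy
      exact D.t1 h2
    simp only [this]
    simp
  · rw [D.cf_zero hy]; simp only [_root_.map_one, _root_.mul_one, _root_.mul_inv_cancel, _root_.Nat.card_eq_fintype_card, _root_.MulZeroClass.zero_mul]

/-- the values at `t` -/
theorem v_t : ∑ χ : IrrCharacter G, D.v χ * (χ : G → ℂ) D.t =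
    2 * ((Nat.card D.C : ℂ) / (Nat.card D.B : ℂ)) := by
  classical
  have hC0 : (Nat.card D.C : ℂ) ≠ 0 := by exact_mod_cast Nat.card_pos.ne'
  have hcardB : Nat.card (D.toC).B = Nat.card D.B := by
    change Nat.card (D.B.subgroupOf D.C) = Nat.card D.B
    exact Nat.card_congr (Subgroup.subgroupOfEquivOfLe D.BleC).toEquiv
  have h0 := Cfsg.Agent.Ree.VecDef.sum_vec_mul (G := G) D.cf (fun y : D.C => (y : G)) (fun _ : Unit => (1 : ℂ)) (fun _ => D.t)
  have e1 : ∑ χ : IrrCharacter G, D.v χ * (χ : G → ℂ) D.t =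
      ∑ χ : IrrCharacter G, (∑ i, D.cf i * conj ((χ : G → ℂ) (i : G))) *
        conj (∑ j : Unit, (1 : ℂ) * conj ((χ : G → ℂ) ((fun _ => D.t) j))) := by
    refine Finset.sum_congr rfl fun χ _ => ?_
    unfold v
    simp
  rw [e1, h0, Finset.sum_eq_single (⟨D.t, D.TleC D.t_mem⟩ : D.C)]
  · have e2 : Nat.card {g : G // g * D.t * g⁻¹ = D.t} = Nat.card D.C := by
      apply Nat.card_congr
      refine Equiv.subtypeEquivRight fun g => ?_
      rw [D.mem_C]
      constructor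
      · intro h
        calc g * D.t = g * D.t * g⁻¹ * g := by group
          _ = D.t * g := by rw [h]
      · intro h
        rw [h]; group
    simp only [Finset.univ_unique, Finset.sum_singleton, e2]
    rw [D.cf_pos (Subgroup.mem_zpowers D.t)]
    have e3 : D.toC.F ⟨D.t, D.TleC D.t_mem⟩ = 2 * ((Nat.card D.C : ℂ) / (Nat.card D.B : ℂ)) := by
      have := D.toC.F_t
      rw [hcardB] at this
      exact this
    rw [e3]
    simp only [map_one, mul_one]
    field_simp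
  · intro y _ hy
    apply Finset.sum_eq_zero
    intro _ _
    by_cases hyt : D.t ∈ Subgroup.zpowers (y : G)
    · have : Nat.card {g : G // g * D.t * g⁻¹ = (y : G)} = 0 := by
        rw [Nat.card_eq_zero]
        left
        constructor
        rintro ⟨g, hg⟩
        apply hy
        apply Subtype.ext
        have h1 : (y : G) * y = 1 := by
          rw [← hg]; exact CData.conj_invol D.tt
        rcases zp_of_sq h1 hyt with h2 | h2
        · exact absurd h2 D.t1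
        · exact h2.symm
      simp only [this]
      simp
    · rw [D.cf_zero hyt]; simp only [_root_.map_one, _root_.mul_one, _root_.Nat.card_eq_fintype_card, _root_.MulZeroClass.zero_mul]
  · intro h
    exact absurd (Finset.mem_univ _) h

/-- number of pairs of involutions with product `y`, `t` among the powers of `y` -/
theorem card_pairs {y : D.C} (hy : D.t ∈ Subgroup.zpowers (y : G)) :
    (Nat.card {p : G × G // IsConj D.t p.1 ∧ IsConj D.t p.2 ∧ p.1 * p.2 = (y : G)} : ℂ) = CData.be y := by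
  classical
  have hcl : ∀ i : G, IsConj D.t i ↔ i * i = 1 ∧ i ≠ 1 := by
    intro i
    constructor
    · intro h
      obtain ⟨c, rfl⟩ := isConj_iff.1 h
      exact ⟨CData.conj_invol D.tt, CData.conj_ne_one D.t1⟩
    · rintro ⟨h1, h2⟩
      obtain ⟨g, hg⟩ := D.cls i h1 h2
      exact isConj_iff.2 ⟨g, hg⟩
  have e1 : Nat.card {p : G × G // IsConj D.t p.1 ∧ IsConj D.t p.2 ∧ p.1 * p.2 = (y : G)} =
      Nat.card {i : G // (i * i = 1 ∧ i ≠ 1) ∧ (i⁻¹ * y * (i⁻¹ * y) = 1 ∧ i⁻¹ * y ≠ 1)} := by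
    apply Nat.card_congr
    refine ⟨fun p => ⟨p.1.1, ?_⟩, fun i => ⟨(i.1, i.1⁻¹ * y), ?_⟩, fun p => ?_, fun i => ?_⟩
    · have h := p.2
      rw [hcl, hcl] at h
      have h2 : p.1.2 = p.1.1⁻¹ * y := eq_inv_mul_of_mul_eq h.2.2
      rw [← h2]
      exact ⟨h.1, h.2.1⟩
    · rw [hcl, hcl]
      exact ⟨i.2.1, i.2.2, by simp⟩
    · apply Subtype.ext
      have h := p.2.2.2
      apply Prod.ext
      · rfl
      · exact inv_mul_eq_of_eq_mul h.symm
    · rfl
  rw [e1, card_eq_sum]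
  unfold CData.be
  have e2 : ∀ i : D.C, ai i * ai (i⁻¹ * y) = ai (i : G) * ai ((i : G)⁻¹ * y) := by
    intro i
    rw [D.ai_coe, D.ai_coe]
    rfl
  rw [Finset.sum_congr rfl fun i _ => e2 i, D.sum_coe (fun i : G => ai i * ai (i⁻¹ * (y : G)))]
  · refine Finset.sum_congr rfl fun i _ => ?_
    unfold ai
    by_cases h1 : i * i = 1 ∧ i ≠ 1
    · by_cases h2 : i⁻¹ * (y : G) * (i⁻¹ * y) = 1 ∧ i⁻¹ * (y : G) ≠ 1
      · rw [if_pos ⟨h1, h2⟩, if_pos h1, if_pos h2, mul_one]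
      · rw [if_neg (fun k => h2 k.2), if_neg h2, mul_zero]
    · rw [if_neg (fun k => h1 k.1), if_neg h1, zero_mul]
  · intro i hi
    by_contra hne
    have a1 := ai_ne (x := i) (fun k => hne (by rw [k, zero_mul]))
    have a2 := ai_ne (x := i⁻¹ * (y : G)) (fun k => hne (by rw [k, mul_zero]))
    exact hi (D.mem_C.2 (inv_comm a1.1 a2.1 hy D.tt))

/-- the class sum equation -/
theorem v_class : ∑ χ : IrrCharacter G, D.v χ * ((χ : G → ℂ) D.t ^ 2 / (χ : G → ℂ) 1) =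
    (Nat.card D.C : ℂ) / (Nat.card G : ℂ) *
      (4 * ((Nat.card D.C : ℂ) / (Nat.card D.T : ℂ)) * ((Nat.card D.B : ℂ) / (Nat.card D.T : ℂ))) := by
  classical
  have hC0 : (Nat.card D.C : ℂ) ≠ 0 := by exact_mod_cast Nat.card_pos.ne'
  have h0 := Cfsg.Agent.Ree.VecDef.sum_vec_class (G := G) D.t D.cf (fun y : D.C => (y : G))
  unfold v
  rw [h0]
  have e1 : ∑ i : D.C, D.cf i * (Nat.card {p : G × G // IsConj D.t p.1 ∧ IsConj D.t p.2 ∧ p.1 * p.2 = (i : G)} : ℂ) =
      (Nat.card D.C : ℂ)⁻¹ *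
        ∑ y : D.C, (if D.t ∈ Subgroup.zpowers (y : G) then D.toC.F y * CData.be y else 0) := by
    rw [Finset.mul_sum]
    refine Finset.sum_congr rfl fun y _ => ?_
    by_cases hy : D.t ∈ Subgroup.zpowers (y : G)
    · rw [D.cf_pos hy, if_pos hy, D.card_pairs hy]; ring
    · rw [D.cf_zero hy, if_neg hy]; ring
  rw [e1, D.be_D]
  field_simp

/-- the final equation -/
theorem main : ∃ (N M : ℤ), 0 < N ∧ M ≠ 0 ∧ M ^ 2 ≤ 2 * (Nat.card D.C : ℤ) ∧
    (Nat.card G : ℤ) * M * (Nat.card D.T : ℤ) ^ 2 = 2 * (Nat.card D.B : ℤ) ^ 2 * (Nat.card D.C : ℤ) * N := by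
  classical
  have hC0 : (Nat.card D.C : ℂ) ≠ 0 := by exact_mod_cast Nat.card_pos.ne'
  have hG0 : (Nat.card G : ℂ) ≠ 0 := by exact_mod_cast Nat.card_pos.ne'
  have hB0 : (Nat.card D.B : ℂ) ≠ 0 := by exact_mod_cast Nat.card_pos.ne'
  have hT0 : (Nat.card D.T : ℂ) ≠ 0 := by exact_mod_cast Nat.card_pos.ne'
  choose n hn using D.v_int
  have hord : orderOf D.t = 2 := by
    have h2 : orderOf D.t ∣ 2 := orderOf_dvd_of_pow_eq_one (by rw [pow_two]; exact D.tt)
    rcases (Nat.dvd_prime Nat.prime_two).1 h2 with h3 | h3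
    · exact absurd (orderOf_eq_one_iff.1 h3) D.t1
    · exact h3
  choose z hz using fun χ : IrrCharacter G => Cfsg.Agent.S0944.result χ D.t hord
  choose d hd using fun χ : IrrCharacter G => Cfsg.Agent.Characters.Core.isIrr_apply_one χ.2
  have h1 : ∑ χ : IrrCharacter G, n χ ^ 2 = 2 := by
    have := D.v_norm
    simp only [hn] at this
    have e : ∀ χ : IrrCharacter G, ((n χ : ℤ) : ℂ) * conj ((n χ : ℤ) : ℂ) = ((n χ ^ 2 : ℤ) : ℂ) := by
      intro χ
      rw [map_intCast]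
      push_cast; ring
    rw [Finset.sum_congr rfl fun χ _ => e χ, ← Int.cast_sum] at this
    exact_mod_cast this
  have h2 : ∑ χ : IrrCharacter G, n χ * (d χ : ℤ) = 0 := by
    have := D.v_one
    simp only [hn] at this
    have e : ∀ χ : IrrCharacter G, ((n χ : ℤ) : ℂ) * (χ : G → ℂ) 1 = ((n χ * (d χ : ℤ) : ℤ) : ℂ) := by
      intro χ
      rw [(hd χ).2]
      push_cast; ring
    rw [Finset.sum_congr rfl fun χ _ => e χ, ← Int.cast_sum] at this
    exact_mod_cast this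
  obtain ⟨χ, χ', hne, hχ, hχ', hrest⟩ := pair_of_norm_two n h1 (fun χ => (d χ : ℤ))
    (fun χ => by exact_mod_cast (hd χ).1) h2
  have hsum : ∀ f : IrrCharacter G → ℂ, ∑ ψ : IrrCharacter G, D.v ψ * f ψ = f χ - f χ' := by
    intro f
    rw [Finset.sum_eq_add χ χ' hne (fun k _ hk' => by rw [hn, hrest k hk'.1 hk'.2, Int.cast_zero, zero_mul])
      (fun h => absurd (Finset.mem_univ _) h) (fun h => absurd (Finset.mem_univ _) h), hn, hn, hχ, hχ']
    push_cast; ring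
  have e1 := D.v_one
  rw [hsum (fun χ => (χ : G → ℂ) 1), (hd χ).2, (hd χ').2, sub_eq_zero] at e1
  have e2 := D.v_t
  rw [hsum (fun χ => (χ : G → ℂ) D.t), (hz χ).1, (hz χ').1] at e2
  have e3 := D.v_class
  rw [hsum (fun χ => (χ : G → ℂ) D.t ^ 2 / (χ : G → ℂ) 1), (hz χ).1, (hz χ').1, (hd χ).2, (hd χ').2, ← e1] at e3
  have hd0 : (d χ : ℂ) ≠ 0 := by exact_mod_cast (hd χ).1.ne'
  have hK0 : (Nat.card D.C : ℂ) / (Nat.card D.B : ℂ) ≠ 0 := div_ne_zero hC0 hB0
  -- the equation in `ℂ`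
  have e4 : (Nat.card G : ℂ) * ((z χ : ℂ) + (z χ' : ℂ)) * (Nat.card D.T : ℂ) ^ 2 =
      2 * (Nat.card D.B : ℂ) ^ 2 * (Nat.card D.C : ℂ) * (d χ : ℂ) := by
    have e5 : ((z χ : ℂ) - (z χ' : ℂ)) * ((z χ : ℂ) + (z χ' : ℂ)) = (d χ : ℂ) *
        ((z χ : ℂ) ^ 2 / (d χ : ℂ) - (z χ' : ℂ) ^ 2 / (d χ : ℂ)) := by
      field_simp
      ring
    rw [e3, e2] at e5
    have e6 : 2 * ((Nat.card D.C : ℂ) / (Nat.card D.B : ℂ)) *
        ((Nat.card G : ℂ) * ((z χ : ℂ) + (z χ' : ℂ)) * (Nat.card D.T : ℂ) ^ 2) =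
        2 * ((Nat.card D.C : ℂ) / (Nat.card D.B : ℂ)) *
        (2 * (Nat.card D.B : ℂ) ^ 2 * (Nat.card D.C : ℂ) * (d χ : ℂ)) := by
      calc 2 * ((Nat.card D.C : ℂ) / (Nat.card D.B : ℂ)) *
          ((Nat.card G : ℂ) * ((z χ : ℂ) + (z χ' : ℂ)) * (Nat.card D.T : ℂ) ^ 2)
          = (2 * ((Nat.card D.C : ℂ) / (Nat.card D.B : ℂ)) * ((z χ : ℂ) + (z χ' : ℂ))) *
            ((Nat.card G : ℂ) * (Nat.card D.T : ℂ) ^ 2) := by ring
        _ = _ := by rw [e5]; field_simp; ring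
    exact mul_left_cancel₀ (mul_ne_zero two_ne_zero hK0) e6
  have e7 : (Nat.card G : ℤ) * (z χ + z χ') * (Nat.card D.T : ℤ) ^ 2 =
      2 * (Nat.card D.B : ℤ) ^ 2 * (Nat.card D.C : ℤ) * (d χ : ℤ) := by
    exact_mod_cast e4
  have hdp : (0 : ℤ) < d χ := by exact_mod_cast (hd χ).1
  refine ⟨d χ, z χ + z χ', hdp, ?_, ?_, e7⟩
  · intro h0
    rw [h0] at e7
    have hB : (0 : ℤ) < Nat.card D.B := by exact_mod_cast Nat.card_pos
    have hC : (0 : ℤ) < Nat.card D.C := by exact_mod_cast Nat.card_pos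
    have : (0 : ℤ) < 2 * (Nat.card D.B : ℤ) ^ 2 * (Nat.card D.C : ℤ) * (d χ : ℤ) := by (clear * - hdp hB hC; positivity)
    rw [← e7] at this
    simp only [_root_.Nat.card_eq_fintype_card, _root_.MulZeroClass.mul_zero, _root_.MulZeroClass.zero_mul, _root_.lt_self_iff_false] at this
  · -- second orthogonality
    have h3 := Cfsg.Agent.S0876.sum_irr_mul_conj (G := G) D.t D.t
    have h4 : Nat.card {x : G // x * D.t * x⁻¹ = D.t} = Nat.card D.C := by
      apply Nat.card_congr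
      refine Equiv.subtypeEquivRight fun g => ?_
      rw [D.mem_C]
      constructor
      · intro h
        calc g * D.t = g * D.t * g⁻¹ * g := by group
          _ = D.t * g := by rw [h]
      · intro h
        rw [h]; group
    have h5 : ∑ ψ : IrrCharacter G, z ψ ^ 2 = (Nat.card D.C : ℤ) := by
      have e : ∀ ψ : IrrCharacter G, (ψ : G → ℂ) D.t * conj ((ψ : G → ℂ) D.t) = ((z ψ ^ 2 : ℤ) : ℂ) := by
        intro ψ
        rw [(hz ψ).1, map_intCast]
        push_cast; ring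
      rw [Finset.sum_congr rfl fun χ _ => e χ, ← Int.cast_sum, h4] at h3
      exact_mod_cast h3
    have h6 : z χ ^ 2 + z χ' ^ 2 ≤ (Nat.card D.C : ℤ) := by
      rw [← h5, ← Finset.sum_pair (f := fun ψ => z ψ ^ 2) hne]
      exact Finset.sum_le_sum_of_subset_of_nonneg (Finset.subset_univ _) (fun _ _ _ => sq_nonneg _)
    linarith only [h6, sq_nonneg (z χ - z χ')]

end GData

end Cfsg.Agent.GTwoOdd.GamC
end

-- part: GTwoOdd/GamNum
section
set_option linter.all false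
open scoped Cfsg.Agent.FastGrp

/-!
# The arithmetical conclusion
-/

set_option autoImplicit false

open Cfsg

namespace Cfsg.Agent.GTwoOdd.GamC

universe u

namespace GData

variable {G : Type u} [Group G] [Finite G] (D : GData G)

/-- `p` divides `|G : C(t)|` -/
theorem dvd_index {p k : ℕ} (hp : p.Prime) (hB : Nat.card D.B = p ^ k * Nat.card D.T)
    (hC : 2 * Nat.card D.C < (p ^ k) ^ 4) : p ∣ D.C.index := by
  classical
  have := Fintype.ofFinite G
  have := Fintype.ofFinite D.C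
  have : Finite (IrrCharacter G) := Cfsg.Agent.Characters.Core.finite_irr
  have := Fintype.ofFinite (IrrCharacter G)
  obtain ⟨N, M, hN, hM, hM2, h⟩ := D.main
  by_contra hpn
  have hT : (0 : ℤ) < (Nat.card D.T : ℤ) := by exact_mod_cast Nat.card_pos
  have hCp : (0 : ℤ) < (Nat.card D.C : ℤ) := by exact_mod_cast Nat.card_pos
  have hG : (Nat.card G : ℤ) = (Nat.card D.C : ℤ) * (D.C.index : ℤ) := by
    exact_mod_cast D.C.card_mul_index.symm
  rw [hB, hG] at h
  push_cast at h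
  have h1 : (D.C.index : ℤ) * M = 2 * ((p : ℤ) ^ k) ^ 2 * N := by
    have h2 : ((Nat.card D.C : ℤ) * (Nat.card D.T : ℤ) ^ 2) * ((D.C.index : ℤ) * M) =
        ((Nat.card D.C : ℤ) * (Nat.card D.T : ℤ) ^ 2) * (2 * ((p : ℤ) ^ k) ^ 2 * N) := by
      linear_combination h
    exact mul_left_cancel₀ (by positivity) h2
  have hco : IsCoprime (((p : ℤ) ^ k) ^ 2) (D.C.index : ℤ) := by
    apply IsCoprime.pow_left
    apply IsCoprime.pow_left
    rw [Int.isCoprime_iff_gcd_eq_one, Int.gcd_natCast_natCast]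
    exact (Nat.Prime.coprime_iff_not_dvd hp).2 hpn
  have hdvd : ((p : ℤ) ^ k) ^ 2 ∣ M := by
    apply hco.dvd_of_dvd_mul_left
    rw [h1]
    exact ⟨2 * N, by ring⟩
  have hle : ((p : ℤ) ^ k) ^ 2 ≤ |M| := Int.le_of_dvd (abs_pos.2 hM) ((dvd_abs _ _).2 hdvd)
  have h5 : (((p : ℤ) ^ k) ^ 2) ^ 2 ≤ M ^ 2 := by
    rw [← sq_abs M]
    exact pow_le_pow_left₀ (by positivity) hle 2
  have h6 : (2 : ℤ) * (Nat.card D.C : ℤ) < ((p : ℤ) ^ k) ^ 4 := by exact_mod_cast hC
  have h7 : (((p : ℤ) ^ k) ^ 2) ^ 2 = ((p : ℤ) ^ k) ^ 4 := by ring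
  rw [h7] at h5
  linarith

end GData

end Cfsg.Agent.GTwoOdd.GamC
end

-- part: GTwoOdd/BridgeHyp_mg
section
prune_inst 0x65507245516200000004251050205c83df0001900008800080a40b440688ec62098208608c8030020a2200050035006811180010000000000000040001190180088010023000a00840009680018041000000000000000000000080000000000000c010000
set_option linter.all false
open scoped Cfsg.Agent.FastGrp

-- part: GTwoOdd/BridgeConf
section
/-!
# From the two-subgroup configuration to `LocalSL` and `Hyp`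
-/

set_option autoImplicit false

namespace Cfsg.Agent.GTwoOdd.BridgeConf

open Matrix Subgroup QuaternionGroup Cfsg.Agent.ClassificationK Cfsg.Agent.ClassificationK.GTwoConf
open Cfsg.Agent.GTwoOdd.BridgeAct

variable {X : Type*} [Group X] [Finite X] {k : ℕ} {P : Sylow 2 X} {s : X} {φ ψ : QuaternionGroup (2 ^ k) →* X}

/-- the two normal subgroups -/
structure Pair (φ ψ : QuaternionGroup (2 ^ k) →* X) (L M : Subgroup X) : Prop where
  nL : L.Normal
  nM : M.Normal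
  leL : φ.range ≤ L
  leM : ψ.range ≤ M
  comm : ∀ x ∈ L, ∀ y ∈ M, x * y = y * x
  sup : L ⊔ M = commutator X

omit [Finite X] in
theorem Pair.symm {L M : Subgroup X} (hp : Pair φ ψ L M) : Pair ψ φ M L where
  nL := hp.nM
  nM := hp.nL
  leL := hp.leM
  leM := hp.leL
  comm x hx y hy := (hp.comm y hy x hx).symm
  sup := by rw [sup_comm, hp.sup]

variable {L M : Subgroup X}

/-- `P ⊓ L = φ.range` -/
theorem mem_range (h : Conf k P s φ ψ) (hp : Pair φ ψ L M) {x : X} (hx : x ∈ (P : Subgroup X)) (hL : x ∈ L) :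
    x ∈ φ.range := by
  obtain ⟨y, hy⟩ := GTwoConfBasic.mem_range_of_comm h.symm x hx fun u => hp.comm x hL _ (hp.leM ⟨u, rfl⟩)
  exact ⟨y, hy.symm⟩

variable {F : Type*} [Field F] [Finite F]

theorem orderOf_phi (h : Conf k P s φ ψ) : orderOf (φ (a 1)) = 2 ^ (k + 1) := by
  rw [orderOf_injective φ h.inj₁, orderOf_a_one, pow_succ, mul_comm]

theorem not_dvd (h : Conf k P s φ ψ) (hp : Pair φ ψ L M) (e : L ≃* SL2 F) :
    ¬ 2 ^ (k + 3) ∣ Nat.card F ^ 2 - 1 := by
  have := Fintype.ofFinite F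
  have := hp.nL
  have : NeZero (2 ^ k) := ⟨by positivity⟩
  intro hd
  have h1 : Nat.card L = Nat.card F * (Nat.card F ^ 2 - 1) := by
    rw [Nat.card_congr e.toEquiv]
    have := Cfsg.Agent.S0276.card_sl_two (F := F) (q := Nat.card F) Nat.card_eq_fintype_card.symm
    exact this
  have h2 : 2 ^ (k + 3) ∣ Nat.card L := by rw [h1]; exact hd.mul_left _
  have h3 := Cfsg.Agent.Lib.SylowNormalInf.card_inf_mul_relIndex (P : Subgroup X) L
  have h4 := Cfsg.Agent.Lib.SylowNormalInf.not_dvd_relIndex P L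
  have h5 : Nat.card ((P : Subgroup X) ⊓ L : Subgroup X) ∣ 2 ^ (k + 2) := by
    have h6 : (P : Subgroup X) ⊓ L ≤ φ.range := fun x hx => mem_range h hp hx.1 hx.2
    refine (Subgroup.card_dvd_of_le h6).trans ?_
    rw [← Nat.card_congr (MonoidHom.ofInjective h.inj₁).toEquiv, Nat.card_eq_fintype_card, QuaternionGroup.card]
    exact ⟨1, by ring⟩
  rw [← h3] at h2
  have h6 : Nat.Coprime (2 ^ (k + 3)) ((P : Subgroup X).relIndex L) :=
    Nat.Coprime.pow_left _ ((Nat.Prime.coprime_iff_not_dvd Nat.prime_two).2 h4)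
  have h7 := (h6.dvd_of_dvd_mul_right h2).trans h5
  have h8 := Nat.le_of_dvd (by positivity) h7
  have h9 : 2 ^ (k + 2) < 2 ^ (k + 3) := Nat.pow_lt_pow_right (by norm_num) (by omega)
  omega

/-- all elements of `P` act on `L` as conjugations by matrices -/
theorem le_C0 (h : Conf k P s φ ψ) (hp : Pair φ ψ L M) (h2 : (2 : F) ≠ 0) (e : L ≃* SL2 F) [L.Normal] :
    (P : Subgroup X) ≤ C0 L e := by
  obtain ⟨p, hpc⟩ := CharP.exists F
  have hpp : Fact p.Prime := ⟨CharP.char_is_prime F p⟩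
  have hp2 : p ≠ 2 := by
    rintro rfl
    apply h2
    have := CharP.cast_eq_zero F 2
    exact_mod_cast this
  have hs : s ∈ C0 L e := by
    obtain ⟨M0, hM0⟩ := exists_emb L e (hp.leL ⟨a 1, rfl⟩)
    obtain ⟨n, hn⟩ := P.isPGroup' ⟨s, h.s_mem⟩
    have hn' : s ^ (2 ^ n) = 1 := congrArg Subtype.val hn
    obtain ⟨g, hg⟩ := BridgeField.exists_conjGL hp2 (not_dvd h hp e) M0 (by
      rw [← orderOf_phi h, ← hM0, orderOf_injective (emb L e) (emb_inj L e)]) (act L e s) n (by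
      rw [← map_pow, hn', map_one]) (by
      rw [act_eq_iff, hM0]
      exact h.s_a₁ 1)
    exact ⟨g, hg.symm⟩
  intro g hg
  obtain ⟨x, y, e1 | e1⟩ := h.cases g hg
  · rw [e1]
    exact mul_mem (BridgeAct.le_C0 L e (hp.leL ⟨x, rfl⟩))
      (mem_C0_of_comm L e fun z hz => (hp.comm z hz _ (hp.leM ⟨y, rfl⟩)).symm)
  · rw [e1]
    exact mul_mem (mul_mem (BridgeAct.le_C0 L e (hp.leL ⟨x, rfl⟩))
      (mem_C0_of_comm L e fun z hz => (hp.comm z hz _ (hp.leM ⟨y, rfl⟩)).symm)) hs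

omit [Finite F] [Finite X] in
theorem commutator_le_C0 (hp : Pair φ ψ L M) (e : L ≃* SL2 F) [L.Normal] : commutator X ≤ C0 L e := by
  rw [← hp.sup]
  exact sup_le (BridgeAct.le_C0 L e) fun y hy => mem_C0_of_comm L e fun z hz => (hp.comm z hz y hy).symm

/-- no element of `L` acts on `φ.range` as `s` -/
theorem not_acts_s (h : Conf k P s φ ψ) (hp : Pair φ ψ L M) (l : X) (hl : l ∈ L)
    (hc : ∀ u, l * φ u * l⁻¹ = s * φ u * s⁻¹) : False := by
  have := hp.nL
  set N : Subgroup X := L ⊓ normalizer (φ.range : Set X) with hN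
  have hR : φ.range ≤ N := le_inf hp.leL le_normalizer
  have hsn : ∀ u, ∃ v, s * φ u * s⁻¹ = φ v := by
    intro u
    rcases u with i | i
    · exact ⟨_, h.s_a₁ i⟩
    · exact ⟨_, h.s_xa₁ i⟩
  have hlN : l ∈ N := by
    refine ⟨hl, ?_⟩
    have h1 : φ.range.map (MulAut.conj l).toMonoidHom ≤ φ.range := by
      rintro _ ⟨_, ⟨u, rfl⟩, rfl⟩
      obtain ⟨v, hv⟩ := hsn u
      exact ⟨v, by rw [← hv, ← hc]; rfl⟩
    have h2 : φ.range.map (MulAut.conj l).toMonoidHom = φ.range := by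
      refine Subgroup.eq_of_le_of_card_ge h1 (le_of_eq ?_)
      exact (Nat.card_congr (Subgroup.equivMapOfInjective _ _ (MulAut.conj l).injective).toEquiv)
    show l ∈ normalizer (φ.range : Set X)
    rw [mem_normalizer_iff]
    intro x
    constructor
    · intro hx
      have h3 : x ∈ φ.range := hx
      exact h1 ⟨x, h3, rfl⟩
    · intro hx
      have h3 : l * x * l⁻¹ ∈ φ.range.map (MulAut.conj l).toMonoidHom := by rw [h2]; exact hx
      obtain ⟨y, hy, hy'⟩ := h3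
      have h4 : l * y * l⁻¹ = l * x * l⁻¹ := hy'
      have h5 : y = x := by
        have := mul_right_cancel h4
        exact mul_left_cancel this
      rw [← h5]
      exact hy
  have hodd : ¬ 2 ∣ φ.range.relIndex N := by
    intro hd
    apply Cfsg.Agent.Lib.SylowNormalInf.not_dvd_relIndex P L
    have h1 : (P : Subgroup X).relIndex L = ((P : Subgroup X) ⊓ L).relIndex L := by rw [inf_relIndex_right]
    rw [h1]
    have h2 : (P : Subgroup X) ⊓ L ≤ φ.range := fun x hx => mem_range h hp hx.1 hx.2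
    have h3 : φ.range.relIndex L ∣ ((P : Subgroup X) ⊓ L).relIndex L := relIndex_dvd_of_le_left L h2
    refine dvd_trans ?_ h3
    rw [← relIndex_mul_relIndex φ.range N L hR inf_le_left]
    exact hd.mul_right _
  have hnorm : (φ.range.subgroupOf N).Normal := by
    refine ⟨fun n hn g => ?_⟩
    rw [mem_subgroupOf] at hn ⊢
    exact (mem_normalizer_iff.1 g.2.2 _).1 hn
  have h1 := pow_index_mem (φ.range.subgroupOf N) (⟨l, hlN⟩ : N)
  rw [mem_subgroupOf] at h1
  set m := (φ.range.subgroupOf N).index with hm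
  have hmo : ¬ 2 ∣ m := hodd
  obtain ⟨u, hu⟩ := h1
  have hu' : φ u = l ^ m := hu
  have hpow : ∀ j : ℕ, l ^ j * φ (xa 0) * (l ^ j)⁻¹ = φ (xa (-(j : ZMod (2 * 2 ^ k)))) := by
    intro j
    induction j with
    | zero => simp
    | succ j ih =>
      have e1 : l ^ (j + 1) * φ (xa 0) * (l ^ (j + 1))⁻¹ = l * (l ^ j * φ (xa 0) * (l ^ j)⁻¹) * l⁻¹ := by
        rw [pow_succ']
        group
      rw [e1, ih, hc, h.s_xa₁]
      congr 2
      push_cast
      ring
  have h3 := hpow m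
  obtain ⟨j', h4, h5⟩ := GTwoConfBasic.conj_par u 0
  have h6 : φ (xa j') = φ (xa (-(m : ZMod (2 * 2 ^ k)))) := by
    rw [← h3, ← hu', ← h4, map_mul, map_mul, map_inv]
  have h7 : (xa j' : QuaternionGroup (2 ^ k)) = xa (-(m : ZMod (2 * 2 ^ k))) := h.inj₁ h6
  have h8 : j' = -(m : ZMod (2 * 2 ^ k)) := by injection h7
  rw [h8, map_zero, map_neg, neg_eq_zero, GTwoModel.par_natCast, ZMod.natCast_eq_zero_iff] at h5
  exact hmo h5

end Cfsg.Agent.GTwoOdd.BridgeConf
end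

-- part: GTwoOdd/BridgeHyp
section
/-!
# The two-subgroup configuration gives `LocalSL` and `Hyp`
-/

set_option autoImplicit false

namespace Cfsg.Agent.GTwoOdd.BridgeHyp

open Matrix Subgroup QuaternionGroup Cfsg.Agent.ClassificationK Cfsg.Agent.ClassificationK.GTwoConf
open Cfsg.Agent.GTwoOdd.BridgeAct Cfsg.Agent.GTwoOdd.BridgeConf

variable {X : Type*} [Group X] [Finite X] {k : ℕ} {P : Sylow 2 X} {s : X} {φ ψ : QuaternionGroup (2 ^ k) →* X}
  {L M : Subgroup X} {F1 F2 : Type*} [Field F1] [Finite F1] [Field F2] [Finite F2]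

/-- the centraliser of `L M` -/
theorem cent (h : Conf k P s φ ψ) (hp : Pair φ ψ L M) (c : X) (h1 : ∀ x ∈ L, c * x = x * c)
    (h2 : ∀ x ∈ M, c * x = x * c) : c = 1 ∨ c = Conf.t φ := by
  have := hp.nL
  have := hp.nM
  have := GTwoFactorBasic.Conf.normal_t h
  refine GTwoFactorBasic.Conf.eq_one_or_eq_t_of_inf h rfl
    (centralizer (L : Set X) ⊓ centralizer (M : Set X)) ?_ c ⟨?_, ?_⟩
  · rintro x ⟨hx1, hx2⟩ hxP
    refine GTwoConfBasic.eq_of_comm h x hxP (fun u => ?_) (fun u => ?_)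
    · exact (mem_centralizer_iff.1 hx1 _ (hp.leL ⟨u, rfl⟩)).symm
    · exact (mem_centralizer_iff.1 hx2 _ (hp.leM ⟨u, rfl⟩)).symm
  · exact mem_centralizer_iff.2 fun x hx => (h1 x hx).symm
  · exact mem_centralizer_iff.2 fun x hx => (h2 x hx).symm

/-- the local structure -/
def loc (h : Conf k P s φ ψ) (hp : Pair φ ψ L M) (h1 : (2 : F1) ≠ 0) (h2 : (2 : F2) ≠ 0)
    (e : L ≃* SL2 F1) (f : M ≃* SL2 F2) : LocalSL (Conf.t φ) F1 F2 where
  e1 := emb L e
  e2 := emb M f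
  inj1 := emb_inj L e
  inj2 := emb_inj M f
  comm x y := hp.comm _ (emb_mem L e x) _ (emb_mem M f y)
  neg1 := emb_neg_one L e h1 (hp.leL ⟨_, rfl⟩) (by rw [← pow_two]; exact GTwoFactorBasic.Conf.t_sq h)
    (GTwoFactorBasic.Conf.t_ne h)
  neg2 := emb_neg_one M f h2 (by
    rw [← GTwoFactorBasic.Conf.t_symm h]
    exact hp.leM ⟨_, rfl⟩) (by rw [← pow_two]; exact GTwoFactorBasic.Conf.t_sq h)
    (GTwoFactorBasic.Conf.t_ne h)
  cent c _ hc1 hc2 := by
    refine cent h hp c (fun x hx => ?_) (fun x hx => ?_)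
    · obtain ⟨y, rfl⟩ := exists_emb L e hx
      exact hc1 y
    · obtain ⟨y, rfl⟩ := exists_emb M f hx
      exact hc2 y

omit [Finite X] in
/-- squares of odd powers -/
theorem isSquare_of_odd_pow {F : Type*} [Field F] {a : F} {m : ℕ} (hm : Odd m) (h : IsSquare (a ^ m)) :
    IsSquare a := by
  by_cases ha : a = 0
  · rw [ha]
    exact IsSquare.zero
  obtain ⟨j, rfl⟩ := hm
  obtain ⟨b, hb⟩ := h
  refine ⟨b / a ^ j, ?_⟩
  have : a ^ (2 * j + 1) = a * (a ^ j * a ^ j) := by ring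
  field_simp
  rw [this] at hb
  rw [pow_two, pow_two, hb]

theorem acts_pow {G : Type*} [Group G] {F : Type*} [Field F] {e : SL2 F →* G} {c : G} {A : M2 F} (h : Acts e c A)
    (n : ℕ) : Acts e (c ^ n) (A ^ n) := by
  induction n with
  | zero => rw [pow_zero, pow_zero]; exact Acts.one
  | succ n ih => rw [pow_succ, pow_succ]; exact ih.mul h

omit [Finite F1] [Finite F2] in
/-- an element which acts on `L` with square determinant acts on `M` with square determinant -/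
theorem square_of (h : Conf k P s φ ψ) (hp : Pair φ ψ L M) (e : L ≃* SL2 F1) (f : M ≃* SL2 F2) {c : X}
    {A : M2 F1} {B : M2 F2} (hA : Acts (emb L e) c A) (hB : Acts (emb M f) c B) (hs : IsSquare A.det) :
    IsSquare B.det := by
  have := hp.nL
  obtain ⟨a, ha⟩ := hs
  have ha0 : a ≠ 0 := by
    rintro rfl
    exact hA.1 (by rw [ha, mul_zero])
  obtain ⟨x, hx⟩ := exists_sl_of_sq ha0 ha
  have h1 : Acts (emb L e) ((emb L e x)⁻¹ * c) (a • (1 : M2 F1)) := by
    have h2 := (Acts.self (e := emb L e) x⁻¹).mul hA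
    rw [map_inv] at h2
    rw [hx, Matrix.mul_smul, sl_inv_mul] at h2
    exact h2
  have h2 : Acts (emb M f) ((emb L e x)⁻¹ * c) B := by
    have h3 := (Acts.of_comm (e := emb M f) (c := (emb L e x)⁻¹) fun y => by
      rw [← map_inv]
      exact hp.comm _ (emb_mem L e _) _ (emb_mem M f y)).mul hB
    rwa [one_mul] at h3
  set c' := (emb L e x)⁻¹ * c with hc'
  have h3 : c' ∈ centralizer (L : Set X) := by
    rw [mem_centralizer_iff]
    intro y hy
    obtain ⟨z, rfl⟩ := exists_emb L e hy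
    exact (h1.comm_of_one z).symm
  have hM : M ≤ centralizer (L : Set X) := by
    intro y hy
    rw [mem_centralizer_iff]
    intro x hx
    exact hp.comm x hx y hy
  have hodd : ¬ 2 ∣ M.relIndex (centralizer (L : Set X)) := by
    intro hd
    apply Cfsg.Agent.Lib.SylowNormalInf.not_dvd_relIndex P (centralizer (L : Set X))
    rw [← inf_relIndex_right]
    refine hd.trans (relIndex_dvd_of_le_left _ ?_)
    rintro y ⟨hy, hy'⟩
    obtain ⟨u, rfl⟩ := GTwoConfBasic.mem_range_of_comm h y hy fun u =>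
      (mem_centralizer_iff.1 hy' _ (hp.leL ⟨u, rfl⟩)).symm
    exact hp.leM ⟨u, rfl⟩
  have hn : (M.subgroupOf (centralizer (L : Set X))).Normal := by
    have := hp.nM
    infer_instance
  have h4 := pow_index_mem (M.subgroupOf (centralizer (L : Set X))) (⟨c', h3⟩ : centralizer (L : Set X))
  rw [mem_subgroupOf] at h4
  set m := (M.subgroupOf (centralizer (L : Set X))).index with hm
  have hmo : Odd m := by
    rw [← Nat.not_even_iff_odd, even_iff_two_dvd]
    exact hodd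
  have h5 : c' ^ m ∈ M := h4
  obtain ⟨y, hy⟩ := exists_emb M f h5
  have h6 := acts_pow h2 m
  rw [← hy] at h6
  obtain ⟨b, hb, hb'⟩ := h6.proportional (emb_inj M f) (Acts.self y)
  have h7 := sl_coe_det y
  rw [hb', det_smul2, Matrix.det_pow] at h7
  apply isSquare_of_odd_pow hmo
  refine ⟨b⁻¹, ?_⟩
  field_simp
  rw [← h7]
  ring

/-- the outer involution -/
theorem outer_sq (h : Conf k P s φ ψ) (hs : s * s = φ (a 1) * ψ (a 1)) :
    (φ (xa 0) * ψ (xa 0) * s) * (φ (xa 0) * ψ (xa 0) * s) = 1 := by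
  have e1 : s * φ (xa 0) = φ (xa (0 - 1)) * s := by rw [← h.s_xa₁]; group
  have e2 : s * ψ (xa 0) = ψ (xa (0 - 1)) * s := by rw [← h.s_xa₂]; group
  have e3 : (xa 0 : QuaternionGroup (2 ^ k)) * xa (0 - 1) * a 1 = a ((2 ^ k : ℕ) : ZMod (2 * 2 ^ k)) := by
    rw [xa_mul_xa, a_mul_a]
    congr 1
    ring
  have e4 : φ (a ((2 ^ k : ℕ) : ZMod (2 * 2 ^ k))) * ψ (a ((2 ^ k : ℕ) : ZMod (2 * 2 ^ k))) = 1 := by
    rw [← h.t_eq, ← map_mul, a_mul_a, GTwoModel.half_add_half]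
    exact map_one _
  calc (φ (xa 0) * ψ (xa 0) * s) * (φ (xa 0) * ψ (xa 0) * s)
      = φ (xa 0) * ψ (xa 0) * (s * φ (xa 0)) * ψ (xa 0) * s := by group
    _ = φ (xa 0) * (ψ (xa 0) * φ (xa (0 - 1))) * (s * ψ (xa 0)) * s := by rw [e1]; group
    _ = φ (xa 0) * φ (xa (0 - 1)) * (ψ (xa 0) * ψ (xa (0 - 1))) * (s * s) := by rw [e2, ← h.comm]; group
    _ = φ (xa 0) * φ (xa (0 - 1)) * ((ψ (xa 0) * ψ (xa (0 - 1))) * φ (a 1)) * ψ (a 1) := by rw [hs]; group
    _ = φ (xa 0) * φ (xa (0 - 1)) * (φ (a 1) * (ψ (xa 0) * ψ (xa (0 - 1)))) * ψ (a 1) := by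
      rw [← map_mul ψ, h.comm]
    _ = φ (xa 0 * xa (0 - 1) * a 1) * ψ (xa 0 * xa (0 - 1) * a 1) := by
      rw [map_mul, map_mul, map_mul, map_mul]; group
    _ = 1 := by rw [e3, e4]

omit [Finite F1] in
/-- the outer involution acts on `L` with nonsquare determinant -/
theorem outer_not_isSquare (h : Conf k P s φ ψ) (hp : Pair φ ψ L M) (e : L ≃* SL2 F1) {A : M2 F1}
    (hA : Acts (emb L e) (φ (xa 0) * ψ (xa 0) * s) A) : ¬ IsSquare A.det := by
  rintro ⟨a', ha⟩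
  have ha0 : a' ≠ 0 := by
    rintro rfl
    exact hA.1 (by rw [ha, mul_zero])
  obtain ⟨x, hx⟩ := exists_sl_of_sq ha0 ha
  refine not_acts_s h hp ((φ (xa 0))⁻¹ * emb L e x)
    (mul_mem (inv_mem (hp.leL ⟨_, rfl⟩)) (emb_mem L e x)) fun u => ?_
  -- `emb x` acts as the outer element
  have h1 : ∀ z, (φ (xa 0) * ψ (xa 0) * s) * emb L e z = emb L e (x * z * x⁻¹) * (φ (xa 0) * ψ (xa 0) * s) := by
    intro z
    apply hA.2
    rw [hx]
    rw [Matrix.mul_smul, Matrix.smul_mul]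
    congr 1
    rw [← Matrix.SpecialLinearGroup.coe_mul, ← Matrix.SpecialLinearGroup.coe_mul, inv_mul_cancel_right]
  obtain ⟨z, hz⟩ := exists_emb L e (hp.leL ⟨u, rfl⟩)
  have h2 := h1 z
  rw [map_mul, map_mul, map_inv, hz] at h2
  have h3 : ∃ v, s * φ u * s⁻¹ = φ v := by
    rcases u with i | i
    · exact ⟨_, h.s_a₁ i⟩
    · exact ⟨_, h.s_xa₁ i⟩
  obtain ⟨v, hv⟩ := h3
  have h4 : emb L e x * φ u * (emb L e x)⁻¹ = φ (xa 0) * ψ (xa 0) * (s * φ u * s⁻¹) * (ψ (xa 0))⁻¹ * (φ (xa 0))⁻¹ := by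
    calc emb L e x * φ u * (emb L e x)⁻¹
        = (emb L e x * φ u * (emb L e x)⁻¹ * (φ (xa 0) * ψ (xa 0) * s)) * (φ (xa 0) * ψ (xa 0) * s)⁻¹ := by group
      _ = ((φ (xa 0) * ψ (xa 0) * s) * φ u) * (φ (xa 0) * ψ (xa 0) * s)⁻¹ := by rw [h2]
      _ = _ := by group
  calc (φ (xa 0))⁻¹ * emb L e x * φ u * ((φ (xa 0))⁻¹ * emb L e x)⁻¹
      = (φ (xa 0))⁻¹ * (emb L e x * φ u * (emb L e x)⁻¹) * φ (xa 0) := by group
    _ = ψ (xa 0) * (s * φ u * s⁻¹) * (ψ (xa 0))⁻¹ := by rw [h4]; group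
    _ = φ v * ψ (xa 0) * (ψ (xa 0))⁻¹ := by rw [hv, ← h.comm]
    _ = s * φ u * s⁻¹ := by rw [hv]; group

/-- the hypotheses on `C(t)` hold -/
theorem hyp (h : Conf k P s φ ψ) (hs : s * s = φ (a 1) * ψ (a 1)) (hp : Pair φ ψ L M) (h1 : (2 : F1) ≠ 0)
    (h2 : (2 : F2) ≠ 0) (e : L ≃* SL2 F1) (f : M ≃* SL2 F2) : (loc h hp h1 h2 e f).Hyp := by
  have nL := hp.nL
  have nM := hp.nM
  have hPL := BridgeConf.le_C0 h hp h1 e
  have hPM := BridgeConf.le_C0 h.symm hp.symm h2 f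
  have hcL := commutator_le_C0 hp e
  have hcM := commutator_le_C0 hp.symm f
  refine ⟨?_, ?_, ?_, ?_, ?_, ?_⟩
  · intro c _ x
    obtain ⟨y, hy⟩ := exists_emb L e (nL.conj_mem _ (emb_mem L e x) c)
    refine ⟨y, ?_⟩
    change c * emb L e x = emb L e y * c
    rw [hy]
    group
  · intro c _ x
    obtain ⟨y, hy⟩ := exists_emb M f (nM.conj_mem _ (emb_mem M f x) c)
    refine ⟨y, ?_⟩
    change c * emb M f x = emb M f y * c
    rw [hy]
    group
  · intro c d _ _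
    have h3 : c * d * c⁻¹ * d⁻¹ ∈ commutator X := by
      rw [← commutatorElement_def, _root_.commutator_def]
      exact commutator_mem_commutator (mem_top _) (mem_top _)
    rw [← hp.sup, mem_sup_of_normal_right] at h3
    obtain ⟨l, hl, m, hm, h4⟩ := h3
    obtain ⟨x, rfl⟩ := exists_emb L e hl
    obtain ⟨y, rfl⟩ := exists_emb M f hm
    refine ⟨x, y, ?_⟩
    change c * d = emb L e x * emb M f y * d * c
    rw [h4]
    group
  · rintro c hc ⟨A, B, hAB⟩
    obtain ⟨A', hA'⟩ := (mem_C0 L e).1 (mem_C0_of_sq L e P hPL hcL ((mem_C0 L e).2 ⟨A, hAB.acts1⟩))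
    obtain ⟨B', hB'⟩ := (mem_C0 M f).1 (mem_C0_of_sq M f P hPM hcM ((mem_C0 M f).2 ⟨B, hAB.acts2⟩))
    exact ⟨A', B', hc, hA', hB'⟩
  · intro c A B hAB
    exact ⟨square_of h hp e f hAB.acts1 hAB.acts2, square_of h.symm hp.symm f e hAB.acts2 hAB.acts1⟩
  · have hg : φ (xa 0) * ψ (xa 0) * s ∈ (P : Subgroup X) := mul_mem (mul_mem (h.mem₁ _) (h.mem₂ _)) h.s_mem
    obtain ⟨A, hA⟩ := (mem_C0 L e).1 (hPL hg)
    obtain ⟨B, hB⟩ := (mem_C0 M f).1 (hPM hg)
    have hnA := outer_not_isSquare h hp e hA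
    exact ⟨_, A, B, ⟨h.central _, hA, hB⟩, hnA,
      fun hB' => hnA (square_of h.symm hp.symm f e hB hA hB'), outer_sq h hs⟩

end Cfsg.Agent.GTwoOdd.BridgeHyp
end

-- part: GTwoOdd/CloseCent
section
/-!
# The normaliser of the group generated by the root groups contains `C(t)`
-/

set_option autoImplicit false

namespace Cfsg.Agent.GTwoOdd

open Matrix

section matrices

variable {F : Type*} [Field F]

/-- `SL(2,F)` is generated by the unipotents -/
theorem mem_of_up_lo (H : Subgroup (SL2 F)) (h1 : ∀ a, up a ∈ H) (h2 : ∀ a, lo a ∈ H) (x : SL2 F) : x ∈ H := by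
  have key : ∀ x : SL2 F, (x : M2 F) 1 0 ≠ 0 → x ∈ H := by
    intro x hc
    have hdet := sl_coe_det x
    rw [Matrix.det_fin_two] at hdet
    have e : x = up (((x : M2 F) 0 0 - 1) / (x : M2 F) 1 0) * lo ((x : M2 F) 1 0) *
        up (((x : M2 F) 1 1 - 1) / (x : M2 F) 1 0) := by
      apply Subtype.ext
      change (x : M2 F) = (up (((x : M2 F) 0 0 - 1) / (x : M2 F) 1 0) : M2 F) * (lo ((x : M2 F) 1 0) : M2 F) *
        (up (((x : M2 F) 1 1 - 1) / (x : M2 F) 1 0) : M2 F)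
      rw [up_coe, up_coe, lo_coe, m2_eq_iff]
      simp only [m2_mul_00, m2_mul_01, m2_mul_10, m2_mul_11]
      simp only [Matrix.of_apply, Matrix.cons_val', Matrix.cons_val_zero, Matrix.cons_val_one,
        Matrix.cons_val_fin_one]
      refine ⟨?_, ?_, ?_, ?_⟩
      · field_simp; ring
      · field_simp
        linear_combination -hdet
      · ring
      · field_simp; ring
    rw [e]
    exact mul_mem (mul_mem (h1 _) (h2 _)) (h1 _)
  by_cases hc : (x : M2 F) 1 0 = 0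
  · have hdet := sl_coe_det x
    rw [Matrix.det_fin_two, hc] at hdet
    have hd : (x : M2 F) 1 1 ≠ 0 := by
      intro h; rw [h] at hdet; simp at hdet
    have h3 : x * lo 1 ∈ H := by
      apply key
      change ((x : M2 F) * ((lo (1 : F) : SL2 F) : M2 F)) 1 0 ≠ 0
      rw [m2_mul_10, hc, lo_coe]
      simpa using hd
    have h4 := mul_mem h3 (inv_mem (h2 1))
    rwa [mul_inv_cancel_right] at h4
  · exact key x hc

/-- a unipotent matrix inverted by `diag(1,-1)` is upper or lower unipotent -/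
theorem up_or_lo {y : SL2 F} (h : ((y⁻¹ : SL2 F) : M2 F) * dg F = dg F * y) (ht : (y : M2 F).trace = 2)
    (h2 : (2 : F) ≠ 0) : (∃ a, y = up a) ∨ ∃ a, y = lo a := by
  rw [sl_inv_coe, Matrix.adjugate_fin_two, m2_eq_iff] at h
  simp only [m2_mul_00, m2_mul_01, m2_mul_10, m2_mul_11] at h
  simp only [dg, Matrix.of_apply, Matrix.cons_val', Matrix.cons_val_zero, Matrix.cons_val_one,
    Matrix.cons_val_fin_one] at h
  obtain ⟨e1, -, -, -⟩ := h
  rw [Matrix.trace_fin_two] at ht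
  have h00 : (y : M2 F) 0 0 = 1 := by
    have : 2 * (y : M2 F) 0 0 = 2 * 1 := by linear_combination ht - e1
    exact mul_left_cancel₀ h2 this
  have h11 : (y : M2 F) 1 1 = 1 := by linear_combination ht - h00
  have hdet := sl_coe_det y
  rw [Matrix.det_fin_two, h00, h11] at hdet
  have h3 : (y : M2 F) 0 1 * (y : M2 F) 1 0 = 0 := by linear_combination -hdet
  rcases mul_eq_zero.1 h3 with h4 | h4
  · right
    exact ⟨(y : M2 F) 1 0, sl2_ext (by simp [lo, h00]) (by simp [lo, h4]) (by simp [lo]) (by simp [lo, h11])⟩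
  · left
    exact ⟨(y : M2 F) 0 1, sl2_ext (by simp [up, h00]) (by simp [up]) (by simp [up, h4]) (by simp [up, h11])⟩

theorem cc_up_pow (a : F) (n : ℕ) : up a ^ n = up (n * a) := by
  induction n with
  | zero => rw [pow_zero, Nat.cast_zero, zero_mul, up_zero]
  | succ n ih => rw [pow_succ, ih, up_mul]; congr 1; push_cast; ring

theorem cc_lo_pow (a : F) (n : ℕ) : lo a ^ n = lo (n * a) := by
  induction n with
  | zero => rw [pow_zero, Nat.cast_zero, zero_mul, lo_zero]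
  | succ n ih => rw [pow_succ, ih, lo_mul]; congr 1; push_cast; ring

/-- elements of order `p` have trace `2` -/
theorem trace_of_pow {p : ℕ} [Fact p.Prime] [CharP F p] {y : SL2 F} (h : y ^ p = 1) : (y : M2 F).trace = 2 := by
  have hy : (y : M2 F) ^ p = 1 := by
    have := congrArg (fun z : SL2 F => (z : M2 F)) h
    simpa using this
  have : CharP (M2 F) p := Matrix.charP p
  have h1 : ((y : M2 F) - 1) ^ p = 0 := by
    rw [sub_pow_char_of_commute p (Commute.one_right _), hy, one_pow, sub_self]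
  have h2 : IsNilpotent ((y : M2 F) - 1) := ⟨p, h1⟩
  have h3 := Matrix.isNilpotent_trace_of_isNilpotent h2
  have h4 := h3.eq_zero
  rw [Matrix.trace_sub, Matrix.trace_one] at h4
  simp at h4
  linear_combination h4

end matrices

section sub

variable {G : Type*} [Group G]

/-- a subgroup contained in the union of two subgroups is contained in one of them -/
theorem le_or_le_of_union {H A B : Subgroup G} (h : ∀ x ∈ H, x ∈ A ∨ x ∈ B) : H ≤ A ∨ H ≤ B := by
  by_contra hne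
  rw [not_or] at hne
  obtain ⟨h1, h2⟩ := hne
  rw [SetLike.not_le_iff_exists] at h1 h2
  obtain ⟨x, hx, hxA⟩ := h1
  obtain ⟨y, hy, hyB⟩ := h2
  have hxB : x ∈ B := (h x hx).resolve_left hxA
  have hyA : y ∈ A := (h y hy).resolve_right hyB
  rcases h _ (mul_mem hx hy) with h3 | h3
  · apply hxA
    have := mul_mem h3 (inv_mem hyA)
    rwa [mul_inv_cancel_right] at this
  · apply hyB
    have := mul_mem (inv_mem hxB) h3
    rwa [inv_mul_cancel_left] at this

/-- in a finite group `c D c⁻¹ ≤ D` is enough for `c` to normalise `D` -/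
theorem mem_normalizer_of_cjS_le [Finite G] {D : Subgroup G} {c : G} (h : cjS c D ≤ D) :
    c ∈ Subgroup.normalizer (D : Set G) := by
  have h2 : cjS c D = D := by
    apply Subgroup.eq_of_le_of_card_ge h
    exact (Nat.card_congr (D.equivMapOfInjective _ (MulAut.conj c).injective).toEquiv).le
  rw [Subgroup.mem_normalizer_iff]
  intro x
  constructor
  · intro hx
    exact h (conj_mem_cjS hx)
  · intro hx
    have h3 : c * x * c⁻¹ ∈ cjS c D := by rw [h2]; exact hx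
    rw [mem_cjS] at h3
    have e : c⁻¹ * (c * x * c⁻¹) * c = x := by group
    rwa [e] at h3

end sub

namespace LocalSL

variable {G : Type*} [Group G] {t : G} {F1 F2 : Type*} [Field F1] [Field F2]
variable [Finite F1] [Finite F2] {L : LocalSL t F1 F2} {s g : G}

/-- the group generated by the root groups -/
def GG (L : LocalSL t F1 F2) (g : G) : Subgroup G := ⨆ m : ℕ, L.XN g m

/-- its normaliser -/
def MM (L : LocalSL t F1 F2) (g : G) : Subgroup G := Subgroup.normalizer (L.GG g : Set G)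

theorem XN_le_GG (L : LocalSL t F1 F2) (g : G) (m : ℕ) : L.XN g m ≤ L.GG g := le_iSup (fun m => L.XN g m) m

theorem GG_le_MM (L : LocalSL t F1 F2) (g : G) : L.GG g ≤ L.MM g := Subgroup.le_normalizer

theorem cjS_GG_le {c : G} (h : ∀ m : ℕ, ∃ k : ℕ, cjS c (L.XN g m) ≤ L.XN g k) : cjS c (L.GG g) ≤ L.GG g := by
  have h1 : L.GG g ≤ (L.GG g).comap (MulAut.conj c).toMonoidHom := by
    refine iSup_le fun m => ?_
    obtain ⟨k, hk⟩ := h m
    intro x hx
    exact XN_le_GG L g k (hk (conj_mem_cjS hx))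
  rintro _ ⟨x, hx, rfl⟩
  exact h1 hx

theorem mem_MM [Finite G] {c : G} (h : ∀ m : ℕ, ∃ k : ℕ, cjS c (L.XN g m) ≤ L.XN g k) : c ∈ L.MM g :=
  mem_normalizer_of_cjS_le (cjS_GG_le h)

/-- `e = e2` : an element which centralises `t` and `s` permutes the root groups of the factor -/
theorem perm_aux {F : Type*} [Field F] [Finite F] (h2 : (2 : F) ≠ 0) {e : SL2 F →* G} (he : Function.Injective e)
    {s c : G} (hs : Acts e s (dg F)) (hcs : c * s = s * c) (hn : ∀ x, ∃ y, c * e x = e y * c) :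
    (cjS c ((upU F).map e) ≤ (upU F).map e ∨ cjS c ((upU F).map e) ≤ (loU F).map e) ∧
    (cjS c ((loU F).map e) ≤ (upU F).map e ∨ cjS c ((loU F).map e) ≤ (loU F).map e) := by
  obtain ⟨p, hp⟩ := CharP.exists F
  have : Fact p.Prime := ⟨CharP.char_is_prime F p⟩
  -- the key
  have key : ∀ x : SL2 F, x ^ p = 1 → s * e x = e x⁻¹ * s → ∃ y : SL2 F, c * e x * c⁻¹ = e y ∧
      ((∃ a, y = up a) ∨ ∃ a, y = lo a) := by
    intro x hx hsx
    obtain ⟨y, hy⟩ := hn x
    have hy' : c * e x * c⁻¹ = e y := by rw [hy]; group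
    refine ⟨y, hy', up_or_lo ?_ (trace_of_pow (p := p) ?_) h2⟩
    · obtain ⟨z, hz⟩ := exists_cj hs.1 y
      have h3 := hs.2 y z hz
      have h4 : s * e y = e y⁻¹ * s := by
        rw [← hy', map_inv, ← hy']
        have hcs' : c⁻¹ * s = s * c⁻¹ := by
          calc c⁻¹ * s = c⁻¹ * (s * c) * c⁻¹ := by group
            _ = c⁻¹ * (c * s) * c⁻¹ := by rw [hcs]
            _ = s * c⁻¹ := by group
        calc s * (c * e x * c⁻¹) = (s * c) * e x * c⁻¹ := by group
          _ = c * (s * e x) * c⁻¹ := by rw [← hcs]; group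
          _ = c * (e x)⁻¹ * (s * c⁻¹) := by rw [hsx, map_inv]; group
          _ = (c * e x * c⁻¹)⁻¹ * s := by rw [← hcs']; group
      have h5 : z = y⁻¹ := by
        apply he
        rw [h3] at h4
        exact mul_right_cancel h4
      rw [← h5]
      exact hz
    · apply he
      rw [map_pow, map_one, ← hy', conj_pow, ← map_pow, hx, map_one]
      group
  have hup : ∀ a : F, (up a) ^ p = 1 := by
    intro a
    rw [cc_up_pow, CharP.cast_eq_zero, zero_mul, up_zero]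
  have hlo : ∀ a : F, (lo a) ^ p = 1 := by
    intro a
    rw [cc_lo_pow, CharP.cast_eq_zero, zero_mul, lo_zero]
  have hmem : ∀ {y : SL2 F}, ((∃ a, y = up a) ∨ ∃ a, y = lo a) → e y ∈ (upU F).map e ∨ e y ∈ (loU F).map e := by
    rintro y (⟨a, rfl⟩ | ⟨a, rfl⟩)
    · exact Or.inl ⟨_, up_mem a, rfl⟩
    · exact Or.inr ⟨_, lo_mem a, rfl⟩
  constructor
  · apply le_or_le_of_union
    rintro _ ⟨_, ⟨_, ⟨a, rfl⟩, rfl⟩, rfl⟩
    obtain ⟨y, h3, h4⟩ := key (up a) (hup a) (by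
      rw [up_inv]; exact hs.2 _ _ (dg_up a))
    change c * e (up a) * c⁻¹ ∈ _ ∨ c * e (up a) * c⁻¹ ∈ _
    rw [h3]
    exact hmem h4
  · apply le_or_le_of_union
    rintro _ ⟨_, ⟨_, ⟨a, rfl⟩, rfl⟩, rfl⟩
    obtain ⟨y, h3, h4⟩ := key (lo a) (hlo a) (by
      rw [lo_inv]; exact hs.2 _ _ (dg_lo a))
    change c * e (lo a) * c⁻¹ ∈ _ ∨ c * e (lo a) * c⁻¹ ∈ _
    rw [h3]
    exact hmem h4

namespace Swap

variable (S : L.Split s g)
include S

/-- `X m` for `m` divisible by `3` -/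
theorem XN_base {m : ℕ} (h : m % 3 = 0) : L.XN g m = L.baseX m := by
  have h1 : cjS (rho L (wn F1) g ^ m) (L.baseX m) = cjS 1 (L.baseX m) := by
    apply EqT.cjS_eq (T := TT L) _ NormT.one (fun c hc => S.cjS_base hc m)
    have := S.rho_mod (m := m) (k := 0) (by omega)
    rwa [pow_zero] at this
  unfold XN
  rw [h1, cjS_one]

theorem e1_mem_GG (x : SL2 F1) : L.e1 x ∈ L.GG g := by
  have h : x ∈ (L.GG g).comap L.e1 := by
    apply mem_of_up_lo
    · intro a
      have h1 : L.e1 (up a) ∈ L.XN g 3 := by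
        rw [S.XN_base (by norm_num), L.baseX_3 (by norm_num)]
        exact ⟨_, up_mem a, rfl⟩
      exact XN_le_GG L g 3 h1
    · intro a
      have h1 : L.e1 (lo a) ∈ L.XN g 9 := by
        rw [S.XN_base (by norm_num), L.baseX_1 (by norm_num)]
        exact ⟨_, lo_mem a, rfl⟩
      exact XN_le_GG L g 9 h1
  exact h

theorem e2_mem_GG (x : SL2 F2) : L.e2 x ∈ L.GG g := by
  have h : x ∈ (L.GG g).comap L.e2 := by
    apply mem_of_up_lo
    · intro a
      have h1 : L.e2 (up a) ∈ L.XN g 0 := by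
        rw [S.XN_base (by norm_num), L.baseX_0 (by norm_num)]
        exact ⟨_, up_mem a, rfl⟩
      exact XN_le_GG L g 0 h1
    · intro a
      have h1 : L.e2 (lo a) ∈ L.XN g 6 := by
        rw [S.XN_base (by norm_num), L.baseX_2 (by norm_num)]
        exact ⟨_, lo_mem a, rfl⟩
      exact XN_le_GG L g 6 h1
  exact h

/-- elements of `C(t, s)` permute the root groups of `C(t)` -/
theorem cent_base {c : G} (hct : c * t = t * c) (hcs : c * s = s * c) (i : ℕ) :
    ∃ j, cjS c (L.baseX i) ≤ L.baseX j := by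
  have h1 := perm_aux S.toFrame.two1 L.inj1 S.toFrame.rep.acts1 hcs (S.toFrame.hyp.norm1 c hct)
  have h2 := perm_aux S.toFrame.two2 L.inj2 S.toFrame.rep.acts2 hcs (S.toFrame.hyp.norm2 c hct)
  have h4 : i % 4 < 4 := Nat.mod_lt _ (by norm_num)
  interval_cases hi : i % 4
  · rw [L.baseX_0 hi]
    rcases h2.1 with h | h
    · exact ⟨0, h.trans (L.baseX_0 (by norm_num)).ge⟩
    · exact ⟨2, h.trans (L.baseX_2 (by norm_num)).ge⟩
  · rw [L.baseX_1 hi]
    rcases h1.2 with h | h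
    · exact ⟨3, h.trans (L.baseX_3 (by norm_num)).ge⟩
    · exact ⟨1, h.trans (L.baseX_1 (by norm_num)).ge⟩
  · rw [L.baseX_2 hi]
    rcases h2.2 with h | h
    · exact ⟨0, h.trans (L.baseX_0 (by norm_num)).ge⟩
    · exact ⟨2, h.trans (L.baseX_2 (by norm_num)).ge⟩
  · rw [L.baseX_3 hi]
    rcases h1.1 with h | h
    · exact ⟨3, h.trans (L.baseX_3 (by norm_num)).ge⟩
    · exact ⟨1, h.trans (L.baseX_1 (by norm_num)).ge⟩

/-- `ρ` normalises `⟨t, s⟩`: conjugates of elements of `C(t, s)` -/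
theorem cent_rho {c : G} (hct : c * t = t * c) (hcs : c * s = s * c) (m : ℕ) :
    ((ro L g ^ m)⁻¹ * c * ro L g ^ m) * t = t * ((ro L g ^ m)⁻¹ * c * ro L g ^ m) ∧
    ((ro L g ^ m)⁻¹ * c * ro L g ^ m) * s = s * ((ro L g ^ m)⁻¹ * c * ro L g ^ m) := by
  -- `c` commutes with every `x` of `⟨t, s⟩`
  have h1 : ∀ m : ℕ, c * (ro L g ^ m * t * (ro L g ^ m)⁻¹) = (ro L g ^ m * t * (ro L g ^ m)⁻¹) * c := by
    intro m
    have hm3 : m % 3 < 3 := Nat.mod_lt _ (by norm_num)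
    have e : tN t L g m = tN t L g (m % 3) := S.tN_eq (by omega)
    have e' : ro L g ^ m * t * (ro L g ^ m)⁻¹ = tN t L g (m % 3) := e
    rw [e']
    interval_cases h : m % 3
    · rw [S.tN_0]; exact hct
    · rw [S.tN_1]; exact hcs
    · rw [S.tN_2, ← mul_assoc, hcs, mul_assoc, hct, mul_assoc]
  constructor
  · have h := h1 m
    calc ((ro L g ^ m)⁻¹ * c * ro L g ^ m) * t
        = (ro L g ^ m)⁻¹ * (c * (ro L g ^ m * t * (ro L g ^ m)⁻¹)) * ro L g ^ m := by group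
      _ = (ro L g ^ m)⁻¹ * ((ro L g ^ m * t * (ro L g ^ m)⁻¹) * c) * ro L g ^ m := by rw [h]
      _ = _ := by group
  · have h := h1 (m + 1)
    have hs : s = ro L g * t * (ro L g)⁻¹ := by
      have := S.rho_t
      calc s = s * ro L g * (ro L g)⁻¹ := by group
        _ = _ := by rw [← this]
    have e : ro L g ^ (m + 1) * t * (ro L g ^ (m + 1))⁻¹ = ro L g ^ m * s * (ro L g ^ m)⁻¹ := by
      rw [hs, pow_succ]
      group
    rw [e] at h
    calc ((ro L g ^ m)⁻¹ * c * ro L g ^ m) * s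
        = (ro L g ^ m)⁻¹ * (c * (ro L g ^ m * s * (ro L g ^ m)⁻¹)) * ro L g ^ m := by group
      _ = (ro L g ^ m)⁻¹ * ((ro L g ^ m * s * (ro L g ^ m)⁻¹) * c) * ro L g ^ m := by rw [h]
      _ = _ := by group

/-- `C(t, s)` normalises the group generated by the root groups -/
theorem cent_four_mem [Finite G] {c : G} (hct : c * t = t * c) (hcs : c * s = s * c) : c ∈ L.MM g := by
  apply mem_MM
  intro m
  obtain ⟨h1, h2⟩ := S.cent_rho hct hcs m
  obtain ⟨j, hj⟩ := S.cent_base h1 h2 m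
  -- `k ≡ m` modulo `3`, `k ≡ j` modulo `4`
  obtain ⟨k, hk3, hk4⟩ : ∃ k, k % 3 = m % 3 ∧ k % 4 = j % 4 := by
    refine ⟨4 * (m % 3) + 9 * (j % 4), ?_, ?_⟩ <;> omega
  refine ⟨k, ?_⟩
  have e : L.XN g k = cjS (ro L g ^ m) (L.baseX j) := by
    unfold XN
    rw [L.baseX_mod hk4]
    exact EqT.cjS_eq (T := TT L) (S.rho_mod hk3) (S.nT_rho.pow m) (fun c hc => S.cjS_base hc j)
  rw [e]
  unfold XN
  rw [← cjS_mul]
  have e2 : c * rho L (wn F1) g ^ m = ro L g ^ m * ((ro L g ^ m)⁻¹ * c * ro L g ^ m) := by group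
  rw [e2, cjS_mul]
  exact cjS_mono hj

theorem rho_mem_MM [Finite G] : ro L g ∈ L.MM g := mem_MM fun m => ⟨m + 4, (S.rho_XN m).le⟩

/-- `C(t)` normalises the group generated by the root groups -/
theorem cent_mem [Finite G] {c : G} (hct : c * t = t * c) : c ∈ L.MM g := by
  have F := S.toFrame
  -- `s' = c s c⁻¹`
  set s' := c * s * c⁻¹ with hs'
  have hc' : t * c⁻¹ = c⁻¹ * t := by
    calc t * c⁻¹ = c⁻¹ * (c * t) * c⁻¹ := by group
      _ = c⁻¹ * t := by rw [hct]; group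
  have h1 : s' * t = t * s' := by
    calc s' * t = c * s * (c⁻¹ * t) := by rw [hs']; group
      _ = c * (s * t) * c⁻¹ := by rw [← hc']; group
      _ = (c * t) * s * c⁻¹ := by rw [F.st]; group
      _ = t * s' := by rw [hct, hs']; group
  have h2 : s' * s' = 1 := by
    calc s' * s' = c * (s * s) * c⁻¹ := by rw [hs']; group
      _ = 1 := by rw [F.ss]; group
  have h3 : s' ≠ 1 := by
    intro h
    apply F.s_ne_one
    calc s = c⁻¹ * s' * c := by rw [hs']; group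
      _ = 1 := by rw [h]; group
  have h4 : s' ≠ t := by
    intro h
    apply F.s_ne_t
    calc s = c⁻¹ * s' * c := by rw [hs']; group
      _ = c⁻¹ * (t * c) := by rw [h]; group
      _ = t := by rw [← hct]; group
  obtain ⟨E1, E2, m1, m2, F'⟩ := F.hyp.exists_frame h1 h2 h3 h4
  have hty : IsSquare (dg F1).det ↔ IsSquare E1.det := by
    rw [F.isSquare_iff, F'.isSquare_iff]
    have hcj : ∀ {a b : G}, a * b = b * a → (c * a * c⁻¹) * (c * b * c⁻¹) = (c * b * c⁻¹) * (c * a * c⁻¹) := by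
      intro a b h
      calc (c * a * c⁻¹) * (c * b * c⁻¹) = c * (a * b) * c⁻¹ := by group
        _ = c * (b * a) * c⁻¹ := by rw [h]
        _ = _ := by group
    have ht' : c * t * c⁻¹ = t := by rw [hct]; group
    constructor
    · rintro ⟨x, k1, k2, k3⟩
      refine ⟨c * x * c⁻¹, ?_, hcj k2, ?_⟩
      · have := hcj k1; rwa [ht'] at this
      · have e : c * x * c⁻¹ * (c * x * c⁻¹) = c * (x * x) * c⁻¹ := by group
        rw [e]
        rcases k3 with k3 | k3 | k3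
        · left; rw [k3, ht']
        · right; left; rw [k3]
        · right; right
          rw [k3]
          calc c * (s * t) * c⁻¹ = (c * s * c⁻¹) * (c * t * c⁻¹) := by group
            _ = s' * t := by rw [ht']
    · rintro ⟨x, k1, k2, k3⟩
      have hcj' : ∀ {a b : G}, a * b = b * a → (c⁻¹ * a * c) * (c⁻¹ * b * c) = (c⁻¹ * b * c) * (c⁻¹ * a * c) := by
        intro a b h
        calc (c⁻¹ * a * c) * (c⁻¹ * b * c) = c⁻¹ * (a * b) * c := by group
          _ = c⁻¹ * (b * a) * c := by rw [h]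
          _ = _ := by group
      have ht'' : c⁻¹ * t * c = t := by rw [← hc']; group
      have hs'' : c⁻¹ * s' * c = s := by rw [hs']; group
      refine ⟨c⁻¹ * x * c, ?_, ?_, ?_⟩
      · have := hcj' k1; rwa [ht''] at this
      · have := hcj' k2; rwa [hs''] at this
      · have e : c⁻¹ * x * c * (c⁻¹ * x * c) = c⁻¹ * (x * x) * c := by group
        rw [e]
        rcases k3 with k3 | k3 | k3
        · left; rw [k3, ht'']
        · right; left; rw [k3, hs'']
        · right; right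
          rw [k3]
          calc c⁻¹ * (s' * t) * c = (c⁻¹ * s' * c) * (c⁻¹ * t * c) := by group
            _ = s * t := by rw [ht'', hs'']
  obtain ⟨x, y, hxy⟩ := F.conj_of_type F'.rep F'.tr1 F'.tr2 hty
  -- `d c` centralises `t` and `s`
  set d := L.e1 x * L.e2 y with hd
  have hdM : d ∈ L.MM g := GG_le_MM L g (mul_mem (S.e1_mem_GG x) (S.e2_mem_GG y))
  have hdt : d * t = t * d := (Rep.e12 L x y).comm
  have h5 : d * c ∈ L.MM g := by
    apply S.cent_four_mem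
    · rw [mul_assoc, hct, ← mul_assoc, hdt, mul_assoc]
    · calc d * c * s = d * s' * c := by rw [hs']; group
        _ = s * (d * c) := by rw [hxy]; group
  have h6 := mul_mem (inv_mem hdM) h5
  rwa [inv_mul_cancel_left] at h6

end Swap

end LocalSL

end Cfsg.Agent.GTwoOdd
end
end

-- part: GTwoOdd/CloseFus
section
prune_inst 0x4550364550620000001ca51272205cc7df00019000688001c8840e460788af6229c1296184a031129a22ae4528350068135c0170420000000a000400011d008008880202a148800842009600818041000000000000000000000080000000000000c010000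
set_option linter.all false
open scoped Cfsg.Agent.FastGrp

/-!
# All involutions of the normaliser of the group generated by the root groups are conjugate in it
-/

set_option autoImplicit false

namespace Cfsg.Agent.GTwoOdd

open Matrix

section matrices

variable {F : Type*} [Field F]

/-- `diag(u, 1/u)` -/
def hU (u : Fˣ) : SL2 F := ⟨!![(u : F), 0; 0, ((u⁻¹ : Fˣ) : F)], by simp [Matrix.det_fin_two]⟩

theorem hU_coe (u : Fˣ) : (hU u : M2 F) = !![(u : F), 0; 0, ((u⁻¹ : Fˣ) : F)] := rfl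

theorem hU_mul (u v : Fˣ) : hU (u * v) = hU u * hU v := by
  apply Subtype.ext
  change (hU (u * v) : M2 F) = (hU u : M2 F) * (hU v : M2 F)
  rw [hU_coe, hU_coe, hU_coe, m2_eq_iff]
  simp only [m2_mul_00, m2_mul_01, m2_mul_10, m2_mul_11]
  simp [mul_comm]

theorem hU_one : hU (1 : Fˣ) = 1 := by
  apply Subtype.ext
  change (hU (1 : Fˣ) : M2 F) = 1
  rw [hU_coe, m2_eq_iff]
  simp

theorem hU_inv (u : Fˣ) : hU u⁻¹ = (hU u)⁻¹ := by
  rw [eq_inv_iff_mul_eq_one, ← hU_mul, inv_mul_cancel, hU_one]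

theorem hU_inj {u : Fˣ} (h : hU u = 1) : u = 1 := by
  have := congrArg (fun x : SL2 F => (x : M2 F) 0 0) h
  simp [hU] at this
  exact_mod_cast this

theorem hU_dg (u : Fˣ) : (hU u : M2 F) * dg F = dg F * hU u := by
  rw [hU_coe, m2_eq_iff]
  simp only [m2_mul_00, m2_mul_01, m2_mul_10, m2_mul_11]
  simp [dg]

theorem hU_wn_trace (u : Fˣ) : ((hU u * wn F : SL2 F) : M2 F).trace = 0 := by
  change ((hU u : M2 F) * (wn F : M2 F)).trace = 0
  rw [Matrix.trace_fin_two, m2_mul_00, m2_mul_11, hU_coe, wn_coe]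
  simp

theorem wn_trace : (wn F : M2 F).trace = 0 := by
  rw [Matrix.trace_fin_two, wn_coe]
  simp

end matrices

namespace LocalSL

variable {G : Type*} [Group G] {t : G} {F1 F2 : Type*} [Field F1] [Field F2]
variable [Finite F1] [Finite F2] {L : LocalSL t F1 F2} {s g : G}

/-- inner involutions of `C(t)` -/
def Inn (L : LocalSL t F1 F2) (y : G) : Prop :=
  ∃ A B, L.Rep y A B ∧ A.trace = 0 ∧ B.trace = 0 ∧ IsSquare A.det

/-- outer involutions of `C(t)` -/
def Out (L : LocalSL t F1 F2) (y : G) : Prop :=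
  ∃ A B, L.Rep y A B ∧ A.trace = 0 ∧ B.trace = 0 ∧ ¬ IsSquare A.det

theorem isSquare_smul_det {F : Type*} [Field F] {a : F} (ha : a ≠ 0) (A : M2 F) :
    IsSquare (a • A).det ↔ IsSquare A.det := by
  rw [det_smul2]
  constructor
  · intro h
    have h1 : IsSquare ((a * a)⁻¹ * (a * a * A.det)) := (IsSquare.inv ⟨a, rfl⟩).mul h
    rwa [inv_mul_cancel_left₀ (mul_ne_zero ha ha)] at h1
  · intro h
    exact IsSquare.mul ⟨a, rfl⟩ h

/-- the type does not depend on the matrices -/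
theorem Rep.isSquare_iff {c : G} {A A' : M2 F1} {B B' : M2 F2} (h : L.Rep c A B) (h' : L.Rep c A' B') :
    IsSquare A.det ↔ IsSquare A'.det := by
  obtain ⟨⟨a, ha, rfl⟩, -⟩ := h.prop h'
  exact (isSquare_smul_det ha A).symm

theorem Hyp.inn_or_out (H : L.Hyp) {y : G} (hy : y * t = t * y) (h : y * y = 1) (h1 : y ≠ 1) (h2 : y ≠ t) :
    L.Inn y ∨ L.Out y := by
  obtain ⟨A, B, hr, hA, hB⟩ := H.rep_of_invol hy h h1 h2
  by_cases h3 : IsSquare A.det
  · exact Or.inl ⟨A, B, hr, hA, hB, h3⟩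
  · exact Or.inr ⟨A, B, hr, hA, hB, h3⟩

theorem Hyp.frame_of_rep (H : L.Hyp) {y : G} {A : M2 F1} {B : M2 F2} (h : L.Rep y A B) (hA : A.trace = 0)
    (hB : B.trace = 0) : ∃ n1 n2, L.Frame y A B n1 n2 := by
  obtain ⟨n1, hn1⟩ := exists_anti H.two_ne1 h.det1 hA
  obtain ⟨n2, hn2⟩ := exists_anti H.two_ne2 h.det2 hB
  exact ⟨n1, n2, H, h, hA, hB, hn1, hn2⟩

theorem Hyp.inn_conj (H : L.Hyp) {y y' : G} (h : L.Inn y) (h' : L.Inn y') :
    ∃ (a : SL2 F1) (b : SL2 F2), L.e1 a * L.e2 b * y = y' * (L.e1 a * L.e2 b) := by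
  obtain ⟨A, B, hr, hA, hB, hs⟩ := h
  obtain ⟨A', B', hr', hA', hB', hs'⟩ := h'
  obtain ⟨n1, n2, F⟩ := H.frame_of_rep hr' hA' hB'
  exact F.conj_of_type hr hA hB ⟨fun _ => hs, fun _ => hs'⟩

theorem Hyp.out_conj (H : L.Hyp) {y y' : G} (h : L.Out y) (h' : L.Out y') :
    ∃ (a : SL2 F1) (b : SL2 F2), L.e1 a * L.e2 b * y = y' * (L.e1 a * L.e2 b) := by
  obtain ⟨A, B, hr, hA, hB, hs⟩ := h
  obtain ⟨A', B', hr', hA', hB', hs'⟩ := h'
  obtain ⟨n1, n2, F⟩ := H.frame_of_rep hr' hA' hB'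
  exact F.conj_of_type hr hA hB ⟨fun h => absurd h hs', fun h => absurd h hs⟩

namespace Swap

variable (S : L.Split s g)
include S

/-- an element of `T1` whose conjugate under `ρ` commutes with `r1` is trivial -/
theorem eq_one_of_rho {y : G} (hy : y ∈ L.tor1 (dg F1))
    (h : (ro L g * y * (ro L g)⁻¹) * L.e1 (wn F1) = L.e1 (wn F1) * (ro L g * y * (ro L g)⁻¹)) : y = 1 := by
  have F := S.toFrame
  set r := ro L g with hr
  set n := L.e1 (wn F1) with hn
  have hyT : y ∈ TT L := Frame.tor1_le L (dg F1) (dg F2) hy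
  have h1 : n * y = y⁻¹ * n := F.tor1_inv hy
  have h2 : n * r * n⁻¹ * r = t * s := S.r1_rho
  have h3 : n * r = t * s * r⁻¹ * n := by
    calc n * r = (n * r * n⁻¹ * r) * r⁻¹ * n := by group
      _ = _ := by rw [h2]
  -- `z = r⁻¹ y⁻¹ r`
  have h4 : r * y * r⁻¹ = r⁻¹ * y⁻¹ * r := by
    have k1 : r⁻¹ * y⁻¹ * r ∈ TT L := S.nT_rho.2 _ (inv_mem hyT)
    have k2 : t * s ∈ TT L := mul_mem S.t_mem_TT S.s_mem_TT
    have k3 : (t * s) * (r⁻¹ * y⁻¹ * r) = (r⁻¹ * y⁻¹ * r) * (t * s) := F.tor_comm k2 k1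
    have h3' : r⁻¹ * n⁻¹ = n⁻¹ * r * (t * s)⁻¹ := by
      have := congrArg (fun z => z⁻¹) h3
      simp only [_root_.mul_inv_rev, inv_inv] at this
      rw [this]
      group
    calc r * y * r⁻¹ = (r * y * r⁻¹) * n * n⁻¹ := by group
      _ = n * (r * y * r⁻¹) * n⁻¹ := by rw [h]
      _ = (n * r) * y * (r⁻¹ * n⁻¹) := by group
      _ = t * s * r⁻¹ * (n * y) * (n⁻¹ * r * (t * s)⁻¹) := by rw [h3, h3']; group
      _ = (t * s) * (r⁻¹ * y⁻¹ * r) * (t * s)⁻¹ := by rw [h1]; group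
      _ = r⁻¹ * y⁻¹ * r := by rw [k3]; group
  have h5 : r * r * y = y⁻¹ * (r * r) := by
    calc r * r * y = r * (r * y * r⁻¹) * r := by group
      _ = r * (r⁻¹ * y⁻¹ * r) * r := by rw [h4]
      _ = _ := by group
  have h6 : r * r * r * y = y * (r * r * r) := by
    have k1 : r * r * r ∈ TT L := by
      have := S.rho_cube
      exact this
    exact F.tor_comm k1 hyT
  have h7 : r * y⁻¹ = y * r := by
    have k : r * y⁻¹ * (r * r) = y * r * (r * r) := by
      calc r * y⁻¹ * (r * r) = r * (y⁻¹ * (r * r)) := by group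
        _ = r * (r * r * y) := by rw [h5]
        _ = r * r * r * y := by group
        _ = y * (r * r * r) := h6
        _ = _ := by group
    exact mul_right_cancel k
  have h8 : r * y = y⁻¹ * r := by
    calc r * y = y⁻¹ * (y * r) * y := by group
      _ = y⁻¹ * (r * y⁻¹) * y := by rw [h7]
      _ = _ := by group
  have h9 : r * r * y = y * (r * r) := by
    calc r * r * y = r * (r * y) := by group
      _ = (r * y⁻¹) * r := by rw [h8]; group
      _ = y * (r * r) := by rw [h7]; group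
  have h10 : y = y⁻¹ := by
    rw [h5] at h9
    exact (mul_right_cancel h9).symm
  have hyy : y * y = 1 := by
    nth_rw 1 [h10]
    exact inv_mul_cancel y
  rw [← h10] at h8
  have hrt : r * t = s * r := S.rho_t
  have hrs : r * s = s * t * r := S.rho_s
  rcases F.tor_invol hyT hyy with h11 | h11 | h11 | h11
  · exact h11
  · exfalso
    rw [h11, hrt] at h8
    exact F.s_ne_t (mul_right_cancel h8)
  · exfalso
    rw [h11, hrs] at h8
    have := mul_right_cancel h8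
    apply F.t_ne
    have h12 : s * t = s * 1 := by rw [this, mul_one]
    exact mul_left_cancel h12
  · exfalso
    rw [h11] at h8
    have h12 : r * (s * t) = t * r := by
      calc r * (s * t) = (r * s) * t := by group
        _ = s * t * (r * t) := by rw [hrs]; group
        _ = (s * t) * s * r := by rw [hrt]; group
        _ = (t * s) * s * r := by rw [F.st]
        _ = t * (s * s) * r := by group
        _ = t * r := by rw [F.ss]; group
    rw [h12] at h8
    have h13 := mul_right_cancel h8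
    apply F.s_ne_one
    have h14 : 1 * t = s * t := by rw [one_mul]; exact h13
    exact (mul_right_cancel h14).symm

/-- some element of `T1^ρ` is outer -/
theorem exists_outer : ∃ u : F1ˣ, ∃ A B, L.Rep (ro L g * L.e1 (hU u) * (ro L g)⁻¹) A B ∧ ¬ IsSquare A.det := by
  classical
  have F := S.toFrame
  have h2 := F.two1
  have hmem : ∀ u : F1ˣ, ∃ A : M2 F1, ∃ B, L.Rep (ro L g * L.e1 (hU u) * (ro L g)⁻¹) A B ∧
      (A 0 1 = 0 ∧ A 1 0 = 0) := by
    intro u
    have h1 : L.e1 (hU u) ∈ TT L := Frame.tor1_le L (dg F1) (dg F2) ⟨hU u, hU_dg u, rfl⟩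
    obtain ⟨A, B, hr, hA, hB⟩ := S.nT_rho.1 _ h1
    exact ⟨A, B, hr, (comm_dg_iff h2).1 hA⟩
  choose A B hr hA using hmem
  have hA0 : ∀ u, A u 0 0 ≠ 0 := by
    intro u h
    apply (hr u).det1
    rw [Matrix.det_fin_two, h, (hA u).1]
    ring
  have hA1 : ∀ u, A u 1 1 ≠ 0 := by
    intro u h
    apply (hr u).det1
    rw [Matrix.det_fin_two, h, (hA u).1]
    ring
  let ψ : F1ˣ → F1ˣ := fun u => Units.mk0 (A u 0 0) (hA0 u) * (Units.mk0 (A u 1 1) (hA1 u))⁻¹
  have hψ : Function.Injective ψ := by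
    intro u v huv
    have h3 : A u 0 0 * A v 1 1 = A v 0 0 * A u 1 1 := by
      have h4 := congrArg (fun x : F1ˣ => (x : F1)) huv
      simp only [ψ, Units.val_mul, Units.val_mk0, Units.val_inv_eq_inv_val] at h4
      have k1 := hA1 u
      have k2 := hA1 v
      field_simp at h4
      linear_combination h4
    -- the product acts trivially on `L1`
    have h5 := (hr u).mul (hr v).inv
    have h6 : A u * (A v).adjugate = (A u 0 0 * A v 1 1) • (1 : M2 F1) := by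
      rw [Matrix.adjugate_fin_two, m2_eq_iff]
      simp only [m2_mul_00, m2_mul_01, m2_mul_10, m2_mul_11]
      simp [(hA u).1, (hA u).2, (hA v).1, (hA v).2]
      rw [h3]; ring
    rw [h6] at h5
    have h7 : ro L g * L.e1 (hU u) * (ro L g)⁻¹ * (ro L g * L.e1 (hU v) * (ro L g)⁻¹)⁻¹ =
        ro L g * L.e1 (hU (u * v⁻¹)) * (ro L g)⁻¹ := by
      rw [hU_mul, hU_inv, map_mul, map_inv]
      group
    rw [h7] at h5
    have h8 := S.eq_one_of_rho (y := L.e1 (hU (u * v⁻¹))) ⟨_, hU_dg _, rfl⟩ (h5.acts1.comm_of_one (wn F1))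
    have h9 : hU (u * v⁻¹) = 1 := L.inj1 (by rw [h8, map_one])
    have h10 := hU_inj h9
    exact mul_inv_eq_one.1 h10
  have hsurj : Function.Surjective ψ := Finite.surjective_of_injective hψ
  obtain ⟨b, hb⟩ : ∃ b : F1, ¬ IsSquare b := by
    apply FiniteField.exists_nonsquare
    intro h
    apply h2
    have : CharP F1 2 := by rw [← h]; exact ringChar.charP F1
    exact_mod_cast CharP.cast_eq_zero F1 2
  have hb0 : b ≠ 0 := by rintro rfl; exact hb IsSquare.zero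
  obtain ⟨u, hu⟩ := hsurj (Units.mk0 b hb0)
  refine ⟨u, A u, B u, hr u, fun hsq => hb ?_⟩
  have h4 := congrArg (fun x : F1ˣ => (x : F1)) hu
  simp only [ψ, Units.val_mul, Units.val_mk0, Units.val_inv_eq_inv_val] at h4
  rw [← h4]
  have e : A u 0 0 * (A u 1 1)⁻¹ = (A u).det * ((A u 1 1)⁻¹ * (A u 1 1)⁻¹) := by
    have k1 := hA1 u
    rw [Matrix.det_fin_two, (hA u).1]
    field_simp
    ring
  rw [e]
  exact hsq.mul ⟨_, rfl⟩

/-- `w = r1 r2` -/
theorem w_inn : L.Inn (L.e1 (wn F1) * L.e2 (wn F2)) :=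
  ⟨_, _, Rep.e12 L _ _, wn_trace, wn_trace, by rw [sl_coe_det]; exact IsSquare.one⟩

/-- an inner involution which is conjugate to an outer one under `ρ` -/
theorem fuse : ∃ y1 y2, L.Inn y1 ∧ L.Out y2 ∧ ro L g * y1 = y2 * ro L g := by
  have F := S.toFrame
  have H := F.hyp
  set w := L.e1 (wn F1) * L.e2 (wn F2) with hw
  have hww : w * w = 1 := F.ww
  have hwt : w * t = t * w := F.w_t
  have hws : w * s = s * w := F.w_s
  -- conjugates under `ρ` of involutions of `C(t, s)` outside `V` are in `C(t)`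
  have key : ∀ y : G, y * t = t * y → y * s = s * y → y * y = 1 → y ∉ TT L →
      L.Inn (ro L g * y * (ro L g)⁻¹) ∨ L.Out (ro L g * y * (ro L g)⁻¹) := by
    intro y h1 h2 h3 h4
    have h5 : ro L g * y * (ro L g)⁻¹ ∉ TT L := by
      intro h
      apply h4
      have := S.nT_rho.2 _ h
      have e : (ro L g)⁻¹ * (ro L g * y * (ro L g)⁻¹) * ro L g = y := by group
      rwa [e] at this
    apply H.inn_or_out
    · have hrs : ro L g * (s * t) = t * ro L g := by
        calc ro L g * (s * t) = (ro L g * s) * t := by group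
          _ = s * t * (ro L g * t) := by rw [S.rho_s]; group
          _ = (s * t) * s * ro L g := by rw [S.rho_t]; group
          _ = (t * s) * s * ro L g := by rw [F.st]
          _ = t * (s * s) * ro L g := by group
          _ = t * ro L g := by rw [F.ss]; group
      have hyst : y * (s * t) = (s * t) * y := by
        rw [← mul_assoc, h2, mul_assoc, h1, ← mul_assoc]
      calc ro L g * y * (ro L g)⁻¹ * t = ro L g * y * (ro L g)⁻¹ * (t * ro L g) * (ro L g)⁻¹ := by group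
        _ = ro L g * (y * (s * t)) * (ro L g)⁻¹ := by rw [← hrs]; group
        _ = (ro L g * (s * t)) * y * (ro L g)⁻¹ := by rw [hyst]; group
        _ = t * (ro L g * y * (ro L g)⁻¹) := by rw [hrs]; group
    · calc ro L g * y * (ro L g)⁻¹ * (ro L g * y * (ro L g)⁻¹) = ro L g * (y * y) * (ro L g)⁻¹ := by group
        _ = 1 := by rw [h3]; group
    · intro h; apply h5; rw [h]; exact one_mem _
    · intro h; apply h5; rw [h]; exact S.t_mem_TT
  have hwT : w ∉ TT L := F.w_not_mem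
  obtain ⟨u, A, B, hr, hA⟩ := S.exists_outer
  rcases key w hwt hws hww hwT with h1 | h1
  · -- `ρ w ρ⁻¹` is inner
    obtain ⟨A0, B0, hr0, hA0, hB0, hsq⟩ := h1
    set y := L.e1 (hU u) * w with hy
    have huT : L.e1 (hU u) ∈ TT L := Frame.tor1_le L (dg F1) (dg F2) ⟨hU u, hU_dg u, rfl⟩
    have hyT : y ∉ TT L := by
      intro h
      apply hwT
      have := mul_mem (inv_mem huT) h
      rwa [hy, inv_mul_cancel_left] at this
    have hyt : y * t = t * y := by
      rw [hy, mul_assoc, hwt, ← mul_assoc, F.tor_t huT, mul_assoc]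
    have hys : y * s = s * y := by
      rw [hy, mul_assoc, hws, ← mul_assoc, F.tor_s huT, mul_assoc]
    have hyy : y * y = 1 := F.mul_w_sq huT
    have hyI : L.Inn y := by
      refine ⟨_, (wn F2 : M2 F2), ?_, hU_wn_trace u, wn_trace, ?_⟩
      · have := Rep.e12 L (hU u * wn F1) (wn F2)
        rw [map_mul, mul_assoc] at this
        exact this
      · rw [sl_coe_det]; exact IsSquare.one
    refine ⟨y, ro L g * y * (ro L g)⁻¹, hyI, ?_, by group⟩
    rcases key y hyt hys hyy hyT with h3 | h3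
    · exfalso
      obtain ⟨A1, B1, hr1, -, -, hsq1⟩ := h3
      have h4 := hr.mul hr0
      have e : ro L g * L.e1 (hU u) * (ro L g)⁻¹ * (ro L g * w * (ro L g)⁻¹) = ro L g * y * (ro L g)⁻¹ := by
        rw [hy]; group
      rw [e] at h4
      have h5 := (hr1.isSquare_iff h4).1 hsq1
      rw [Matrix.det_mul, mul_comm] at h5
      exact not_isSquare_mul hsq hr0.det1 hA h5
    · exact h3
  · exact ⟨w, ro L g * w * (ro L g)⁻¹, S.w_inn, h1, by group⟩

/-- all involutions of `C(t)` are conjugate to `t` in the normaliser of the group generated by the root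
groups -/
theorem conj_t [Finite G] {y : G} (hy : y * t = t * y) (hyy : y * y = 1) (hy1 : y ≠ 1) :
    ∃ m ∈ L.MM g, m * y = t * m := by
  have F := S.toFrame
  have H := F.hyp
  by_cases hyt : y = t
  · exact ⟨1, one_mem _, by rw [hyt]; simp⟩
  have hrho := S.rho_mem_MM
  have hL : ∀ (a : SL2 F1) (b : SL2 F2), L.e1 a * L.e2 b ∈ L.MM g := fun a b =>
    GG_le_MM L g (mul_mem (S.e1_mem_GG a) (S.e2_mem_GG b))
  -- transitivity
  have tr : ∀ {a b c : G}, (∃ m ∈ L.MM g, m * a = b * m) → (∃ m ∈ L.MM g, m * b = c * m) →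
      ∃ m ∈ L.MM g, m * a = c * m := by
    rintro a b c ⟨m, hm, h1⟩ ⟨m', hm', h2⟩
    refine ⟨m' * m, mul_mem hm' hm, ?_⟩
    rw [mul_assoc, h1, ← mul_assoc, h2, mul_assoc]
  have sy : ∀ {a b : G}, (∃ m ∈ L.MM g, m * a = b * m) → ∃ m ∈ L.MM g, m * b = a * m := by
    rintro a b ⟨m, hm, h1⟩
    refine ⟨m⁻¹, inv_mem hm, ?_⟩
    calc m⁻¹ * b = m⁻¹ * (b * m) * m⁻¹ := by group
      _ = m⁻¹ * (m * a) * m⁻¹ := by rw [h1]
      _ = a * m⁻¹ := by group
  have hI : ∀ {a b : G}, L.Inn a → L.Inn b → ∃ m ∈ L.MM g, m * a = b * m := by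
    intro a b ha hb
    obtain ⟨x, z, h⟩ := H.inn_conj ha hb
    exact ⟨_, hL x z, h⟩
  have hO : ∀ {a b : G}, L.Out a → L.Out b → ∃ m ∈ L.MM g, m * a = b * m := by
    intro a b ha hb
    obtain ⟨x, z, h⟩ := H.out_conj ha hb
    exact ⟨_, hL x z, h⟩
  obtain ⟨y1, y2, h1, h2, h3⟩ := S.fuse
  have h12 : ∃ m ∈ L.MM g, m * y1 = y2 * m := ⟨_, hrho, h3⟩
  have hst : ∃ m ∈ L.MM g, m * s = t * m := sy ⟨_, hrho, S.rho_t⟩
  have hsIO := H.inn_or_out F.st F.ss F.s_ne_one F.s_ne_t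
  rcases H.inn_or_out hy hyy hy1 hyt with h4 | h4 <;> rcases hsIO with h5 | h5
  · exact tr (hI h4 h5) hst
  · exact tr (hI h4 h1) (tr h12 (tr (hO h2 h5) hst))
  · exact tr (hO h4 h2) (tr (sy h12) (tr (hI h1 h5) hst))
  · exact tr (hO h4 h5) hst

/-- all involutions of the normaliser of the group generated by the root groups are conjugate in it -/
theorem conj_mem [Finite G] {x : G} (hx : x ∈ L.MM g) (hxx : x * x = 1) (hx1 : x ≠ 1) :
    ∃ m ∈ L.MM g, m * x = t * m := by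
  have F := S.toFrame
  have htt : t * t = 1 := L.t_sq
  have htM : t ∈ L.MM g := S.cent_mem rfl
  set a := x * t with ha
  have haM : a ∈ L.MM g := mul_mem hx htM
  have hta : t * a = a⁻¹ * t := by
    rw [ha]
    have h1 : (x * t)⁻¹ = t * x := by
      rw [_root_.mul_inv_rev, inv_eq_of_mul_eq_one_left htt, inv_eq_of_mul_eq_one_left hxx]
    rw [h1, mul_assoc]
  have htp : ∀ k : ℕ, t * a ^ k = (a ^ k)⁻¹ * t := by
    intro k
    have e : t * a ^ k * t⁻¹ = (t * a * t⁻¹) ^ k := by rw [conj_pow]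
    have e2 : t * a * t⁻¹ = a⁻¹ := by rw [hta]; group
    rw [e2, inv_pow] at e
    calc t * a ^ k = (t * a ^ k * t⁻¹) * t := by group
      _ = _ := by rw [e]
  have hxt : x = a * t := by rw [ha, mul_assoc, htt, mul_one]
  have hfin : IsOfFinOrder a := isOfFinOrder_of_finite a
  rcases Nat.even_or_odd' (orderOf a) with ⟨k, hk | hk⟩
  · -- even order: a central involution
    have hpos := hfin.orderOf_pos
    have hk0 : 0 < k := by omega
    set z := a ^ k with hz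
    have hzz : z * z = 1 := by
      rw [hz, ← pow_add]
      have : k + k = orderOf a := by omega
      rw [this, pow_orderOf_eq_one]
    have hz1 : z ≠ 1 := by
      intro h
      have := orderOf_dvd_of_pow_eq_one (hz ▸ h)
      have := Nat.le_of_dvd hk0 this
      omega
    have hzi : z⁻¹ = z := inv_eq_of_mul_eq_one_left hzz
    have hzt : z * t = t * z := by
      have := htp k
      rw [← hz, hzi] at this
      exact this.symm
    have hza : z * a = a * z := by rw [hz, ← pow_succ, ← pow_succ']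
    have hzx : z * x = x * z := by
      have e1 : z * x = z * (a * t) := congrArg (fun y => z * y) hxt
      have e2 : x * z = (a * t) * z := congrArg (fun y => y * z) hxt
      rw [e1, e2, ← mul_assoc, hza, mul_assoc a z t, hzt, ← mul_assoc]
    obtain ⟨m, hm, h1⟩ := S.conj_t hzt hzz hz1
    -- `m x m⁻¹` commutes with `t`
    have hmz : t = m * z * m⁻¹ := by rw [h1]; group
    have h2 : (m * x * m⁻¹) * t = t * (m * x * m⁻¹) := by
      rw [hmz]
      calc m * x * m⁻¹ * (m * z * m⁻¹) = m * (x * z) * m⁻¹ := by group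
        _ = m * (z * x) * m⁻¹ := by rw [hzx]
        _ = _ := by group
    obtain ⟨m', hm', h3⟩ := S.conj_t h2
      (by calc m * x * m⁻¹ * (m * x * m⁻¹) = m * (x * x) * m⁻¹ := by group
            _ = 1 := by rw [hxx]; group)
      (by intro h
          apply hx1
          calc x = m⁻¹ * (m * x * m⁻¹) * m := by group
            _ = 1 := by rw [h]; group)
    refine ⟨m' * m, mul_mem hm' hm, ?_⟩
    calc m' * m * x = m' * (m * x * m⁻¹) * m := by group
      _ = t * (m' * m) := by rw [h3]; group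
  · -- odd order
    refine ⟨(a ^ (k + 1))⁻¹, inv_mem (pow_mem haM _), ?_⟩
    have h1 : a ^ (k + 1) * t = x * a ^ (k + 1) := by
      have h2 : a ^ (k + 1) * a ^ (k + 1) = a := by
        rw [← pow_add]
        have : k + 1 + (k + 1) = orderOf a + 1 := by omega
        rw [this, pow_succ, pow_orderOf_eq_one, one_mul]
      have h3 := htp (k + 1)
      calc a ^ (k + 1) * t = (a ^ (k + 1) * a ^ (k + 1)) * ((a ^ (k + 1))⁻¹ * t) := by group
        _ = a * (t * a ^ (k + 1)) := by rw [h2, h3]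
        _ = x * a ^ (k + 1) := by rw [hxt]; group
    calc (a ^ (k + 1))⁻¹ * x = (a ^ (k + 1))⁻¹ * (x * a ^ (k + 1)) * (a ^ (k + 1))⁻¹ := by group
      _ = (a ^ (k + 1))⁻¹ * (a ^ (k + 1) * t) * (a ^ (k + 1))⁻¹ := by rw [h1]
      _ = t * (a ^ (k + 1))⁻¹ := by group

end Swap

end LocalSL

end Cfsg.Agent.GTwoOdd

private theorem dce_272403dd1b04 : _root_.True := by
  try have : _root_.True := by simp only [_root_.Cfsg.Agent.GTwoOdd.hU.eq_1]
  exact _root_.True.intro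
end

-- part: GTwoOdd/BridgeMain
section
set_option linter.all false
open scoped Cfsg.Agent.FastGrp

/-!
The two factors `SL(2, q₁)`, `SL(2, q₂)` of `C(t)/O(C(t))`, together with the position of the two quaternion subgroups:
the theorem of `GTwoAfter` with `φ.range ≤ L₁`, `ψ.range ≤ L₂` in the conclusion.
-/

set_option autoImplicit false

namespace Cfsg.Agent.GTwoOdd.BridgeMain

open QuaternionGroup Subgroup Cfsg.Agent.ClassificationK Cfsg.Agent.ClassificationK.GTwoConf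
open Cfsg.Agent.ClassificationK.GTwoFactor Cfsg.Agent.ClassificationK.GTwoAfter

universe u

/-- the goal: the two factors and the two quaternion groups in them -/
def Plus {X : Type u} [Group X] {k : ℕ} (φ ψ : QuaternionGroup (2 ^ k) →* X) : Prop :=
  ∃ L₁ L₂ : Subgroup X, L₁.Normal ∧ L₂.Normal ∧ φ.range ≤ L₁ ∧ ψ.range ≤ L₂ ∧
    (∃ (F₁ : Type) (_ : Field F₁) (_ : Fintype F₁), Odd (Fintype.card F₁) ∧
      Nonempty (↥L₁ ≃* Matrix.SpecialLinearGroup (Fin 2) F₁)) ∧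
    (∃ (F₂ : Type) (_ : Field F₂) (_ : Fintype F₂), Odd (Fintype.card F₂) ∧
      Nonempty (↥L₂ ≃* Matrix.SpecialLinearGroup (Fin 2) F₂)) ∧
    ⁅L₁, L₂⁆ = ⊥ ∧ L₁ ⊔ L₂ = commutator X

variable {X : Type u} [Group X] [Finite X] {k : ℕ} {P : Sylow 2 X} {s : X} {φ ψ : QuaternionGroup (2 ^ k) →* X}

/-- final step -/
theorem goal_plus (h : Conf k P s φ ψ) (L M : Subgroup X) (hLn : L.Normal) (hMn : M.Normal)
    (hL : φ.range ≤ L) (hM : ψ.range ≤ M) (hLM : ⁅L, M⁆ ≤ Subgroup.zpowers (Conf.t φ))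
    (hLF : ∃ (F₁ : Type) (_ : Field F₁) (_ : Fintype F₁), Odd (Fintype.card F₁) ∧
      Nonempty (↥L ≃* Matrix.SpecialLinearGroup (Fin 2) F₁))
    (hMF : ∃ (F₂ : Type) (_ : Field F₂) (_ : Fintype F₂), Odd (Fintype.card F₂) ∧
      Nonempty (↥M ≃* Matrix.SpecialLinearGroup (Fin 2) F₂))
    (hLc : L ≤ commutator X) (hMc : M ≤ commutator X) : Plus φ ψ := by
  obtain ⟨F₁, i₁, j₁, ho₁, ⟨e₁⟩⟩ := id hLF
  obtain ⟨F₂, i₂, j₂, ho₂, ⟨e₂⟩⟩ := id hMF
  have h1 : ⁅L, M⁆ = ⊥ := commutator_eq_bot (Conf.t φ) (GTwoFactorBasic.Conf.t_center h)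
    (GTwoFactorBasic.Conf.orderOf_t h) L M hLM ho₁ e₁
  exact ⟨L, M, hLn, hMn, hL, hM, hLF, hMF, h1,
    le_antisymm (sup_le hLc hMc) (GTwoConfBasic.commutator_le h L M hL hM h1 e₁ e₂)⟩

/-- the main theorem after fusion, given the commutator half of Goldschmidt's product theorem, the recognition of a
perfect factor and the case `k = 1` of a normal quaternion factor -/
theorem main_of_plus
    (hC1 : ∀ (G : Type u) [Group G] [Finite G] (P : Sylow 2 G) (A B : Subgroup G), A ⊓ B = ⊥ →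
      Cfsg.IsStronglyClosed A (P : Subgroup G) → Cfsg.IsStronglyClosed B (P : Subgroup G) →
      ⁅normalClosure (A : Set G), normalClosure (B : Set G)⁆ ≤ Cfsg.oddCore G)
    (hSL : ∀ (φ ψ : QuaternionGroup (2 ^ k) →* X), Conf k P s φ ψ → ∀ (L : Subgroup X) [L.Normal],
      φ.range ≤ L → L ⊓ (P : Subgroup X) ≤ φ.range → commutator L = ⊤ →
      ∃ (F : Type) (_ : Field F) (_ : Fintype F), Odd (Fintype.card F) ∧ 3 < Fintype.card F ∧
        Nonempty (L ≃* Matrix.SpecialLinearGroup (Fin 2) F))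
    (hCen : ∀ (φ ψ : QuaternionGroup (2 ^ k) →* X), Conf k P s φ ψ → k = 1 → φ.range.Normal →
      ∀ (M : Subgroup X) [M.Normal], ψ.range ≤ M → M ⊓ (P : Subgroup X) ≤ ψ.range →
      (∀ x, ∀ y ∈ M, φ x * y = y * φ x) →
      (M = ψ.range ∨ ∃ (F : Type) (_ : Field F) (_ : Fintype F), Odd (Fintype.card F) ∧
        Nonempty (M ≃* Matrix.SpecialLinearGroup (Fin 2) F)) →
      φ.range ≤ centralizer (M : Set X) ∧ centralizer (M : Set X) ⊓ (P : Subgroup X) ≤ φ.range ∧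
        Nonempty (centralizer (M : Set X) ≃* Matrix.SpecialLinearGroup (Fin 2) (ZMod 3)) ∧
        centralizer (M : Set X) ≤ commutator X)
    (h : Conf k P s φ ψ) : Plus φ ψ := by
  have hn : (zpowers (Conf.t φ)).Normal := GTwoFactorBasic.Conf.normal_t h
  have ht : Conf.t φ = Conf.t φ := rfl
  have ht' : Conf.t ψ = Conf.t φ := GTwoFactorBasic.Conf.t_symm h
  have h3 : Fact (Nat.Prime 3) := ⟨Nat.prime_three⟩
  have hc3 : Odd (Fintype.card (ZMod 3)) := by rw [ZMod.card 3]; decide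
  have hL0 : φ.range ≤ LK φ (Conf.t φ) := range_le_LK φ (Conf.t φ)
  have hM0 : ψ.range ≤ LK ψ (Conf.t φ) := range_le_LK ψ (Conf.t φ)
  have hLP : LK φ (Conf.t φ) ⊓ (P : Subgroup X) ≤ φ.range := fun x hx => LK_inf_P h ht hC1 x hx.1 hx.2
  have hMP : LK ψ (Conf.t φ) ⊓ (P : Subgroup X) ≤ ψ.range := fun x hx => LK_inf_P h.symm ht' hC1 x hx.1 hx.2
  have hLM : ⁅LK φ (Conf.t φ), LK ψ (Conf.t φ)⁆ ≤ zpowers (Conf.t φ) := LK_comm h ht hC1
  have hML : ⁅LK ψ (Conf.t φ), LK φ (Conf.t φ)⁆ ≤ zpowers (Conf.t φ) := by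
    rw [Subgroup.commutator_comm]; exact hLM
  have htc := GTwoFactorBasic.Conf.t_center h
  have hto := GTwoFactorBasic.Conf.orderOf_t h
  rcases LK_perfect h ht hC1 with hL | ⟨hk, hL⟩ <;> rcases LK_perfect h.symm ht' hC1 with hM | ⟨hk', hM⟩
  · -- both factors perfect
    obtain ⟨F₁, i₁, j₁, ho₁, -, e₁⟩ := hSL φ ψ h _ hL0 hLP hL
    obtain ⟨F₂, i₂, j₂, ho₂, -, e₂⟩ := hSL ψ φ h.symm _ hM0 hMP hM
    exact goal_plus h _ _ inferInstance inferInstance hL0 hM0 hLM ⟨F₁, i₁, j₁, ho₁, e₁⟩ ⟨F₂, i₂, j₂, ho₂, e₂⟩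
      (le_commutator_of_perfect _ hL) (le_commutator_of_perfect _ hM)
  · -- the second factor solvable
    obtain ⟨F₁, i₁, j₁, ho₁, -, e₁⟩ := hSL φ ψ h _ hL0 hLP hL
    have hψn : ψ.range.Normal := by rw [← hM]; infer_instance
    have hcomm : ⁅LK φ (Conf.t φ), LK ψ (Conf.t φ)⁆ = ⊥ := by
      obtain ⟨e₁⟩ := e₁
      exact commutator_eq_bot _ htc hto _ _ hLM ho₁ e₁
    have hc : ∀ x, ∀ y ∈ LK φ (Conf.t φ), ψ x * y = y * ψ x := by
      intro x y hy
      have h1 := Subgroup.commutator_mem_commutator hy (hM0 ⟨x, rfl⟩)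
      rw [hcomm, Subgroup.mem_bot] at h1
      exact (commutatorElement_eq_one_iff_mul_comm.1 h1).symm
    obtain ⟨h1, -, h2, h4⟩ := hCen ψ φ h.symm hk' hψn (LK φ (Conf.t φ)) hL0 hLP hc
      (Or.inr ⟨F₁, i₁, j₁, ho₁, e₁⟩)
    refine goal_plus h (LK φ (Conf.t φ)) (centralizer (LK φ (Conf.t φ) : Set X)) inferInstance inferInstance
      hL0 h1 ?_ ⟨F₁, i₁, j₁, ho₁, e₁⟩ ⟨ZMod 3, inferInstance, inferInstance, hc3, h2⟩
      (le_commutator_of_perfect _ hL) h4
    rw [Subgroup.commutator_le]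
    intro x hx y hy
    have h5 : x * y = y * x := (Subgroup.mem_centralizer_iff.1 hy x hx)
    rw [commutatorElement_def, h5]
    have : y * x * x⁻¹ * y⁻¹ = 1 := by group
    rw [this]
    exact one_mem _
  · -- the first factor solvable
    obtain ⟨F₂, i₂, j₂, ho₂, -, e₂⟩ := hSL ψ φ h.symm _ hM0 hMP hM
    have hφn : φ.range.Normal := by rw [← hL]; infer_instance
    have hcomm : ⁅LK ψ (Conf.t φ), LK φ (Conf.t φ)⁆ = ⊥ := by
      obtain ⟨e₂⟩ := e₂
      exact commutator_eq_bot _ htc hto _ _ hML ho₂ e₂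
    have hc : ∀ x, ∀ y ∈ LK ψ (Conf.t φ), φ x * y = y * φ x := by
      intro x y hy
      have h1 := Subgroup.commutator_mem_commutator hy (hL0 ⟨x, rfl⟩)
      rw [hcomm, Subgroup.mem_bot] at h1
      exact (commutatorElement_eq_one_iff_mul_comm.1 h1).symm
    obtain ⟨h1, -, h2, h4⟩ := hCen φ ψ h hk hφn (LK ψ (Conf.t φ)) hM0 hMP hc
      (Or.inr ⟨F₂, i₂, j₂, ho₂, e₂⟩)
    refine goal_plus h (centralizer (LK ψ (Conf.t φ) : Set X)) (LK ψ (Conf.t φ)) inferInstance inferInstance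
      h1 hM0 ?_ ⟨ZMod 3, inferInstance, inferInstance, hc3, h2⟩ ⟨F₂, i₂, j₂, ho₂, e₂⟩
      h4 (le_commutator_of_perfect _ hM)
    rw [Subgroup.commutator_le]
    intro y hy x hx
    have h5 : x * y = y * x := (Subgroup.mem_centralizer_iff.1 hy x hx)
    rw [commutatorElement_def, ← h5]
    have : x * y * y⁻¹ * x⁻¹ = 1 := by group
    rw [this]
    exact one_mem _
  · -- both factors solvable
    have hφn : φ.range.Normal := by rw [← hL]; infer_instance
    have hψn : ψ.range.Normal := by rw [← hM]; infer_instance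
    have hc : ∀ x, ∀ y ∈ ψ.range, φ x * y = y * φ x := by
      rintro x _ ⟨y, rfl⟩
      exact h.comm x y
    have hc' : ∀ x, ∀ y ∈ φ.range, ψ x * y = y * ψ x := by
      rintro x _ ⟨y, rfl⟩
      exact (h.comm y x).symm
    obtain ⟨h1, h1', h2, h4⟩ := hCen φ ψ h hk hφn ψ.range le_rfl inf_le_left hc (Or.inl rfl)
    obtain ⟨h5, h5', h6, h7⟩ := hCen ψ φ h.symm hk hψn φ.range le_rfl inf_le_left hc' (Or.inl rfl)
    refine goal_plus h (centralizer (ψ.range : Set X)) (centralizer (φ.range : Set X)) inferInstance inferInstance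
      h1 h5 ?_ ⟨ZMod 3, inferInstance, inferInstance, hc3, h2⟩ ⟨ZMod 3, inferInstance, inferInstance, hc3, h6⟩ h4 h7
    have h8 : ∀ x ∈ centralizer (ψ.range : Set X) ⊓ centralizer (φ.range : Set X), x = 1 ∨ x = Conf.t φ := by
      refine GTwoFactorBasic.Conf.eq_one_or_eq_t_of_inf h ht _ ?_
      intro x hx hxP
      have h9 : x ∈ φ.range := h1' ⟨hx.1, hxP⟩
      have h10 : x ∈ ψ.range := h5' ⟨hx.2, hxP⟩
      obtain ⟨u, rfl⟩ := h9
      obtain ⟨v, hv⟩ := h10
      rcases h.inf₁ u v hv.symm with h11 | h11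
      · left; rw [h11, map_one]
      · right; rw [h11]; rfl
    have h9 : ⁅centralizer (ψ.range : Set X), centralizer (φ.range : Set X)⁆ ≤
        centralizer (ψ.range : Set X) ⊓ centralizer (φ.range : Set X) :=
      le_inf (Subgroup.commutator_le_left _ _) (Subgroup.commutator_le_right _ _)
    intro x hx
    exact (GTwoFactorBasic.Conf.mem_zpowers_t h).2 (h8 x (h9 hx))


/-- the main theorem after fusion, for the commutator half of Goldschmidt's product theorem (`hC1`) and the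
Gorenstein–Walter theorem (`hGW`, the text of S0483) -/
theorem main_plus
    (hC1 : ∀ (G : Type u) [Group G] [Finite G] (P : Sylow 2 G) (A B : Subgroup G), A ⊓ B = ⊥ →
      Cfsg.IsStronglyClosed A (P : Subgroup G) → Cfsg.IsStronglyClosed B (P : Subgroup G) →
      ⁅normalClosure (A : Set G), normalClosure (B : Set G)⁆ ≤ Cfsg.oddCore G)
    (hGW : ∀ (X : Type u) [Group X] [Finite X] [Group.IsPerfect X]
      (S : Sylow 2 X) (n : ℕ), 2 ≤ n → Nonempty ((S : Subgroup X) ≃* DihedralGroup n) →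
      (∃ (F : Type) (_ : Field F) (_ : Fintype F), Odd (Fintype.card F) ∧ 3 < Fintype.card F ∧
        Nonempty (X ⧸ Cfsg.oddCore X ≃* Matrix.ProjectiveSpecialLinearGroup (Fin 2) F)) ∨
      Nonempty (X ⧸ Cfsg.oddCore X ≃* alternatingGroup (Fin 7)))
    (h : Conf k P s φ ψ) : Plus φ ψ := by
  refine main_of_plus hC1 ?_ ?_ h
  · intro φ ψ h L _ h1 h2 h3
    exact GTwoSLTwo.exists_sl_two hGW h L h1 h2 h3
  · intro φ ψ h hk hn M _ h1 h2 hc hM
    subst hk
    exact GTwoCenterCase.center_case h hn M h1 h2 hc hM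

end Cfsg.Agent.GTwoOdd.BridgeMain
end

-- part: GTwoOdd/Assemble_mg
section
prune_inst 0x41403245016000000004a01050205c838700019000088000008401460480ec6009822820880021021a2000050035000810440000000000000000000000000180080000000140000840009000018041000000000000000000000080000000000000c010000
set_option linter.all false
open scoped Cfsg.Agent.FastGrp

-- part: GTwoOdd/Transport
section
/-!
# Transport of `LocalSL` and `Hyp` along an isomorphism onto a centraliser

If the odd core of `C(t)` is trivial then `LocHyp t` gives `LocalSL` and `Hyp` in `G` itself.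
-/

set_option autoImplicit false

namespace Cfsg.Agent.GTwoOdd

open Matrix

section acts

variable {G K : Type*} [Group G] [Group K] {F : Type*} [Field F] {e : SL2 F →* K} {φ : K →* G}

theorem Acts.comp_map {c : K} {A : M2 F} (h : Acts e c A) (φ : K →* G) : Acts (φ.comp e) (φ c) A := by
  refine ⟨h.1, fun x y hxy => ?_⟩
  change φ c * φ (e x) = φ (e y) * φ c
  rw [← map_mul, h.2 x y hxy, map_mul]

theorem Acts.of_comp (hφ : Function.Injective φ) {c : K} {A : M2 F} (h : Acts (φ.comp e) (φ c) A) : Acts e c A := by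
  refine ⟨h.1, fun x y hxy => ?_⟩
  apply hφ
  rw [map_mul, map_mul]
  exact h.2 x y hxy

end acts

namespace LocalSL

variable {G K : Type*} [Group G] [Group K] {F1 F2 : Type*} [Field F1] [Field F2]

/-- transport of a `LocalSL` along an injective homomorphism whose image is `C(t)` -/
def map {t' : K} (L : LocalSL t' F1 F2) (φ : K →* G) (hφ : Function.Injective φ) {t : G} (ht : φ t' = t)
    (hr : ∀ c : G, c * t = t * c → ∃ k, φ k = c) : LocalSL t F1 F2 where
  e1 := φ.comp L.e1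
  e2 := φ.comp L.e2
  inj1 := hφ.comp L.inj1
  inj2 := hφ.comp L.inj2
  comm x y := by
    change φ (L.e1 x) * φ (L.e2 y) = φ (L.e2 y) * φ (L.e1 x)
    rw [← map_mul, L.comm, map_mul]
  neg1 := by
    change φ (L.e1 (-1)) = t
    rw [L.neg1, ht]
  neg2 := by
    change φ (L.e2 (-1)) = t
    rw [L.neg2, ht]
  cent c hc h1 h2 := by
    obtain ⟨k, rfl⟩ := hr c hc
    have h3 : k = 1 ∨ k = t' := by
      apply L.cent
      · apply hφ
        rw [map_mul, map_mul, ht]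
        exact hc
      · intro x
        apply hφ
        rw [map_mul, map_mul]
        exact h1 x
      · intro x
        apply hφ
        rw [map_mul, map_mul]
        exact h2 x
    rcases h3 with h3 | h3
    · left
      rw [h3, map_one]
    · right
      rw [h3, ht]

@[simp] theorem map_e1 {t' : K} (L : LocalSL t' F1 F2) (φ : K →* G) (hφ : Function.Injective φ) {t : G} (ht : φ t' = t)
    (hr : ∀ c : G, c * t = t * c → ∃ k, φ k = c) (x : SL2 F1) : (L.map φ hφ ht hr).e1 x = φ (L.e1 x) := rfl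

@[simp] theorem map_e2 {t' : K} (L : LocalSL t' F1 F2) (φ : K →* G) (hφ : Function.Injective φ) {t : G} (ht : φ t' = t)
    (hr : ∀ c : G, c * t = t * c → ∃ k, φ k = c) (x : SL2 F2) : (L.map φ hφ ht hr).e2 x = φ (L.e2 x) := rfl

theorem Rep.map {t' : K} {L : LocalSL t' F1 F2} {φ : K →* G} {hφ : Function.Injective φ} {t : G} {ht : φ t' = t}
    {hr : ∀ c : G, c * t = t * c → ∃ k, φ k = c} {c : K} {A : M2 F1} {B : M2 F2} (h : L.Rep c A B) :
    (L.map φ hφ ht hr).Rep (φ c) A B := by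
  refine ⟨?_, h.acts1.comp_map φ, h.acts2.comp_map φ⟩
  rw [← ht, ← map_mul, h.comm, map_mul]

theorem Rep.of_map {t' : K} {L : LocalSL t' F1 F2} {φ : K →* G} {hφ : Function.Injective φ} {t : G} {ht : φ t' = t}
    {hr : ∀ c : G, c * t = t * c → ∃ k, φ k = c} {c : K} {A : M2 F1} {B : M2 F2}
    (h : (L.map φ hφ ht hr).Rep (φ c) A B) : L.Rep c A B := by
  refine ⟨?_, h.acts1.of_comp hφ, h.acts2.of_comp hφ⟩
  apply hφ
  rw [map_mul, map_mul, ht]
  exact h.comm

theorem Hyp.map {t' : K} {L : LocalSL t' F1 F2} (H : L.Hyp) {φ : K →* G} {hφ : Function.Injective φ} {t : G}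
    {ht : φ t' = t} {hr : ∀ c : G, c * t = t * c → ∃ k, φ k = c} : (L.map φ hφ ht hr).Hyp := by
  have hc : ∀ k : K, φ k * t = t * φ k → k * t' = t' * k := by
    intro k h
    apply hφ
    rw [map_mul, map_mul, ht]
    exact h
  refine ⟨?_, ?_, ?_, ?_, ?_, ?_⟩
  · intro c h x
    obtain ⟨k, rfl⟩ := hr c h
    obtain ⟨y, hy⟩ := H.norm1 k (hc k h) x
    exact ⟨y, by rw [map_e1, map_e1, ← map_mul, hy, map_mul]⟩
  · intro c h x
    obtain ⟨k, rfl⟩ := hr c h
    obtain ⟨y, hy⟩ := H.norm2 k (hc k h) x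
    exact ⟨y, by rw [map_e2, map_e2, ← map_mul, hy, map_mul]⟩
  · intro c d h h'
    obtain ⟨k, rfl⟩ := hr c h
    obtain ⟨l, rfl⟩ := hr d h'
    obtain ⟨x, y, hy⟩ := H.comm_mem k l (hc k h) (hc l h')
    exact ⟨x, y, by rw [map_e1, map_e2, ← map_mul, hy]; simp⟩
  · rintro c h ⟨A, B, h'⟩
    obtain ⟨k, rfl⟩ := hr c h
    rw [← map_mul] at h'
    obtain ⟨A', B', h''⟩ := H.sq_mem k (hc k h) ⟨A, B, h'.of_map⟩
    exact ⟨A', B', h''.map⟩
  · intro c A B h
    obtain ⟨k, rfl⟩ := hr c h.comm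
    exact H.square_iff k A B h.of_map
  · obtain ⟨g, A, B, h1, h2, h3, h4⟩ := H.outer
    exact ⟨φ g, A, B, h1.map, h2, h3, by rw [← map_mul, h4, map_one]⟩

end LocalSL

namespace Core

open Subgroup

/-- `LocHyp t` in the case of a trivial odd core of `C(t)` -/
theorem LocHyp.exists_localSL {G : Type*} [Group G] {t : G} (h : LocHyp t)
    (hO : Cfsg.pPrimeCore 2 (Subgroup.centralizer ({t} : Set G)) = ⊥) :
    ∃ (F1 F2 : Type) (_ : Field F1) (_ : Field F2) (_ : Finite F1) (_ : Finite F2) (L : LocalSL t F1 F2), L.Hyp := by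
  obtain ⟨F1, F2, i1, i2, i3, i4, L, H⟩ := h
  have hinj : Function.Injective (bar t) := by
    rw [← MonoidHom.ker_eq_bot_iff]
    change (QuotientGroup.mk' _).ker = ⊥
    rw [QuotientGroup.ker_mk', hO]
  have hsurj : Function.Surjective (bar t) := QuotientGroup.mk'_surjective _
  let E := MulEquiv.ofBijective (bar t) ⟨hinj, hsurj⟩
  let φ : (Subgroup.centralizer ({t} : Set G) ⧸ Cfsg.pPrimeCore 2 (Subgroup.centralizer ({t} : Set G))) →* G :=
    (Subgroup.centralizer ({t} : Set G)).subtype.comp E.symm.toMonoidHom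
  have hφ : Function.Injective φ := (Subgroup.subtype_injective _).comp E.symm.injective
  have hφb : ∀ c : Subgroup.centralizer ({t} : Set G), φ (bar t c) = c := by
    intro c
    change ((E.symm (E c) : Subgroup.centralizer ({t} : Set G)) : G) = c
    rw [E.symm_apply_apply]
  have ht : φ (bar t ⟨t, Subgroup.mem_centralizer_singleton_iff.2 rfl⟩) = t := hφb _
  have hr : ∀ c : G, c * t = t * c → ∃ k, φ k = c := by
    intro c hc
    exact ⟨bar t ⟨c, Subgroup.mem_centralizer_singleton_iff.2 hc⟩, hφb _⟩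
  exact ⟨F1, F2, i1, i2, i3, i4, L.map φ hφ ht hr, H.map⟩

/-- the same for `centralizerPPrimeCore` -/
theorem LocHyp.exists_localSL' {G : Type*} [Group G] {t : G} (h : LocHyp t)
    (hO : Cfsg.centralizerPPrimeCore 2 t = ⊥) :
    ∃ (F1 F2 : Type) (_ : Field F1) (_ : Field F2) (_ : Finite F1) (_ : Finite F2) (L : LocalSL t F1 F2), L.Hyp := by
  apply h.exists_localSL
  have h1 : (Cfsg.pPrimeCore 2 (Subgroup.centralizer ({t} : Set G))).map
      (Subgroup.centralizer ({t} : Set G)).subtype = ⊥ := hO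
  exact (Subgroup.map_eq_bot_iff_of_injective _ (Subgroup.subtype_injective _)).1 h1

end Core

end Cfsg.Agent.GTwoOdd
end

-- part: GTwoOdd/Assemble
section
/-!
# Statement S1742 from its pieces

`main`: S1742 from the named propositions

* `ClassProp` : S1743 (verified)
* `TwelveProp` : the case of two classes (S1741 + `TwoClass`)
* `BridgeProp` : one class of involutions gives `LocHyp` (helper381's `Bridge.locHyp`, needs S0483)
* `CoreProp` : core killing, part (B) (helper366)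
* `RecProp` : recognition, part (C) (helper140, helper670)
-/

set_option autoImplicit false

namespace Cfsg.Agent.GTwoOdd.Assemble

open Cfsg Cfsg.Agent.GTwoOdd

universe u v

/-- all involutions of `G` are conjugate -/
def OneClass (G : Type u) [Group G] : Prop := ∀ x y : G, orderOf x = 2 → orderOf y = 2 → IsConj x y

/-- the first two alternatives of S1742 -/
def ConclLie (G : Type u) [Group G] : Prop :=
  (∃ (E : Type) (_ : Field E) (_ : Fintype E), Odd (Fintype.card E) ∧ Nonempty (G ≃* ↥(Cfsg.Lie.chevG2.group E))) ∨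
    (∃ (K : Type) (_ : Field K) (_ : Fintype K) (r : ℕ), Odd r ∧ Fintype.card K = r ^ 3 ∧
      Nonempty (G ≃* ↥(Cfsg.Lie.twistedD4 K r)))

/-- (B), core killing -/
def CoreProp : Prop := ∀ (G : Type u) [Group G] [Finite G] [IsSimpleGroup G], OneClass G →
  (∀ v : G, orderOf v = 2 → Core.LocHyp v) → ∀ t : G, orderOf t = 2 → Cfsg.centralizerPPrimeCore 2 t = ⊥

/-- (C), recognition -/
def RecProp : Prop := ∀ (G : Type u) [Group G] [Finite G] [IsSimpleGroup G] (t : G) (F1 F2 : Type) [Field F1]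
  [Field F2] [Finite F1] [Finite F2] (L : LocalSL t F1 F2), L.Hyp → OneClass G → ConclLie G

/-- the hypotheses of S1742 -/
def SylHyp (G : Type u) [Group G] (S : Sylow 2 G) (F : Type v) [Field F] [Fintype F] : Prop :=
  Odd (Fintype.card F) ∧ ∃ P : Sylow 2 ↥(Cfsg.Lie.chevG2.group F),
    (Nonempty (↥(S : Subgroup G) ≃* ↥(P : Subgroup ↥(Cfsg.Lie.chevG2.group F))) :)

/-- (BR), the bridge from S1744 to `LocHyp` -/
def BridgeProp : Prop := ∀ (G : Type u) [Group G] [Finite G] [IsSimpleGroup G] (S : Sylow 2 G) (F : Type v) [Field F]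
  [Fintype F], SylHyp G S F → OneClass G → ∀ t : G, orderOf t = 2 → Core.LocHyp t

/-- S1743 -/
def ClassProp : Prop := ∀ (G : Type u) [Group G] [Finite G] [IsSimpleGroup G] (S : Sylow 2 G) (F : Type v) [Field F]
  [Fintype F], SylHyp G S F → (OneClass G ∧ ∃ t : G, orderOf t = 2) ∨ (Nat.card ↥(S : Subgroup G) = 64 ∧
    ∃ x y : G, orderOf x = 2 ∧ orderOf y = 2 ∧ ¬ IsConj x y)

/-- the case of two classes -/
def TwelveProp : Prop := ∀ (G : Type u) [Group G] [Finite G] [IsSimpleGroup G] (S : Sylow 2 G) (F : Type v) [Field F]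
  [Fintype F], SylHyp G S F → Nat.card ↥(S : Subgroup G) = 64 →
    (∃ x y : G, orderOf x = 2 ∧ orderOf y = 2 ∧ ¬ IsConj x y) → Cfsg.Spor.IsoM12 G

/-- **S1742 from its pieces** -/
theorem main (hB : CoreProp.{u}) (hC : RecProp.{u}) (hBr : BridgeProp.{u, v}) (hCl : ClassProp.{u, v})
    (hM : TwelveProp.{u, v}) {G : Type u} [Group G] [Finite G] [IsSimpleGroup G]
    {F : Type v} [Field F] [Fintype F] (hF : Odd (Fintype.card F)) (S : Sylow 2 G) (P : Sylow 2 ↥(Cfsg.Lie.chevG2.group F))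
    (hS : (Nonempty (↥(S : Subgroup G) ≃* ↥(P : Subgroup ↥(Cfsg.Lie.chevG2.group F))) :)) :
    (∃ (E : Type) (_ : Field E) (_ : Fintype E), Odd (Fintype.card E) ∧ Nonempty (G ≃* ↥(Cfsg.Lie.chevG2.group E))) ∨
      (∃ (K : Type) (_ : Field K) (_ : Fintype K) (r : ℕ), Odd r ∧ Fintype.card K = r ^ 3 ∧ Nonempty (G ≃* ↥(Cfsg.Lie.twistedD4 K r))) ∨
      Cfsg.Spor.IsoM12 G := by
  have hyp : SylHyp G S F := ⟨hF, P, hS⟩
  rcases hCl G S F hyp with ⟨h1, t, ht⟩ | ⟨h64, h2⟩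
  · have hloc := hBr G S F hyp h1
    obtain ⟨F1, F2, i1, i2, i3, i4, L, H⟩ := (hloc t ht).exists_localSL' (hB G h1 hloc t ht)
    rcases hC G t F1 F2 L H h1 with h | h
    · exact Or.inl h
    · exact Or.inr (Or.inl h)
  · exact Or.inr (Or.inr (hM G S F hyp h64 h2))

end Cfsg.Agent.GTwoOdd.Assemble
end

-- part: GTwoOdd/MCore
section
/-!
# The `M`-lemma: the core-free group is simple of 2-rank 2
-/

set_option autoImplicit false
set_option linter.unusedSectionVars false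

namespace Cfsg.Agent.GTwoOdd.MCore

open Matrix Subgroup Cfsg.Agent.ClassicalGeometry

universe u

/-- the hypotheses of the `M`-lemma -/
structure MHyp {X : Type*} [Group X] {F : Type*} [Field F] (t s : X) (e : SL2 F →* X) (D : M2 F) : Prop where
  inj : Function.Injective e
  neg : e (-1) = t
  norm : ∀ c, c * t = t * c → ∀ x, ∃ y, c * e x = e y * c
  sol : ∃ n, ∀ c ∈ derivedSeries (Subgroup.centralizer ({t} : Set X)) n, (c : X) ∈ e.range
  comm : s * t = t * s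
  sq : s * s = 1
  acts : Acts e s D
  tr : D.trace = 0
  inv : ∀ c, c * t = t * c → c * c = 1 → c ≠ 1 → c ≠ t → ∃ x, c = e x * s * (e x)⁻¹
  one : ∃ g, g * t * g⁻¹ = s
  rank : ∀ c, c * t = t * c → c * s = s * c → c * c = 1 → c = 1 ∨ c = t ∨ c = s ∨ c = t * s

section basic

variable {X : Type*} [Group X] {F : Type*} [Field F] [Fintype F] {t s : X} {e : SL2 F →* X} {D : M2 F}
  (h : MHyp t s e D) (hF : Odd (Fintype.card F))

include h

theorem t_comm (x : SL2 F) : e x * t = t * e x := by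
  rw [← h.neg, ← map_mul, ← map_mul]
  congr 1
  apply Subtype.ext
  simp

theorem t_sq : t * t = 1 := by
  rw [← h.neg, ← map_mul]
  simp

include hF

theorem neg_ne : (-1 : SL2 F) ≠ 1 := by
  have h2 := SLTwoFour.two_ne_zero_of_odd (F := F) hF
  intro h3
  have h4 := congrArg (fun z : SL2 F => (z : M2 F) 0 0) h3
  simp at h4
  apply h2
  linear_combination -h4

theorem t_ne : t ≠ 1 := by
  intro h1
  apply neg_ne h hF
  apply h.inj
  rw [h.neg, h1, map_one]

theorem not_comm (hc : ∀ x, s * e x = e x * s) : False := by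
  have h2 := SLTwoFour.two_ne_zero_of_odd (F := F) hF
  obtain ⟨a, -, ha⟩ := (Acts.of_comm hc).proportional h.inj h.acts
  have hd := h.acts.1
  have ht := h.tr
  rw [ha] at hd ht
  apply hd
  have h3 : a = 0 := by
    rw [Matrix.trace_smul, Matrix.trace_fin_two] at ht
    simp only [_root_.Matrix.one_apply_eq, _root_.smul_eq_mul, _root_.mul_eq_zero] at ht
    rcases ht with h4 | h4
    · exact h4
    · exact absurd (by linear_combination h4) h2
  rw [h3]
  simp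

theorem conj_of_mem {c : X} (hc : c * t = t * c) (h2 : c * c = 1) (h1 : c ≠ 1) : ∃ g, g * t * g⁻¹ = c := by
  by_cases h3 : c = t
  · exact ⟨1, by rw [h3]; simp⟩
  · obtain ⟨x, hx⟩ := h.inv c hc h2 h1 h3
    obtain ⟨g, hg⟩ := h.one
    refine ⟨e x * g, ?_⟩
    rw [hx, ← hg]
    group

end basic

section pgroup

variable {X : Type*} [Group X]

/-- two elements of order `2`, `4`, one inverting or centralising the other -/
theorem isPGroup_pair {a b : X} (ha : a ^ 4 = 1) (hb : b ^ 4 = 1) (hab : b * a * b⁻¹ ∈ zpowers a) :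
    IsPGroup 2 (zpowers a ⊔ zpowers b : Subgroup X) := by
  have hz : ∀ {c : X}, c ^ 4 = 1 → IsPGroup 2 (zpowers c) := by
    intro c hc
    rintro ⟨x, k, rfl⟩
    refine ⟨2, Subtype.ext ?_⟩
    change (c ^ k) ^ 2 ^ 2 = 1
    rw [← zpow_natCast, ← _root_.zpow_mul, mul_comm, _root_.zpow_mul]
    have : c ^ ((2 ^ 2 : ℕ) : ℤ) = 1 := by
      rw [zpow_natCast]
      exact hc
    rw [this, _root_.one_zpow]
  apply IsPGroup.to_sup_of_normal_left' (hz ha) (hz hb)
  rw [zpowers_le]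
  have hfin : IsOfFinOrder a := isOfFinOrder_iff_pow_eq_one.2 ⟨4, by norm_num, ha⟩
  have h1 : (zpowers a).map (MulAut.conj b).toMonoidHom ≤ zpowers a := by
    rw [MonoidHom.map_zpowers, zpowers_le]
    exact hab
  have : Finite (zpowers a) := by
    have := hfin.finite_zpowers
    exact this
  rw [Subgroup.mem_normalizer_iff]
  intro x
  have h2 : (zpowers a).map (MulAut.conj b).toMonoidHom = zpowers a :=
    Subgroup.eq_of_le_of_card_ge h1 (by
      rw [Subgroup.card_map_of_injective (MulAut.conj b).injective])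
  constructor
  · intro hx
    rw [← h2]
    exact ⟨x, hx, rfl⟩
  · intro hx
    rw [← h2] at hx
    obtain ⟨y, hy, hyx⟩ := hx
    have : y = x := (MulAut.conj b).injective hyx
    rwa [← this]

end pgroup

section finite

variable {X : Type u} [Group X] [Finite X] {F : Type*} [Field F] [Fintype F] {t s : X} {e : SL2 F →* X} {D : M2 F}
  (h : MHyp t s e D) (hF : Odd (Fintype.card F))

include h hF

/-- one class of involutions -/
theorem conj_of_invol {u : X} (hu : u * u = 1) (hu1 : u ≠ 1) : ∃ g, g * t * g⁻¹ = u := by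
  have hp : Fact (Nat.Prime 2) := ⟨Nat.prime_two⟩
  have hP : IsPGroup 2 (zpowers t ⊔ zpowers s : Subgroup X) := by
    apply isPGroup_pair
    · rw [show 4 = 2 * 2 from rfl, pow_mul, pow_two t, t_sq h, one_pow]
    · rw [show 4 = 2 * 2 from rfl, pow_mul, pow_two s, h.sq, one_pow]
    · rw [h.comm, mul_assoc, mul_inv_cancel, mul_one]
      exact mem_zpowers t
  obtain ⟨S, hS⟩ := hP.exists_le_sylow
  have htS : t ∈ S := hS ((le_sup_left : zpowers t ≤ _) (mem_zpowers t))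
  have hsS : s ∈ S := hS ((le_sup_right : zpowers s ≤ _) (mem_zpowers s))
  have hnt : Nontrivial S := ⟨⟨⟨t, htS⟩, 1, fun h1 => t_ne h hF (congrArg Subtype.val h1)⟩⟩
  have hSp : IsPGroup 2 S := S.isPGroup'
  have hc : Nontrivial (Subgroup.center S) := hSp.center_nontrivial
  have hcp : IsPGroup 2 (Subgroup.center S) := hSp.to_subgroup _
  obtain ⟨z, hz⟩ : ∃ z : Subgroup.center S, orderOf z = 2 := by
    apply exists_prime_orderOf_dvd_card' 2
    obtain ⟨n, hn0, hn⟩ := hcp.nontrivial_iff_card.1 hc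
    rw [hn]
    exact dvd_pow_self 2 hn0.ne'
  have hz2 : (z : S).1 * (z : S).1 = 1 := by
    have := pow_orderOf_eq_one z
    rw [hz, pow_two] at this
    exact congrArg (fun w : Subgroup.center S => (w : S).1) this
  have hz1 : (z : S).1 ≠ 1 := by
    intro h1
    have h2 : z = 1 := Subtype.ext (Subtype.ext h1)
    rw [h2, orderOf_one] at hz
    omega
  have hcen : ∀ w ∈ S, (z : S).1 * w = w * (z : S).1 := by
    intro w hw
    have := Subgroup.mem_center_iff.1 z.2 ⟨w, hw⟩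
    exact (congrArg Subtype.val this).symm
  obtain ⟨g, hg⟩ := conj_of_mem h hF (hcen t htS) hz2 hz1
  have hU : IsPGroup 2 (zpowers u ⊔ zpowers u : Subgroup X) := by
    apply isPGroup_pair
    · rw [show 4 = 2 * 2 from rfl, pow_mul, pow_two u, hu, one_pow]
    · rw [show 4 = 2 * 2 from rfl, pow_mul, pow_two u, hu, one_pow]
    · rw [mul_assoc, mul_inv_cancel, mul_one]
      exact mem_zpowers u
  obtain ⟨T, hT⟩ := hU.exists_le_sylow
  obtain ⟨k, hk⟩ := MulAction.exists_smul_eq X T S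
  have huT : u ∈ T := hT ((le_sup_left : zpowers u ≤ _) (mem_zpowers u))
  have hkS : k * u * k⁻¹ ∈ S := by
    rw [← hk]
    have : k * u * k⁻¹ = MulAut.conj k • u := rfl
    rw [this]
    exact Subgroup.smul_mem_pointwise_smul _ _ _ huT
  have h3 := hcen _ hkS
  -- `u' = (k⁻¹ g)⁻¹ u (k⁻¹ g)` commutes with `t`
  obtain ⟨m, hm⟩ := conj_of_mem h hF (c := g⁻¹ * (k * u * k⁻¹) * g) (by
      rw [← hg] at h3
      calc g⁻¹ * (k * u * k⁻¹) * g * t = g⁻¹ * ((k * u * k⁻¹) * (g * t * g⁻¹)) * g := by group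
        _ = g⁻¹ * (g * t * g⁻¹ * (k * u * k⁻¹)) * g := by rw [h3]
        _ = t * (g⁻¹ * (k * u * k⁻¹) * g) := by group)
    (by
      calc g⁻¹ * (k * u * k⁻¹) * g * (g⁻¹ * (k * u * k⁻¹) * g) = g⁻¹ * (k * (u * u) * k⁻¹) * g := by group
        _ = 1 := by rw [hu]; group)
    (by
      intro h4
      apply hu1
      calc u = k⁻¹ * g * (g⁻¹ * (k * u * k⁻¹) * g) * g⁻¹ * k := by group
        _ = 1 := by rw [h4]; group)
  refine ⟨k⁻¹ * g * m, ?_⟩
  calc k⁻¹ * g * m * t * (k⁻¹ * g * m)⁻¹ = k⁻¹ * g * (m * t * m⁻¹) * g⁻¹ * k := by group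
    _ = u := by rw [hm]; group

theorem mem_of_invol (N : Subgroup X) [hN : N.Normal] {a : X} (ha : a ∈ N) (ha2 : a * a = 1) (ha1 : a ≠ 1) {b : X}
    (hb : b * b = 1) (hb1 : b ≠ 1) : b ∈ N := by
  obtain ⟨g, hg⟩ := conj_of_invol h hF ha2 ha1
  obtain ⟨k, hk⟩ := conj_of_invol h hF hb hb1
  have : b = k * g⁻¹ * a * (k * g⁻¹)⁻¹ := by
    rw [← hk, ← hg]
    group
  rw [this]
  exact hN.conj_mem a ha _

theorem exists_invol (hO : Cfsg.oddCore X = ⊥) (N : Subgroup X) [hN : N.Normal] (hne : N ≠ ⊥) :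
    ∃ a ∈ N, a * a = 1 ∧ a ≠ 1 := by
  have hp : Fact (Nat.Prime 2) := ⟨Nat.prime_two⟩
  have h1 : 2 ∣ Nat.card N := by
    by_contra h2
    apply hne
    rw [eq_bot_iff, ← hO]
    apply Cfsg.Agent.Lib.Cores.le_pPrimeCore hN
    exact (Nat.coprime_comm.1 ((Nat.Prime.coprime_iff_not_dvd Nat.prime_two).2 h2))
  obtain ⟨a, ha⟩ := exists_prime_orderOf_dvd_card' 2 h1
  refine ⟨a, a.2, ?_, ?_⟩
  · have := pow_orderOf_eq_one a
    rw [ha, pow_two] at this
    exact congrArg Subtype.val this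
  · intro h3
    have : a = 1 := Subtype.ext h3
    rw [this, orderOf_one] at ha
    omega

theorem mem_of_ne_bot (hO : Cfsg.oddCore X = ⊥) (N : Subgroup X) [hN : N.Normal] (hne : N ≠ ⊥) {b : X}
    (hb : b * b = 1) : b ∈ N := by
  by_cases hb1 : b = 1
  · rw [hb1]; exact N.one_mem
  · obtain ⟨a, ha, h2, h1⟩ := exists_invol h hF hO N hne
    exact mem_of_invol h hF N ha h2 h1 hb hb1

/-- elements with square `-1` lie in `N` -/
theorem e_mem (hO : Cfsg.oddCore X = ⊥) (N : Subgroup X) [hN : N.Normal] (hne : N ≠ ⊥) :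
    ∃ x, e x ∈ N ∧ x ≠ 1 ∧ x ≠ -1 := by
  have h2 := SLTwoFour.two_ne_zero_of_odd (F := F) hF
  have hs : s ∈ N := mem_of_ne_bot h hF hO N hne h.sq
  obtain ⟨y, hy⟩ := exists_cj h.acts.1 (⟨!![1, 1; 0, 1], by rw [Matrix.det_fin_two]; simp⟩ : SL2 F)
  have h3 := h.acts.2 _ _ hy
  set x : SL2 F := ⟨!![1, 1; 0, 1], by rw [Matrix.det_fin_two]; simp⟩ with hx
  have hD := h.acts.1
  have ht := trace_zero_iff.1 h.tr
  have hxy : ∀ ε : F, ε * ε = 1 → (y : M2 F) = ε • (x : M2 F) → False := by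
    intro ε hε h4
    have h5 : ε • ((x : M2 F) * D) = D * (x : M2 F) := by
      rw [← hy, h4, Matrix.smul_mul]
    rw [m2_eq_iff] at h5
    simp only [Matrix.smul_apply, m2_mul_00, m2_mul_01, m2_mul_10, m2_mul_11, ht, hx, smul_eq_mul] at h5
    simp only [_root_.Fin.isValue, _root_.Matrix.of_apply, _root_.Matrix.cons_val', _root_.Matrix.cons_val_zero, _root_.Matrix.cons_val_fin_one, _root_.one_mul, _root_.Matrix.cons_val_one, _root_.mul_one, _root_.MulZeroClass.mul_zero, _root_.add_zero, _root_.mul_neg, _root_.MulZeroClass.zero_mul, _root_.zero_add] at h5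
    obtain ⟨e1, e2, e3, e4⟩ := h5
    have h6 : (ε - 1) * (ε + 1) = 0 := by linear_combination hε
    rw [Matrix.det_fin_two, ht] at hD
    rcases mul_eq_zero.1 h6 with h7 | h7
    · have h8 : ε = 1 := by linear_combination h7
      subst h8
      have h9 : D 1 0 = 0 := by linear_combination e1
      have h10 : 2 * D 0 0 = 0 := by linear_combination -e2
      have h11 := (mul_eq_zero.1 h10).resolve_left h2
      apply hD
      rw [h9, h11]; ring
    · have h8 : ε = -1 := by linear_combination h7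
      subst h8
      have h9 : 2 * D 1 0 = 0 := by linear_combination -e3
      have h11 := (mul_eq_zero.1 h9).resolve_left h2
      have h12 : 2 * D 0 0 = 0 := by linear_combination -e1 - h11
      have h13 := (mul_eq_zero.1 h12).resolve_left h2
      apply hD
      rw [h13, h11]; ring
  refine ⟨y * x⁻¹, ?_, ?_, ?_⟩
  · have h4 : e (y * x⁻¹) = s * (e x * s⁻¹ * (e x)⁻¹) := by
      rw [map_mul, map_inv]
      calc e y * (e x)⁻¹ = e y * s * s⁻¹ * (e x)⁻¹ := by group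
        _ = s * e x * s⁻¹ * (e x)⁻¹ := by rw [h3]
        _ = s * (e x * s⁻¹ * (e x)⁻¹) := by group
    rw [h4]
    exact N.mul_mem hs (hN.conj_mem _ (N.inv_mem hs) _)
  · intro h4
    apply hxy 1 (one_mul 1)
    rw [mul_inv_eq_one.1 h4, one_smul]
  · intro h4
    apply hxy (-1) (by ring)
    have : y = -1 * x := by
      rw [← h4]; group
    rw [this]
    simp

theorem e_mem_of_sq (hO : Cfsg.oddCore X = ⊥) (N : Subgroup X) [hN : N.Normal] (hne : N ≠ ⊥) {i : SL2 F}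
    (hi : i * i = -1) : e i ∈ N := by
  obtain ⟨x, hx, h1, h2⟩ := e_mem h hF hO N hne
  have hR : (N.comap e).Normal := inferInstance
  exact SLNormal.mem_of_sq hF (N.comap e) (x := x) hx h1 h2 hi

theorem e_mem_of_lt (hO : Cfsg.oddCore X = ⊥) (N : Subgroup X) [hN : N.Normal] (hne : N ≠ ⊥)
    (h3 : 3 < Fintype.card F) (i : SL2 F) : e i ∈ N := by
  obtain ⟨x, hx, h1, h2⟩ := e_mem h hF hO N hne
  have hR : (N.comap e).Normal := inferInstance
  have := SLNormal.eq_top h3 (N.comap e) (x := x) hx (fun h4 => by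
    rcases SLNormal.mem_center_cases hF h4 with h5 | h5
    · exact h1 h5
    · exact h2 h5)
  have h6 : i ∈ N.comap e := by rw [this]; exact Subgroup.mem_top i
  exact h6

end finite

end Cfsg.Agent.GTwoOdd.MCore
end

-- part: GTwoOdd/MSimple
section
/-!
# The `M`-lemma: the minimal normal subgroup is simple of 2-rank 2
-/

set_option autoImplicit false
set_option linter.unusedSectionVars false

namespace Cfsg.Agent.GTwoOdd.MCore

open Matrix Subgroup Cfsg.Agent.ClassicalGeometry Cfsg.Agent.Lib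

universe u

variable {X : Type u} [Group X] [Finite X] {F : Type*} [Field F] [Fintype F] {t s : X} {e : SL2 F →* X} {D : M2 F}
  (h : MHyp t s e D) (hF : Odd (Fintype.card F))

include h hF

/-- a quaternion pair in `N` -/
theorem exists_quat (hO : Cfsg.oddCore X = ⊥) (N : Subgroup X) [hN : N.Normal] (hne : N ≠ ⊥) :
    ∃ a ∈ N, ∃ b ∈ N, a * a = t ∧ b * b = t ∧ a * b = t * (b * a) := by
  obtain ⟨i, j, hi, hj, hij⟩ := SLNormal.exists_pair (F := F) hF
  refine ⟨e i, e_mem_of_sq h hF hO N hne hi, e j, e_mem_of_sq h hF hO N hne hj, ?_, ?_, ?_⟩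
  · rw [← map_mul, hi, h.neg]
  · rw [← map_mul, hj, h.neg]
  · rw [← map_mul, hij, ← h.neg, ← map_mul, ← map_mul]
    congr 1
    apply Subtype.ext
    simp

theorem quat_ne {a b : X} (hab : a * b = t * (b * a)) : a * b ≠ b * a := by
  intro h1
  rw [h1] at hab
  apply t_ne h hF
  exact (mul_eq_right.1 hab.symm)

theorem isSimple (hO : Cfsg.oddCore X = ⊥) (N : Subgroup X) [hN : N.Normal] (hne : N ≠ ⊥)
    (hmin : ∀ M : Subgroup X, M.Normal → M ≤ N → M = ⊥ ∨ M = N) : IsSimpleGroup N := by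
  have hp : Fact (Nat.Prime 2) := ⟨Nat.prime_two⟩
  have hna : ¬ ∀ x ∈ N, ∀ y ∈ N, Commute x y := by
    intro h1
    obtain ⟨a, ha, b, hb, -, -, hab⟩ := exists_quat h hF hO N hne
    exact quat_ne h hF hab (h1 a ha b hb)
  obtain ⟨⟨T, hT⟩, hind, hsup, hsimp, hcen, hconj⟩ := MinNormalNonabelian.nonabelian_structure N hmin hna
  -- `T` has an involution
  obtain ⟨a, haT, ha2, ha1⟩ : ∃ a ∈ T, a * a = 1 ∧ a ≠ 1 := by
    have h1 : 2 ∣ Nat.card T := by
      by_contra h2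
      have hTN : T ≤ N := hT.1
      have hnorm : (T.subgroupOf N).Normal := by
        have := hT.2.2.1
        exact (Subgroup.normal_subgroupOf_iff_le_normalizer hTN).2 this
      have h3 : T.subgroupOf N ≤ Cfsg.pPrimeCore 2 N := by
        apply Cores.le_pPrimeCore hnorm
        have : Nat.card (T.subgroupOf N) = Nat.card T :=
          Nat.card_congr (Subgroup.subgroupOfEquivOfLe hTN).toEquiv
        rw [this]
        exact (Nat.coprime_comm.1 ((Nat.Prime.coprime_iff_not_dvd Nat.prime_two).2 h2))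
      have h4 := Cores.map_subtype_pPrimeCore (G := X) 2 hN
      have h5 : Cfsg.pPrimeCore 2 X = ⊥ := hO
      rw [h5, inf_bot_eq] at h4
      have h6 : (T.subgroupOf N).map N.subtype ≤ ⊥ := by
        rw [← h4]
        exact Subgroup.map_mono h3
      rw [Subgroup.subgroupOf_map_subtype, inf_eq_left.2 hTN, le_bot_iff] at h6
      exact hT.2.1 h6
    obtain ⟨a, ha⟩ := exists_prime_orderOf_dvd_card' 2 h1
    refine ⟨a, a.2, ?_, ?_⟩
    · have := pow_orderOf_eq_one a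
      rw [ha, pow_two] at this
      exact congrArg Subtype.val this
    · intro h3
      have : a = 1 := Subtype.ext h3
      rw [this, orderOf_one] at ha
      omega
  -- all members of `minSet N` are equal to `T`
  have key : ∀ U ∈ MinNormalNonabelian.minSet N, U = T := by
    intro U hU
    by_contra hne'
    obtain ⟨g, hg⟩ := hconj T hT U hU
    have hbU : g * a * g⁻¹ ∈ U := by
      rw [hg]
      exact ⟨a, haT, rfl⟩
    set b := g * a * g⁻¹ with hb
    have hb2 : b * b = 1 := by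
      rw [hb]
      calc g * a * g⁻¹ * (g * a * g⁻¹) = g * (a * a) * g⁻¹ := by group
        _ = 1 := by rw [ha2]; group
    have hb1 : b ≠ 1 := by
      intro h3
      apply ha1
      calc a = g⁻¹ * b * g := by rw [hb]; group
        _ = 1 := by rw [h3]; group
    have hdis : ∀ V ∈ MinNormalNonabelian.minSet N, ∀ W ∈ MinNormalNonabelian.minSet N, V ≠ W → ∀ x ∈ V, x ∈ W → x = 1 := by
      intro V hV W hW hVW x hx hx'
      have h3 := hind hV
      have h4 : x ∈ sSup (MinNormalNonabelian.minSet N \ {V}) := by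
        have : W ≤ sSup (MinNormalNonabelian.minSet N \ {V}) := le_sSup ⟨hW, fun h5 => hVW h5.symm⟩
        exact this hx'
      have h5 := Subgroup.disjoint_def.1 h3 hx h4
      exact h5
    have hcomm : a * b = b * a := by
      have h3 : ∀ x ∈ T, ∀ y ∈ U, Commute x y := by
        intro x hx y hy
        have hnT : N ≤ normalizer (T : Set X) := hT.2.2.1
        have hnU : N ≤ normalizer (U : Set X) := hU.2.2.1
        have h4 : x * y * x⁻¹ * y⁻¹ = 1 := by
          apply hdis T hT U hU (fun h5 => hne' h5.symm)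
          · have h5 : y * x⁻¹ * y⁻¹ ∈ T := by
              exact (Subgroup.mem_normalizer_iff.1 (hnT (hU.1 hy)) x⁻¹).1 (T.inv_mem hx)
            have : x * y * x⁻¹ * y⁻¹ = x * (y * x⁻¹ * y⁻¹) := by group
            rw [this]
            exact T.mul_mem hx h5
          · have h5 : x * y * x⁻¹ ∈ U := by
              exact (Subgroup.mem_normalizer_iff.1 (hnU (hT.1 hx)) y).1 hy
            exact U.mul_mem h5 (U.inv_mem hy)
        have h5 : x * y * x⁻¹ = y := mul_inv_eq_one.1 h4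
        exact mul_inv_eq_iff_eq_mul.1 h5
      exact h3 a haT b hbU
    have hab2 : a * b * (a * b) = 1 := by
      calc a * b * (a * b) = a * (b * a) * b := by group
        _ = a * a * (b * b) := by rw [← hcomm]; group
        _ = 1 := by rw [ha2, hb2, one_mul]
    have hab1 : a * b ≠ 1 := by
      intro h3
      apply ha1
      have h4 : a = b := by
        calc a = a * b * b⁻¹ := by group
          _ = b := by rw [h3, one_mul, inv_eq_iff_mul_eq_one.2 hb2]
      apply hdis T hT U hU (fun h5 => hne' h5.symm) a haT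
      rw [h4]
      exact hbU
    obtain ⟨k, hk⟩ := conj_of_invol h hF ha2 ha1
    obtain ⟨m, hm⟩ := conj_of_invol h hF hab2 hab1
    have hV := MinNormalNonabelian.map_conj_mem_minSet hT (m * k⁻¹)
    set V := T.map (MulAut.conj (m * k⁻¹)).toMonoidHom with hVdef
    have habV : a * b ∈ V := by
      refine ⟨a, haT, ?_⟩
      change m * k⁻¹ * a * (m * k⁻¹)⁻¹ = a * b
      rw [← hm]
      nth_rewrite 1 [← hk]
      group
    have hTN := hT.1
    by_cases h1 : V = T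
    · have h3 : b ∈ T := by
        have h4 : a * b ∈ T := by rw [← h1]; exact habV
        have : b = a⁻¹ * (a * b) := by group
        rw [this]
        exact T.mul_mem (T.inv_mem haT) h4
      exact hb1 (hdis T hT U hU (fun h5 => hne' h5.symm) b h3 hbU)
    by_cases h2 : V = U
    · have h3 : a ∈ U := by
        have h4 : a * b ∈ U := by rw [← h2]; exact habV
        have : a = (a * b) * b⁻¹ := by group
        rw [this]
        exact U.mul_mem h4 (U.inv_mem hbU)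
      exact ha1 (hdis T hT U hU (fun h5 => hne' h5.symm) a haT h3)
    have h3 := hind hV
    have h4 : a * b ∈ sSup (MinNormalNonabelian.minSet N \ {V}) := by
      apply mul_mem
      · have : T ≤ sSup (MinNormalNonabelian.minSet N \ {V}) := le_sSup ⟨hT, fun h5 => h1 h5.symm⟩
        exact this haT
      · have : U ≤ sSup (MinNormalNonabelian.minSet N \ {V}) := le_sSup ⟨hU, fun h5 => h2 h5.symm⟩
        exact this hbU
    exact hab1 (Subgroup.disjoint_def.1 h3 habV h4)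
  have h1 : MinNormalNonabelian.minSet N = {T} := by
    ext U
    constructor
    · intro hU
      exact key U hU
    · intro hU
      rw [Set.mem_singleton_iff] at hU
      rw [hU]
      exact hT
  rw [h1, sSup_singleton] at hsup
  rw [← hsup]
  exact hsimp T hT

omit hF in
theorem card_le_four {A : Subgroup X} (hA : ∀ c ∈ A, ∀ d ∈ A, c * d = d * c) (hA2 : ∀ c ∈ A, c * c = 1) (ht : t ∈ A) :
    Nat.card A ≤ 4 := by
  classical
  have hle : ∀ (g : X) (S : Finset X), (∀ c ∈ A, g * c * g⁻¹ ∈ S) → Nat.card A ≤ S.card := by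
    intro g S hS
    have : Nat.card A ≤ Nat.card S := by
      apply Nat.card_le_card_of_injective (fun c : A => (⟨g * c * g⁻¹, hS c c.2⟩ : S))
      intro c d hcd
      have h1 : g * (c : X) * g⁻¹ = g * d * g⁻¹ := congrArg Subtype.val hcd
      apply Subtype.ext
      exact mul_left_cancel (mul_right_cancel h1)
    simpa only [_root_.ge_iff_le, _root_.Nat.card_eq_fintype_card, _root_.Fintype.card_coe] using this
  by_cases h1 : ∃ c ∈ A, c ≠ 1 ∧ c ≠ t
  · obtain ⟨c, hc, hc1, hct⟩ := h1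
    obtain ⟨x, hx⟩ := h.inv c (hA c hc t ht) (hA2 c hc) hc1 hct
    have h2 := hle (e x)⁻¹ {1, t, s, t * s} (fun d hd => by
      have h3 : (e x)⁻¹ * d * (e x)⁻¹⁻¹ * t = t * ((e x)⁻¹ * d * (e x)⁻¹⁻¹) := by
        have h4 := hA d hd t ht
        have h5 := t_comm h x
        calc (e x)⁻¹ * d * (e x)⁻¹⁻¹ * t = (e x)⁻¹ * d * (e x * t) := by group
          _ = (e x)⁻¹ * (d * t) * e x := by rw [h5]; group
          _ = (e x)⁻¹ * t * d * e x := by rw [h4]; group
          _ = (e x)⁻¹ * (t * e x) * (e x)⁻¹ * d * e x := by group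
          _ = t * ((e x)⁻¹ * d * (e x)⁻¹⁻¹) := by rw [← h5]; group
      rcases h.rank ((e x)⁻¹ * d * (e x)⁻¹⁻¹) h3 (by
          have h4 : s = (e x)⁻¹ * c * e x := by rw [hx]; group
          rw [h4]
          calc (e x)⁻¹ * d * (e x)⁻¹⁻¹ * ((e x)⁻¹ * c * e x) = (e x)⁻¹ * (d * c) * e x := by group
            _ = (e x)⁻¹ * (c * d) * e x := by rw [hA d hd c hc]
            _ = _ := by group)
        (by
          calc (e x)⁻¹ * d * (e x)⁻¹⁻¹ * ((e x)⁻¹ * d * (e x)⁻¹⁻¹) = (e x)⁻¹ * (d * d) * e x := by group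
            _ = 1 := by rw [hA2 d hd]; group) with h5 | h5 | h5 | h5 <;> rw [h5] <;> simp only [_root_.Finset.mem_insert, _root_.Finset.mem_singleton, _root_.true_or, _root_.left_eq_mul, _root_.or_true, _root_.right_eq_mul, _root_.mul_eq_left, _root_.mul_eq_right])
    exact h2.trans (Finset.card_le_four)
  · push Not at h1
    have h2 := hle 1 {1, t} (fun d hd => by
      have : (1 : X) * d * 1⁻¹ = d := by group
      rw [this]
      by_cases hd1 : d = 1
      · rw [hd1]; simp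
      · rw [h1 d hd hd1]; simp)
    exact h2.trans ((Finset.card_le_two).trans (by norm_num))

theorem prank (N : Subgroup X) : Cfsg.PRankLE 2 2 N := by
  intro A hA hA2
  by_cases h1 : ∃ a ∈ A, a ≠ 1
  · obtain ⟨a, ha, ha1⟩ := h1
    have haa : (a : X) * a = 1 := by
      have := hA2 a ha
      rw [pow_two] at this
      exact congrArg Subtype.val this
    obtain ⟨g, hg⟩ := conj_of_invol h hF haa (fun h2 => ha1 (Subtype.ext h2))
    have h2 := card_le_four h (A := (A.map N.subtype).map (MulAut.conj g⁻¹).toMonoidHom) ?_ ?_ ?_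
    · rw [Subgroup.card_map_of_injective (MulAut.conj g⁻¹).injective,
        Subgroup.card_map_of_injective N.subtype_injective] at h2
      exact h2
    · rintro c ⟨_, ⟨x, hx, rfl⟩, rfl⟩ d ⟨_, ⟨y, hy, rfl⟩, rfl⟩
      rw [← map_mul, ← map_mul, ← map_mul, ← map_mul]
      have : x * y = y * x := by
        have := hA.is_comm.comm ⟨x, hx⟩ ⟨y, hy⟩
        exact congrArg Subtype.val this
      rw [this]
    · rintro c ⟨_, ⟨x, hx, rfl⟩, rfl⟩
      have := hA2 x hx
      rw [pow_two] at this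
      rw [← map_mul, ← map_mul, this, map_one, map_one]
    · refine ⟨a, ⟨a, ha, rfl⟩, ?_⟩
      change g⁻¹ * (a : X) * g⁻¹⁻¹ = t
      rw [← hg]
      group
  · push Not at h1
    have : A = ⊥ := by
      rw [eq_bot_iff]
      intro a ha
      exact Subgroup.mem_bot.2 (h1 a ha)
    rw [this, Subgroup.card_bot]
    norm_num

end Cfsg.Agent.GTwoOdd.MCore
end

-- part: GTwoOdd/MIndex
section
/-!
# The `M`-lemma for core-free groups
-/

set_option autoImplicit false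
set_option linter.unusedSectionVars false

namespace Cfsg.Agent.GTwoOdd.MCore

open Matrix Subgroup Cfsg.Agent.ClassicalGeometry Cfsg.Agent.Lib

universe u

/-- the Sylow types of the simple groups of 2-rank 2 (S0516, S1248) -/
def RankTwoTypes : Prop :=
  ∀ (N : Type u) [Group N] [Finite N] [IsSimpleGroup N], ¬ IsMulCommutative N → Cfsg.PRankLE 2 2 N →
    ∀ S : Sylow 2 N, (∃ n : ℕ, Nonempty ((S : Subgroup N) ≃* DihedralGroup n)) ∨
      Cfsg.IsQuasiDihedral (S : Subgroup N) ∨ Cfsg.IsWreathed (S : Subgroup N) ∨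
      ∀ x : (S : Subgroup N), x * x = 1 → ∀ y, x * y = y * x

/-- the involution centralisers of the simple groups with quasi-dihedral or wreathed Sylow 2-subgroups
(S0507, S0523) -/
def CentTypes : Prop :=
  ∀ (N : Type u) [Group N] [Finite N] [IsSimpleGroup N] (S : Sylow 2 N),
    (Cfsg.IsQuasiDihedral (S : Subgroup N) ∨ Cfsg.IsWreathed (S : Subgroup N)) → CentForm N

theorem dihedral_comm {n : ℕ} {x y : DihedralGroup n} (hx : x * x ≠ 1) (hy : y * y ≠ 1) : x * y = y * x := by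
  rcases x with i | i
  · rcases y with j | j
    · rw [DihedralGroup.r_mul_r, DihedralGroup.r_mul_r, add_comm]
    · exact absurd (by simp) hy
  · exact absurd (by simp) hx

variable {X : Type u} [Group X] [Finite X] {F : Type*} [Field F] [Fintype F] {t s : X} {e : SL2 F →* X} {D : M2 F}
  (h : MHyp t s e D) (hF : Odd (Fintype.card F))

include h hF

theorem qdw (hR : RankTwoTypes.{u}) (hO : Cfsg.oddCore X = ⊥) (N : Subgroup X) [hN : N.Normal] (hne : N ≠ ⊥)
    [hs : IsSimpleGroup N] (S : Sylow 2 N) :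
    Cfsg.IsQuasiDihedral (S : Subgroup N) ∨ Cfsg.IsWreathed (S : Subgroup N) := by
  have hp : Fact (Nat.Prime 2) := ⟨Nat.prime_two⟩
  obtain ⟨a, ha, b, hb, haa, hbb, hab⟩ := exists_quat h hF hO N hne
  have hne' := quat_ne h hF hab
  have htt := t_sq h
  have ht1 := t_ne h hF
  have hna : ¬ IsMulCommutative N := by
    intro h1
    apply hne'
    have := h1.is_comm.comm ⟨a, ha⟩ ⟨b, hb⟩
    exact congrArg Subtype.val this
  rcases hR N hna (prank h hF N) S with h1 | h1 | h1 | h1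
  · exfalso
    obtain ⟨n, ⟨f⟩⟩ := h1
    set a' : N := ⟨a, ha⟩ with ha'
    set b' : N := ⟨b, hb⟩ with hb'
    have hQ : IsPGroup 2 (zpowers a' ⊔ zpowers b' : Subgroup N) := by
      apply isPGroup_pair
      · apply Subtype.ext
        change a ^ 4 = 1
        rw [show 4 = 2 * 2 from rfl, pow_mul, pow_two a, haa, pow_two, htt]
      · apply Subtype.ext
        change b ^ 4 = 1
        rw [show 4 = 2 * 2 from rfl, pow_mul, pow_two b, hbb, pow_two, htt]
      · refine ⟨-1, ?_⟩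
        change a' ^ (-1 : ℤ) = _
        rw [_root_.zpow_neg_one]
        apply Subtype.ext
        change a⁻¹ = b * a * b⁻¹
        have h2 : a⁻¹ = a * t := by
          rw [inv_eq_iff_mul_eq_one]
          calc a * (a * t) = a * a * t := by group
            _ = 1 := by rw [haa, htt]
        have h3 : b * a = t * (a * b) := by
          rw [hab, ← mul_assoc, ← mul_assoc, htt, one_mul]
        have h4 : a * t = t * a := by
          rw [← haa]; group
        rw [h2, h3, h4]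
        group
    obtain ⟨S', hS'⟩ := hQ.exists_le_sylow
    have haS : a' ∈ S' := hS' ((le_sup_left : zpowers a' ≤ _) (mem_zpowers a'))
    have hbS : b' ∈ S' := hS' ((le_sup_right : zpowers b' ≤ _) (mem_zpowers b'))
    have g : (S' : Subgroup N) ≃* DihedralGroup n := (Sylow.equiv S' S).trans f
    have h2 : ∀ {c : N} (hc : c ∈ S'), (c : X) * c = t → g ⟨c, hc⟩ * g ⟨c, hc⟩ ≠ 1 := by
      intro c hc hcc h3
      rw [← map_mul] at h3
      have h4 := g.injective (h3.trans (map_one g).symm)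
      apply ht1
      have h5 : (⟨c, hc⟩ * ⟨c, hc⟩ : S').1.1 = 1 := by rw [h4]; rfl
      rw [← hcc]
      exact h5
    have h3 := dihedral_comm (h2 haS haa) (h2 hbS hbb)
    rw [← map_mul, ← map_mul] at h3
    have h4 := g.injective h3
    apply hne'
    exact congrArg (fun z : S' => z.1.1) h4
  · exact Or.inl h1
  · exact Or.inr h1
  · exfalso
    -- `i` anticommuting with `D`
    have h2 := SLTwoFour.two_ne_zero_of_odd (F := F) hF
    obtain ⟨i, hi, hiD⟩ : ∃ i : SL2 F, i * i = -1 ∧ (i : M2 F) * D = -(D * i) := by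
      obtain ⟨i, hi⟩ := exists_anti h2 h.acts.1 h.tr
      refine ⟨i, ?_, hi⟩
      have h3 := trace_of_anti h2 h.acts.1 hi
      apply Subtype.ext
      have h4 := m2_sq_of_trace h3
      rw [sl_coe_det] at h4
      rw [Matrix.SpecialLinearGroup.coe_mul, h4]
      simp only [_root_.neg_smul, _root_.one_smul, _root_.Matrix.SpecialLinearGroup.coe_neg, _root_.Matrix.SpecialLinearGroup.coe_one]
    have h3 : s * e i = e (-i) * s := by
      apply h.acts.2
      rw [Matrix.SpecialLinearGroup.coe_neg, neg_mul, hiD, neg_neg]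
    have h4 : e (-i) = t * e i := by
      rw [← h.neg, ← map_mul]
      congr 1
      apply Subtype.ext
      simp
    rw [h4] at h3
    have hs' : s ∈ N := mem_of_ne_bot h hF hO N hne h.sq
    have hi' : e i ∈ N := e_mem_of_sq h hF hO N hne hi
    have hii : e i * e i = t := by rw [← map_mul, hi, h.neg]
    set a' : N := ⟨e i, hi'⟩ with ha'
    set b' : N := ⟨s, hs'⟩ with hb'
    have hQ : IsPGroup 2 (zpowers a' ⊔ zpowers b' : Subgroup N) := by
      apply isPGroup_pair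
      · apply Subtype.ext
        change e i ^ 4 = 1
        rw [show 4 = 2 * 2 from rfl, pow_mul, pow_two (e i), hii, pow_two, htt]
      · apply Subtype.ext
        change s ^ 4 = 1
        rw [show 4 = 2 * 2 from rfl, pow_mul, pow_two s, h.sq, pow_two, one_mul]
      · refine ⟨-1, ?_⟩
        change a' ^ (-1 : ℤ) = _
        rw [_root_.zpow_neg_one]
        apply Subtype.ext
        change (e i)⁻¹ = s * e i * s⁻¹
        rw [h3]
        have h5 : t * e i * s * s⁻¹ = t * e i := by group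
        rw [h5, inv_eq_iff_mul_eq_one]
        calc e i * (t * e i) = e i * t * e i := by group
          _ = t * (e i * e i) := by rw [t_comm h]; group
          _ = 1 := by rw [hii, htt]
    obtain ⟨S', hS'⟩ := hQ.exists_le_sylow
    have haS : a' ∈ S' := hS' ((le_sup_left : zpowers a' ≤ _) (mem_zpowers a'))
    have hbS : b' ∈ S' := hS' ((le_sup_right : zpowers b' ≤ _) (mem_zpowers b'))
    have g : (S' : Subgroup N) ≃* S := Sylow.equiv S' S
    have h5 := h1 (g ⟨b', hbS⟩) (by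
      rw [← map_mul]
      have : (⟨b', hbS⟩ * ⟨b', hbS⟩ : S') = 1 := Subtype.ext (Subtype.ext h.sq)
      rw [this, map_one]) (g ⟨a', haS⟩)
    rw [← map_mul, ← map_mul] at h5
    have h6 := g.injective h5
    have h7 : s * e i = e i * s := congrArg (fun z : S' => z.1.1) h6
    rw [h3, mul_assoc] at h7
    exact ht1 (mul_eq_right.1 h7)

omit h hF in
theorem card_eq_of_card {E E' : Type*} [Field E] [Fintype E] [Field E'] [Fintype E']
    (h : Nat.card (SL2 E) ≤ Nat.card (SL2 E')) : Fintype.card E ≤ Fintype.card E' := by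
  rw [SLNormal.card_sl, SLNormal.card_sl] at h
  by_contra h1
  push Not at h1
  have h2 := Fintype.one_lt_card (α := E')
  have h3 : Fintype.card E' ^ 2 < Fintype.card E ^ 2 := Nat.pow_lt_pow_left h1 two_ne_zero
  have h4 : 1 ≤ Fintype.card E' ^ 2 := Nat.one_le_pow _ _ (by omega)
  have h5 : Fintype.card E' ^ 2 - 1 < Fintype.card E ^ 2 - 1 := by omega
  have h6 := Nat.mul_lt_mul'' h1 h5
  omega

omit h hF in
theorem derived_top {E : Type*} [Field E] [Fintype E] (h : 3 < Fintype.card E) (n : ℕ) :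
    derivedSeries (SL2 E) n = ⊤ := by
  induction n with
  | zero => rfl
  | succ n ih =>
    rw [derivedSeries_succ, ih]
    exact TwoFusion.SLTwoFacts.commutator_eq_top h

/-- the two fields have the same order -/
theorem card_field_eq (hO : Cfsg.oddCore X = ⊥) (N : Subgroup X) [hN : N.Normal] (hne : N ≠ ⊥) (htN : t ∈ N)
    {E : Type*} [Field E] [Fintype E] (hE : Odd (Fintype.card E)) (f : SL2 E →* N) (hf : Function.Injective f)
    (hft : ∀ x, f x * ⟨t, htN⟩ = ⟨t, htN⟩ * f x)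
    (_hnorm : ∀ c, c * ⟨t, htN⟩ = ⟨t, htN⟩ * c → ∀ x, ∃ y, c * f x = f y * c)
    (habel : ∀ c d, c * ⟨t, htN⟩ = ⟨t, htN⟩ * c → d * ⟨t, htN⟩ = ⟨t, htN⟩ * d → ∃ y, c * d = f y * (d * c)) :
    Fintype.card E = Fintype.card F := by
  have hcF := SLNormal.card_three_of hF
  have hcE := SLNormal.card_three_of hE
  -- if `|E| > 3` then `f` maps into `e`
  have h1 : 3 < Fintype.card E → ∀ y, ∃ x, e x = f y := by
    intro h3 y
    obtain ⟨n, hn⟩ := h.sol
    let f' : SL2 E →* centralizer ({t} : Set X) := (N.subtype.comp f).codRestrict _ (fun x => by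
      rw [Subgroup.mem_centralizer_singleton_iff]
      have := congrArg Subtype.val (hft x)
      exact this)
    have h4 : f' y ∈ derivedSeries (centralizer ({t} : Set X)) n := by
      apply map_derivedSeries_le_derivedSeries f' n
      rw [derived_top h3]
      exact ⟨y, Subgroup.mem_top y, rfl⟩
    obtain ⟨x, hx⟩ := hn _ h4
    exact ⟨x, hx⟩
  have h2 : 3 < Fintype.card F → ∀ x, ∃ y, e x = f y := by
    intro h3 x
    have hx : ∀ x, e x ∈ N := e_mem_of_lt h hF hO N hne h3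
    let e' : SL2 F →* N := e.codRestrict N hx
    have h4 : ∀ x, e' x ∈ f.range := by
      intro x
      have h5 : x ∈ commutator (SL2 F) := by
        rw [TwoFusion.SLTwoFacts.commutator_eq_top h3]
        exact Subgroup.mem_top x
      have h6 : (commutator (SL2 F)).map e' ≤ f.range := by
        rw [commutator_def, Subgroup.map_commutator, Subgroup.commutator_le]
        rintro _ ⟨a, -, rfl⟩ _ ⟨b, -, rfl⟩
        have ha : e' a * ⟨t, htN⟩ = ⟨t, htN⟩ * e' a := Subtype.ext (t_comm h a)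
        have hb : e' b * ⟨t, htN⟩ = ⟨t, htN⟩ * e' b := Subtype.ext (t_comm h b)
        obtain ⟨y, hy⟩ := habel (e' a) (e' b) ha hb
        refine ⟨y, ?_⟩
        rw [commutatorElement_def, hy]
        group
      exact h6 ⟨x, h5, rfl⟩
    obtain ⟨y, hy⟩ := h4 x
    refine ⟨y, ?_⟩
    rw [hy]
    rfl
  have c1 : (∀ y, ∃ x, e x = f y) → Fintype.card E ≤ Fintype.card F := by
    intro h3
    apply card_eq_of_card
    choose g hg using h3
    apply Nat.card_le_card_of_injective g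
    intro y y' hy
    apply hf
    apply Subtype.ext
    rw [← hg, ← hg, hy]
  have c2 : (∀ x, ∃ y, e x = f y) → Fintype.card F ≤ Fintype.card E := by
    intro h3
    apply card_eq_of_card
    choose g hg using h3
    apply Nat.card_le_card_of_injective g
    intro y y' hy
    apply h.inj
    rw [hg, hg, hy]
  by_cases hE3 : 3 < Fintype.card E
  · by_cases hF3 : 3 < Fintype.card F
    · exact le_antisymm (c1 (h1 hE3)) (c2 (h2 hF3))
    · have := c1 (h1 hE3)
      have := hcF hF3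
      omega
  · by_cases hF3 : 3 < Fintype.card F
    · have := c2 (h2 hF3)
      have := hcE hE3
      omega
    · rw [hcE hE3, hcF hF3]

omit h hF in
/-- the index of `C_N(t)` divides the index of `C_X(t)` -/
theorem index_dvd (N : Subgroup X) [hN : N.Normal] (htN : t ∈ N) :
    (centralizer ({(⟨t, htN⟩ : N)} : Set N)).index ∣ (centralizer ({t} : Set X)).index := by
  have h1 : (centralizer ({t} : Set X)).subgroupOf N = centralizer ({(⟨t, htN⟩ : N)} : Set N) := by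
    ext x
    rw [Subgroup.mem_subgroupOf, Subgroup.mem_centralizer_singleton_iff, Subgroup.mem_centralizer_singleton_iff]
    constructor
    · intro h
      exact Subtype.ext h
    · intro h
      exact congrArg Subtype.val h
  rw [← h1]
  change (centralizer ({t} : Set X)).relIndex N ∣ _
  have h2 : (centralizer ({t} : Set X)).relIndex N = (centralizer ({t} : Set X)).relIndex (N ⊔ centralizer ({t} : Set X)) := by
    have h3 := Subgroup.relIndex_mul_relIndex (centralizer ({t} : Set X) ⊓ N) N (N ⊔ centralizer ({t} : Set X)) inf_le_right le_sup_left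
    have h4 := Subgroup.relIndex_mul_relIndex (centralizer ({t} : Set X) ⊓ N) (centralizer ({t} : Set X)) (N ⊔ centralizer ({t} : Set X)) inf_le_left le_sup_right
    rw [Subgroup.relIndex_sup_left, Subgroup.inf_relIndex_right] at h3
    rw [Subgroup.inf_relIndex_left] at h4
    have h5 : N.relIndex (centralizer ({t} : Set X)) ≠ 0 := Subgroup.index_ne_zero_of_finite
    have h6 : (centralizer ({t} : Set X)).relIndex N * N.relIndex (centralizer ({t} : Set X)) =
        (centralizer ({t} : Set X)).relIndex (N ⊔ centralizer ({t} : Set X)) * N.relIndex (centralizer ({t} : Set X)) := by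
      rw [h3, ← h4, mul_comm]
    exact Nat.eq_of_mul_eq_mul_right (Nat.pos_of_ne_zero h5) h6
  rw [h2]
  exact Subgroup.relIndex_dvd_index_of_le le_sup_right

/-- **the `M`-lemma for core-free groups** -/
theorem core_dvd (hR : RankTwoTypes.{u}) (hC : CentTypes.{u}) (hO : Cfsg.oddCore X = ⊥) {p : ℕ} (hp : p.Prime)
    (hpF : p ∣ Fintype.card F) : p ∣ (centralizer ({t} : Set X)).index := by
  have hne : (⊤ : Subgroup X) ≠ ⊥ := by
    intro h1
    have : t ∈ (⊤ : Subgroup X) := Subgroup.mem_top t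
    rw [h1, Subgroup.mem_bot] at this
    exact t_ne h hF this
  obtain ⟨N, hN, -, hNe, hmin⟩ := Lib.SubnormalJoin.exists_minimal_normal_le (⊤ : Subgroup X) inferInstance hne
  have hs := isSimple h hF hO N hNe hmin
  have htN : t ∈ N := mem_of_ne_bot h hF hO N hNe (t_sq h)
  obtain ⟨E, i1, i2, f, f1, f2, f3, f4, f5, f6⟩ := hC N default (qdw h hF hR hO N hNe default) ⟨t, htN⟩ (by
    rw [orderOf_eq_prime_iff]
    refine ⟨?_, fun h1 => t_ne h hF (congrArg Subtype.val h1)⟩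
    apply Subtype.ext
    rw [pow_two]
    exact t_sq h)
  have h1 := card_field_eq h hF hO N hNe htN f2 f f1 f3 f4 f5
  exact (f6 p hp (by rw [h1]; exact hpF)).trans (index_dvd N htN)

end Cfsg.Agent.GTwoOdd.MCore
end

-- part: GTwoOdd/HexFrame
section
/-!
# From a split frame to the data of `HexPre`

`S : L.Split s g`: `I` = `L.e2`, `J` = conjugate of `L.e1` by `bb = ρ² r₁`; the elements `x1,…,x6` parametrise
`XN 0,…,XN 5`.
-/

set_option autoImplicit false

namespace Cfsg.Agent.GTwoOdd.HexFrame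

open Matrix
open Cfsg.Agent.GTwoOdd.Hex
open Cfsg.Agent.GTwoOdd.LocalSL

section sl

variable {F : Type*} [Field F]

/-- `diag(a, a⁻¹)` -/
def ddn (a : F) (h : a ≠ 0) : SL2 F := ⟨!![a, 0; 0, a⁻¹], by rw [Matrix.det_fin_two]; simp [h]⟩

open Classical in
/-- `diag(a, a⁻¹)` -/
noncomputable def dd (a : F) : SL2 F :=
  if h : a = 0 then 1 else ddn a h

theorem dd_coe {a : F} (h : a ≠ 0) : (dd a : M2 F) = !![a, 0; 0, a⁻¹] := by
  have : dd a = ddn a h := dif_neg h
  rw [this]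
  rfl

theorem dd_mul {a b : F} (ha : a ≠ 0) (hb : b ≠ 0) : dd (a * b) = dd a * dd b := by
  apply Subtype.ext
  change (dd (a * b) : M2 F) = (dd a : M2 F) * (dd b : M2 F)
  rw [dd_coe ha, dd_coe hb, dd_coe (mul_ne_zero ha hb), m2_eq_iff]
  simp [mul_comm]

theorem dd_neg_one : dd (-1 : F) = -1 := by
  apply Subtype.ext
  change (dd (-1 : F) : M2 F) = -1
  rw [dd_coe (neg_ne_zero.2 one_ne_zero), m2_eq_iff]
  simp

theorem wn_wn : wn F * wn F = -1 := by
  apply Subtype.ext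
  change (wn F : M2 F) * (wn F : M2 F) = -1
  rw [wn_coe, m2_eq_iff]
  simp

theorem wn_dd {a : F} (ha : a ≠ 0) : wn F * dd a = (dd a)⁻¹ * wn F := by
  rw [eq_inv_mul_iff_mul_eq]
  apply Subtype.ext
  change (dd a : M2 F) * ((wn F : M2 F) * (dd a : M2 F)) = wn F
  rw [dd_coe ha, wn_coe, m2_eq_iff]
  simp [ha]

theorem dd_up {a : F} (ha : a ≠ 0) (b : F) : dd a * up b = up (a * a * b) * dd a := by
  apply Subtype.ext
  change (dd a : M2 F) * (up b : M2 F) = (up (a * a * b) : M2 F) * (dd a : M2 F)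
  rw [dd_coe ha, up_coe, up_coe, m2_eq_iff]
  simp only [_root_.Fin.isValue, _root_.Matrix.cons_mul, _root_.Nat.succ_eq_add_one, _root_.Nat.reduceAdd, _root_.Matrix.vecMul_cons, _root_.Matrix.head_cons, _root_.Matrix.smul_cons, _root_.smul_eq_mul, _root_.mul_one, _root_.Matrix.smul_empty, _root_.Matrix.tail_cons, _root_.zero_smul, _root_.Matrix.empty_vecMul, _root_.add_zero, _root_.MulZeroClass.mul_zero, _root_.zero_add, _root_.Matrix.empty_mul, _root_.Equiv.symm_apply_apply, _root_.Matrix.of_apply, _root_.Matrix.cons_val', _root_.Matrix.cons_val_zero, _root_.Matrix.cons_val_fin_one, _root_.one_smul, _root_.Matrix.add_cons, _root_.Matrix.empty_add_empty, _root_.Matrix.cons_val_one, _root_.and_self, _root_.and_true, _root_.true_and]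
  field_simp

theorem up_lo_up {a : F} (ha : a ≠ 0) : up a * lo (-a⁻¹) * up a = dd a * wn F := by
  apply Subtype.ext
  change (up a : M2 F) * (lo (-a⁻¹) : M2 F) * (up a : M2 F) = (dd a : M2 F) * (wn F : M2 F)
  rw [dd_coe ha, up_coe, lo_coe, wn_coe, m2_eq_iff]
  simp [ha]

end sl

/-- the rank one group of a homomorphism from `SL₂` -/
noncomputable def oneOf {G : Type*} [Group G] {F : Type*} [Field F] (e : SL2 F →* G) : One G F where
  x a := e (up a)
  y a := e (lo a)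
  n := e (wn F)
  h a := e (dd a)
  x_add a b := by rw [← map_mul, up_mul]
  y_add a b := by rw [← map_mul, lo_mul]
  nx a := by rw [← map_mul, wn_up, map_mul]; group
  ny a := by rw [← map_mul, wn_lo, map_mul]; group
  nn := by rw [← map_mul, wn_wn, dd_neg_one]
  nh a ha := by rw [← map_mul, wn_dd ha, map_mul, map_inv]; group
  h_mul a b ha hb := by rw [← map_mul, dd_mul ha hb]
  hx a b ha := by rw [← map_mul, dd_up ha, map_mul]; group
  xyx a ha := by rw [← map_mul, ← map_mul, ← map_mul, up_lo_up ha]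

section frame

variable {G : Type*} [Group G] {t : G} {F1 F2 : Type*} [Field F1] [Field F2]
variable [Finite F1] [Finite F2] {L : LocalSL t F1 F2} {s g : G}

/-- the torus acts on `e1` by scalars -/
theorem tor_act1 (S : L.Split s g) {c : G} (hc : c ∈ TT L) : ∃ r : F1, r ≠ 0 ∧
    (∀ u, c * L.e1 (up u) * c⁻¹ = L.e1 (up (r * u))) ∧ ∀ u, c * L.e1 (lo u) * c⁻¹ = L.e1 (lo (r⁻¹ * u)) := by
  obtain ⟨A, B, hr, hA, hB⟩ := hc
  have hA' := (comm_dg_iff S.toFrame.two1).1 hA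
  have hA1 : A 0 0 ≠ 0 := by
    intro h; apply hr.det1; rw [Matrix.det_fin_two, h, hA'.1]; ring
  have hA2 : A 1 1 ≠ 0 := by
    intro h; apply hr.det1; rw [Matrix.det_fin_two, h, hA'.1]; ring
  refine ⟨A 0 0 / A 1 1, div_ne_zero hA1 hA2, fun u => ?_, fun u => ?_⟩
  · rw [hr.acts1.2 _ _ (diag_up hA'.1 hA'.2 hA2 u), mul_assoc, mul_inv_cancel, mul_one]
    congr 2; field_simp
  · rw [hr.acts1.2 _ _ (diag_lo hA'.1 hA'.2 hA1 u), mul_assoc, mul_inv_cancel, mul_one]
    congr 2; field_simp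

/-- the torus acts on `e2` by scalars -/
theorem tor_act2 (S : L.Split s g) {c : G} (hc : c ∈ TT L) : ∃ r : F2, r ≠ 0 ∧
    (∀ u, c * L.e2 (up u) * c⁻¹ = L.e2 (up (r * u))) ∧ ∀ u, c * L.e2 (lo u) * c⁻¹ = L.e2 (lo (r⁻¹ * u)) := by
  obtain ⟨A, B, hr, hA, hB⟩ := hc
  have hB' := (comm_dg_iff S.toFrame.two2).1 hB
  have hB1 : B 0 0 ≠ 0 := by
    intro h; apply hr.det2; rw [Matrix.det_fin_two, h, hB'.1]; ring
  have hB2 : B 1 1 ≠ 0 := by
    intro h; apply hr.det2; rw [Matrix.det_fin_two, h, hB'.1]; ring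
  refine ⟨B 0 0 / B 1 1, div_ne_zero hB1 hB2, fun u => ?_, fun u => ?_⟩
  · rw [hr.acts2.2 _ _ (diag_up hB'.1 hB'.2 hB2 u), mul_assoc, mul_inv_cancel, mul_one]
    congr 2; field_simp
  · rw [hr.acts2.2 _ _ (diag_lo hB'.1 hB'.2 hB1 u), mul_assoc, mul_inv_cancel, mul_one]
    congr 2; field_simp

theorem dd_comm_dg {F : Type*} [Field F] (h2 : (2 : F) ≠ 0) {a : F} (ha : a ≠ 0) :
    (dd a : M2 F) * dg F = dg F * dd a := by
  rw [comm_dg_iff h2, dd_coe ha]
  simp

theorem e1_dd_mem (S : L.Split s g) {a : F1} (ha : a ≠ 0) : L.e1 (dd a) ∈ TT L :=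
  ⟨_, _, Rep.e1 L (dd a), dd_comm_dg S.toFrame.two1 ha, by simp⟩

theorem e2_dd_mem (S : L.Split s g) {a : F2} (ha : a ≠ 0) : L.e2 (dd a) ∈ TT L :=
  ⟨_, _, Rep.e2 L (dd a), by simp, dd_comm_dg S.toFrame.two2 ha⟩

/-- the element `ρ² r₁` -/
def bb (L : LocalSL t F1 F2) (g : G) : G := ro L g ^ 2 * L.e1 (wn F1)

theorem nT_bb (S : L.Split s g) : NormT (TT L) (bb L g) := (S.nT_rho.pow 2).mul S.nT_r1

/-- the second rank one group -/
def eJ (L : LocalSL t F1 F2) (g : G) : SL2 F1 →* G := (MulAut.conj (bb L g)).toMonoidHom.comp L.e1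

omit [Finite F1] [Finite F2] in
theorem eJ_apply (x : SL2 F1) : eJ L g x = bb L g * L.e1 x * (bb L g)⁻¹ := rfl

theorem eJ_dd_mem (S : L.Split s g) {a : F1} (ha : a ≠ 0) : eJ L g (dd a) ∈ TT L :=
  (nT_bb S).1 _ (e1_dd_mem S ha)

theorem exists_NN (S : L.Split s g) (a : F2) : ∃ r : F1, (a = 0 → r = 0) ∧ (a ≠ 0 → r ≠ 0 ∧
    (∀ u, L.e2 (dd a) * eJ L g (up u) * (L.e2 (dd a))⁻¹ = eJ L g (up (r⁻¹ * u))) ∧
    ∀ u, L.e2 (dd a) * eJ L g (lo u) * (L.e2 (dd a))⁻¹ = eJ L g (lo (r * u))) := by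
  by_cases ha : a = 0
  · exact ⟨0, fun _ => rfl, fun h => absurd ha h⟩
  obtain ⟨r, hr, h1, h2⟩ := tor_act1 S ((nT_bb S).2 _ (e2_dd_mem S ha))
  refine ⟨r⁻¹, fun h => absurd h ha, fun _ => ⟨inv_ne_zero hr, fun u => ?_, fun u => ?_⟩⟩
  · rw [inv_inv, eJ_apply, eJ_apply, ← h1]
    group
  · rw [eJ_apply, eJ_apply, ← h2]
    group

/-- the weight `N` -/
noncomputable def NN (S : L.Split s g) (a : F2) : F1 := (exists_NN S a).choose

theorem NN_zero (S : L.Split s g) : NN S 0 = 0 := (exists_NN S 0).choose_spec.1 rfl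

theorem NN_spec (S : L.Split s g) {a : F2} (ha : a ≠ 0) : NN S a ≠ 0 ∧
    (∀ u, L.e2 (dd a) * eJ L g (up u) * (L.e2 (dd a))⁻¹ = eJ L g (up ((NN S a)⁻¹ * u))) ∧
    ∀ u, L.e2 (dd a) * eJ L g (lo u) * (L.e2 (dd a))⁻¹ = eJ L g (lo (NN S a * u)) :=
  (exists_NN S a).choose_spec.2 ha

theorem exists_bet (S : L.Split s g) (u : F1) : ∃ r : F2, (u = 0 → r = 0) ∧ (u ≠ 0 → r ≠ 0 ∧
    (∀ a, eJ L g (dd u) * L.e2 (up a) * (eJ L g (dd u))⁻¹ = L.e2 (up (r⁻¹ * a))) ∧
    ∀ a, eJ L g (dd u) * L.e2 (lo a) * (eJ L g (dd u))⁻¹ = L.e2 (lo (r * a))) := by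
  by_cases hu : u = 0
  · exact ⟨0, fun _ => rfl, fun h => absurd hu h⟩
  obtain ⟨r, hr, h1, h2⟩ := tor_act2 S (eJ_dd_mem S hu)
  refine ⟨r⁻¹, fun h => absurd h hu, fun _ => ⟨inv_ne_zero hr, fun u => ?_, fun u => ?_⟩⟩
  · rw [inv_inv, h1]
  · rw [h2]

/-- the weight `β` -/
noncomputable def bet (S : L.Split s g) (u : F1) : F2 := (exists_bet S u).choose

theorem bet_zero (S : L.Split s g) : bet S 0 = 0 := (exists_bet S 0).choose_spec.1 rfl

theorem bet_spec (S : L.Split s g) {u : F1} (hu : u ≠ 0) : bet S u ≠ 0 ∧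
    (∀ a, eJ L g (dd u) * L.e2 (up a) * (eJ L g (dd u))⁻¹ = L.e2 (up ((bet S u)⁻¹ * a))) ∧
    ∀ a, eJ L g (dd u) * L.e2 (lo a) * (eJ L g (dd u))⁻¹ = L.e2 (lo (bet S u * a)) :=
  (exists_bet S u).choose_spec.2 hu

/-! ### root groups -/

theorem XN_base (S : L.Split s g) {m : ℕ} (h : m % 3 = 0) : L.XN g m = L.baseX m := by
  unfold XN
  have h1 : rho L (wn F1) g ^ m ∈ TT L := by
    have := S.rho_mod (m := m) (k := 0) (by omega)
    rw [pow_zero] at this
    exact EqT.mem this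
  exact S.cjS_base h1 m

theorem mem_X0 (S : L.Split s g) {x : G} : x ∈ L.XN g 0 ↔ ∃ a, L.e2 (up a) = x := by
  rw [XN_base S (by norm_num), L.baseX_0 (by norm_num)]
  constructor
  · rintro ⟨_, ⟨a, rfl⟩, rfl⟩; exact ⟨a, rfl⟩
  · rintro ⟨a, rfl⟩; exact ⟨_, ⟨a, rfl⟩, rfl⟩

theorem mem_X6 (S : L.Split s g) {x : G} : x ∈ L.XN g 6 ↔ ∃ a, L.e2 (lo a) = x := by
  rw [XN_base S (by norm_num), L.baseX_2 (by norm_num)]
  constructor
  · rintro ⟨_, ⟨a, rfl⟩, rfl⟩; exact ⟨a, rfl⟩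
  · rintro ⟨a, rfl⟩; exact ⟨_, ⟨a, rfl⟩, rfl⟩

theorem mem_X3 (S : L.Split s g) {x : G} : x ∈ L.XN g 3 ↔ ∃ a, L.e1 (up a) = x := by
  rw [XN_base S (by norm_num), L.baseX_3 (by norm_num)]
  constructor
  · rintro ⟨_, ⟨a, rfl⟩, rfl⟩; exact ⟨a, rfl⟩
  · rintro ⟨a, rfl⟩; exact ⟨_, ⟨a, rfl⟩, rfl⟩

theorem mem_X9 (S : L.Split s g) {x : G} : x ∈ L.XN g 9 ↔ ∃ a, L.e1 (lo a) = x := by
  rw [XN_base S (by norm_num), L.baseX_1 (by norm_num)]
  constructor
  · rintro ⟨_, ⟨a, rfl⟩, rfl⟩; exact ⟨a, rfl⟩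
  · rintro ⟨a, rfl⟩; exact ⟨_, ⟨a, rfl⟩, rfl⟩

theorem rho2_XN (S : L.Split s g) (m : ℕ) : cjS (ro L g ^ 2) (L.XN g m) = L.XN g (m + 8) := by
  rw [pow_two, cjS_mul, S.rho_XN, S.rho_XN]

theorem bb_XN (S : L.Split s g) {m k : ℕ} (h : (m + k) % 12 = 8) : cjS (bb L g) (L.XN g m) = L.XN g k := by
  unfold bb
  obtain ⟨j, hj⟩ : ∃ j, (m + j) % 12 = 0 := ⟨11 * m, by omega⟩
  rw [cjS_mul, S.r1_XN hj, rho2_XN S]
  exact S.XN_eq (by omega)

theorem mem_cj {a : G} {H K : Subgroup G} (h : cjS a H = K) {x : G} : x ∈ K ↔ ∃ y ∈ H, a * y * a⁻¹ = x := by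
  rw [← h, mem_cjS]
  constructor
  · intro hx
    exact ⟨_, hx, by group⟩
  · rintro ⟨y, hy, rfl⟩
    have : a⁻¹ * (a * y * a⁻¹) * a = y := by group
    rwa [this]

theorem mem_X5 (S : L.Split s g) {x : G} : x ∈ L.XN g 5 ↔ ∃ a, eJ L g (up a) = x := by
  rw [mem_cj (bb_XN S (m := 3) (k := 5) (by norm_num))]
  constructor
  · rintro ⟨y, hy, rfl⟩
    obtain ⟨a, rfl⟩ := (mem_X3 S).1 hy
    exact ⟨a, rfl⟩
  · rintro ⟨a, rfl⟩
    exact ⟨_, (mem_X3 S).2 ⟨a, rfl⟩, rfl⟩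

theorem mem_X11 (S : L.Split s g) {x : G} : x ∈ L.XN g 11 ↔ ∃ a, eJ L g (lo a) = x := by
  rw [mem_cj (bb_XN S (m := 9) (k := 11) (by norm_num))]
  constructor
  · rintro ⟨y, hy, rfl⟩
    obtain ⟨a, rfl⟩ := (mem_X9 S).1 hy
    exact ⟨a, rfl⟩
  · rintro ⟨a, rfl⟩
    exact ⟨_, (mem_X9 S).2 ⟨a, rfl⟩, rfl⟩

omit [Finite F1] [Finite F2] in
theorem up_e1_inj {a b : F1} (h : eJ L g (up a) = eJ L g (up b)) : a = b := by
  rw [eJ_apply, eJ_apply] at h
  have h1 := mul_left_cancel (mul_right_cancel h)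
  exact up_inj (L.inj1 h1)

theorem NN_neg_one (S : L.Split s g) : NN S (-1) = -1 := by
  have h := (NN_spec S (a := -1) (neg_ne_zero.2 one_ne_zero)).2.1 1
  rw [dd_neg_one, L.neg2] at h
  have h1 := S.tN_inv (m := 5) (k := 0) (by norm_num) ((mem_X5 S).2 ⟨1, rfl⟩)
  rw [S.tN_0, h, ← map_inv, up_inv] at h1
  have h2 := up_e1_inj h1
  rw [mul_one] at h2
  rw [← inv_inv (NN S (-1)), h2]
  norm_num

theorem bet_neg_one (S : L.Split s g) : bet S (-1) = -1 := by
  have h := (bet_spec S (u := -1) (neg_ne_zero.2 one_ne_zero)).2.1 1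
  have h0 : eJ L g (dd (-1)) = tN t L g 2 := by
    rw [dd_neg_one, eJ_apply, L.neg1]
    unfold bb tN
    have := e1_t (L := L) (wn F1)
    calc ro L g ^ 2 * L.e1 (wn F1) * t * (ro L g ^ 2 * L.e1 (wn F1))⁻¹
        = ro L g ^ 2 * (L.e1 (wn F1) * t) * (ro L g ^ 2 * L.e1 (wn F1))⁻¹ := by group
      _ = _ := by rw [this]; group
  have h1 := S.tN_inv (m := 0) (k := 2) (by norm_num) ((mem_X0 S).2 ⟨1, rfl⟩)
  rw [← h0, h, ← map_inv, up_inv] at h1
  have h2 := up_inj (L.inj2 h1)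
  rw [mul_one] at h2
  rw [← inv_inv (bet S (-1)), h2]
  norm_num

/-- the data of `HexPre` -/
noncomputable def pre (S : L.Split s g) : HexPre G F1 F2 where
  I := oneOf L.e2
  J := oneOf (eJ L g)
  N := NN S
  β := bet S
  N_zero := NN_zero S
  β_zero := bet_zero S
  N_ne _ h := (NN_spec S h).1
  β_ne _ h := (bet_spec S h).1
  N_neg_one := NN_neg_one S
  β_neg_one := bet_neg_one S
  IJx _ _ h := (NN_spec S h).2.1 _
  IJy _ _ h := (NN_spec S h).2.2 _
  JIx _ _ h := (bet_spec S h).2.1 _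
  JIy _ _ h := (bet_spec S h).2.2 _

theorem nI_XN (S : L.Split s g) {m k : ℕ} (h : (m + k) % 12 = 6) : cjS (pre S).nI (L.XN g m) = L.XN g k := S.r2_XN h

theorem nJ_XN (S : L.Split s g) {m k : ℕ} (h : (m + k) % 12 = 4) : cjS (pre S).nJ (L.XN g m) = L.XN g k := by
  have e : (pre S).nJ = bb L g * L.e1 (wn F1) * (bb L g)⁻¹ := rfl
  obtain ⟨i, hi⟩ : ∃ i, (m + i) % 12 = 8 := ⟨8 + 11 * m, by omega⟩
  obtain ⟨j, hj⟩ : ∃ j, (i + j) % 12 = 0 := ⟨11 * i, by omega⟩
  have h1 : cjS (bb L g)⁻¹ (L.XN g m) = L.XN g i := cjS_inv_of (bb_XN S (by (clear * - hi; omega)))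
  rw [e, cjS_mul, cjS_mul, h1, S.r1_XN hj, bb_XN S (m := j) (k := k) (by omega)]

theorem mem_x1 (S : L.Split s g) {x : G} : x ∈ L.XN g 0 ↔ ∃ a, (pre S).x1 a = x := mem_X0 S
theorem mem_x6 (S : L.Split s g) {x : G} : x ∈ L.XN g 5 ↔ ∃ a, (pre S).x6 a = x := mem_X5 S
theorem mem_y1 (S : L.Split s g) {x : G} : x ∈ L.XN g 6 ↔ ∃ a, (pre S).y1 a = x := mem_X6 S
theorem mem_y6 (S : L.Split s g) {x : G} : x ∈ L.XN g 11 ↔ ∃ a, (pre S).y6 a = x := mem_X11 S

theorem mem_x2 (S : L.Split s g) {x : G} : x ∈ L.XN g 1 ↔ ∃ a, (pre S).x2 a = x := by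
  rw [mem_cj (nI_XN S (m := 5) (k := 1) (by norm_num))]
  constructor
  · rintro ⟨y, hy, rfl⟩
    obtain ⟨a, rfl⟩ := (mem_x6 S).1 hy
    exact ⟨a, rfl⟩
  · rintro ⟨a, rfl⟩
    exact ⟨_, (mem_x6 S).2 ⟨a, rfl⟩, rfl⟩

theorem mem_x4 (S : L.Split s g) {x : G} : x ∈ L.XN g 3 ↔ ∃ a, (pre S).x4 a = x := by
  rw [mem_cj (nJ_XN S (m := 1) (k := 3) (by norm_num))]
  constructor
  · rintro ⟨y, hy, rfl⟩
    obtain ⟨a, rfl⟩ := (mem_x2 S).1 hy
    exact ⟨a, rfl⟩
  · rintro ⟨a, rfl⟩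
    exact ⟨_, (mem_x2 S).2 ⟨a, rfl⟩, rfl⟩

theorem mem_x5 (S : L.Split s g) {x : G} : x ∈ L.XN g 4 ↔ ∃ a, (pre S).x5 a = x := by
  rw [mem_cj (nJ_XN S (m := 0) (k := 4) (by norm_num))]
  constructor
  · rintro ⟨y, hy, rfl⟩
    obtain ⟨a, rfl⟩ := (mem_x1 S).1 hy
    exact ⟨a, rfl⟩
  · rintro ⟨a, rfl⟩
    exact ⟨_, (mem_x1 S).2 ⟨a, rfl⟩, rfl⟩

theorem mem_x3 (S : L.Split s g) {x : G} : x ∈ L.XN g 2 ↔ ∃ a, (pre S).x3 a = x := by
  rw [mem_cj (nI_XN S (m := 4) (k := 2) (by norm_num))]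
  constructor
  · rintro ⟨y, hy, rfl⟩
    obtain ⟨a, rfl⟩ := (mem_x5 S).1 hy
    exact ⟨a, rfl⟩
  · rintro ⟨a, rfl⟩
    exact ⟨_, (mem_x5 S).2 ⟨a, rfl⟩, rfl⟩

theorem x1_inj (S : L.Split s g) {a b : F2} (h : (pre S).x1 a = (pre S).x1 b) : a = b := up_inj (L.inj2 h)
theorem x6_inj (S : L.Split s g) {a b : F1} (h : (pre S).x6 a = (pre S).x6 b) : a = b := up_e1_inj h
theorem x2_inj (S : L.Split s g) {a b : F1} (h : (pre S).x2 a = (pre S).x2 b) : a = b :=
  x6_inj S ((MulAut.conj _).injective h)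
theorem x4_inj (S : L.Split s g) {a b : F1} (h : (pre S).x4 a = (pre S).x4 b) : a = b :=
  x2_inj S ((MulAut.conj _).injective h)
theorem x5_inj (S : L.Split s g) {a b : F2} (h : (pre S).x5 a = (pre S).x5 b) : a = b :=
  x1_inj S ((MulAut.conj _).injective h)
theorem x3_inj (S : L.Split s g) {a b : F2} (h : (pre S).x3 a = (pre S).x3 b) : a = b :=
  x5_inj S ((MulAut.conj _).injective h)

/-- the elements of `<XN 3, XN 9>` lie in `e1` -/
theorem conj_nJ_mem (S : L.Split s g) : ∃ z, (pre S).nJ * (pre S).nI * (pre S).nJ * (pre S).nI⁻¹ * (pre S).nJ⁻¹ =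
    L.e1 z := by
  set D := pre S with hD
  have h5 : ∀ u, ∃ z, D.nJ * (D.nI * D.x6 u * D.nI⁻¹) * D.nJ⁻¹ = L.e1 z := by
    intro u
    have h1 : D.nI * D.x6 u * D.nI⁻¹ ∈ L.XN g 1 :=
      (mem_cj (nI_XN S (m := 5) (k := 1) (by norm_num))).2 ⟨_, (mem_x6 S).2 ⟨u, rfl⟩, rfl⟩
    have h2 : D.nJ * (D.nI * D.x6 u * D.nI⁻¹) * D.nJ⁻¹ ∈ L.XN g 3 :=
      (mem_cj (nJ_XN S (m := 1) (k := 3) (by norm_num))).2 ⟨_, h1, rfl⟩
    obtain ⟨a, ha⟩ := (mem_X3 S).1 h2
    exact ⟨_, ha.symm⟩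
  have h11 : ∀ u, ∃ z, D.nJ * (D.nI * D.y6 u * D.nI⁻¹) * D.nJ⁻¹ = L.e1 z := by
    intro u
    have h1 : D.nI * D.y6 u * D.nI⁻¹ ∈ L.XN g 7 :=
      (mem_cj (nI_XN S (m := 11) (k := 7) (by norm_num))).2 ⟨_, (mem_y6 S).2 ⟨u, rfl⟩, rfl⟩
    have h2 : D.nJ * (D.nI * D.y6 u * D.nI⁻¹) * D.nJ⁻¹ ∈ L.XN g 9 :=
      (mem_cj (nJ_XN S (m := 7) (k := 9) (by norm_num))).2 ⟨_, h1, rfl⟩
    obtain ⟨a, ha⟩ := (mem_X9 S).1 h2
    exact ⟨_, ha.symm⟩
  obtain ⟨z1, h1⟩ := h5 1
  obtain ⟨z2, h2⟩ := h11 (-1)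
  refine ⟨z1 * z2 * z1, ?_⟩
  rw [map_mul, map_mul, ← h1, ← h2]
  have e : D.nJ = D.x6 1 * D.y6 (-1) * D.x6 1 := D.J.n_eq
  have e2 : D.nJ * D.nI * (D.x6 1 * D.y6 (-1) * D.x6 1) * D.nI⁻¹ * D.nJ⁻¹ =
    D.nJ * (D.nI * D.x6 1 * D.nI⁻¹) * D.nJ⁻¹ * (D.nJ * (D.nI * D.y6 (-1) * D.nI⁻¹) * D.nJ⁻¹) *
      (D.nJ * (D.nI * D.x6 1 * D.nI⁻¹) * D.nJ⁻¹) := by group
  rw [← e2, ← e]

theorem br (S : L.Split s g) : Commute (pre S).nI
    ((pre S).nJ * (pre S).nI * (pre S).nJ * (pre S).nI⁻¹ * (pre S).nJ⁻¹) := by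
  obtain ⟨z, hz⟩ := conj_nJ_mem S
  rw [hz]
  exact (L.comm z (wn F2)).symm

/-- the relations between root groups -/
structure Rels (L : LocalSL t F1 F2) (g : G) : Prop where
  c13 : ∀ x ∈ L.XN g 1, ∀ y ∈ L.XN g 3, x * y = y * x
  c23 : ∀ x ∈ L.XN g 2, ∀ y ∈ L.XN g 3, x * y = y * x
  i02 : ∀ x ∈ L.XN g 0, ∀ y ∈ L.XN g 2, x * y * x⁻¹ * y⁻¹ ∈ L.XN g 1
  i51 : ∀ x ∈ L.XN g 5, ∀ y ∈ L.XN g 1, x * y * x⁻¹ * y⁻¹ ∈ L.XN g 3
  i04 : ∀ x ∈ L.XN g 0, ∀ y ∈ L.XN g 4, ∃ a ∈ L.XN g 1, ∃ b ∈ L.XN g 2, ∃ c ∈ L.XN g 3,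
    x * y * x⁻¹ * y⁻¹ = a * b * c
  i05 : ∀ x ∈ L.XN g 0, ∀ y ∈ L.XN g 5, ∃ a ∈ L.XN g 1, ∃ b ∈ L.XN g 2, ∃ c ∈ L.XN g 3, ∃ d ∈ L.XN g 4,
    x * y * x⁻¹ * y⁻¹ = a * b * c * d
  uniq : ∀ a ∈ L.XN g 1, ∀ b ∈ L.XN g 2, ∀ c ∈ L.XN g 3, ∀ d ∈ L.XN g 4, ∀ e ∈ L.XN g 5, ∀ f ∈ L.XN g 0,
    a * b * c * d * e * f = 1 → a = 1 ∧ b = 1 ∧ c = 1 ∧ d = 1 ∧ e = 1 ∧ f = 1

/-- the data of `HexDat` -/
noncomputable def dat (S : L.Split s g) (R : Rels L g) : HexDat G F1 F2 where
  toHexPre := pre S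
  two := S.toFrame.two1
  two' := S.toFrame.two2
  c14 a v := by
    obtain ⟨b, hb⟩ := (mem_X3 S).1 ((mem_x4 S).2 ⟨v, rfl⟩)
    rw [← hb]
    exact (L.comm _ _).symm
  cy14 a v := by
    obtain ⟨b, hb⟩ := (mem_X3 S).1 ((mem_x4 S).2 ⟨v, rfl⟩)
    rw [← hb]
    exact (L.comm _ _).symm
  c36 a v := S.XN_comm3 (m := 2) (k := 5) (by norm_num) (by norm_num) ((mem_x3 S).2 ⟨a, rfl⟩) ((mem_x6 S).2 ⟨v, rfl⟩)
  cy36 a v := S.XN_comm3 (m := 2) (k := 11) (by norm_num) (by norm_num) ((mem_x3 S).2 ⟨a, rfl⟩)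
    ((mem_y6 S).2 ⟨v, rfl⟩)
  c24 u v := R.c13 _ ((mem_x2 S).2 ⟨u, rfl⟩) _ ((mem_x4 S).2 ⟨v, rfl⟩)
  c34 a v := R.c23 _ ((mem_x3 S).2 ⟨a, rfl⟩) _ ((mem_x4 S).2 ⟨v, rfl⟩)
  i13 a b := by
    obtain ⟨u, hu⟩ := (mem_x2 S).1 (R.i02 _ ((mem_x1 S).2 ⟨a, rfl⟩) _ ((mem_x3 S).2 ⟨b, rfl⟩))
    exact ⟨u, by rw [hu]; group⟩
  i26 u v := by
    obtain ⟨c, hc⟩ := (mem_x4 S).1 (R.i51 _ ((mem_x6 S).2 ⟨u, rfl⟩) _ ((mem_x2 S).2 ⟨v, rfl⟩))
    exact ⟨c, by rw [hc]; group⟩
  i15 a b := by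
    obtain ⟨x, hx, y, hy, z, hz, h⟩ := R.i04 _ ((mem_x1 S).2 ⟨a, rfl⟩) _ ((mem_x5 S).2 ⟨b, rfl⟩)
    obtain ⟨A, rfl⟩ := (mem_x2 S).1 hx
    obtain ⟨B, rfl⟩ := (mem_x3 S).1 hy
    obtain ⟨C, rfl⟩ := (mem_x4 S).1 hz
    exact ⟨A, B, C, by rw [← h]; group⟩
  i16 a u := by
    obtain ⟨x, hx, y, hy, z, hz, w, hw, h⟩ := R.i05 _ ((mem_x1 S).2 ⟨a, rfl⟩) _ ((mem_x6 S).2 ⟨u, rfl⟩)
    obtain ⟨A, rfl⟩ := (mem_x2 S).1 hx
    obtain ⟨B, rfl⟩ := (mem_x3 S).1 hy
    obtain ⟨C, rfl⟩ := (mem_x4 S).1 hz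
    obtain ⟨E, rfl⟩ := (mem_x5 S).1 hw
    exact ⟨A, B, C, E, by rw [← h]; group⟩
  uniq a b c d e f h := by
    obtain ⟨h1, h2, h3, h4, h5, h6⟩ := R.uniq _ ((mem_x2 S).2 ⟨b, rfl⟩) _ ((mem_x3 S).2 ⟨c, rfl⟩) _
      ((mem_x4 S).2 ⟨d, rfl⟩) _ ((mem_x5 S).2 ⟨e, rfl⟩) _ ((mem_x6 S).2 ⟨f, rfl⟩) _ ((mem_x1 S).2 ⟨a, rfl⟩) h
    refine ⟨x1_inj S ?_, x2_inj S ?_, x3_inj S ?_, x4_inj S ?_, x5_inj S ?_, x6_inj S ?_⟩
    · rw [h6, (pre S).x1_zero]
    · rw [h1, (pre S).x2_zero]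
    · rw [h2, (pre S).x3_zero]
    · rw [h3, (pre S).x4_zero]
    · rw [h4, (pre S).x5_zero]
    · rw [h5, (pre S).x6_zero]

end frame

end Cfsg.Agent.GTwoOdd.HexFrame
end

-- part: GTwoOdd/HexFull
section
/-!
# From the full group `R₃` to the relations
-/

set_option autoImplicit false

namespace Cfsg.Agent.GTwoOdd.HexFull

open Matrix
open Cfsg.Agent.GTwoOdd.Hex
open Cfsg.Agent.GTwoOdd.LocalSL
open Cfsg.Agent.GTwoOdd.HexFrame
open Cfsg.Agent.TitsThree.RankTwoIdx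

section five

variable {G : Type*} [Group G]

/-- five root groups whose product is `R`, with central middle -/
structure Five (A B C D E R : Subgroup G) : Prop where
  cent : ∀ x ∈ R, ∀ y ∈ C, x * y = y * x
  norm : ∀ c, (∀ y ∈ C, c * y = y * c) → ∀ x ∈ R, c * x * c⁻¹ ∈ R
  abel : ∀ x ∈ R, ∀ y ∈ R, x * y * x⁻¹ * y⁻¹ ∈ C
  hA : A ≤ R
  hB : B ≤ R
  hC : C ≤ R
  hD : D ≤ R
  hE : E ≤ R
  le : R ≤ A ⊔ B ⊔ C ⊔ D ⊔ E

variable {A B C D E R : Subgroup G}

theorem mem_conj {w : G} {H : Subgroup G} {x : G} : x ∈ cjS w H ↔ ∃ y ∈ H, w * y * w⁻¹ = x := mem_cj rfl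

theorem Five.map (h : Five A B C D E R) (w : G) :
    Five (cjS w A) (cjS w B) (cjS w C) (cjS w D) (cjS w E) (cjS w R) where
  cent x' hx' y' hy' := by
    obtain ⟨x, hx, rfl⟩ := mem_conj.1 hx'
    obtain ⟨y, hy, rfl⟩ := mem_conj.1 hy'
    calc w * x * w⁻¹ * (w * y * w⁻¹) = w * (x * y) * w⁻¹ := by group
      _ = w * (y * x) * w⁻¹ := by rw [h.cent x hx y hy]
      _ = _ := by group
  norm c hc x' hx' := by
    obtain ⟨x, hx, rfl⟩ := mem_conj.1 hx'
    have h1 : ∀ y ∈ C, w⁻¹ * c * w * y = y * (w⁻¹ * c * w) := by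
      intro y hy
      have h2 := hc _ (mem_conj.2 ⟨y, hy, rfl⟩)
      calc w⁻¹ * c * w * y = w⁻¹ * (c * (w * y * w⁻¹)) * w := by group
        _ = w⁻¹ * (w * y * w⁻¹ * c) * w := by rw [h2]
        _ = _ := by group
    refine mem_conj.2 ⟨_, h.norm _ h1 x hx, ?_⟩
    group
  abel x' hx' y' hy' := by
    obtain ⟨x, hx, rfl⟩ := mem_conj.1 hx'
    obtain ⟨y, hy, rfl⟩ := mem_conj.1 hy'
    refine mem_conj.2 ⟨_, h.abel x hx y hy, ?_⟩
    group
  hA := cjS_mono h.hA
  hB := cjS_mono h.hB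
  hC := cjS_mono h.hC
  hD := cjS_mono h.hD
  hE := cjS_mono h.hE
  le := by
    refine (cjS_mono h.le).trans ?_
    simp only [cjS, Subgroup.map_sup]
    exact le_rfl

theorem Five.sup_decomp (h : Five A B C D E R) {N X : Subgroup G} (hN : N ≤ R) (hC : C ≤ N) (hX : X ≤ R) {u : G}
    (hu : u ∈ N ⊔ X) : ∃ v ∈ N, ∃ x ∈ X, u = v * x := by
  refine R2.decomp_aux (fun x hx v hv => ?_) hu
  have h1 := hC (h.abel x (hX hx) v (hN hv))
  have : x * v * x⁻¹ = x * v * x⁻¹ * v⁻¹ * v := by group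
  rw [this]
  exact mul_mem h1 hv

theorem Five.prod (h : Five A B C D E R) {r : G} (hr : r ∈ R) :
    ∃ a ∈ A, ∃ b ∈ B, ∃ c ∈ C, ∃ d ∈ D, ∃ e ∈ E, r = a * b * c * d * e := by
  have h1 : A ⊔ B ⊔ C ⊔ D ⊔ E = C ⊔ A ⊔ B ⊔ D ⊔ E := by
    congr 2
    rw [sup_comm (A ⊔ B) C, sup_assoc]
  have h2 := h.le hr
  rw [h1] at h2
  obtain ⟨v1, hv1, e, he, rfl⟩ := h.sup_decomp (sup_le (sup_le (sup_le h.hC h.hA) h.hB) h.hD)
    (le_sup_left.trans (le_sup_left.trans le_sup_left)) h.hE h2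
  obtain ⟨v2, hv2, d, hd, rfl⟩ := h.sup_decomp (sup_le (sup_le h.hC h.hA) h.hB)
    (le_sup_left.trans le_sup_left) h.hD hv1
  obtain ⟨v3, hv3, b, hb, rfl⟩ := h.sup_decomp (sup_le h.hC h.hA) le_sup_left h.hB hv2
  obtain ⟨c, hc, a, ha, rfl⟩ := h.sup_decomp h.hC le_rfl h.hA hv3
  refine ⟨a, ha, b, hb, c, hc, d, hd, e, he, ?_⟩
  have h3 := h.cent _ (mul_mem (h.hA ha) (h.hB hb)) c hc
  have h4 : c * a * b = a * b * c := by rw [h3]; group
  rw [h4]

/-- calculus modulo `C` -/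
def Q (C : Subgroup G) (x y : G) : Prop := x * y⁻¹ ∈ C

theorem Five.Q_mul (h : Five A B C D E R) {x y x' y' : G} (hy : y ∈ R) (h1 : Q C x y)
    (h2 : Q C x' y') : Q C (x * x') (y * y') := by
  unfold Q at *
  have e : x * x' * (y * y')⁻¹ = x * (x' * y'⁻¹) * y⁻¹ := by group
  have h3 := h.cent y hy _ h2
  have h4 : y * (x' * y'⁻¹) * y⁻¹ = x' * y'⁻¹ := by rw [h3]; group
  have e2 : x * (x' * y'⁻¹) * y⁻¹ = (x * y⁻¹) * (y * (x' * y'⁻¹) * y⁻¹) := by group
  rw [e, e2, h4]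
  exact mul_mem h1 h2

theorem Q_refl (C : Subgroup G) (x : G) : Q C x x := by unfold Q; rw [mul_inv_cancel]; exact one_mem _

theorem Q_symm {x y : G} (h : Q C x y) : Q C y x := by
  unfold Q at *
  have := inv_mem h
  rwa [_root_.mul_inv_rev, inv_inv] at this

theorem Q_trans {x y z : G} (h : Q C x y) (h' : Q C y z) : Q C x z := by
  unfold Q at *
  have := mul_mem h h'
  have e : x * y⁻¹ * (y * z⁻¹) = x * z⁻¹ := by group
  rwa [e] at this

theorem Five.Q_comm (h : Five A B C D E R) {x y : G} (hx : x ∈ R) (hy : y ∈ R) : Q C (x * y) (y * x) := by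
  unfold Q
  have := h.abel x hx y hy
  have e : x * y * (y * x)⁻¹ = x * y * x⁻¹ * y⁻¹ := by group
  rwa [e]

end five

section frame

variable {G : Type*} [Group G] {t : G} {F1 F2 : Type*} [Field F1] [Field F2]
variable [Finite F1] [Finite F2] {L : LocalSL t F1 F2} {s g : G}

theorem base_sq (S : L.Split s g) (i : ℕ) {x : G} (hx : x ∈ L.baseX i) (h : x * x = 1) : x = 1 := by
  have h4 : i % 4 < 4 := Nat.mod_lt _ (by norm_num)
  interval_cases hi : i % 4
  · rw [L.baseX_0 hi] at hx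
    obtain ⟨_, ⟨a, rfl⟩, rfl⟩ := hx
    rw [← map_mul, up_mul, ← map_one L.e2, ← up_zero] at h
    have h1 := up_inj (L.inj2 h)
    have h2 : a = 0 := by
      have : 2 * a = 0 := by linear_combination h1
      exact (mul_eq_zero.1 this).resolve_left S.toFrame.two2
    rw [h2, up_zero, map_one]
  · rw [L.baseX_1 hi] at hx
    obtain ⟨_, ⟨a, rfl⟩, rfl⟩ := hx
    rw [← map_mul, lo_mul, ← map_one L.e1, ← lo_zero] at h
    have h1 := congrArg (fun z : SL2 F1 => (z : M2 F1) 1 0) (L.inj1 h)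
    simp only [lo_coe] at h1
    have h2 : a = 0 := by
      have h1' : a + a = 0 := by simpa only [_root_.Fin.isValue, _root_.Matrix.of_apply, _root_.Matrix.cons_val', _root_.Matrix.cons_val_zero, _root_.Matrix.cons_val_fin_one, _root_.Matrix.cons_val_one] using h1
      have : 2 * a = 0 := by linear_combination h1'
      exact (mul_eq_zero.1 this).resolve_left S.toFrame.two1
    rw [h2, lo_zero, map_one]
  · rw [L.baseX_2 hi] at hx
    obtain ⟨_, ⟨a, rfl⟩, rfl⟩ := hx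
    rw [← map_mul, lo_mul, ← map_one L.e2, ← lo_zero] at h
    have h1 := congrArg (fun z : SL2 F2 => (z : M2 F2) 1 0) (L.inj2 h)
    simp only [lo_coe] at h1
    have h2 : a = 0 := by
      have h1' : a + a = 0 := by simpa only [_root_.Fin.isValue, _root_.Matrix.of_apply, _root_.Matrix.cons_val', _root_.Matrix.cons_val_zero, _root_.Matrix.cons_val_fin_one, _root_.Matrix.cons_val_one] using h1
      have : 2 * a = 0 := by linear_combination h1'
      exact (mul_eq_zero.1 this).resolve_left S.toFrame.two2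
    rw [h2, lo_zero, map_one]
  · rw [L.baseX_3 hi] at hx
    obtain ⟨_, ⟨a, rfl⟩, rfl⟩ := hx
    rw [← map_mul, up_mul, ← map_one L.e1, ← up_zero] at h
    have h1 := up_inj (L.inj1 h)
    have h2 : a = 0 := by
      have : 2 * a = 0 := by linear_combination h1
      exact (mul_eq_zero.1 this).resolve_left S.toFrame.two1
    rw [h2, up_zero, map_one]

theorem XN_sq (S : L.Split s g) {m : ℕ} {x : G} (hx : x ∈ L.XN g m) (h : x * x = 1) : x = 1 := by
  unfold XN at hx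
  rw [mem_cjS] at hx
  have h1 := base_sq S m hx (by
    calc (rho L (wn F1) g ^ m)⁻¹ * x * rho L (wn F1) g ^ m * ((rho L (wn F1) g ^ m)⁻¹ * x * rho L (wn F1) g ^ m)
        = (rho L (wn F1) g ^ m)⁻¹ * (x * x) * rho L (wn F1) g ^ m := by group
      _ = 1 := by rw [h]; group)
  calc x = rho L (wn F1) g ^ m * ((rho L (wn F1) g ^ m)⁻¹ * x * rho L (wn F1) g ^ m) * (rho L (wn F1) g ^ m)⁻¹ := by
        group
    _ = 1 := by rw [h1]; group

/-- `X m ∩ X k = 1` for `m ≡ k mod 3`, `m ≢ k mod 2` -/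
theorem XN_inf (S : L.Split s g) {m k : ℕ} (h1 : m % 3 = k % 3) (h2 : m % 2 ≠ k % 2) {x : G} (hx : x ∈ L.XN g m)
    (hy : x ∈ L.XN g k) : x = 1 := by
  have hk : L.XN g k = cjS (rho L (wn F1) g ^ m) (L.baseX k) := by
    unfold XN
    exact EqT.cjS_eq (T := TT L) (S.rho_mod h1.symm) (S.nT_rho.pow m) (fun c hc => S.cjS_base hc k)
  rw [hk, mem_cjS] at hy
  unfold XN at hx
  rw [mem_cjS] at hx
  set z := (rho L (wn F1) g ^ m)⁻¹ * x * rho L (wn F1) g ^ m with hz
  have key : ∀ (j : ℕ) {z : G}, z ∈ L.baseX j → (j % 2 = 0 → ∃ w, z = L.e2 w) ∧ (j % 2 = 1 → ∃ w, z = L.e1 w) := by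
    intro k z hz
    have h4 : k % 4 < 4 := Nat.mod_lt _ (by norm_num)
    interval_cases hk : k % 4
    · rw [L.baseX_0 hk] at hz
      obtain ⟨w, -, rfl⟩ := hz
      exact ⟨fun _ => ⟨w, rfl⟩, fun h => by omega⟩
    · rw [L.baseX_1 hk] at hz
      obtain ⟨w, -, rfl⟩ := hz
      exact ⟨fun h => by omega, fun _ => ⟨w, rfl⟩⟩
    · rw [L.baseX_2 hk] at hz
      obtain ⟨w, -, rfl⟩ := hz
      exact ⟨fun _ => ⟨w, rfl⟩, fun h => by omega⟩
    · rw [L.baseX_3 hk] at hz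
      obtain ⟨w, -, rfl⟩ := hz
      exact ⟨fun h => by omega, fun _ => ⟨w, rfl⟩⟩
  have hz1 : z * z = 1 := by
    have h3 : ∃ (u : SL2 F1) (v : SL2 F2), z = L.e1 u ∧ z = L.e2 v := by
      rcases Nat.mod_two_eq_zero_or_one m with h | h
      · obtain ⟨v, hv⟩ := (key m hx).1 h
        obtain ⟨u, hu⟩ := (key k hy).2 (by (clear * - h2 h; omega))
        exact ⟨u, v, hu, hv⟩
      · obtain ⟨u, hu⟩ := (key m hx).2 h
        obtain ⟨v, hv⟩ := (key k hy).1 (by (clear * - h2 h; omega))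
        exact ⟨u, v, hu, hv⟩
    obtain ⟨u, v, hu, hv⟩ := h3
    rcases e1_eq_e2 (L := L) (hu.symm.trans hv) with ⟨h5, -⟩ | ⟨h5, -⟩
    · rw [hu, h5, map_one, mul_one]
    · rw [hu, h5, L.neg1, L.t_sq]
  have h6 := base_sq S m hx hz1
  calc x = rho L (wn F1) g ^ m * z * (rho L (wn F1) g ^ m)⁻¹ := by rw [hz]; group
    _ = 1 := by rw [h6]; group

/-- the full case -/
abbrev Full (L : LocalSL t F1 F2) (g : G) (R : Subgroup G) : Prop :=
  Five (L.XN g 1) (L.XN g 2) (L.XN g 3) (L.XN g 4) (L.XN g 5) R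

variable {R : Subgroup G}

/-- an element of `X m` which is centralised by `t_k` and inverted by it -/
theorem eq_one_of (S : L.Split s g) {m k : ℕ} (h : k % 3 ≠ m % 3) {x : G} (hx : x ∈ L.XN g m)
    (h1 : tN t L g k * x = x * tN t L g k) : x = 1 := by
  apply XN_sq S hx
  have h2 := S.tN_inv h hx
  rw [h1] at h2
  have h3 : x = x⁻¹ := by
    calc x = x * tN t L g k * (tN t L g k)⁻¹ := by group
      _ = x⁻¹ := h2
  calc x * x = x * x⁻¹ := by rw [← h3]
    _ = 1 := by group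

/-- the product with the image under an automorphism modulo `C` -/
theorem tqq {A B C D E R : Subgroup G} (hR : Five A B C D E R) {T : G} {a b c d e : G} (ha : a ∈ A) (hb : b ∈ B)
    (hc : c ∈ C) (hd : d ∈ D) (he : e ∈ E) {a' b' d' e' : G} (ha' : a' ∈ A)
    (hb' : b' ∈ B) (hd' : d' ∈ D) (he' : e' ∈ E)
    (hta : T * a * T⁻¹ = a') (htb : T * b * T⁻¹ = b') (hc' : T * c * T⁻¹ ∈ C)
    (htd : T * d * T⁻¹ = d') (hte : T * e * T⁻¹ = e') :
    Q C (a * b * c * d * e * (T * (a * b * c * d * e) * T⁻¹))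
      (a * a' * (b * b') * (d * d') * (e * e')) := by
  have e1 : T * (a * b * c * d * e) * T⁻¹ = a' * b' * (T * c * T⁻¹) * d' * e' := by
    rw [← hta, ← htb, ← htd, ← hte]; group
  rw [e1]
  have mA := hR.hA ha
  have mB := hR.hB hb
  have mC := hR.hC hc
  have mD := hR.hD hd
  have mE := hR.hE he
  have mA' := hR.hA ha'
  have mB' := hR.hB hb'
  have mC' := hR.hC hc'
  have mD' := hR.hD hd'
  have mE' := hR.hE he'
  have q1 : Q C c 1 := by unfold Q; simpa using hc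
  have q2 : Q C (T * c * T⁻¹) 1 := by unfold Q; simpa using hc'
  -- remove `c`
  have s1 : Q C (a * b * c * d * e * (a' * b' * (T * c * T⁻¹) * d' * e'))
      (a * b * 1 * d * e * (a' * b' * 1 * d' * e')) := by
    apply hR.Q_mul (mul_mem (mul_mem (mul_mem (mul_mem mA mB) (one_mem _)) mD) mE)
    · exact hR.Q_mul (mul_mem (mul_mem (mul_mem mA mB) (one_mem _)) mD) (hR.Q_mul (mul_mem (mul_mem mA mB) (one_mem _))
        (hR.Q_mul (mul_mem mA mB) (Q_refl _ _) q1) (Q_refl _ _)) (Q_refl _ _)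
    · exact hR.Q_mul (mul_mem (mul_mem (mul_mem mA' mB') (one_mem _)) mD') (hR.Q_mul (mul_mem (mul_mem mA' mB')
        (one_mem _)) (hR.Q_mul (mul_mem mA' mB') (Q_refl _ _) q2) (Q_refl _ _)) (Q_refl _ _)
  refine Q_trans s1 ?_
  -- move `a'`
  have s2 : Q C (a * b * 1 * d * e * (a' * b' * 1 * d' * e')) (a * (a' * (b * d * e)) * (b' * d' * e')) := by
    have : a * b * 1 * d * e * (a' * b' * 1 * d' * e') = a * ((b * d * e) * a') * (b' * d' * e') := by group
    rw [this]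
    exact hR.Q_mul (mul_mem mA (mul_mem mA' (mul_mem (mul_mem mB mD) mE)))
      (hR.Q_mul mA (Q_refl _ _) (hR.Q_comm (mul_mem (mul_mem mB mD) mE) mA')) (Q_refl _ _)
  refine Q_trans s2 ?_
  have s3 : Q C (a * (a' * (b * d * e)) * (b' * d' * e')) (a * a' * b * (b' * (d * e)) * (d' * e')) := by
    have : a * (a' * (b * d * e)) * (b' * d' * e') = a * a' * b * ((d * e) * b') * (d' * e') := by group
    rw [this]
    exact hR.Q_mul (mul_mem (mul_mem (mul_mem mA mA') mB) (mul_mem mB' (mul_mem mD mE)))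
      (hR.Q_mul (mul_mem (mul_mem mA mA') mB) (Q_refl _ _) (hR.Q_comm (mul_mem mD mE) mB')) (Q_refl _ _)
  refine Q_trans s3 ?_
  have s4 : Q C (a * a' * b * (b' * (d * e)) * (d' * e')) (a * a' * (b * b') * d * (d' * e) * e') := by
    have : a * a' * b * (b' * (d * e)) * (d' * e') = a * a' * (b * b') * d * (e * d') * e' := by group
    rw [this]
    exact hR.Q_mul (mul_mem (mul_mem (mul_mem (mul_mem mA mA') (mul_mem mB mB')) mD) (mul_mem mD' mE))
      (hR.Q_mul (mul_mem (mul_mem (mul_mem mA mA') (mul_mem mB mB')) mD) (Q_refl _ _) (hR.Q_comm mE mD')) (Q_refl _ _)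
  refine Q_trans s4 ?_
  have : a * a' * (b * b') * d * (d' * e) * e' = a * a' * (b * b') * (d * d') * (e * e') := by group
  rw [this]
  exact Q_refl _ _

theorem tN_mem (S : L.Split s g) (k m : ℕ) {x : G} (hx : x ∈ L.XN g m) : tN t L g k * x * (tN t L g k)⁻¹ ∈ L.XN g m := by
  by_cases h : k % 3 = m % 3
  · rw [S.tN_cent h hx]
    simpa using hx
  · rw [S.tN_inv h hx]
    exact inv_mem hx

/-- the square modulo `X 3` under `t_k` -/
theorem tq (S : L.Split s g) (hR : Full L g R) {k : ℕ} {a b c d e : G} (ha : a ∈ L.XN g 1) (hb : b ∈ L.XN g 2)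
    (hc : c ∈ L.XN g 3) (hd : d ∈ L.XN g 4) (he : e ∈ L.XN g 5) {a' b' d' e' : G} (ha' : a' ∈ L.XN g 1)
    (hb' : b' ∈ L.XN g 2) (hd' : d' ∈ L.XN g 4) (he' : e' ∈ L.XN g 5)
    (hta : tN t L g k * a * (tN t L g k)⁻¹ = a') (htb : tN t L g k * b * (tN t L g k)⁻¹ = b')
    (htd : tN t L g k * d * (tN t L g k)⁻¹ = d') (hte : tN t L g k * e * (tN t L g k)⁻¹ = e') :
    Q (L.XN g 3) (a * b * c * d * e * (tN t L g k * (a * b * c * d * e) * (tN t L g k)⁻¹))
      (a * a' * (b * b') * (d * d') * (e * e')) :=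
  tqq hR ha hb hc hd he ha' hb' hd' he' hta htb (tN_mem S k 3 hc) htd hte

/-- uniqueness in `R` -/
theorem Full.uniq (S : L.Split s g) (hR : Full L g R) {a b c d e : G} (ha : a ∈ L.XN g 1) (hb : b ∈ L.XN g 2)
    (hc : c ∈ L.XN g 3) (hd : d ∈ L.XN g 4) (he : e ∈ L.XN g 5) (h : a * b * c * d * e ∈ L.XN g 3) :
    a = 1 ∧ b = 1 ∧ d = 1 ∧ e = 1 := by
  have key : ∀ k, Q (L.XN g 3) (a * b * c * d * e * (tN t L g k * (a * b * c * d * e) * (tN t L g k)⁻¹)) 1 := by
    intro k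
    unfold Q
    rw [inv_one, mul_one]
    apply mul_mem h
    by_cases hk : k % 3 = 3 % 3
    · rw [S.tN_cent hk h]
      simpa using h
    · rw [S.tN_inv hk h]
      exact inv_mem h
  have fix : ∀ {k m} {x : G}, k % 3 = m % 3 → x ∈ L.XN g m → tN t L g k * x * (tN t L g k)⁻¹ = x := by
    intro k m x hk hx
    rw [S.tN_cent hk hx]; group
  -- `t₁`
  have h1 := tq S hR (k := 1) ha hb hc hd he ha (inv_mem hb) hd (inv_mem he) (fix (by norm_num) ha)
    (S.tN_inv (by norm_num) hb) (fix (by norm_num) hd) (S.tN_inv (by norm_num) he)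
  have h2 := Q_trans (Q_symm h1) (key 1)
  have h3 : a * a * (d * d) ∈ L.XN g 3 := by
    have e1 : a * a * (b * b⁻¹) * (d * d) * (e * e⁻¹) = a * a * (d * d) := by group
    rw [e1] at h2
    unfold Q at h2
    simpa using h2
  have h4 : a * a * (d * d) = 1 := by
    apply eq_one_of S (k := 1) (m := 3) (by norm_num) h3
    have e1 := S.tN_cent (m := 1) (k := 1) (by norm_num) (mul_mem ha ha)
    have e2 := S.tN_cent (m := 4) (k := 1) (by norm_num) (mul_mem hd hd)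
    rw [← mul_assoc, e1, mul_assoc, e2]
    group
  have h5 : a * a = 1 := by
    apply XN_inf S (m := 1) (k := 4) (by norm_num) (by norm_num) (mul_mem ha ha)
    have : a * a = (d * d)⁻¹ := eq_inv_of_mul_eq_one_left h4
    rw [this]
    exact inv_mem (mul_mem hd hd)
  have h6 : d * d = 1 := by
    rw [h5, one_mul] at h4
    exact h4
  -- `t₂`
  have k1 := tq S hR (k := 2) ha hb hc hd he (inv_mem ha) hb (inv_mem hd) he
    (S.tN_inv (by norm_num) ha) (fix (by norm_num) hb) (S.tN_inv (by norm_num) hd) (fix (by norm_num) he)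
  have k2 := Q_trans (Q_symm k1) (key 2)
  have k3 : b * b * (e * e) ∈ L.XN g 3 := by
    have e1 : a * a⁻¹ * (b * b) * (d * d⁻¹) * (e * e) = b * b * (e * e) := by group
    rw [e1] at k2
    unfold Q at k2
    simpa using k2
  have k4 : b * b * (e * e) = 1 := by
    apply eq_one_of S (k := 2) (m := 3) (by norm_num) k3
    have e1 := S.tN_cent (m := 2) (k := 2) (by norm_num) (mul_mem hb hb)
    have e2 := S.tN_cent (m := 5) (k := 2) (by norm_num) (mul_mem he he)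
    rw [← mul_assoc, e1, mul_assoc, e2]
    group
  have k5 : b * b = 1 := by
    apply XN_inf S (m := 2) (k := 5) (by norm_num) (by norm_num) (mul_mem hb hb)
    have : b * b = (e * e)⁻¹ := eq_inv_of_mul_eq_one_left k4
    rw [this]
    exact inv_mem (mul_mem he he)
  have k6 : e * e = 1 := by
    rw [k5, one_mul] at k4
    exact k4
  exact ⟨XN_sq S ha h5, XN_sq S hb k5, XN_sq S hd h6, XN_sq S he k6⟩

/-- `R ∩ X 0 = 1` -/
theorem Full.inf_zero (S : L.Split s g) (hR : Full L g R) {f : G} (hf : f ∈ L.XN g 0) (h : f ∈ R) : f = 1 := by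
  obtain ⟨a, ha, b, hb, c, hc, d, hd, e, he, h1⟩ := hR.prod h
  have fix : ∀ {k m} {x : G}, k % 3 = m % 3 → x ∈ L.XN g m → tN t L g k * x * (tN t L g k)⁻¹ = x := by
    intro k m x hk hx
    rw [S.tN_cent hk hx]; group
  have h2 := tq S hR (k := 0) ha hb hc hd he (inv_mem ha) (inv_mem hb) (inv_mem hd) (inv_mem he)
    (S.tN_inv (by norm_num) ha) (S.tN_inv (by norm_num) hb) (S.tN_inv (by norm_num) hd) (S.tN_inv (by norm_num) he)
  rw [← h1, fix (m := 0) rfl hf] at h2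
  have h3 : f * f ∈ L.XN g 3 := by
    have e1 : a * a⁻¹ * (b * b⁻¹) * (d * d⁻¹) * (e * e⁻¹) = 1 := by group
    rw [e1] at h2
    unfold Q at h2
    simpa using h2
  exact XN_sq S hf (XN_inf S (m := 0) (k := 3) (by norm_num) (by norm_num) (mul_mem hf hf) h3)

/-- `X 5` does not commute with `X 1` -/
theorem not_comm51 (S : L.Split s g) (hR : Full L g R) {e : G} (he : e ∈ L.XN g 5)
    (h : ∀ x ∈ L.XN g 1, e * x = x * e) : e = 1 := by
  by_contra h1
  -- all of `X 5` commutes with `X 1`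
  have h2 : ∀ e' ∈ L.XN g 5, ∀ x ∈ L.XN g 1, e' * x = x * e' := by
    intro e' he' x hx
    by_cases h3 : e' = 1
    · rw [h3]; simp
    obtain ⟨c, hc, h4⟩ := S.tor_trans_XN 5 he he' h1 h3
    have h5 : c⁻¹ * x * c ∈ L.XN g 1 := by
      rw [← mem_cjS, S.cjS_XN hc]
      exact hx
    have h6 := h _ h5
    rw [← h4]
    calc c * e * c⁻¹ * x = c * (e * (c⁻¹ * x * c)) * c⁻¹ := by group
      _ = c * ((c⁻¹ * x * c) * e) * c⁻¹ := by rw [h6]
      _ = x * (c * e * c⁻¹) := by group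
  -- conjugate with `nJ`: `X 11` commutes with `X 3`
  have h3 : ∀ y ∈ L.XN g 11, ∀ x ∈ L.XN g 3, y * x = x * y := by
    intro y hy x hx
    obtain ⟨y', hy', rfl⟩ := (mem_cj (nJ_XN S (m := 5) (k := 11) (by norm_num))).1 hy
    obtain ⟨x', hx', rfl⟩ := (mem_cj (nJ_XN S (m := 1) (k := 3) (by norm_num))).1 hx
    calc (pre S).nJ * y' * ((pre S).nJ)⁻¹ * ((pre S).nJ * x' * ((pre S).nJ)⁻¹)
        = (pre S).nJ * (y' * x') * ((pre S).nJ)⁻¹ := by group
      _ = (pre S).nJ * (x' * y') * ((pre S).nJ)⁻¹ := by rw [h2 y' hy' x' hx']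
      _ = _ := by group
  -- `nJ` commutes with `X 3`
  have h4 : ∀ x ∈ L.XN g 3, (pre S).nJ * x = x * (pre S).nJ := by
    intro x hx
    have e1 : (pre S).nJ = (pre S).x6 1 * (pre S).y6 (-1) * (pre S).x6 1 := (pre S).J.n_eq
    have c1 := hR.cent _ (hR.hE ((mem_x6 S).2 ⟨1, rfl⟩)) x hx
    have c2 := h3 _ ((mem_y6 S).2 ⟨-1, rfl⟩) x hx
    have c1' : Commute ((pre S).x6 1) x := c1
    have c2' : Commute ((pre S).y6 (-1)) x := c2
    rw [e1]
    exact ((c1'.mul_left c2').mul_left c1').eq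
  -- hence `X 3 ≤ X 1`
  have h5 : ∀ x ∈ L.XN g 3, x = 1 := by
    intro x hx
    have h6 : x ∈ L.XN g 1 := by
      rw [mem_cj (nJ_XN S (m := 3) (k := 1) (by norm_num))]
      exact ⟨x, hx, by rw [h4 x hx]; group⟩
    apply XN_sq S hx
    have e1 := S.tN_cent (m := 1) (k := 1) rfl h6
    have e2 := S.tN_inv (m := 3) (k := 1) (by norm_num) hx
    rw [e1] at e2
    have e3 : x = x⁻¹ := by
      calc x = x * tN t L g 1 * (tN t L g 1)⁻¹ := by group
        _ = x⁻¹ := e2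
    calc x * x = x * x⁻¹ := by rw [← e3]
      _ = 1 := by group
  have h6 := h5 _ ((mem_x4 S).2 ⟨1, rfl⟩)
  rw [← (pre S).x4_zero] at h6
  exact one_ne_zero (x4_inj S h6)

/-- the group `R₁` -/
theorem Full.shift (S : L.Split s g) (hR : Full L g R) :
    Five (L.XN g 11) (L.XN g 0) (L.XN g 1) (L.XN g 2) (L.XN g 3) (cjS ((pre S).nJ * (pre S).nI) R) := by
  have h := Five.map hR ((pre S).nJ * (pre S).nI)
  rw [cjS_mul _ _ (L.XN g 1), cjS_mul _ _ (L.XN g 2), cjS_mul _ _ (L.XN g 3), cjS_mul _ _ (L.XN g 4),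
    cjS_mul _ _ (L.XN g 5), nI_XN S (m := 1) (k := 5) (by norm_num), nI_XN S (m := 2) (k := 4) (by norm_num),
    nI_XN S (m := 3) (k := 3) (by norm_num), nI_XN S (m := 4) (k := 2) (by norm_num),
    nI_XN S (m := 5) (k := 1) (by norm_num), nJ_XN S (m := 5) (k := 11) (by norm_num),
    nJ_XN S (m := 4) (k := 0) (by norm_num), nJ_XN S (m := 3) (k := 1) (by norm_num),
    nJ_XN S (m := 2) (k := 2) (by norm_num), nJ_XN S (m := 1) (k := 3) (by norm_num)] at h
  exact h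

/-- `[X 0, X 4] ≤ X 1 X 2 X 3` -/
theorem i04 (S : L.Split s g) (hR : Full L g R) {x y : G} (hx : x ∈ L.XN g 0) (hy : y ∈ L.XN g 4) :
    ∃ a ∈ L.XN g 1, ∃ b ∈ L.XN g 2, ∃ c ∈ L.XN g 3, x * y * x⁻¹ * y⁻¹ = a * b * c := by
  have hR' := Full.shift S hR
  set R' := cjS ((pre S).nJ * (pre S).nI) R
  set z := x * y * x⁻¹ * y⁻¹ with hz
  have z1 : z ∈ R := by
    have h1 := hR.norm x (fun v hv => S.XN_comm3 (m := 0) (k := 3) rfl (by norm_num) hx hv) y (hR.hD hy)
    exact mul_mem h1 (inv_mem (hR.hD hy))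
  have z2 : z ∈ R' := by
    have h1 := hR'.norm y (fun v hv => S.XN_comm3 (m := 4) (k := 1) rfl (by norm_num) hy hv) x⁻¹
      (inv_mem (hR'.hB hx))
    have e : z = x * (y * x⁻¹ * y⁻¹) := by rw [hz]; group
    rw [e]
    exact mul_mem (hR'.hB hx) h1
  obtain ⟨a, ha, b, hb, c, hc, d, hd, e, he, h1⟩ := hR.prod z1
  obtain ⟨p, hp, q, hq, r, hr, u, hu, v, hv, h2⟩ := hR'.prod z2
  have fix : ∀ {k m} {x : G}, k % 3 = m % 3 → x ∈ L.XN g m → tN t L g k * x * (tN t L g k)⁻¹ = x := by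
    intro k m x hk hx
    rw [S.tN_cent hk hx]; group
  -- `d = 1`
  have k1 := tq S hR (k := 1) ha hb hc hd he ha (inv_mem hb) hd (inv_mem he) (fix (by norm_num) ha)
    (S.tN_inv (by norm_num) hb) (fix (by norm_num) hd) (S.tN_inv (by norm_num) he)
  rw [← h1] at k1
  have k2 := tqq hR' (T := tN t L g 1) hp hq hr hu hv (inv_mem hp) (inv_mem hq) (inv_mem hu) (inv_mem hv)
    (S.tN_inv (by norm_num) hp) (S.tN_inv (by norm_num) hq) (tN_mem S 1 1 hr) (S.tN_inv (by norm_num) hu)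
    (S.tN_inv (by norm_num) hv)
  rw [← h2] at k2
  have k3 : z * (tN t L g 1 * z * (tN t L g 1)⁻¹) ∈ L.XN g 1 := by
    have e1 : p * p⁻¹ * (q * q⁻¹) * (u * u⁻¹) * (v * v⁻¹) = 1 := by group
    rw [e1] at k2
    unfold Q at k2
    simpa using k2
  have k4 : z * (tN t L g 1 * z * (tN t L g 1)⁻¹) * (a * a * (d * d))⁻¹ ∈ L.XN g 3 := by
    have e1 : a * a * (b * b⁻¹) * (d * d) * (e * e⁻¹) = a * a * (d * d) := by group
    rw [e1] at k1
    exact k1
  set w := z * (tN t L g 1 * z * (tN t L g 1)⁻¹) with hw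
  have k5 : d * d = 1 := by
    have h3 : (a * a)⁻¹ * w * 1 * 1 * (d * d)⁻¹ * 1 ∈ L.XN g 3 := by
      have e1 : (a * a)⁻¹ * w * 1 * 1 * (d * d)⁻¹ * 1 =
          (a * a)⁻¹ * (w * (a * a * (d * d))⁻¹) * (a * a) := by group
      have h4 := hR.cent _ (mul_mem (hR.hA ha) (hR.hA ha)) _ k4
      have e2 : (a * a)⁻¹ * (w * (a * a * (d * d))⁻¹) * (a * a) = w * (a * a * (d * d))⁻¹ := by
        rw [mul_assoc, ← h4]; group
      rw [e1, e2]
      exact k4
    have h5 := (Full.uniq S hR (mul_mem (inv_mem (mul_mem ha ha)) k3) (one_mem _) (one_mem _)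
      (inv_mem (mul_mem hd hd)) (one_mem _) h3).2.2.1
    exact inv_eq_one.1 h5
  have k6 : d = 1 := XN_sq S hd k5
  -- `e = 1`
  have k7 : e = 1 := by
    apply not_comm51 S hR he
    intro x0 hx0
    have c1 : Commute z x0 := hR'.cent z z2 x0 hx0
    have c2 : Commute a x0 := hR'.cent a (hR'.hC ha) x0 hx0
    have c3 : Commute b x0 := hR'.cent b (hR'.hD hb) x0 hx0
    have c4 : Commute c x0 := hR'.cent c (hR'.hE hc) x0 hx0
    have e1 : e = (a * b * c)⁻¹ * z := by rw [h1, k6]; group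
    rw [e1]
    exact (((c2.mul_left c3).mul_left c4).inv_left.mul_left c1).eq
  refine ⟨a, ha, b, hb, c, hc, ?_⟩
  rw [h1, k6, k7]
  group

/-- the relations -/
theorem rels (S : L.Split s g) (hR : Full L g R) : Rels L g := by
  have hR' := Full.shift S hR
  set R' := cjS ((pre S).nJ * (pre S).nI) R
  have i04' := fun x (hx : x ∈ L.XN g 0) y (hy : y ∈ L.XN g 4) => i04 S hR hx hy
  refine ⟨fun x hx y hy => hR.cent x (hR.hA hx) y hy, fun x hx y hy => hR.cent x (hR.hB hx) y hy,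
    fun x hx y hy => hR'.abel x (hR'.hB hx) y (hR'.hD hy), fun x hx y hy => hR.abel x (hR.hE hx) y (hR.hA hy),
    i04', ?_, ?_⟩
  · -- `[X 0, X 5]`
    set N1 : Subgroup G := L.XN g 3 ⊔ L.XN g 1 ⊔ L.XN g 2 ⊔ L.XN g 4 with hN1
    have m3 : L.XN g 3 ≤ N1 := le_sup_left.trans (le_sup_left.trans le_sup_left)
    have m1 : L.XN g 1 ≤ N1 := le_sup_right.trans (le_sup_left.trans le_sup_left)
    have m2 : L.XN g 2 ≤ N1 := le_sup_right.trans le_sup_left
    have m4 : L.XN g 4 ≤ N1 := le_sup_right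
    have hNR : N1 ≤ R := sup_le (sup_le (sup_le hR.hC hR.hA) hR.hB) hR.hD
    have hmem : ∀ n ∈ N1, ∃ a ∈ L.XN g 1, ∃ b ∈ L.XN g 2, ∃ c ∈ L.XN g 3, ∃ d ∈ L.XN g 4, n = a * b * c * d := by
      intro n hn
      obtain ⟨v2, hv2, d, hd, rfl⟩ := hR.sup_decomp (sup_le (sup_le hR.hC hR.hA) hR.hB)
        (le_sup_left.trans le_sup_left) hR.hD hn
      obtain ⟨v3, hv3, b, hb, rfl⟩ := hR.sup_decomp (sup_le hR.hC hR.hA) le_sup_left hR.hB hv2
      obtain ⟨c, hc, a, ha, rfl⟩ := hR.sup_decomp hR.hC le_rfl hR.hA hv3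
      refine ⟨a, ha, b, hb, c, hc, d, hd, ?_⟩
      have h3 := hR.cent _ (mul_mem (hR.hA ha) (hR.hB hb)) c hc
      have h4 : c * a * b = a * b * c := by rw [h3]; group
      rw [h4]
    have hX0 : ∀ x ∈ L.XN g 0, ∀ n ∈ N1, x * n * x⁻¹ ∈ N1 := by
      intro x hx
      have h1 : N1 ≤ N1.comap (MulAut.conj x).toMonoidHom := by
        refine sup_le (sup_le (sup_le ?_ ?_) ?_) ?_
        · intro y hy
          change x * y * x⁻¹ ∈ N1
          rw [S.XN_comm3 (m := 0) (k := 3) rfl (by norm_num) hx hy]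
          simpa using m3 hy
        · intro y hy
          change x * y * x⁻¹ ∈ N1
          rw [hR'.cent x (hR'.hB hx) y hy]
          simpa using m1 hy
        · intro y hy
          change x * y * x⁻¹ ∈ N1
          have h2 := hR'.abel x (hR'.hB hx) y (hR'.hD hy)
          have : x * y * x⁻¹ = x * y * x⁻¹ * y⁻¹ * y := by group
          rw [this]
          exact mul_mem (m1 h2) (m2 hy)
        · intro y hy
          change x * y * x⁻¹ ∈ N1
          obtain ⟨a, ha, b, hb, c, hc, h2⟩ := i04' x hx y hy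
          have : x * y * x⁻¹ = x * y * x⁻¹ * y⁻¹ * y := by group
          rw [this, h2]
          exact mul_mem (mul_mem (mul_mem (m1 ha) (m2 hb)) (m3 hc)) (m4 hy)
      exact fun n hn => h1 hn
    have ht : ∀ n ∈ N1, tN t L g 2 * n * (tN t L g 2)⁻¹ ∈ N1 := by
      have h1 : N1 ≤ N1.comap (MulAut.conj (tN t L g 2)).toMonoidHom :=
        sup_le (sup_le (sup_le (fun y hy => m3 (tN_mem S 2 3 hy)) (fun y hy => m1 (tN_mem S 2 1 hy)))
          (fun y hy => m2 (tN_mem S 2 2 hy))) (fun y hy => m4 (tN_mem S 2 4 hy))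
      exact fun n hn => h1 hn
    intro x hx y hy
    obtain ⟨α, hα⟩ := (mem_x1 S).1 hx
    set w := (pre S).x1 (α / 2) with hw
    have hw0 : w ∈ L.XN g 0 := (mem_x1 S).2 ⟨_, rfl⟩
    have hxw : x = w * w := by
      rw [← hα, hw, ← (pre S).x1_add]
      congr 1
      have := S.toFrame.two2
      field_simp
      ring
    -- `w y w⁻¹`
    have h1 := hR.norm w (fun v hv => S.XN_comm3 (m := 0) (k := 3) rfl (by norm_num) hw0 hv) y (hR.hE hy)
    obtain ⟨a, ha, b, hb, c, hc, d, hd, e, he, h2⟩ := hR.prod h1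
    set n := a * b * c * d with hn
    have hn1 : n ∈ N1 := mul_mem (mul_mem (mul_mem (m1 ha) (m2 hb)) (m3 hc)) (m4 hd)
    set T := tN t L g 2 with hT
    have t1 : T * w * T⁻¹ = w⁻¹ := S.tN_inv (m := 0) (k := 2) (by norm_num) hw0
    have t2 : T * y * T⁻¹ = y := by rw [hT, S.tN_cent (m := 5) (k := 2) rfl hy]; group
    have t3 : T * e * T⁻¹ = e := by rw [hT, S.tN_cent (m := 5) (k := 2) rfl he]; group
    have h3 : w⁻¹ * y * w = (T * n * T⁻¹) * e := by
      have h4 : T * (w * y * w⁻¹) * T⁻¹ = w⁻¹ * y * w := by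
        calc T * (w * y * w⁻¹) * T⁻¹ = (T * w * T⁻¹) * (T * y * T⁻¹) * (T * w * T⁻¹)⁻¹ := by group
          _ = _ := by rw [t1, t2]; group
      rw [← h4, h2]
      calc T * (n * e) * T⁻¹ = (T * n * T⁻¹) * (T * e * T⁻¹) := by group
        _ = _ := by rw [t3]
    have h4 : w⁻¹ * y * w = (T * n * T⁻¹) * n⁻¹ * (w * y * w⁻¹) := by
      rw [h2, h3]; group
    have h5 : (T * n * T⁻¹) * n⁻¹ ∈ N1 := mul_mem (ht n hn1) (inv_mem hn1)
    have h6 := hX0 w hw0 _ h5
    have h7 : x * y * x⁻¹ * y⁻¹ = (w * ((T * n * T⁻¹) * n⁻¹) * w⁻¹)⁻¹ := by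
      have h8 : y = (w * ((T * n * T⁻¹) * n⁻¹) * w⁻¹) * (x * y * x⁻¹) := by
        calc y = w * (w⁻¹ * y * w) * w⁻¹ := by group
          _ = w * ((T * n * T⁻¹) * n⁻¹ * (w * y * w⁻¹)) * w⁻¹ := by rw [← h4]
          _ = _ := by rw [hxw]; group
      apply eq_inv_of_mul_eq_one_right
      calc w * (T * n * T⁻¹ * n⁻¹) * w⁻¹ * (x * y * x⁻¹ * y⁻¹)
          = ((w * ((T * n * T⁻¹) * n⁻¹) * w⁻¹) * (x * y * x⁻¹)) * y⁻¹ := by group
        _ = y * y⁻¹ := by rw [← h8]
        _ = 1 := by group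
    obtain ⟨a', ha', b', hb', c', hc', d', hd', h8⟩ := hmem _ (inv_mem h6)
    exact ⟨a', ha', b', hb', c', hc', d', hd', h7.trans h8⟩
  · intro a ha b hb c hc d hd e he f hf h
    have h1 : f ∈ R := by
      have : f = (a * b * c * d * e)⁻¹ := eq_inv_of_mul_eq_one_right h
      rw [this]
      exact inv_mem (mul_mem (mul_mem (mul_mem (mul_mem (hR.hA ha) (hR.hB hb)) (hR.hC hc)) (hR.hD hd)) (hR.hE he))
    have h2 := Full.inf_zero S hR hf h1
    rw [h2, mul_one] at h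
    obtain ⟨h3, h4, h5, h6⟩ := Full.uniq S hR ha hb hc hd he (by rw [h]; exact one_mem _)
    rw [h3, h4, h5, h6] at h
    refine ⟨h3, h4, ?_, h5, h6, h2⟩
    simpa using h

end frame

end Cfsg.Agent.GTwoOdd.HexFull
end

-- part: GTwoOdd/CompY
section
/-!
# Elements of `SL(2,F)` of odd order inverted by an involution of `PGL(2,F)` which commute with their
conjugates under the torus
-/

set_option autoImplicit false

namespace Cfsg.Agent.GTwoOdd

open Matrix

section comp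

variable {F : Type*} [Field F]

theorem neg_one_ne_one (h2 : (2 : F) ≠ 0) : (-1 : SL2 F) ≠ 1 := by
  intro h
  have := congrArg (fun z : SL2 F => (z : M2 F) 0 0) h
  simp at this
  apply h2
  linear_combination -this

/-- if `x y = ± y x` and `x` has odd order then `x y = y x` -/
theorem comm_of_neg (h2 : (2 : F) ≠ 0) {x y : SL2 F} {m : ℕ} (hm : Odd m) (hx : x ^ m = 1)
    (h : x * y = y * x ∨ x * y = -(y * x)) : x * y = y * x := by
  rcases h with h | h
  · exact h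
  · exfalso
    have h1 : ∀ k : ℕ, x ^ k * y = (-1) ^ k * (y * x ^ k) := by
      intro k
      induction k with
      | zero => simp
      | succ k ih =>
        rw [pow_succ', mul_assoc, ih, pow_succ' (-1 : SL2 F), ← mul_assoc x, ((Commute.neg_one_right x).pow_right k).eq]
        rw [mul_assoc, ← mul_assoc x, h]
        simp only [neg_mul, mul_neg, one_mul, mul_assoc]
    have h3 := h1 m
    rw [hx, hm.neg_one_pow, one_mul, mul_one, neg_one_mul] at h3
    have h4 : (-1 : SL2 F) = 1 := by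
      have : (-1 : SL2 F) * y = 1 * y := by rw [neg_one_mul, one_mul]; exact h3.symm
      exact mul_right_cancel this
    exact neg_one_ne_one h2 h4

theorem eq_of_neg_odd (h2 : (2 : F) ≠ 0) {x y : SL2 F} {m : ℕ} (hm : Odd m) (hx : x ^ m = 1) (hy : y ^ m = 1)
    (h : x = y ∨ x = -y) : x = y := by
  rcases h with h | h
  · exact h
  · exfalso
    have h3 : x ^ m = -(y ^ m) := by rw [h, neg_pow, hm.neg_one_pow, neg_one_mul]
    rw [hx, hy] at h3
    exact neg_one_ne_one h2 h3.symm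

/-- an element `x` with `x dg = dg x⁻¹` has equal diagonal entries -/
theorem diag_eq_of_inv {x : SL2 F} (h : (x : M2 F) * dg F = dg F * (x⁻¹ : SL2 F)) : (x : M2 F) 1 1 = (x : M2 F) 0 0 := by
  rw [sl_inv_coe, Matrix.adjugate_fin_two, m2_eq_iff] at h
  simp only [m2_mul_00, m2_mul_01, m2_mul_10, m2_mul_11] at h
  simp [dg] at h
  exact h.1.symm

/-- the split case -/
theorem comp_split [Finite F] (h2 : (2 : F) ≠ 0) {x : SL2 F} {m : ℕ} (hm : Odd m) (hx : x ^ m = 1)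
    (h : (x : M2 F) * dg F = dg F * (x⁻¹ : SL2 F))
    (hc : ∀ (A : M2 F) (y : SL2 F), A 0 1 = 0 → A 1 0 = 0 → A.det ≠ 0 → (y : M2 F) * A = A * x → x * y = y * x) :
    x ∈ upU F ∨ x ∈ loU F := by
  have hd := diag_eq_of_inv h
  have hdet := sl_coe_det x
  rw [Matrix.det_fin_two, hd] at hdet
  -- the off-diagonal entries
  have hbc : (x : M2 F) 0 1 * (x : M2 F) 1 0 = 0 := by
    by_cases hF : ∃ l : F, l ≠ 0 ∧ l * l ≠ 1
    · obtain ⟨l, hl0, hl1⟩ := hF
      have hdA : (!![l, 0; 0, 1] : M2 F).det ≠ 0 := by rw [Matrix.det_fin_two]; simpa using hl0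
      obtain ⟨y, hy⟩ := exists_cj hdA x
      have h3 := hc _ y (by simp) (by simp) hdA hy
      rw [m2_eq_iff] at hy
      simp only [m2_mul_00, m2_mul_01, m2_mul_10, m2_mul_11] at hy
      simp only [_root_.Fin.isValue, _root_.Matrix.of_apply, _root_.Matrix.cons_val', _root_.Matrix.cons_val_zero, _root_.Matrix.cons_val_fin_one, _root_.Matrix.cons_val_one, _root_.MulZeroClass.mul_zero, _root_.add_zero, _root_.MulZeroClass.zero_mul, _root_.mul_one, _root_.zero_add, _root_.one_mul] at hy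
      obtain ⟨y1, y2, y3, y4⟩ := hy
      have h4 := congrArg (fun z : SL2 F => (z : M2 F) 0 0) h3
      have h5 : (x : M2 F) 0 0 * (y : M2 F) 0 0 + (x : M2 F) 0 1 * (y : M2 F) 1 0 =
          (y : M2 F) 0 0 * (x : M2 F) 0 0 + (y : M2 F) 0 1 * (x : M2 F) 1 0 := by
        have : ((x : M2 F) * (y : M2 F)) 0 0 = ((y : M2 F) * (x : M2 F)) 0 0 := h4
        rwa [m2_mul_00, m2_mul_00] at this
      have h6 : (x : M2 F) 0 1 * (x : M2 F) 1 0 * (1 - l * l) = 0 := by
        linear_combination l * h5 - (x : M2 F) 0 1 * y3 + l * (x : M2 F) 1 0 * y2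
      rcases mul_eq_zero.1 h6 with h7 | h7
      · exact h7
      · exfalso; apply hl1; linear_combination -h7
    · push Not at hF
      -- `F` has three elements
      by_contra hbc
      have h3 : (3 : F) = 0 := by
        have := hF 2 h2
        linear_combination this
      have hb0 : (x : M2 F) 0 1 ≠ 0 := left_ne_zero_of_mul hbc
      have hc0 : (x : M2 F) 1 0 ≠ 0 := right_ne_zero_of_mul hbc
      have hb := hF _ hb0
      have hcc := hF _ hc0
      -- `bc = ± 1`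
      have hbc1 : ((x : M2 F) 0 1 * (x : M2 F) 1 0) * ((x : M2 F) 0 1 * (x : M2 F) 1 0) = 1 := by
        linear_combination ((x : M2 F) 1 0 * (x : M2 F) 1 0) * hb + hcc
      rcases mul_self_eq_one_iff.1 hbc1 with h4 | h4
      · by_cases ha : (x : M2 F) 0 0 = 0
        · rw [ha, h4] at hdet
          apply h2
          linear_combination -hdet
        · have := hF _ ha
          rw [h4, this] at hdet
          apply one_ne_zero (α := F)
          linear_combination -hdet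
      · rw [h4] at hdet
        have ha : (x : M2 F) 0 0 = 0 := by
          have : (x : M2 F) 0 0 * (x : M2 F) 0 0 = 0 := by linear_combination hdet
          simpa using this
        -- `x² = -1`
        have hxx : x * x = -1 := by
          apply Subtype.ext
          change (x : M2 F) * x = -1
          rw [m2_sq_of_trace (by rw [Matrix.trace_fin_two, hd, ha]; ring), sl_coe_det]
          simp
        have h5 : (x * x) ^ m = 1 := by rw [← pow_two, ← pow_mul, mul_comm, pow_mul, hx, one_pow]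
        rw [hxx, hm.neg_one_pow] at h5
        exact neg_one_ne_one h2 h5
  rw [hbc, sub_zero] at hdet
  -- the diagonal entry is `1`
  have key : (x : M2 F) 0 0 = 1 := by
    rcases mul_self_eq_one_iff.1 hdet with h3 | h3
    · exact h3
    · exfalso
      obtain ⟨p, hp⟩ := CharP.exists F
      have hpp : p.Prime := CharP.char_is_prime F p
      have hp2 : p ≠ 2 := by
        rintro rfl
        apply h2
        exact_mod_cast CharP.cast_eq_zero F 2
      have hodd : Odd p := hpp.odd_of_ne_two hp2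
      have h4 : x ^ p = -1 := by
        rcases mul_eq_zero.1 hbc with h5 | h5
        · have e : x = -lo (-(x : M2 F) 1 0) := by
            apply Subtype.ext
            rw [Matrix.SpecialLinearGroup.coe_neg, lo_coe, m2_eq_iff]
            simp [h3, h5, hd]
          rw [e, neg_pow, hodd.neg_one_pow, lo_pow, CharP.cast_eq_zero, zero_mul, lo_zero]
          simp
        · have e : x = -up (-(x : M2 F) 0 1) := by
            apply Subtype.ext
            rw [Matrix.SpecialLinearGroup.coe_neg, up_coe, m2_eq_iff]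
            simp [h3, h5, hd]
          rw [e, neg_pow, hodd.neg_one_pow, up_pow, CharP.cast_eq_zero, zero_mul, up_zero]
          simp
      have h5 : (x ^ p) ^ m = 1 := by rw [← pow_mul, mul_comm, pow_mul, hx, one_pow]
      rw [h4, hm.neg_one_pow] at h5
      exact neg_one_ne_one h2 h5
  rcases mul_eq_zero.1 hbc with h5 | h5
  · right
    refine ⟨(x : M2 F) 1 0, ?_⟩
    apply Subtype.ext
    rw [lo_coe, m2_eq_iff]
    simp [h5, hd, key]
  · left
    refine ⟨(x : M2 F) 0 1, ?_⟩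
    apply Subtype.ext
    rw [up_coe, m2_eq_iff]
    simp [h5, hd, key]

/-- a nilpotent matrix anticommuting with `D` only exists if `D` is split -/
theorem split_of_nilp {X D : M2 F} (hX : X ≠ 0) (ht : X.trace = 0) (hd : X.det = 0)
    (hD : D.trace = 0) (h : X * D = -(D * X)) : IsSquare (-D.det) := by
  have e1 := trace_zero_iff.1 ht
  have e2 := trace_zero_iff.1 hD
  rw [Matrix.det_fin_two, e1] at hd
  rw [m2_eq_iff] at h
  simp only [Matrix.neg_apply, m2_mul_00, m2_mul_01, m2_mul_10, m2_mul_11, e1, e2] at h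
  obtain ⟨h1, h2, h3, h4⟩ := h
  rw [Matrix.det_fin_two, e2]
  by_cases hq : X 0 1 = 0
  · have hp : X 0 0 = 0 := by
      rw [hq] at hd
      have : X 0 0 * X 0 0 = 0 := by linear_combination -hd
      simpa using this
    have hr : X 1 0 ≠ 0 := by
      intro hr
      apply hX
      rw [m2_eq_iff]
      simp [hp, hq, hr, e1]
    have hb : D 0 1 = 0 := by
      rw [hp, hq] at h1
      have : X 1 0 * D 0 1 = 0 := by linear_combination h1
      exact (mul_eq_zero.1 this).resolve_left hr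
    refine ⟨D 0 0, ?_⟩
    rw [hb]; ring
  · refine ⟨D 0 0 - X 0 0 * D 0 1 / X 0 1, ?_⟩
    field_simp
    linear_combination (D 0 1 * X 0 1) * h1 + (D 0 1) ^ 2 * hd

seal _root_.Finset.sum _root_.dotProduct in
/-- the nonsplit case -/
theorem comp_nonsplit (h2 : (2 : F) ≠ 0) {D : M2 F} (hD : D.trace = 0) (hns : ¬ IsSquare (-D.det))
    {x : SL2 F} {m : ℕ} (hm : Odd m) (hx : x ^ m = 1)
    (h : (x : M2 F) * D = D * (x⁻¹ : SL2 F))
    (hc : ∀ (A : M2 F) (y : SL2 F), A * D = D * A → A.det ≠ 0 → (y : M2 F) * A = A * x → x * y = y * x) :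
    x = 1 := by
  have hD0 : D.det ≠ 0 := by
    intro h0
    apply hns
    rw [h0]; simp only [_root_.neg_zero, _root_.IsSquare.zero]
  -- the part of trace `0`
  obtain ⟨X, a, hxa, hXt⟩ : ∃ (X : M2 F) (a : F), (x : M2 F) = a • (1 : M2 F) + X ∧ X.trace = 0 := by
    refine ⟨(x : M2 F) - ((x : M2 F).trace / 2) • (1 : M2 F), (x : M2 F).trace / 2, by abel, ?_⟩
    rw [Matrix.trace_sub, Matrix.trace_smul]
    simp only [_root_.Matrix.trace_one, _root_.Fintype.card_fin, _root_.Nat.cast_ofNat, _root_.smul_eq_mul]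
    field_simp
    ring
  have hxi : ((x⁻¹ : SL2 F) : M2 F) = a • (1 : M2 F) - X := by
    rw [sl_inv_coe, adjugate_eq, hxa, Matrix.trace_add, hXt, Matrix.trace_smul]
    simp only [_root_.Matrix.trace_one, _root_.Fintype.card_fin, _root_.Nat.cast_ofNat, _root_.smul_eq_mul, _root_.add_zero]
    rw [mul_two, add_smul]
    abel
  have hXD : X * D = -(D * X) := by
    rw [hxi, hxa] at h
    simp only [add_mul, mul_sub, Matrix.smul_mul, Matrix.mul_smul, one_mul, mul_one] at h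
    have h' : X * D = a • D - D * X - a • D := by rw [← h]; abel
    rw [h']; abel
  -- `det X = 0`
  have hXd : X.det = 0 := by
    by_contra hXd
    have hA : (1 + D).det ≠ 0 := by
      have := cent_det hD (1 : F) 1
      rw [one_smul, one_smul] at this
      rw [this]
      intro h0
      apply hns
      refine ⟨1, ?_⟩
      linear_combination -h0
    have hAc : (1 + D) * D = D * (1 + D) := by rw [add_mul, mul_add]; simp
    obtain ⟨y, hy⟩ := exists_cj hA x
    have h3 := hc _ y hAc hA hy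
    have h3' : (x : M2 F) * y = y * x := congrArg (fun z : SL2 F => (z : M2 F)) h3
    -- `(1 + D) x = y (1 + D)`, so `X` commutes with `y`
    have h4 : X * (y : M2 F) = y * X := by
      rw [hxa] at h3'
      simp only [add_mul, mul_add, Matrix.smul_mul, Matrix.mul_smul, one_mul, mul_one] at h3'
      exact add_left_cancel h3'
    -- multiply by `(1 + D)`
    have h5 : X * ((1 + D) * x) = (1 - D) * (X * x) := by
      have : X * (1 + D) = (1 - D) * X := by
        rw [mul_add, sub_mul, hXD]; simp [sub_eq_add_neg]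
      rw [← mul_assoc, this, mul_assoc]
    have h6 : X * (y : M2 F) * (1 + D) = (y : M2 F) * (X * (1 + D)) := by rw [h4, mul_assoc]
    have h7 : X * (1 + D) = (1 - D) * X := by
      rw [mul_add, sub_mul, hXD]; simp [sub_eq_add_neg]
    -- `X (1+D) x = y (1 - D) X`
    rw [mul_assoc, hy, h5, h7] at h6
    -- `y = (1+D) x (1+D)⁻¹`; multiply by adjugate
    have h8 : (y : M2 F) * (1 - D) * (1 + D) = (1 + D) * x * (1 - D) := by
      have : (1 - D) * (1 + D) = (1 + D) * (1 - D) := by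
        simp only [sub_mul, add_mul, mul_sub, mul_add, one_mul, mul_one]; abel
      rw [mul_assoc, this, ← mul_assoc, hy]
    -- from `(1 - D) X x = y (1 - D) X`
    have h9 : (1 + D) * x * (1 - D) * X = (1 - D) * (X * x) * (1 - D) := by
      calc (1 + D) * x * (1 - D) * X = (y : M2 F) * (1 - D) * ((1 + D) * X) := by rw [← h8]; simp only [mul_assoc]
        _ = (y : M2 F) * (1 - D) * (X * (1 - D)) := by
          congr 1
          rw [add_mul, mul_sub, hXD]; simp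
        _ = ((y : M2 F) * ((1 - D) * X)) * (1 - D) := by simp only [mul_assoc]
        _ = _ := by rw [← h6]
    -- expand with `x = a + X`
    have h10 : (1 + D) * X * (1 - D) * X = (1 - D) * (X * X) * (1 - D) := by
      have e1 : (1 + D) * (a • (1 : M2 F)) * (1 - D) * X = (1 - D) * (X * (a • (1 : M2 F))) * (1 - D) := by
        simp only [Matrix.mul_smul, Matrix.smul_mul, mul_one]
        congr 1
        have : X * (1 - D) = (1 + D) * X := by rw [mul_sub, add_mul, hXD]; simp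
        calc (1 + D) * (1 - D) * X = (1 - D) * ((1 + D) * X) := by
              simp only [sub_mul, add_mul, mul_sub, mul_add, one_mul, mul_one, mul_assoc]; abel
          _ = (1 - D) * (X * (1 - D)) := by rw [this]
          _ = _ := by simp only [mul_assoc]
      rw [hxa] at h9
      have h9' : (1 + D) * (a • (1 : M2 F)) * (1 - D) * X + (1 + D) * X * (1 - D) * X =
          (1 - D) * (X * (a • (1 : M2 F))) * (1 - D) + (1 - D) * (X * X) * (1 - D) := by
        have l : (1 + D) * (a • (1 : M2 F) + X) * (1 - D) * X =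
            (1 + D) * (a • (1 : M2 F)) * (1 - D) * X + (1 + D) * X * (1 - D) * X := by
          rw [mul_add, add_mul, add_mul]
        have r : (1 - D) * (X * (a • (1 : M2 F) + X)) * (1 - D) =
            (1 - D) * (X * (a • (1 : M2 F))) * (1 - D) + (1 - D) * (X * X) * (1 - D) := by
          rw [mul_add, mul_add, add_mul]
        rw [← l, ← r]; exact h9
      rw [e1] at h9'
      exact add_left_cancel h9'
    have hXX : X * X = (-X.det) • (1 : M2 F) := m2_sq_of_trace hXt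
    have h11 : (1 + D) * X * (1 - D) * X = (-X.det) • ((1 + D) * (1 + D)) := by
      have : X * (1 - D) = (1 + D) * X := by rw [mul_sub, add_mul, hXD]; simp
      calc (1 + D) * X * (1 - D) * X = (1 + D) * (X * (1 - D)) * X := by simp only [mul_assoc]
        _ = (1 + D) * (1 + D) * (X * X) := by rw [this]; simp only [mul_assoc]
        _ = _ := by rw [hXX]; simp only [_root_.neg_smul, _root_.mul_neg, _root_.Algebra.mul_smul_comm, _root_.mul_one]
    rw [h11, hXX] at h10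
    simp only [Matrix.mul_smul, Matrix.smul_mul, mul_one] at h10
    have h12 := smul_cancel (neg_ne_zero.2 hXd) h10
    -- `(1 + D)² = (1 - D)²`
    have h13 : (4 : F) • D = 0 := by
      have : (1 + D) * (1 + D) - (1 - D) * (1 - D) = (4 : F) • D := by
        simp only [sub_mul, add_mul, mul_sub, mul_add, one_mul, mul_one]
        have : (4 : F) • D = D + D + D + D := by
          rw [show (4 : F) = 1 + 1 + 1 + 1 by norm_num, add_smul, add_smul, add_smul, one_smul]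
        rw [this]; abel
      rw [← this, h12, sub_self]
    have h4 : (4 : F) ≠ 0 := by
      intro h4
      have : (2 : F) * 2 = 0 := by linear_combination h4
      simp [h2] at this
    have hD00 : D = 0 := smul_cancel h4 (h13.trans (smul_zero _).symm)
    apply hD0
    rw [hD00]; simp
  by_cases hX0 : X = 0
  · rw [hX0, add_zero] at hxa
    rcases sl_scalar hxa with h3 | h3
    · exact h3
    · exfalso
      rw [h3, hm.neg_one_pow] at hx
      exact neg_one_ne_one h2 hx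
  · exact absurd (split_of_nilp hX0 hXt hXd hD hXD) hns

end comp

end Cfsg.Agent.GTwoOdd
end

-- part: GTwoOdd/ZIso
section
/-!
# An involution which is the only involution of its centraliser is central modulo the odd core
-/

set_option autoImplicit false

namespace Cfsg.Agent.GTwoOdd.ZIso

open Subgroup

/-- if `t` is the only involution of `C(t)` then `[t, h] ∈ O(H)` for all `h` -/
theorem comm_mem_core {H : Type*} [Group H] [Finite H] {t : H} (ht : t * t = 1) (ht1 : t ≠ 1)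
    (huniq : ∀ c : H, c * t = t * c → c * c = 1 → c ≠ 1 → c = t) (h : H) :
    t * h * t⁻¹ * h⁻¹ ∈ Cfsg.pPrimeCore 2 H := by
  have h2 : Fact (Nat.Prime 2) := ⟨Nat.prime_two⟩
  have hord : orderOf t = 2 := by
    rw [orderOf_eq_prime_iff]
    exact ⟨by rw [pow_two]; exact ht, ht1⟩
  have hp : IsPGroup 2 (zpowers t) := by
    rw [IsPGroup.iff_card]
    exact ⟨1, by rw [Nat.card_zpowers, hord, pow_one]⟩
  obtain ⟨P, hP⟩ := hp.exists_le_sylow
  have htP : t ∈ P := hP (mem_zpowers t)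
  -- a central involution of `P`
  have hnt : Nontrivial (P : Subgroup H) := ⟨⟨⟨t, htP⟩, 1, fun h => ht1 (congrArg Subtype.val h)⟩⟩
  have hc : Nontrivial (center (P : Subgroup H)) := P.2.center_nontrivial
  have hdvd : 2 ∣ Nat.card (center (P : Subgroup H)) := by
    have hPc : IsPGroup 2 (center (P : Subgroup H)) := P.2.to_subgroup _
    obtain ⟨n, hn⟩ := IsPGroup.iff_card.1 hPc
    rw [hn]
    apply dvd_pow_self
    rintro rfl
    rw [pow_zero] at hn
    have := Finite.one_lt_card (α := center (P : Subgroup H))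
    omega
  obtain ⟨z, hz⟩ := exists_prime_orderOf_dvd_card' 2 hdvd
  have hz1 : ((z : (P : Subgroup H)) : H) ≠ 1 := by
    intro h1
    have : z = 1 := Subtype.ext (Subtype.ext h1)
    rw [this, orderOf_one] at hz
    norm_num at hz
  have hzz : ((z : (P : Subgroup H)) : H) * ((z : (P : Subgroup H)) : H) = 1 := by
    have h3 : z ^ 2 = 1 := (orderOf_dvd_iff_pow_eq_one.1 (by rw [hz]) :)
    have h4 := congrArg (fun w : center (P : Subgroup H) => ((w : (P : Subgroup H)) : H)) h3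
    simpa only [pow_two, _root_.Subgroup.coe_mul, _root_.OneMemClass.coe_one] using h4
  have hzc : ∀ c ∈ P, c * ((z : (P : Subgroup H)) : H) = ((z : (P : Subgroup H)) : H) * c := by
    intro c hc
    have := (Subgroup.mem_center_iff.1 z.2) ⟨c, hc⟩
    exact congrArg Subtype.val this
  have hzt : ((z : (P : Subgroup H)) : H) = t := huniq _ (hzc t htP).symm hzz hz1
  obtain ⟨N, hN, hodd, hmem⟩ := Cfsg.Agent.S0215.result P t hord htP (by
    intro g hg
    apply huniq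
    · have := hzc _ hg
      rw [hzt] at this
      exact this
    · calc g * t * g⁻¹ * (g * t * g⁻¹) = g * (t * t) * g⁻¹ := by group
        _ = 1 := by rw [ht]; group
    · intro h1
      apply ht1
      calc t = g⁻¹ * (g * t * g⁻¹) * g := by group
        _ = 1 := by rw [h1]; group)
  exact Cfsg.Agent.Lib.Cores.le_pPrimeCore hN (Nat.coprime_two_right.2 hodd) (hmem h)

/-- the odd core of the centraliser of `A` -/
def rc {G : Type*} [Group G] (A : Subgroup G) : Subgroup G :=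
  (Cfsg.pPrimeCore 2 (centralizer (A : Set G))).map (centralizer (A : Set G)).subtype

variable {G : Type*} [Group G]

theorem rc_le (A : Subgroup G) : rc A ≤ centralizer (A : Set G) := Subgroup.map_subtype_le _

theorem rc_comm {A : Subgroup G} {x a : G} (hx : x ∈ rc A) (ha : a ∈ A) : x * a = a * x :=
  (Subgroup.mem_centralizer_iff.1 (rc_le A hx) a ha).symm

theorem rc_odd [Finite G] (A : Subgroup G) : Odd (Nat.card (rc A)) := by
  have := Cfsg.Agent.Lib.LocalCore.card_map_pPrimeCore_coprime 2 (centralizer (A : Set G))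
  exact Nat.coprime_two_right.1 this

theorem rc_norm {A : Subgroup G} {c x : G} (hc : c ∈ centralizer (A : Set G)) (hx : x ∈ rc A) : c * x * c⁻¹ ∈ rc A :=
  ((Cfsg.Agent.Lib.LocalCore.le_normalizer_map_pPrimeCore 2 (centralizer (A : Set G)) hc) x).1 hx

theorem le_rc [Finite G] {A K : Subgroup G} (hK : K ≤ centralizer (A : Set G)) (hodd : Odd (Nat.card K))
    (hn : ∀ c ∈ centralizer (A : Set G), ∀ x ∈ K, c * x * c⁻¹ ∈ K) : K ≤ rc A := by
  apply Cfsg.Agent.Lib.LocalCore.le_map_pPrimeCore hK (Nat.coprime_two_right.2 hodd)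
  intro c hc x
  constructor
  · exact hn c hc x
  · intro h
    have := hn c⁻¹ (inv_mem hc) _ h
    have e : c⁻¹ * (c * x * c⁻¹) * c⁻¹⁻¹ = x := by group
    rwa [e] at this

/-- elements which normalise `A` normalise `rc A` -/
theorem rc_norm' [Finite G] {A : Subgroup G} {g x : G} (h1 : ∀ a ∈ A, g * a * g⁻¹ ∈ A)
    (h2 : ∀ a ∈ A, g⁻¹ * a * g ∈ A) (hx : x ∈ rc A) : g * x * g⁻¹ ∈ rc A := by
  have key : (rc A).map (MulAut.conj g).toMonoidHom ≤ rc A := by
    apply le_rc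
    · rintro _ ⟨y, hy, rfl⟩
      rw [mem_centralizer_iff]
      intro a ha
      change a * (g * y * g⁻¹) = g * y * g⁻¹ * a
      have := rc_comm hy (h2 a ha)
      calc a * (g * y * g⁻¹) = g * ((g⁻¹ * a * g) * y) * g⁻¹ := by group
        _ = g * (y * (g⁻¹ * a * g)) * g⁻¹ := by rw [this]
        _ = _ := by group
    · rw [Subgroup.card_map_of_injective (MulAut.conj g).injective]
      exact rc_odd A
    · rintro c hc _ ⟨y, hy, rfl⟩
      have hc' : g⁻¹ * c * g ∈ centralizer (A : Set G) := by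
        rw [mem_centralizer_iff] at hc ⊢
        intro a ha
        have := hc _ (h1 a ha)
        calc a * (g⁻¹ * c * g) = g⁻¹ * ((g * a * g⁻¹) * c) * g := by group
          _ = g⁻¹ * (c * (g * a * g⁻¹)) * g := by rw [this]
          _ = _ := by group
      refine ⟨(g⁻¹ * c * g) * y * (g⁻¹ * c * g)⁻¹, rc_norm hc' hy, ?_⟩
      change g * ((g⁻¹ * c * g) * y * (g⁻¹ * c * g)⁻¹) * g⁻¹ = c * (g * y * g⁻¹) * c⁻¹
      group
  exact key ⟨x, hx, rfl⟩

/-- if `t` centralises `A` and is the only involution of `C(t) ∩ C(A)` then `[t, h] ∈ rc A` for `h` in `C(A)` -/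
theorem comm_mem_rc [Finite G] {A : Subgroup G} {t : G} (ht : t * t = 1) (ht1 : t ≠ 1)
    (htA : t ∈ centralizer (A : Set G))
    (huniq : ∀ c ∈ centralizer (A : Set G), c * t = t * c → c * c = 1 → c ≠ 1 → c = t) {h : G}
    (hh : h ∈ centralizer (A : Set G)) : t * h * t⁻¹ * h⁻¹ ∈ rc A := by
  have := comm_mem_core (H := centralizer (A : Set G)) (t := ⟨t, htA⟩) (Subtype.ext ht)
    (fun h => ht1 (congrArg Subtype.val h))
    (fun c h1 h2 h3 => Subtype.ext (huniq c.1 c.2 (congrArg Subtype.val h1) (congrArg Subtype.val h2)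
      (fun h => h3 (Subtype.ext h)))) ⟨h, hh⟩
  exact ⟨_, this, rfl⟩

end Cfsg.Agent.GTwoOdd.ZIso
end

-- part: GTwoOdd/RootCent
section
/-!
# The odd core of the centraliser of a root group

`A1 = e1 (upper unipotents)`, `R = rc A1 = O(C_G(A1))`.
-/

set_option autoImplicit false

namespace Cfsg.Agent.GTwoOdd

open Matrix ZIso

namespace LocalSL

variable {G : Type*} [Group G] [Finite G] {t : G} {F1 F2 : Type*} [Field F1] [Field F2]

/-- the root group `e1 (upper unipotents)` -/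
def A1 (L : LocalSL t F1 F2) : Subgroup G := (upU F1).map L.e1

omit [Finite G] in
theorem mem_A1 {L : LocalSL t F1 F2} {x : G} : x ∈ L.A1 ↔ ∃ a : F1, x = L.e1 (up a) := by
  constructor
  · rintro ⟨_, ⟨a, rfl⟩, rfl⟩
    exact ⟨a, rfl⟩
  · rintro ⟨a, rfl⟩
    exact ⟨up a, ⟨a, rfl⟩, rfl⟩

variable {L : LocalSL t F1 F2}

omit [Finite G] in
theorem A1_comm {x y : G} (hx : x ∈ L.A1) (hy : y ∈ L.A1) : x * y = y * x := by
  obtain ⟨a, rfl⟩ := mem_A1.1 hx
  obtain ⟨b, rfl⟩ := mem_A1.1 hy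
  rw [← map_mul, ← map_mul, up_mul, up_mul, add_comm]

omit [Finite G] in
theorem A1_t {x : G} (hx : x ∈ L.A1) : x * t = t * x := by
  obtain ⟨a, rfl⟩ := mem_A1.1 hx
  exact e1_t _

omit [Finite G] in
theorem e2_mem_cent (y : SL2 F2) : L.e2 y ∈ Subgroup.centralizer (L.A1 : Set G) := by
  rw [Subgroup.mem_centralizer_iff]
  intro a ha
  obtain ⟨a, rfl⟩ := mem_A1.1 ha
  exact L.comm _ _

omit [Finite G] in
theorem t_mem_cent : t ∈ Subgroup.centralizer (L.A1 : Set G) := by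
  rw [Subgroup.mem_centralizer_iff]
  intro a ha
  exact A1_t ha

omit [Finite G] in
theorem card_A1 : Nat.card L.A1 = Nat.card F1 := by
  unfold A1
  rw [Subgroup.card_map_of_injective L.inj1]
  refine Nat.card_congr (Equiv.ofBijective (fun a => (⟨up a, up_mem a⟩ : upU F1)) ⟨?_, ?_⟩).symm
  · intro a b hab
    have := congrArg (fun z : upU F1 => (z.1 : M2 F1) 0 1) hab
    simpa [up_coe] using this
  · rintro ⟨_, ⟨a, rfl⟩⟩
    exact ⟨a, rfl⟩

theorem odd_card_field {F : Type*} [Field F] [Finite F] (h2 : (2 : F) ≠ 0) : Odd (Nat.card F) := by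
  have := Fintype.ofFinite F
  rw [Nat.card_eq_fintype_card]
  apply Nat.odd_iff.2
  apply FiniteField.odd_card_of_char_ne_two
  intro h
  apply h2
  have := ringChar.Nat.cast_ringChar (R := F)
  rw [h] at this
  exact_mod_cast this

variable [Finite F1] [Finite F2] (H : L.Hyp)
include H

/-- the elements of `C(t)` which centralise `A1` act on `L1` as elements of `A1` -/
theorem Hyp.cent_A1 {c : G} (hc : c * t = t * c) (hA : c ∈ Subgroup.centralizer (L.A1 : Set G)) :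
    ∃ b : F1, ∀ x, c * L.e1 x = L.e1 (up b * x * up (-b)) * c := by
  choose α hα using H.norm1 c hc
  have hmul : ∀ x y, α (x * y) = α x * α y := by
    intro x y
    apply L.inj1
    have h1 : L.e1 (α (x * y)) * c = L.e1 (α x * α y) * c := by
      rw [← hα, map_mul, map_mul, ← mul_assoc, hα x, mul_assoc, hα y, ← mul_assoc]
    exact mul_right_cancel h1
  have hinj : Function.Injective α := by
    intro x y hxy
    apply L.inj1
    have h1 : c * L.e1 x = c * L.e1 y := by rw [hα, hα, hxy]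
    exact mul_left_cancel h1
  have hup : ∀ a, α (up a) = up a := by
    intro a
    apply L.inj1
    have h1 := Subgroup.mem_centralizer_iff.1 hA _ (mem_A1.2 ⟨a, rfl⟩)
    have h2 := hα (up a)
    rw [← h1] at h2
    exact (mul_right_cancel h2).symm
  let β : SL2 F1 →* SL2 F1 := MonoidHom.mk' α hmul
  obtain ⟨b, hb⟩ := exists_up_of_fix β hinj hup
  exact ⟨b, fun x => by rw [hα]; congr 2; exact hb x⟩

/-- `t` is the only involution of `C(t) ∩ C(A1)` -/
theorem Hyp.uniq_invol {c : G} (hA : c ∈ Subgroup.centralizer (L.A1 : Set G)) (hc : c * t = t * c) (hcc : c * c = 1)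
    (hc1 : c ≠ 1) : c = t := by
  by_contra hct
  obtain ⟨A, B, hr, hA', hB'⟩ := H.rep_of_invol hc hcc hc1 hct
  have h1 := Subgroup.mem_centralizer_iff.1 hA _ (mem_A1.2 ⟨1, rfl⟩)
  obtain ⟨y, hy⟩ := exists_cj hr.det1 (up (1 : F1))
  have h2 := hr.acts1.2 _ _ hy
  rw [← h1] at h2
  have h3 : up (1 : F1) = y := L.inj1 (mul_right_cancel h2)
  rw [← h3] at hy
  obtain ⟨h4, h5⟩ := comm_up hy.symm
  rw [Matrix.trace_fin_two, h5] at hA'
  have h6 : A 0 0 = 0 := by
    have : 2 * A 0 0 = 0 := by linear_combination hA'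
    exact (mul_eq_zero.1 this).resolve_left H.two_ne1
  apply hr.det1
  rw [Matrix.det_fin_two, h6, h4]
  ring

theorem Hyp.A1_odd : Odd (Nat.card L.A1) := by
  rw [card_A1]
  exact odd_card_field H.two_ne1

theorem Hyp.A1_le : L.A1 ≤ rc L.A1 := by
  apply le_rc _ H.A1_odd
  · intro c hc x hx
    have := Subgroup.mem_centralizer_iff.1 hc x hx
    have e : c * x * c⁻¹ = x := by rw [← this]; group
    rwa [e]
  · intro x hx
    rw [Subgroup.mem_centralizer_iff]
    intro a ha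
    exact A1_comm ha hx

omit [Finite F1] [Finite F2] H in
theorem odd_no_invol {K : Subgroup G} (hodd : Odd (Nat.card K)) {x : G} (hx : x ∈ K) (hxx : x * x = 1) : x = 1 := by
  have h1 : (⟨x, hx⟩ : K) ^ Nat.card K = 1 := pow_card_eq_one'
  obtain ⟨m, hm⟩ := hodd
  have h2 : x ^ Nat.card K = 1 := congrArg Subtype.val h1
  rw [hm, pow_succ, pow_mul, pow_two, hxx, one_pow, one_mul] at h2
  exact h2

theorem Hyp.t_not_mem_rc : t ∉ rc L.A1 := fun h => H.t_ne_one (odd_no_invol (rc_odd _) h L.t_sq)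

/-- `C_R(t) = A1` -/
theorem Hyp.rc_t {x : G} (hx : x ∈ rc L.A1) (hxt : x * t = t * x) : x ∈ L.A1 := by
  obtain ⟨b, hb⟩ := H.cent_A1 hxt (rc_le _ hx)
  -- `d = e1 (up (-b)) x` centralises `L1`
  have hd1 : L.e1 (up (-b)) * x ∈ rc L.A1 := mul_mem (H.A1_le (mem_A1.2 ⟨-b, rfl⟩)) hx
  have hdt : L.e1 (up (-b)) * x * t = t * (L.e1 (up (-b)) * x) := by
    rw [mul_assoc, hxt, ← mul_assoc, e1_t, mul_assoc]
  have hde1 : ∀ z, L.e1 (up (-b)) * x * L.e1 z = L.e1 z * (L.e1 (up (-b)) * x) := by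
    intro z
    have h1 : L.e1 (up (-b)) * L.e1 (up b * z * up (-b)) = L.e1 z * L.e1 (up (-b)) := by
      rw [← map_mul, ← map_mul]
      congr 1
      have : up (-b) * up b = 1 := by rw [up_mul]; simp [up_zero]
      rw [← mul_assoc, ← mul_assoc, this, one_mul]
    rw [mul_assoc, hb, ← mul_assoc, h1, mul_assoc]
  -- the normal subgroup of `SL(2,F2)`
  have hN : ∀ z : SL2 F2, L.e2 z ∈ rc L.A1 → z = 1 := by
    intro z hz
    refine normal_eq_one H.two_ne2 (N := (rc L.A1).comap L.e2) ?_ ?_ hz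
    · intro u hu v
      change L.e2 (v * u * v⁻¹) ∈ rc L.A1
      rw [map_mul, map_mul, map_inv]
      exact rc_norm (e2_mem_cent v) hu
    · intro h
      change L.e2 (-1) ∈ rc L.A1 at h
      rw [L.neg2] at h
      exact H.t_not_mem_rc h
  have hde2 : ∀ y, L.e1 (up (-b)) * x * L.e2 y = L.e2 y * (L.e1 (up (-b)) * x) := by
    intro y
    obtain ⟨y', hy'⟩ := H.norm2 _ hdt y
    have h1 : L.e2 (y' * y⁻¹) ∈ rc L.A1 := by
      have h2 := rc_norm (e2_mem_cent y) (inv_mem hd1)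
      have h3 := mul_mem hd1 h2
      have e : L.e1 (up (-b)) * x * (L.e2 y * (L.e1 (up (-b)) * x)⁻¹ * (L.e2 y)⁻¹) = L.e2 (y' * y⁻¹) := by
        calc L.e1 (up (-b)) * x * (L.e2 y * (L.e1 (up (-b)) * x)⁻¹ * (L.e2 y)⁻¹)
            = (L.e1 (up (-b)) * x * L.e2 y) * (L.e1 (up (-b)) * x)⁻¹ * (L.e2 y)⁻¹ := by group
          _ = L.e2 y' * (L.e2 y)⁻¹ := by rw [hy']; group
          _ = _ := by rw [map_mul, map_inv]
      rwa [e] at h3
    have h2 := hN _ h1
    rw [hy', mul_inv_eq_one.1 h2]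
  rcases L.cent _ hdt hde1 hde2 with h | h
  · refine mem_A1.2 ⟨b, ?_⟩
    have : x = (L.e1 (up (-b)))⁻¹ * (L.e1 (up (-b)) * x) := by group
    rw [this, h, mul_one, ← map_inv, up_inv, neg_neg]
  · exfalso
    rw [h] at hd1
    exact H.t_not_mem_rc hd1

/-- `t` normalises `R` -/
theorem Hyp.t_rc {x : G} (hx : x ∈ rc L.A1) : t * x * t⁻¹ ∈ rc L.A1 := rc_norm t_mem_cent hx

/-- `t` inverts `R` modulo `A1` -/
theorem Hyp.rc_inv {x : G} (hx : x ∈ rc L.A1) : ∃ a ∈ L.A1, t * x * t⁻¹ = a * x⁻¹ := by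
  obtain ⟨c, hc, k, hk, h1, h2, rfl⟩ := Cfsg.Agent.Lib.KleinGen.exists_centralizer_mul_inverted (rc L.A1) (rc_odd _) t
    L.t_sq (fun h hh => H.t_rc hh) hx
  have hcA := H.rc_t hc h1.symm
  have hck := rc_comm hk hcA
  refine ⟨c * c, mul_mem hcA hcA, ?_⟩
  calc t * (c * k) * t⁻¹ = (t * c) * k * t⁻¹ := by group
    _ = c * (t * k * t⁻¹) := by rw [h1]; group
    _ = c * k⁻¹ := by rw [h2]
    _ = c * (c * c⁻¹) * k⁻¹ := by group
    _ = c * c * (k * c)⁻¹ := by group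
    _ = c * c * (c * k)⁻¹ := by rw [hck]

/-- `[R, R] ≤ A1` -/
theorem Hyp.rc_comm_mem {x y : G} (hx : x ∈ rc L.A1) (hy : y ∈ rc L.A1) : x * y * x⁻¹ * y⁻¹ ∈ L.A1 := by
  obtain ⟨a, ha, h1⟩ := H.rc_inv (inv_mem hx)
  obtain ⟨b, hb, h2⟩ := H.rc_inv (inv_mem hy)
  obtain ⟨c, hc, h3⟩ := H.rc_inv (inv_mem (mul_mem hy hx))
  -- `t x⁻¹ t⁻¹ = a x`, `t y⁻¹ t⁻¹ = b y`, `t (y x)⁻¹ t⁻¹ = c y x`
  rw [inv_inv] at h1 h2 h3
  have e : t * (y * x)⁻¹ * t⁻¹ = (t * x⁻¹ * t⁻¹) * (t * y⁻¹ * t⁻¹) := by group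
  rw [e, h1, h2] at h3
  -- a x b y = c y x
  have hxb := rc_comm hx hb
  have h4 : x * y = (a * b)⁻¹ * c * (y * x) := by
    have : a * b * (x * y) = c * (y * x) := by
      rw [← h3]
      calc a * b * (x * y) = a * (b * x) * y := by group
        _ = a * x * (b * y) := by rw [← hxb]; group
    calc x * y = (a * b)⁻¹ * (a * b * (x * y)) := by group
      _ = _ := by rw [this]; group
  have h5 : x * y * x⁻¹ * y⁻¹ = (a * b)⁻¹ * c := by
    rw [h4]; group
  rw [h5]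
  exact mul_mem (inv_mem (mul_mem ha hb)) hc

end LocalSL

end Cfsg.Agent.GTwoOdd
end

-- part: GTwoOdd/HexBad
section
/-!
# Commuting long root groups at distance 4 are impossible

If `X 3` commutes with `X 7` and `X 11` (and `X 2`, `X 4`), we get a contradiction.  Type 2 version of the facts
on `O(C_G(X))`: `[X 11, X 1] ≤ X 0`.
-/

set_option autoImplicit false

namespace Cfsg.Agent.GTwoOdd.HexBad

open Matrix
open Cfsg.Agent.GTwoOdd.Hex
open Cfsg.Agent.GTwoOdd.LocalSL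
open Cfsg.Agent.GTwoOdd.HexFrame
open Cfsg.Agent.GTwoOdd.HexFull
open Cfsg.Agent.GTwoOdd.ZIso

section swp

variable {G : Type*} [Group G] {t : G} {F1 F2 : Type*} [Field F1] [Field F2]

/-- exchange of the two factors -/
def swp (L : LocalSL t F1 F2) : LocalSL t F2 F1 where
  e1 := L.e2
  e2 := L.e1
  inj1 := L.inj2
  inj2 := L.inj1
  comm x y := (L.comm y x).symm
  neg1 := L.neg2
  neg2 := L.neg1
  cent c h h1 h2 := L.cent c h h2 h1

variable {L : LocalSL t F1 F2}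

theorem rep_swp {c : G} {A : M2 F1} {B : M2 F2} (h : L.Rep c A B) : (swp L).Rep c B A := ⟨h.comm, h.acts2, h.acts1⟩

theorem rep_of_swp {c : G} {A : M2 F1} {B : M2 F2} (h : (swp L).Rep c B A) : L.Rep c A B := ⟨h.comm, h.acts2, h.acts1⟩

theorem hyp_swp (H : L.Hyp) : (swp L).Hyp where
  norm1 := H.norm2
  norm2 := H.norm1
  comm_mem c d hc hd := by
    obtain ⟨x, y, h⟩ := H.comm_mem c d hc hd
    refine ⟨y, x, ?_⟩
    rw [h]
    change L.e1 x * L.e2 y * d * c = L.e2 y * L.e1 x * d * c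
    rw [L.comm]
  sq_mem c hc h := by
    obtain ⟨A, B, h⟩ := h
    obtain ⟨A', B', h'⟩ := H.sq_mem c hc ⟨B, A, rep_of_swp h⟩
    exact ⟨B', A', rep_swp h'⟩
  square_iff c A B h := (H.square_iff c B A (rep_of_swp h)).symm
  outer := by
    obtain ⟨g, A, B, h, h1, h2, h3⟩ := H.outer
    exact ⟨g, B, A, rep_swp h, h2, h1, h3⟩

end swp

section frame

variable {G : Type*} [Group G] [Finite G] {t : G} {F1 F2 : Type*} [Field F1] [Field F2]
variable [Finite F1] [Finite F2] {L : LocalSL t F1 F2} {s g : G}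

omit [Finite G] [Finite F1] [Finite F2] in
theorem swp_A1 : (swp L).A1 = L.baseX 0 := (L.baseX_0 rfl).symm

/-- elements inverted by `t` and centralising `X 0` lie in `O(C(X 0))` -/
theorem mem_rc (H : L.Hyp) {x : G} (hx : x ∈ Subgroup.centralizer (((swp L).A1 : Subgroup G) : Set G))
    (hodd : ∃ y, x = y * y ∧ y ∈ Subgroup.centralizer (((swp L).A1 : Subgroup G) : Set G) ∧ t * y * t⁻¹ = y⁻¹) :
    x ∈ rc (swp L).A1 := by
  obtain ⟨y, rfl, hy, h1⟩ := hodd
  have H' := hyp_swp H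
  have h2 := comm_mem_rc (A := (swp L).A1) (t := t) L.t_sq H.t_ne_one (t_mem_cent)
    (fun c hc h3 h4 h5 => H'.uniq_invol hc h3 h4 h5) hy
  rw [h1] at h2
  have := inv_mem h2
  have e : (y⁻¹ * y⁻¹)⁻¹ = y * y := by rw [_root_.mul_inv_rev, inv_inv]
  rwa [e] at this

omit [Finite G] in
/-- square roots in root groups -/
theorem exists_sqrt (S : L.Split s g) (m : ℕ) {x : G} (hx : x ∈ L.XN g m) : ∃ y ∈ L.XN g m, x = y * y := by
  have hodd : Odd (Nat.card (L.XN g m)) := by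
    rcases Nat.mod_two_eq_zero_or_one m with h | h
    · rw [Swap.card_XN_even h]
      exact odd_card_field S.toFrame.two2
    · rw [Swap.card_XN_odd h]
      exact odd_card_field S.toFrame.two1
  obtain ⟨n, hn⟩ := hodd
  refine ⟨x ^ (n + 1), pow_mem hx _, ?_⟩
  have h1 : (⟨x, hx⟩ : L.XN g m) ^ Nat.card (L.XN g m) = 1 := pow_card_eq_one'
  have h2 : x ^ Nat.card (L.XN g m) = 1 := congrArg Subtype.val h1
  rw [← pow_add, show n + 1 + (n + 1) = 2 * n + 1 + 1 by ring, pow_succ, ← hn, h2, one_mul]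

/-- the elements of `X m`, `m` not divisible by `3`, lie in `O(C(X 0))` if `X m` commutes with `X 0` -/
theorem XN_le_rc (S : L.Split s g) {m : ℕ} (hm : m % 3 ≠ 0)
    (h1 : ∀ x ∈ L.XN g m, ∀ y ∈ L.XN g 0, x * y = y * x) {x : G} (hx : x ∈ L.XN g m) : x ∈ rc (swp L).A1 := by
  have h0 : L.XN g 0 = (swp L).A1 := by rw [swp_A1, XN_base S rfl]
  have hc : ∀ y ∈ L.XN g m, y ∈ Subgroup.centralizer (((swp L).A1 : Subgroup G) : Set G) := by
    intro y hy
    rw [Subgroup.mem_centralizer_iff]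
    intro z hz
    rw [SetLike.mem_coe, ← h0] at hz
    exact (h1 y hy z hz).symm
  obtain ⟨y, hy, hxy⟩ := exists_sqrt S m hx
  refine mem_rc S.toFrame.hyp (hc x hx) ⟨y, hxy, hc y hy, ?_⟩
  have := S.tN_inv (m := m) (k := 0) (by omega) hy
  rwa [Swap.tN_0 S] at this

/-- `[X m, X k] ≤ X 0` if both commute with `X 0` -/
theorem comm_mem_X0 (S : L.Split s g) {m k : ℕ} (hm : m % 3 ≠ 0) (hk : k % 3 ≠ 0)
    (h1 : ∀ x ∈ L.XN g m, ∀ y ∈ L.XN g 0, x * y = y * x)
    (h2 : ∀ x ∈ L.XN g k, ∀ y ∈ L.XN g 0, x * y = y * x) {x y : G} (hx : x ∈ L.XN g m) (hy : y ∈ L.XN g k) :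
    x * y * x⁻¹ * y⁻¹ ∈ L.XN g 0 := by
  have h0 : L.XN g 0 = (swp L).A1 := by rw [swp_A1, XN_base S rfl]
  rw [h0]
  exact (hyp_swp S.toFrame.hyp).rc_comm_mem (XN_le_rc S hm h1 hx) (XN_le_rc S hk h2 hy)

/-- the long root groups at distance `4` do not commute -/
theorem false_of_five (S : L.Split s g) {R : Subgroup G}
    (hR : Five (L.XN g 7) (L.XN g 2) (L.XN g 3) (L.XN g 4) (L.XN g 11) R) : False := by
  -- the groups `R 1` and `R 11`
  have hR1 : Five (L.XN g 5) (L.XN g 0) (L.XN g 1) (L.XN g 2) (L.XN g 9) (cjS ((pre S).nJ * (pre S).nI) R) := by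
    have h := Five.map hR ((pre S).nJ * (pre S).nI)
    rw [cjS_mul _ _ (L.XN g 7), cjS_mul _ _ (L.XN g 2), cjS_mul _ _ (L.XN g 3), cjS_mul _ _ (L.XN g 4),
      cjS_mul _ _ (L.XN g 11), nI_XN S (m := 7) (k := 11) (by norm_num), nI_XN S (m := 2) (k := 4) (by norm_num),
      nI_XN S (m := 3) (k := 3) (by norm_num), nI_XN S (m := 4) (k := 2) (by norm_num),
      nI_XN S (m := 11) (k := 7) (by norm_num), nJ_XN S (m := 11) (k := 5) (by norm_num),
      nJ_XN S (m := 4) (k := 0) (by norm_num), nJ_XN S (m := 3) (k := 1) (by norm_num),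
      nJ_XN S (m := 2) (k := 2) (by norm_num), nJ_XN S (m := 7) (k := 9) (by norm_num)] at h
    exact h
  have hR11 : Five (L.XN g 3) (L.XN g 10) (L.XN g 11) (L.XN g 0) (L.XN g 7)
      (cjS ((pre S).nJ * (pre S).nI) (cjS ((pre S).nJ * (pre S).nI) R)) := by
    have h := Five.map hR1 ((pre S).nJ * (pre S).nI)
    rw [cjS_mul _ _ (L.XN g 5), cjS_mul _ _ (L.XN g 0), cjS_mul _ _ (L.XN g 1), cjS_mul _ _ (L.XN g 2),
      cjS_mul _ _ (L.XN g 9), nI_XN S (m := 5) (k := 1) (by norm_num), nI_XN S (m := 0) (k := 6) (by norm_num),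
      nI_XN S (m := 1) (k := 5) (by norm_num), nI_XN S (m := 2) (k := 4) (by norm_num),
      nI_XN S (m := 9) (k := 9) (by norm_num), nJ_XN S (m := 1) (k := 3) (by norm_num),
      nJ_XN S (m := 6) (k := 10) (by norm_num), nJ_XN S (m := 5) (k := 11) (by norm_num),
      nJ_XN S (m := 4) (k := 0) (by norm_num), nJ_XN S (m := 9) (k := 7) (by norm_num)] at h
    exact h
  -- commutation with `X 0`
  have c1 : ∀ x ∈ L.XN g 1, ∀ y ∈ L.XN g 0, x * y = y * x := fun x hx y hy =>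
    (hR1.cent y (hR1.hB hy) x hx).symm
  have c11 : ∀ x ∈ L.XN g 11, ∀ y ∈ L.XN g 0, x * y = y * x := fun x hx y hy =>
    (hR11.cent y (hR11.hD hy) x hx).symm
  have c51 : ∀ x ∈ L.XN g 5, ∀ y ∈ L.XN g 1, x * y = y * x := fun x hx y hy => hR1.cent x (hR1.hA hx) y hy
  -- a decomposition of `nJ`
  obtain ⟨p, hp, q, hq, r, hr, hn⟩ : ∃ p ∈ L.XN g 11, ∃ q ∈ L.XN g 5, ∃ r ∈ L.XN g 11, (pre S).nJ = p * q * r := by
    have e1 : (pre S).nJ = (pre S).x6 1 * (pre S).y6 (-1) * (pre S).x6 1 := (pre S).J.n_eq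
    have m1 : (pre S).nJ * (pre S).x6 1 * ((pre S).nJ)⁻¹ ∈ L.XN g 11 :=
      (mem_cj (nJ_XN S (m := 5) (k := 11) (by norm_num))).2 ⟨_, (mem_x6 S).2 ⟨1, rfl⟩, rfl⟩
    have m2 : (pre S).nJ * (pre S).y6 (-1) * ((pre S).nJ)⁻¹ ∈ L.XN g 5 :=
      (mem_cj (nJ_XN S (m := 11) (k := 5) (by norm_num))).2 ⟨_, (mem_y6 S).2 ⟨-1, rfl⟩, rfl⟩
    refine ⟨_, m1, _, m2, _, m1, ?_⟩
    calc (pre S).nJ = (pre S).nJ * (pre S).nJ * ((pre S).nJ)⁻¹ := by group
      _ = (pre S).nJ * ((pre S).x6 1 * (pre S).y6 (-1) * (pre S).x6 1) * ((pre S).nJ)⁻¹ := by rw [← e1]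
      _ = _ := by group
  -- every element of `X 1` is trivial
  have key : ∀ v ∈ L.XN g 1, v = 1 := by
    intro v hv
    -- `r v r⁻¹ = c v`
    have hc : r * v * r⁻¹ * v⁻¹ ∈ L.XN g 0 := comm_mem_X0 S (by norm_num) (by norm_num) c11 c1 hr hv
    set c := r * v * r⁻¹ * v⁻¹ with hcdef
    have e1 : r * v * r⁻¹ = c * v := by rw [hcdef]; group
    -- `q c q⁻¹ = d c`
    have hd : q * c * q⁻¹ * c⁻¹ ∈ L.XN g 1 := hR1.abel q (hR1.hA hq) c (hR1.hB hc)
    set d := q * c * q⁻¹ * c⁻¹ with hddef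
    have e2 : q * c * q⁻¹ = d * c := by rw [hddef]; group
    have e3 : q * v * q⁻¹ = v := by rw [c51 q hq v hv]; group
    -- `p d p⁻¹ = e d`
    have he : p * d * p⁻¹ * d⁻¹ ∈ L.XN g 0 := comm_mem_X0 S (by norm_num) (by norm_num) c11 c1 hp hd
    have hf : p * v * p⁻¹ * v⁻¹ ∈ L.XN g 0 := comm_mem_X0 S (by norm_num) (by norm_num) c11 c1 hp hv
    set e := p * d * p⁻¹ * d⁻¹ with hedef
    set f := p * v * p⁻¹ * v⁻¹ with hfdef
    have e4 : p * d * p⁻¹ = e * d := by rw [hedef]; group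
    have e5 : p * v * p⁻¹ = f * v := by rw [hfdef]; group
    have e6 : p * c * p⁻¹ = c := by rw [c11 p hp c hc]; group
    have hy : (pre S).nJ * v * ((pre S).nJ)⁻¹ = (e * c * f) * (d * v) := by
      rw [hn]
      calc p * q * r * v * (p * q * r)⁻¹ = p * (q * (r * v * r⁻¹) * q⁻¹) * p⁻¹ := by group
        _ = p * ((q * c * q⁻¹) * (q * v * q⁻¹)) * p⁻¹ := by rw [e1]; group
        _ = (p * d * p⁻¹) * (p * c * p⁻¹) * (p * v * p⁻¹) := by rw [e2, e3]; group
        _ = e * (d * c) * f * v := by rw [e4, e6, e5]; group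
        _ = e * (c * d) * f * v := by rw [c1 d hd c hc]
        _ = e * c * (d * f) * v := by group
        _ = e * c * (f * d) * v := by rw [c1 d hd f hf]
        _ = _ := by group
    have hy3 : (pre S).nJ * v * ((pre S).nJ)⁻¹ ∈ L.XN g 3 :=
      (mem_cj (nJ_XN S (m := 1) (k := 3) (by norm_num))).2 ⟨v, hv, rfl⟩
    rw [hy] at hy3
    set P := e * c * f with hP
    set T := d * v with hT
    have hP0 : P ∈ L.XN g 0 := mul_mem (mul_mem he hc) hf
    have hT1 : T ∈ L.XN g 1 := mul_mem hd hv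
    have hPT := c1 T hT1 P hP0
    -- apply `t₁`
    have i1 := S.tN_inv (m := 3) (k := 1) (by norm_num) hy3
    have i2 := S.tN_inv (m := 0) (k := 1) (by norm_num) hP0
    have i3 := S.tN_cent (m := 1) (k := 1) rfl hT1
    have i4 : tN t L g 1 * (P * T) * (tN t L g 1)⁻¹ = P⁻¹ * T := by
      calc tN t L g 1 * (P * T) * (tN t L g 1)⁻¹
          = (tN t L g 1 * P * (tN t L g 1)⁻¹) * (tN t L g 1 * T) * (tN t L g 1)⁻¹ := by group
        _ = P⁻¹ * T := by rw [i2, i3]; group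
    rw [i1, ← hPT] at i4
    have i5 : T * T = 1 := by
      have : (T * P)⁻¹ = P⁻¹ * T⁻¹ := by group
      rw [this] at i4
      have := mul_left_cancel i4
      calc T * T = T⁻¹ * T := by rw [this]
        _ = 1 := by group
    have i6 := XN_sq S hT1 i5
    rw [i6, mul_one] at hy3
    have i7 : P = 1 := XN_inf S (m := 0) (k := 3) (by norm_num) (by norm_num) hP0 hy3
    rw [i6, i7, mul_one] at hy
    calc v = ((pre S).nJ)⁻¹ * ((pre S).nJ * v * ((pre S).nJ)⁻¹) * (pre S).nJ := by group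
      _ = 1 := by rw [hy]; group
  have h1 := key _ ((mem_x2 S).2 ⟨1, rfl⟩)
  rw [← (pre S).x2_zero] at h1
  exact one_ne_zero (x2_inj S h1)

end frame

end Cfsg.Agent.GTwoOdd.HexBad
end

-- part: GTwoOdd/SymmL
section
/-!
# Exchange of the two factors
-/

set_option autoImplicit false

namespace Cfsg.Agent.GTwoOdd

open Matrix

namespace LocalSL

variable {G : Type*} [Group G] {t : G} {F1 F2 : Type*} [Field F1] [Field F2]

/-- exchange of the two factors -/
def sw (L : LocalSL t F1 F2) : LocalSL t F2 F1 where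
  e1 := L.e2
  e2 := L.e1
  inj1 := L.inj2
  inj2 := L.inj1
  comm x y := (L.comm y x).symm
  neg1 := L.neg2
  neg2 := L.neg1
  cent c h h1 h2 := L.cent c h h2 h1

@[simp] theorem sw_e1 (L : LocalSL t F1 F2) : L.sw.e1 = L.e2 := rfl
@[simp] theorem sw_e2 (L : LocalSL t F1 F2) : L.sw.e2 = L.e1 := rfl
@[simp] theorem sw_sw (L : LocalSL t F1 F2) : L.sw.sw = L := rfl

variable {L : LocalSL t F1 F2}

theorem Rep.sw {c : G} {A : M2 F1} {B : M2 F2} (h : L.Rep c A B) : L.sw.Rep c B A := ⟨h.comm, h.acts2, h.acts1⟩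

theorem Rep.of_sw {c : G} {A : M2 F1} {B : M2 F2} (h : L.sw.Rep c B A) : L.Rep c A B := ⟨h.comm, h.acts2, h.acts1⟩

theorem Hyp.sw (H : L.Hyp) : L.sw.Hyp where
  norm1 := H.norm2
  norm2 := H.norm1
  comm_mem c d hc hd := by
    obtain ⟨x, y, h⟩ := H.comm_mem c d hc hd
    refine ⟨y, x, ?_⟩
    rw [sw_e1, sw_e2, ← L.comm]
    exact h
  sq_mem c hc h := by
    obtain ⟨A, B, h⟩ := h
    obtain ⟨A', B', h'⟩ := H.sq_mem c hc ⟨B, A, h.of_sw⟩
    exact ⟨B', A', h'.sw⟩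
  square_iff c A B h := (H.square_iff c B A h.of_sw).symm
  outer := by
    obtain ⟨g, A, B, h1, h2, h3, h4⟩ := H.outer
    exact ⟨g, B, A, h1.sw, h3, h2, h4⟩

theorem Frame.sw {s : G} {D1 : M2 F1} {D2 : M2 F2} {n1 : SL2 F1} {n2 : SL2 F2} (F : L.Frame s D1 D2 n1 n2) :
    L.sw.Frame s D2 D1 n2 n1 := ⟨F.hyp.sw, F.rep.sw, F.tr2, F.tr1, F.anti2, F.anti1⟩

theorem Swap.sw {s g : G} {D1 : M2 F1} {D2 : M2 F2} {n1 : SL2 F1} {n2 : SL2 F2} (S : L.Swap s D1 D2 n1 n2 g) :
    L.sw.Swap s D2 D1 n2 n1 g := ⟨S.toFrame.sw, S.gt, S.gs⟩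

theorem sw_tor (L : LocalSL t F1 F2) (D1 : M2 F1) (D2 : M2 F2) : L.sw.tor D2 D1 = L.tor D1 D2 := by
  ext c
  constructor
  · rintro ⟨A, B, h, h1, h2⟩
    exact ⟨B, A, h.of_sw, h2, h1⟩
  · rintro ⟨A, B, h, h1, h2⟩
    exact ⟨B, A, h.sw, h2, h1⟩

theorem sw_baseX (L : LocalSL t F1 F2) {i j : ℕ} (h : (i + j) % 4 = 3) : L.sw.baseX i = L.baseX j := by
  have h4 : i % 4 < 4 := Nat.mod_lt _ (by norm_num)
  interval_cases hi : i % 4
  · rw [L.sw.baseX_0 hi, L.baseX_3 (by omega)]; rfl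
  · rw [L.sw.baseX_1 hi, L.baseX_2 (by omega)]; rfl
  · rw [L.sw.baseX_2 hi, L.baseX_1 (by omega)]; rfl
  · rw [L.sw.baseX_3 hi, L.baseX_0 (by omega)]; rfl

variable [Finite F1] [Finite F2] {s g : G}

/-- `ρ` of the exchanged datum is `ρ` modulo `T` -/
theorem Swap.sw_rho (S : L.Split s g) : EqT (TT L) (ro L.sw g) (ro L g) := by
  -- `r2 = r1⁻¹ w`
  obtain ⟨τ, hτ, hw⟩ := S.w_g
  have nr1 := S.nT_r1
  have nr2 := S.nT_r2
  have nrp := S.nT_rp
  have cm : L.e1 (wn F1) * L.e2 (wn F2) = L.e2 (wn F2) * L.e1 (wn F1) := L.comm _ _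
  -- `g r2 g⁻¹ = (g r1 g⁻¹)⁻¹ τ r1 r2`
  have h1 : g * L.e2 (wn F2) * g⁻¹ = (rp L (wn F1) g)⁻¹ * τ * (L.e1 (wn F1) * L.e2 (wn F2)) := by
    unfold rp
    calc g * L.e2 (wn F2) * g⁻¹ = (g * L.e1 (wn F1) * g⁻¹)⁻¹ * (g * (L.e1 (wn F1) * L.e2 (wn F2)) * g⁻¹) := by group
      _ = _ := by rw [hw]; group
  have h2 : ro L.sw g = L.e2 (wn F2) * ((rp L (wn F1) g)⁻¹ * τ * (L.e1 (wn F1) * L.e2 (wn F2))) := by
    change L.e2 (wn F2) * (g * L.e2 (wn F2) * g⁻¹) = _
    rw [h1]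
  -- `r2 rp⁻¹ r1 r2 = r2 (r1⁻¹ ρ)⁻¹ r1 r2 = r2 ρ⁻¹ r1 r1 r2 = r2 ρ⁻¹ r2 = ρ`
  have h3 : EqT (TT L) (ro L.sw g) (L.e2 (wn F2) * ((rp L (wn F1) g)⁻¹ * (L.e1 (wn F1) * L.e2 (wn F2)))) := by
    rw [h2]
    apply EqT.mul nr2 (EqT.refl _)
    have e : (rp L (wn F1) g)⁻¹ * τ * (L.e1 (wn F1) * L.e2 (wn F2)) =
        ((rp L (wn F1) g)⁻¹ * τ * rp L (wn F1) g) * ((rp L (wn F1) g)⁻¹ * (L.e1 (wn F1) * L.e2 (wn F2))) := by group
    rw [e]
    unfold EqT
    have e2 : (rp L (wn F1) g)⁻¹ * τ * rp L (wn F1) g * ((rp L (wn F1) g)⁻¹ * (L.e1 (wn F1) * L.e2 (wn F2))) *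
        ((rp L (wn F1) g)⁻¹ * (L.e1 (wn F1) * L.e2 (wn F2)))⁻¹ = (rp L (wn F1) g)⁻¹ * τ * rp L (wn F1) g := by group
    rw [e2]
    exact nrp.2 _ hτ
  refine h3.trans ?_
  have h4 : L.e2 (wn F2) * ((rp L (wn F1) g)⁻¹ * (L.e1 (wn F1) * L.e2 (wn F2))) =
      L.e2 (wn F2) * (ro L g)⁻¹ * (L.e1 (wn F1) * L.e1 (wn F1)) * L.e2 (wn F2) := by
    unfold ro rho
    group
  rw [h4]
  have nro := S.nT_rho
  have h5 : EqT (TT L) (L.e2 (wn F2) * (ro L g)⁻¹ * (L.e1 (wn F1) * L.e1 (wn F1)) * L.e2 (wn F2))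
      (L.e2 (wn F2) * (ro L g)⁻¹ * 1 * L.e2 (wn F2)) :=
    EqT.mul ((nr2.mul nro.inv).mul NormT.one) (EqT.mul (nr2.mul nro.inv) (EqT.refl _) S.r1_sqT) (EqT.refl _)
  refine h5.trans ?_
  rw [mul_one]
  -- `r2 ρ⁻¹ r2 = (r2 ρ r2⁻¹)⁻¹ (r2 r2)`
  have h6 : L.e2 (wn F2) * (ro L g)⁻¹ * L.e2 (wn F2) =
      (L.e2 (wn F2) * ro L g * (L.e2 (wn F2))⁻¹)⁻¹ * (L.e2 (wn F2) * L.e2 (wn F2)) := by group
  rw [h6]
  have h7 := EqT.inv nro.inv S.r2_rhoT
  rw [inv_inv] at h7
  have h8 := EqT.mul nro h7 S.r2_sqT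
  rwa [mul_one] at h8

/-- the root groups of the exchanged datum: `m ↦ 7 m + 3` -/
theorem Swap.sw_XN (S : L.Split s g) {m k : ℕ} (h : k % 12 = (7 * m + 3) % 12) : L.sw.XN g m = L.XN g k := by
  unfold XN
  rw [L.sw_baseX (show (m + k) % 4 = 3 by omega)]
  refine EqT.cjS_eq (T := TT L) (b := rho L (wn F1) g ^ k) ?_ (S.nT_rho.pow k) (fun c hc => S.cjS_base hc k)
  have h1 : ∀ j : ℕ, EqT (TT L) (ro L.sw g ^ j) (ro L g ^ j) := by
    intro j
    induction j with
    | zero => rw [pow_zero, pow_zero]; exact EqT.refl 1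
    | succ j ih =>
      rw [pow_succ, pow_succ]
      exact EqT.mul (S.nT_rho.pow j) ih S.sw_rho
  exact (h1 m).trans (S.rho_mod (by omega))

end LocalSL

end Cfsg.Agent.GTwoOdd
end

-- part: GTwoOdd/XRho
section
/-!
# `T_i ∩ T_i^ρ` in an arbitrary frame
-/

set_option autoImplicit false

namespace Cfsg.Agent.GTwoOdd

open Matrix

namespace LocalSL

variable {G : Type*} [Group G] {t : G} {F1 F2 : Type*} [Field F1] [Field F2]
variable [Finite F1] [Finite F2] {L : LocalSL t F1 F2} {s g : G} {D1 : M2 F1} {D2 : M2 F2} {n1 : SL2 F1} {n2 : SL2 F2}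

namespace Swap

variable (S : L.Swap s D1 D2 n1 n2 g)
include S

theorem ng_rho : NormT (L.tor D1 D2) (rho L n1 g) := ⟨fun _ hc => S.rho_tor hc, fun _ hc => S.rho_tor' hc⟩
theorem ng_r1 : NormT (L.tor D1 D2) (L.e1 n1) := ⟨fun _ hc => S.r1_tor hc, fun _ hc => S.r1_tor' hc⟩
theorem ng_r2 : NormT (L.tor D1 D2) (L.e2 n2) := ⟨fun _ hc => S.r2_tor hc, fun _ hc => S.r2_tor' hc⟩
theorem ng_g : NormT (L.tor D1 D2) g := ⟨fun _ hc => S.g_tor hc, fun _ hc => S.g_tor' hc⟩
theorem ng_rp : NormT (L.tor D1 D2) (rp L n1 g) := ⟨fun _ hc => S.rp_tor hc, fun _ hc => S.rp_tor' hc⟩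

theorem gr1_sq : EqT (L.tor D1 D2) (L.e1 n1 * L.e1 n1) 1 := by
  apply EqT.one_of_mem; rw [S.r1_sq]; exact S.toFrame.t_mem

theorem gr2_sq : EqT (L.tor D1 D2) (L.e2 n2 * L.e2 n2) 1 := by
  apply EqT.one_of_mem; rw [S.r2_sq]; exact S.toFrame.t_mem

/-- `r1 ρ r1⁻¹ = ρ⁻¹` modulo `T` -/
theorem gr1_rho : EqT (L.tor D1 D2) (L.e1 n1 * rho L n1 g * (L.e1 n1)⁻¹) (rho L n1 g)⁻¹ := by
  unfold EqT
  rw [inv_inv]
  have := S.r1_rho
  rw [this]
  exact mul_mem S.toFrame.t_mem S.toFrame.s_mem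

/-- `r2 ρ r2⁻¹ = ρ⁻¹` modulo `T` -/
theorem gr2_rho : EqT (L.tor D1 D2) (L.e2 n2 * rho L n1 g * (L.e2 n2)⁻¹) (rho L n1 g)⁻¹ := by
  obtain ⟨τ, hτ, hw⟩ := S.w_g
  have nr1 := S.ng_r1
  have nr2 := S.ng_r2
  have nro := S.ng_rho
  have nrp := S.ng_rp
  have ng := S.ng_g
  have cm : L.e1 n1 * L.e2 n2 = L.e2 n2 * L.e1 n1 := L.comm _ _
  have h1 : EqT (L.tor D1 D2) (L.e1 n1 * L.e2 n2 * rp L n1 g * (L.e1 n1 * L.e2 n2)⁻¹) (rp L n1 g) := by
    have hwg : (L.e1 n1 * L.e2 n2) * g = τ⁻¹ * (g * (L.e1 n1 * L.e2 n2)) := by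
      calc (L.e1 n1 * L.e2 n2) * g = τ⁻¹ * (τ * (L.e1 n1 * L.e2 n2)) * g := by group
        _ = τ⁻¹ * (g * (L.e1 n1 * L.e2 n2) * g⁻¹) * g := by rw [hw]
        _ = _ := by group
    have hwr : (L.e1 n1 * L.e2 n2) * L.e1 n1 * (L.e1 n1 * L.e2 n2)⁻¹ = L.e1 n1 := by
      calc (L.e1 n1 * L.e2 n2) * L.e1 n1 * (L.e1 n1 * L.e2 n2)⁻¹
          = L.e1 n1 * (L.e2 n2 * L.e1 n1) * (L.e1 n1 * L.e2 n2)⁻¹ := by group
        _ = _ := by rw [← cm]; group
    have e : L.e1 n1 * L.e2 n2 * rp L n1 g * (L.e1 n1 * L.e2 n2)⁻¹ =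
        τ⁻¹ * rp L n1 g * τ := by
      unfold rp
      calc L.e1 n1 * L.e2 n2 * (g * L.e1 n1 * g⁻¹) * (L.e1 n1 * L.e2 n2)⁻¹
          = ((L.e1 n1 * L.e2 n2) * g) * L.e1 n1 * ((L.e1 n1 * L.e2 n2) * g)⁻¹ := by group
        _ = τ⁻¹ * g * ((L.e1 n1 * L.e2 n2) * L.e1 n1 * (L.e1 n1 * L.e2 n2)⁻¹) * g⁻¹ * τ := by
          rw [hwg]; group
        _ = _ := by rw [hwr]; group
    rw [e]
    unfold EqT
    have e2 : τ⁻¹ * rp L n1 g * τ * (rp L n1 g)⁻¹ = τ⁻¹ * (rp L n1 g * τ * (rp L n1 g)⁻¹) := by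
      group
    rw [e2]
    exact mul_mem (inv_mem hτ) (nrp.1 _ hτ)
  have h2 : EqT (L.tor D1 D2) (L.e1 n1 * L.e2 n2 * rho L n1 g * (L.e1 n1 * L.e2 n2)⁻¹) (rho L n1 g) := by
    have e : L.e1 n1 * L.e2 n2 * rho L n1 g * (L.e1 n1 * L.e2 n2)⁻¹ =
        L.e1 n1 * (L.e1 n1 * L.e2 n2 * rp L n1 g * (L.e1 n1 * L.e2 n2)⁻¹) := by
      unfold rho
      calc L.e1 n1 * L.e2 n2 * (L.e1 n1 * rp L n1 g) * (L.e1 n1 * L.e2 n2)⁻¹
          = L.e1 n1 * (L.e2 n2 * L.e1 n1) * rp L n1 g * (L.e1 n1 * L.e2 n2)⁻¹ := by group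
        _ = _ := by rw [← cm]; group
    rw [e]
    exact EqT.mul nr1 (EqT.refl _) h1
  have e : L.e2 n2 * rho L n1 g * (L.e2 n2)⁻¹ = (L.e1 n1)⁻¹ *
      (L.e1 n1 * L.e2 n2 * rho L n1 g * (L.e1 n1 * L.e2 n2)⁻¹) * L.e1 n1 := by group
  rw [e]
  have h3 : EqT (L.tor D1 D2) ((L.e1 n1)⁻¹ *
      (L.e1 n1 * L.e2 n2 * rho L n1 g * (L.e1 n1 * L.e2 n2)⁻¹) * L.e1 n1)
      ((L.e1 n1)⁻¹ * rho L n1 g * L.e1 n1) :=
    EqT.mul (nr1.inv.mul nro) (EqT.mul nr1.inv (EqT.refl _) h2) (EqT.refl _)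
  refine h3.trans ?_
  have h4 := EqT.inv nro.inv S.gr1_rho
  rw [inv_inv] at h4
  have h5 : EqT (L.tor D1 D2) ((L.e1 n1)⁻¹ * (L.e1 n1 * rho L n1 g * (L.e1 n1)⁻¹)⁻¹ * L.e1 n1)
      ((L.e1 n1)⁻¹ * rho L n1 g * L.e1 n1) :=
    EqT.mul (nr1.inv.mul nro) (EqT.mul nr1.inv (EqT.refl _) h4) (EqT.refl _)
  refine h5.symm.trans (EqT.of_eq ?_)
  group

/-- `ρ` of the exchanged datum is `ρ` modulo `T` -/
theorem gsw_rho : EqT (L.tor D1 D2) (rho L.sw n2 g) (rho L n1 g) := by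
  obtain ⟨τ, hτ, hw⟩ := S.w_g
  have nr1 := S.ng_r1
  have nr2 := S.ng_r2
  have nrp := S.ng_rp
  have h1 : g * L.e2 n2 * g⁻¹ = (rp L n1 g)⁻¹ * τ * (L.e1 n1 * L.e2 n2) := by
    unfold rp
    calc g * L.e2 n2 * g⁻¹ = (g * L.e1 n1 * g⁻¹)⁻¹ * (g * (L.e1 n1 * L.e2 n2) * g⁻¹) := by group
      _ = _ := by rw [hw]; group
  have h2 : rho L.sw n2 g = L.e2 n2 * ((rp L n1 g)⁻¹ * τ * (L.e1 n1 * L.e2 n2)) := by
    change L.e2 n2 * (g * L.e2 n2 * g⁻¹) = _
    rw [h1]
  have h3 : EqT (L.tor D1 D2) (rho L.sw n2 g) (L.e2 n2 * ((rp L n1 g)⁻¹ * (L.e1 n1 * L.e2 n2))) := by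
    rw [h2]
    apply EqT.mul nr2 (EqT.refl _)
    have e : (rp L n1 g)⁻¹ * τ * (L.e1 n1 * L.e2 n2) =
        ((rp L n1 g)⁻¹ * τ * rp L n1 g) * ((rp L n1 g)⁻¹ * (L.e1 n1 * L.e2 n2)) := by group
    rw [e]
    unfold EqT
    have e2 : (rp L n1 g)⁻¹ * τ * rp L n1 g * ((rp L n1 g)⁻¹ * (L.e1 n1 * L.e2 n2)) *
        ((rp L n1 g)⁻¹ * (L.e1 n1 * L.e2 n2))⁻¹ = (rp L n1 g)⁻¹ * τ * rp L n1 g := by group
    rw [e2]
    exact nrp.2 _ hτ
  refine h3.trans ?_
  have h4 : L.e2 n2 * ((rp L n1 g)⁻¹ * (L.e1 n1 * L.e2 n2)) =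
      L.e2 n2 * (rho L n1 g)⁻¹ * (L.e1 n1 * L.e1 n1) * L.e2 n2 := by
    unfold rho
    group
  rw [h4]
  have nro := S.ng_rho
  have h5 : EqT (L.tor D1 D2) (L.e2 n2 * (rho L n1 g)⁻¹ * (L.e1 n1 * L.e1 n1) * L.e2 n2)
      (L.e2 n2 * (rho L n1 g)⁻¹ * 1 * L.e2 n2) :=
    EqT.mul ((nr2.mul nro.inv).mul NormT.one) (EqT.mul (nr2.mul nro.inv) (EqT.refl _) S.gr1_sq) (EqT.refl _)
  refine h5.trans ?_
  rw [mul_one]
  have h6 : L.e2 n2 * (rho L n1 g)⁻¹ * L.e2 n2 =
      (L.e2 n2 * rho L n1 g * (L.e2 n2)⁻¹)⁻¹ * (L.e2 n2 * L.e2 n2) := by group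
  rw [h6]
  have h7 := EqT.inv nro.inv S.gr2_rho
  rw [inv_inv] at h7
  have h8 := EqT.mul nro h7 S.gr2_sq
  rwa [mul_one] at h8

/-- conjugation of elements of `T` by elements equal modulo `T` -/
theorem cj_tor {a b x : G} (h : EqT (L.tor D1 D2) a b) (hx : x ∈ L.tor D1 D2) : a⁻¹ * x * a = b⁻¹ * x * b := by
  have h1 : (a * b⁻¹) * x = x * (a * b⁻¹) := S.toFrame.tor_comm h hx
  have h2 : (a * b⁻¹)⁻¹ * x * (a * b⁻¹) = x := by
    rw [mul_assoc, ← h1]; group
  calc a⁻¹ * x * a = b⁻¹ * ((a * b⁻¹)⁻¹ * x * (a * b⁻¹)) * b := by group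
    _ = _ := by rw [h2]

end Swap

/-- `x ∈ T_2 ∩ T_2^ρ`, `x ≠ 1` -/
structure XIn (L : LocalSL t F1 F2) (s : G) (D1 : M2 F1) (D2 : M2 F2) (n1 : SL2 F1) (n2 : SL2 F2) (g x : G) : Prop where
  sw : L.Swap s D1 D2 n1 n2 g
  mem : x ∈ L.tor2 D2
  mem' : (rho L n1 g)⁻¹ * x * rho L n1 g ∈ L.tor2 D2
  ne : x ≠ 1

/-- `x ∈ T_1 ∩ T_1^ρ` gives `XIn` for the exchanged datum -/
theorem XIn.of_sw (S : L.Swap s D1 D2 n1 n2 g) {x : G} (h1 : x ∈ L.tor1 D1)
    (h2 : (rho L n1 g)⁻¹ * x * rho L n1 g ∈ L.tor1 D1) (hne : x ≠ 1) : XIn L.sw s D2 D1 n2 n1 g x := by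
  refine ⟨S.sw, h1, ?_, hne⟩
  have := S.cj_tor S.gsw_rho (Frame.tor1_le L D1 D2 h1)
  rw [this]
  exact h2

namespace XIn

variable {x : G} (X : XIn L s D1 D2 n1 n2 g x)
include X

theorem e1 (y : SL2 F1) : L.e1 y * x = x * L.e1 y := Frame.tor2_e1 X.mem y

/-- `x` centralises `ρ L1 ρ⁻¹` -/
theorem re1 (y : SL2 F1) : rho L n1 g * L.e1 y * (rho L n1 g)⁻¹ * x = x * (rho L n1 g * L.e1 y * (rho L n1 g)⁻¹) := by
  have h1 := Frame.tor2_e1 X.mem' y
  calc rho L n1 g * L.e1 y * (rho L n1 g)⁻¹ * x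
      = rho L n1 g * (L.e1 y * ((rho L n1 g)⁻¹ * x * rho L n1 g)) * (rho L n1 g)⁻¹ := by group
    _ = _ := by rw [h1]; group

/-- the matrix of `x` -/
theorem exists_x0 : ∃ x0 : SL2 F2, x = L.e2 x0 ∧ (x0 : M2 F2) * D2 = D2 * x0 ∧ x0 ≠ 1 ∧ x0 ≠ -1 := by
  obtain ⟨x0, h1, h2⟩ := mem_tor2.1 X.mem
  refine ⟨x0, h2, h1, ?_, ?_⟩
  · rintro rfl
    apply X.ne
    rw [h2, map_one]
  · rintro rfl
    rw [L.neg2] at h2
    -- `x = t`, `ρ⁻¹ t ρ ∈ T2` is an involution, hence `t`; but `ρ t = s ρ`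
    have h3 := X.mem'
    rw [h2] at h3
    obtain ⟨y, -, h5⟩ := mem_tor2.1 h3
    -- `y² = 1`
    have hρ : rho L n1 g * (s * t) * (rho L n1 g)⁻¹ = t := by
      have e1 := X.sw.rho_t
      have e2 := X.sw.rho_s
      have hst := X.sw.toFrame.rep.comm
      calc rho L n1 g * (s * t) * (rho L n1 g)⁻¹ = (rho L n1 g * s) * t * (rho L n1 g)⁻¹ := by group
        _ = s * t * (rho L n1 g * t) * (rho L n1 g)⁻¹ := by rw [e2]; group
        _ = s * t * s := by rw [e1]; group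
        _ = t * (s * s) := by rw [hst, mul_assoc]
        _ = t := by rw [X.sw.toFrame.ss, mul_one]
    have h6 : (rho L n1 g)⁻¹ * t * rho L n1 g = s * t := by
      nth_rw 2 [← hρ]; group
    rw [h6] at h5
    -- `e2 y = s t`
    have h7 : L.Rep (s * t) D1 D2 := by
      have := X.sw.toFrame.mul_t
      exact this.rep
    have h8 := Rep.e2 L y
    rw [← h5] at h8
    obtain ⟨⟨a, ha, h9⟩, -⟩ := h8.prop h7
    have htr := X.sw.toFrame.tr1
    rw [h9, Matrix.trace_smul, Matrix.trace_fin_two] at htr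
    simp only [_root_.Matrix.one_apply_eq, _root_.smul_eq_mul, _root_.mul_eq_zero] at htr
    rcases htr with h | h
    · exact ha h
    · exact X.sw.toFrame.two1 (by linear_combination h)

end XIn

end LocalSL

end Cfsg.Agent.GTwoOdd
end

-- part: GTwoOdd/RootClass
section
/-!
# Subgroups of `C(t)` of odd order inverted by `s` and normalised by the torus
-/

set_option autoImplicit false

namespace Cfsg.Agent.GTwoOdd

open Matrix ZIso

namespace LocalSL

variable {G : Type*} [Group G] [Finite G] {t : G} {F1 F2 : Type*} [Field F1] [Field F2]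
variable [Finite F1] [Finite F2] {L : LocalSL t F1 F2} {s : G} {D1 : M2 F1} {D2 : M2 F2} {n1 : SL2 F1} {n2 : SL2 F2}

/-- `Y` is a subgroup of `C(t)` of odd order, inverted by `s` and normalised by the torus -/
structure YD (L : LocalSL t F1 F2) (s : G) (D1 : M2 F1) (D2 : M2 F2) (Y : Subgroup G) : Prop where
  odd : Odd (Nat.card Y)
  ct : ∀ y ∈ Y, y * t = t * y
  inv : ∀ y ∈ Y, s * y * s⁻¹ = y⁻¹
  tor : ∀ c ∈ L.tor D1 D2, ∀ y ∈ Y, c * y * c⁻¹ ∈ Y

namespace YD

omit [Finite G] [Finite F1] [Finite F2] in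
theorem comm {Y : Subgroup G} (h : YD L s D1 D2 Y) {y z : G} (hy : y ∈ Y) (hz : z ∈ Y) : y * z = z * y := by
  have h1 := h.inv _ (mul_mem hy hz)
  have h2 := h.inv _ hy
  have h3 := h.inv _ hz
  have h4 : s * (y * z) * s⁻¹ = (s * y * s⁻¹) * (s * z * s⁻¹) := by group
  rw [h4, h2, h3] at h1
  have h5 := congrArg (·⁻¹) h1
  simp only [_root_.mul_inv_rev, inv_inv] at h5
  exact h5.symm

/-- the components of the elements of `Y` -/
structure Comp (L : LocalSL t F1 F2) (D1 : M2 F1) (D2 : M2 F2) (m : ℕ) (x1 : SL2 F1) (x2 : SL2 F2) : Prop where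
  pow1 : x1 ^ m = 1
  pow2 : x2 ^ m = 1
  inv1 : (x1 : M2 F1) * D1 = D1 * (x1⁻¹ : SL2 F1)
  inv2 : (x2 : M2 F2) * D2 = D2 * (x2⁻¹ : SL2 F2)
  cm1 : ∀ (A : M2 F1) (y : SL2 F1), A * D1 = D1 * A → A.det ≠ 0 → (y : M2 F1) * A = A * x1 → x1 * y = y * x1
  cm2 : ∀ (A : M2 F2) (y : SL2 F2), A * D2 = D2 * A → A.det ≠ 0 → (y : M2 F2) * A = A * x2 → x2 * y = y * x2

omit [Finite G] [Finite F1] [Finite F2] in
theorem e12_mul (x x' : SL2 F1) (y y' : SL2 F2) : L.e1 x * L.e2 y * (L.e1 x' * L.e2 y') = L.e1 (x * x') * L.e2 (y * y') := by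
  rw [map_mul, map_mul]
  calc L.e1 x * L.e2 y * (L.e1 x' * L.e2 y') = L.e1 x * (L.e2 y * L.e1 x') * L.e2 y' := by group
    _ = _ := by rw [← L.comm]; group

omit [Finite G] [Finite F1] [Finite F2] in
theorem e12_pow (x : SL2 F1) (y : SL2 F2) (n : ℕ) : (L.e1 x * L.e2 y) ^ n = L.e1 (x ^ n) * L.e2 (y ^ n) := by
  induction n with
  | zero => simp
  | succ n ih => rw [pow_succ, ih, e12_mul, ← pow_succ, ← pow_succ]

omit [Finite G] [Finite F1] [Finite F2] in
theorem conj_e12 {c : G} {A : M2 F1} {B : M2 F2} (h : L.Rep c A B) {x y : SL2 F1} {z w : SL2 F2}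
    (h1 : (y : M2 F1) * A = A * x) (h2 : (w : M2 F2) * B = B * z) :
    c * (L.e1 x * L.e2 z) * c⁻¹ = L.e1 y * L.e2 w := by
  calc c * (L.e1 x * L.e2 z) * c⁻¹ = (c * L.e1 x) * L.e2 z * c⁻¹ := by group
    _ = L.e1 y * (c * L.e2 z) * c⁻¹ := by rw [h.acts1.2 _ _ h1]; group
    _ = _ := by rw [h.acts2.2 _ _ h2]; group

theorem decomp (F : L.Frame s D1 D2 n1 n2) {Y : Subgroup G} (h : YD L s D1 D2 Y) {y : G} (hy : y ∈ Y) :
    ∃ x1 x2, Comp L D1 D2 (Nat.card Y) x1 x2 ∧ y = L.e1 x1 * L.e2 x2 := by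
  set m := Nat.card Y with hm
  have hpow : ∀ z ∈ Y, z ^ m = 1 := by
    intro z hz
    have h1 : (⟨z, hz⟩ : Y) ^ Nat.card Y = 1 := pow_card_eq_one'
    exact congrArg Subtype.val h1
  -- `y` is in `L1 L2`
  have hmem : ∀ z ∈ Y, ∃ x1 x2, z = L.e1 x1 * L.e2 x2 := by
    intro z hz
    obtain ⟨a, b, hab⟩ := F.hyp.comm_mem s z F.rep.comm (h.ct z hz)
    have h1 := h.inv z hz
    -- `z⁻¹ = e1 a e2 b z`
    have h2 : z⁻¹ = L.e1 a * L.e2 b * z := by
      rw [← h1, hab]; group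
    have h3 : z⁻¹ * z⁻¹ = L.e1 a * L.e2 b := by
      nth_rw 1 [h2]; group
    obtain ⟨k, hk⟩ := h.odd
    have h4 : z = (z⁻¹ * z⁻¹) ^ k := by
      have h5 := hpow z hz
      rw [hm, hk, pow_succ, pow_mul] at h5
      have h6 : (z⁻¹ * z⁻¹) ^ k = ((z ^ 2) ^ k)⁻¹ := by rw [← pow_two, inv_pow, inv_pow]
      rw [h6]
      exact eq_inv_of_mul_eq_one_right h5
    refine ⟨a ^ k, b ^ k, ?_⟩
    rw [← e12_pow, ← h3]; exact h4
  -- components of odd order
  have hodd : ∀ z ∈ Y, ∃ x1 x2, x1 ^ m = 1 ∧ x2 ^ m = 1 ∧ z = L.e1 x1 * L.e2 x2 := by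
    intro z hz
    obtain ⟨x1, x2, h1⟩ := hmem z hz
    have h2 := hpow z hz
    rw [h1, e12_pow] at h2
    rcases e12_eq_one h2 with ⟨h3, h4⟩ | ⟨h3, h4⟩
    · exact ⟨x1, x2, h3, h4, h1⟩
    · refine ⟨-x1, -x2, ?_, ?_, ?_⟩
      · rw [neg_pow, h.odd.neg_one_pow, h3]; simp
      · rw [neg_pow, h.odd.neg_one_pow, h4]; simp
      · rw [Rep.neg_neg]; exact h1
  obtain ⟨x1, x2, hx1, hx2, hyx⟩ := hodd y hy
  -- comparison of two decompositions
  have cmp : ∀ {u u' : SL2 F1} {v v' : SL2 F2}, u ^ m = 1 → u' ^ m = 1 →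
      L.e1 u * L.e2 v = L.e1 u' * L.e2 v' → u = u' ∧ v = v' := by
    intro u u' v v' hu hu' he
    rcases e12_inj he with ⟨h1, h2⟩ | ⟨h1, h2⟩
    · exact ⟨h1, h2⟩
    · exfalso
      have := eq_of_neg_odd F.two1 h.odd hu hu' (Or.inr h1)
      rw [this] at h1
      have h3 : u' ^ m = -(u' ^ m) := by
        nth_rw 1 [h1]
        rw [neg_pow, h.odd.neg_one_pow, neg_one_mul]
      rw [hu'] at h3
      exact neg_one_ne_one F.two1 h3.symm
  have hpc1 : ∀ {u y : SL2 F1} {A : M2 F1}, A.det ≠ 0 → (y : M2 F1) * A = A * u → u ^ m = 1 → y ^ m = 1 := by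
    intro u y A hA hyu hu
    have h1 : ∀ k : ℕ, ((y ^ k : SL2 F1) : M2 F1) * A = A * ((u ^ k : SL2 F1) : M2 F1) := by
      intro k
      induction k with
      | zero => simp
      | succ k ih =>
        rw [pow_succ, pow_succ, Matrix.SpecialLinearGroup.coe_mul, Matrix.SpecialLinearGroup.coe_mul, mul_assoc, hyu,
          ← mul_assoc, ih, mul_assoc]
    have h2 := h1 m
    rw [hu] at h2
    apply sl_eq_of_mul hA
    rw [h2]; simp
  -- `s` inverts
  obtain ⟨z1, hz1⟩ := exists_cj F.det1 x1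
  obtain ⟨z2, hz2⟩ := exists_cj F.det2 x2
  have hs := conj_e12 F.rep hz1 hz2
  rw [← hyx, h.inv y hy] at hs
  have hyi : y⁻¹ = L.e1 x1⁻¹ * L.e2 x2⁻¹ := by
    rw [hyx, _root_.mul_inv_rev, map_inv, map_inv, ← _root_.mul_inv_rev, ← _root_.mul_inv_rev, L.comm]
  rw [hyi] at hs
  have hx1i : (x1⁻¹) ^ m = 1 := by rw [inv_pow, hx1, inv_one]
  obtain ⟨e1, e2⟩ := cmp hx1i (hpc1 F.det1 hz1 hx1) hs
  -- commuting with the conjugates
  have key : ∀ {A : M2 F1} {B : M2 F2} {c : G} {u : SL2 F1} {v : SL2 F2}, L.Rep c A B → A * D1 = D1 * A → B * D2 = D2 * B →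
      (u : M2 F1) * A = A * x1 → (v : M2 F2) * B = B * x2 → (x1 * u = u * x1 ∨ x1 * u = -(u * x1)) ∧
        (x2 * v = v * x2 ∨ x2 * v = -(v * x2)) := by
    intro A B c u v hr hA hB hu hv
    have h1 := conj_e12 hr hu hv
    rw [← hyx] at h1
    have h2 := h.tor c ⟨A, B, hr, hA, hB⟩ y hy
    have h3 := h.comm hy h2
    rw [h1, hyx, e12_mul, e12_mul] at h3
    rcases e12_inj h3 with ⟨h4, h5⟩ | ⟨h4, h5⟩
    · exact ⟨Or.inl h4, Or.inl h5⟩
    · exact ⟨Or.inr h4, Or.inr h5⟩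
  refine ⟨x1, x2, ⟨hx1, hx2, ?_, ?_, ?_, ?_⟩, hyx⟩
  · -- `x1 D1 = D1 x1⁻¹`
    have h1 : ((x1⁻¹ : SL2 F1) : M2 F1) * D1 = D1 * x1 := by rw [e1]; exact hz1
    calc (x1 : M2 F1) * D1 = (x1 : M2 F1) * (D1 * (x1 * (x1⁻¹ : SL2 F1))) := by rw [sl_mul_inv, mul_one]
      _ = (x1 : M2 F1) * ((D1 * x1) * (x1⁻¹ : SL2 F1)) := by simp only [mul_assoc]
      _ = (x1 : M2 F1) * ((((x1⁻¹ : SL2 F1) : M2 F1) * D1) * (x1⁻¹ : SL2 F1)) := by rw [h1]
      _ = ((x1 : M2 F1) * ((x1⁻¹ : SL2 F1) : M2 F1)) * D1 * (x1⁻¹ : SL2 F1) := by simp only [mul_assoc]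
      _ = _ := by rw [sl_mul_inv, one_mul]
  · have h1 : ((x2⁻¹ : SL2 F2) : M2 F2) * D2 = D2 * x2 := by rw [e2]; exact hz2
    calc (x2 : M2 F2) * D2 = (x2 : M2 F2) * (D2 * (x2 * (x2⁻¹ : SL2 F2))) := by rw [sl_mul_inv, mul_one]
      _ = (x2 : M2 F2) * ((D2 * x2) * (x2⁻¹ : SL2 F2)) := by simp only [mul_assoc]
      _ = (x2 : M2 F2) * ((((x2⁻¹ : SL2 F2) : M2 F2) * D2) * (x2⁻¹ : SL2 F2)) := by rw [h1]
      _ = ((x2 : M2 F2) * ((x2⁻¹ : SL2 F2) : M2 F2)) * D2 * (x2⁻¹ : SL2 F2) := by simp only [mul_assoc]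
      _ = _ := by rw [sl_mul_inv, one_mul]
  · intro A u hA hdet hu
    obtain ⟨B, c, hr, hB⟩ := F.exists_tor1 hA hdet
    obtain ⟨v, hv⟩ := exists_cj hr.det2 x2
    exact comm_of_neg F.two1 h.odd hx1 (key hr hA hB hu hv).1
  · intro B v hB hdet hv
    obtain ⟨A, c, hr, hA⟩ := F.exists_tor2 hB hdet
    obtain ⟨u, hu⟩ := exists_cj hr.det1 x1
    exact comm_of_neg F.two2 h.odd hx2 (key hr hA hB hu hv).2

end YD

/-- `T` is transitive on the elements `≠ 1` of `e1 (upper)` if the first matrix is `diag(1,-1)` -/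
theorem Frame.trans_up (F : L.Frame s (dg F1) D2 n1 n2) {a b : F1} (ha : a ≠ 0) (hb : b ≠ 0) :
    ∃ c ∈ L.tor (dg F1) D2, c * L.e1 (up a) * c⁻¹ = L.e1 (up b) := by
  have hdet : (!![b / a, 0; 0, 1] : M2 F1).det ≠ 0 := by
    rw [Matrix.det_fin_two]; simp; exact ⟨hb, ha⟩
  have hcm : (!![b / a, 0; 0, 1] : M2 F1) * dg F1 = dg F1 * !![b / a, 0; 0, 1] := by
    rw [comm_dg_iff F.two1]; simp
  obtain ⟨B, c, hc, hB⟩ := F.exists_tor1 hcm hdet
  refine ⟨c, ⟨_, _, hc, hcm, hB⟩, ?_⟩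
  have h := hc.acts1.2 (up a) (up b) (by
    have := diag_up (A := !![b / a, 0; 0, 1]) (by simp) (by simp) (by simp) a
    have e : (!![b / a, 0; 0, 1] : M2 F1) 0 0 * a / (!![b / a, 0; 0, 1] : M2 F1) 1 1 = b := by simp only [_root_.Fin.isValue, _root_.Matrix.of_apply, _root_.Matrix.cons_val', _root_.Matrix.cons_val_zero, _root_.Matrix.cons_val_fin_one, _root_.Matrix.cons_val_one, _root_.div_one]; field_simp
    rwa [e] at this)
  rw [h]; group

theorem Frame.trans_lo (F : L.Frame s (dg F1) D2 n1 n2) {a b : F1} (ha : a ≠ 0) (hb : b ≠ 0) :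
    ∃ c ∈ L.tor (dg F1) D2, c * L.e1 (lo a) * c⁻¹ = L.e1 (lo b) := by
  have hdet : (!![a / b, 0; 0, 1] : M2 F1).det ≠ 0 := by
    rw [Matrix.det_fin_two]; simp; exact ⟨ha, hb⟩
  have hcm : (!![a / b, 0; 0, 1] : M2 F1) * dg F1 = dg F1 * !![a / b, 0; 0, 1] := by
    rw [comm_dg_iff F.two1]; simp
  obtain ⟨B, c, hc, hB⟩ := F.exists_tor1 hcm hdet
  refine ⟨c, ⟨_, _, hc, hcm, hB⟩, ?_⟩
  have h := hc.acts1.2 (lo a) (lo b) (by
    have := diag_lo (A := !![a / b, 0; 0, 1]) (by simp) (by simp) (by simp; exact ⟨ha, hb⟩) a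
    have e : (!![a / b, 0; 0, 1] : M2 F1) 1 1 * a / (!![a / b, 0; 0, 1] : M2 F1) 0 0 = b := by simp; field_simp
    rwa [e] at this)
  rw [h]; group

omit [Finite G] [Finite F1] [Finite F2] in
theorem up_lo_comm {F : Type*} [Field F] {a b : F} (h : up a * lo b = lo b * up a) : a = 0 ∨ b = 0 := by
  have h1 : ((up a : M2 F) * (lo b : M2 F)) 0 0 = ((lo b : M2 F) * (up a : M2 F)) 0 0 :=
    congrArg (fun z : SL2 F => (z : M2 F) 0 0) h
  rw [up_coe, lo_coe, m2_mul_00, m2_mul_00] at h1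
  simp at h1
  exact h1

/-- a `T`-invariant subgroup of `e1 (U ∪ U⁻)` whose elements commute is `1`, `e1 U` or `e1 U⁻` -/
theorem Frame.class1 (F : L.Frame s (dg F1) D2 n1 n2) {P : Subgroup G}
    (hP : ∀ x ∈ P, ∃ z : SL2 F1, (z ∈ upU F1 ∨ z ∈ loU F1) ∧ x = L.e1 z)
    (hc : ∀ x ∈ P, ∀ y ∈ P, x * y = y * x) (hT : ∀ c ∈ L.tor (dg F1) D2, ∀ y ∈ P, c * y * c⁻¹ ∈ P) :
    P = ⊥ ∨ P = (upU F1).map L.e1 ∨ P = (loU F1).map L.e1 := by
  by_cases h0 : P = ⊥
  · exact Or.inl h0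
  right
  obtain ⟨⟨x, hx⟩, hx1⟩ := Subgroup.ne_bot_iff_exists_ne_one.1 h0
  replace hx1 : x ≠ 1 := fun h => hx1 (Subtype.ext h)
  obtain ⟨z, hz, rfl⟩ := hP x hx
  rcases hz with ⟨a, rfl⟩ | ⟨a, rfl⟩
  · left
    have ha : a ≠ 0 := by rintro rfl; apply hx1; rw [up_zero, map_one]
    apply le_antisymm
    · intro y hy
      obtain ⟨w, hw, rfl⟩ := hP y hy
      rcases hw with hw | ⟨b, rfl⟩
      · exact ⟨w, hw, rfl⟩
      · have h1 := hc _ hx _ hy
        rw [← map_mul, ← map_mul] at h1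
        rcases up_lo_comm (L.inj1 h1) with h2 | h2
        · exact absurd h2 ha
        · exact ⟨1, one_mem _, by rw [h2, lo_zero]⟩
    · rintro _ ⟨_, ⟨b, rfl⟩, rfl⟩
      by_cases hb : b = 0
      · rw [hb, up_zero, map_one]; exact one_mem _
      · obtain ⟨c, hcT, h1⟩ := F.trans_up ha hb
        rw [← h1]
        exact hT c hcT _ hx
  · right
    have ha : a ≠ 0 := by rintro rfl; apply hx1; rw [lo_zero, map_one]
    apply le_antisymm
    · intro y hy
      obtain ⟨w, hw, rfl⟩ := hP y hy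
      rcases hw with ⟨b, rfl⟩ | hw
      · have h1 := hc _ hx _ hy
        rw [← map_mul, ← map_mul] at h1
        rcases up_lo_comm (L.inj1 h1).symm with h2 | h2
        · exact ⟨1, one_mem _, by rw [h2, up_zero]⟩
        · exact absurd h2 ha
      · exact ⟨w, hw, rfl⟩
    · rintro _ ⟨_, ⟨b, rfl⟩, rfl⟩
      by_cases hb : b = 0
      · rw [hb, lo_zero, map_one]; exact one_mem _
      · obtain ⟨c, hcT, h1⟩ := F.trans_lo ha hb
        rw [← h1]
        exact hT c hcT _ hx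

/-- classification, second torus nonsplit -/
theorem YD.nonsplit2 (F : L.Frame s (dg F1) D2 n1 n2) (hns : ¬ IsSquare (-D2.det)) {Y : Subgroup G}
    (h : YD L s (dg F1) D2 Y) : Y = ⊥ ∨ Y = (upU F1).map L.e1 ∨ Y = (loU F1).map L.e1 := by
  apply F.class1 _ (fun x hx y hy => h.comm hx hy) h.tor
  intro x hx
  obtain ⟨x1, x2, hc, rfl⟩ := h.decomp F hx
  have h1 := comp_split F.two1 h.odd hc.pow1 hc.inv1 (fun A y h01 h10 hdet hy =>
    hc.cm1 A y ((comm_dg_iff F.two1).2 ⟨h01, h10⟩) hdet hy)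
  have h2 := comp_nonsplit F.two2 F.tr2 hns h.odd hc.pow2 hc.inv2 hc.cm2
  refine ⟨x1, h1, ?_⟩
  rw [h2, map_one, mul_one]

end LocalSL

end Cfsg.Agent.GTwoOdd
end

-- part: GTwoOdd/XMHyp
section
/-!
# The hypotheses of the `M`-lemma for `C_G(x)`, `x ∈ T_2 ∩ T_2^ρ`
-/

set_option autoImplicit false

namespace Cfsg.Agent.GTwoOdd

open Matrix MCore
open scoped commutatorElement

/-- the conclusion of the `M`-lemma for all subgroups of `G` -/
def MCl (G : Type*) [Group G] (F : Type*) [Field F] : Prop :=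
  ∀ (K : Subgroup G) (t s : K) (e : SL2 F →* K) (D : M2 F), MHyp t s e D →
    ∀ p : ℕ, p.Prime → p ∣ Nat.card F → p ∣ (Subgroup.centralizer ({t} : Set K)).index

namespace LocalSL

variable {G : Type*} [Group G] {t : G} {F1 F2 : Type*} [Field F1] [Field F2]
variable [Finite F1] [Finite F2] {L : LocalSL t F1 F2} {s g : G} {D1 : M2 F1} {D2 : M2 F2} {n1 : SL2 F1} {n2 : SL2 F2}

/-- an element of `F[D]` which commutes with a nonscalar element of `F[D]` -/
theorem comm_of_x0 {F : Type*} [Field F] (h2 : (2 : F) ≠ 0) {D : M2 F} (hD : D.det ≠ 0) (ht : D.trace = 0)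
    {x : SL2 F} (hx : (x : M2 F) * D = D * x) (h1 : x ≠ 1) (h1' : x ≠ -1) {B : M2 F} (h : B * x = x * B) :
    B * D = D * B := by
  obtain ⟨a, b, hab⟩ := cent_form h2 hD ht hx
  have hb : b ≠ 0 := by
    rintro rfl
    have h3 : (x : M2 F) = a • (1 : M2 F) := by rw [hab]; simp
    rcases sl_scalar h3 with h | h
    · exact h1 h
    · exact h1' h
  rw [hab, mul_add, add_mul, Matrix.mul_smul, Matrix.smul_mul, mul_one, one_mul, Matrix.mul_smul, Matrix.smul_mul] at h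
  have h4 := add_left_cancel h
  exact smul_cancel hb h4

/-- `L1 C(D2)` -/
def LT (L : LocalSL t F1 F2) (D2 : M2 F2) : Subgroup G where
  carrier := {y | ∃ a b, y = L.e1 a * L.e2 b ∧ (b : M2 F2) * D2 = D2 * b}
  mul_mem' := by
    rintro _ _ ⟨a, b, rfl, h⟩ ⟨a', b', rfl, h'⟩
    refine ⟨a * a', b * b', YD.e12_mul _ _ _ _, ?_⟩
    rw [Matrix.SpecialLinearGroup.coe_mul, mul_assoc, h', ← mul_assoc, h, mul_assoc]
  one_mem' := ⟨1, 1, by simp, by simp⟩
  inv_mem' := by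
    rintro _ ⟨a, b, rfl, h⟩
    refine ⟨a⁻¹, b⁻¹, ?_, ?_⟩
    · rw [_root_.mul_inv_rev, map_inv, map_inv, ← _root_.mul_inv_rev, ← _root_.mul_inv_rev, L.comm]
    · rw [sl_inv_coe, adjugate_eq, sub_mul, mul_sub, h]; simp

namespace XIn

variable {x : G} (X : XIn L s D1 D2 n1 n2 g x)
include X

theorem t_mem : t ∈ Subgroup.centralizer ({x} : Set G) := by
  rw [Subgroup.mem_centralizer_singleton_iff]
  have := X.e1 (-1)
  rwa [L.neg1] at this

theorem x_tor : x ∈ L.tor D1 D2 := Frame.tor2_le L D1 D2 X.mem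

theorem tor_mem {c : G} (hc : c ∈ L.tor D1 D2) : c ∈ Subgroup.centralizer ({x} : Set G) := by
  rw [Subgroup.mem_centralizer_singleton_iff]
  exact X.sw.toFrame.tor_comm hc X.x_tor

theorem s_mem : s ∈ Subgroup.centralizer ({x} : Set G) := X.tor_mem X.sw.toFrame.s_mem

theorem e1_mem (y : SL2 F1) : L.e1 y ∈ Subgroup.centralizer ({x} : Set G) := by
  rw [Subgroup.mem_centralizer_singleton_iff]
  exact X.e1 y

/-- the embedding of `SL(2,F1)` in `C_G(x)` -/
def emb : SL2 F1 →* Subgroup.centralizer ({x} : Set G) := L.e1.codRestrict _ X.e1_mem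

/-- elements of `C0` which commute with `x` -/
theorem comm_D2 {c : G} {A : M2 F1} {B : M2 F2} (h : L.Rep c A B) (hc : c * x = x * c) : B * D2 = D2 * B := by
  obtain ⟨x0, rfl, h1, h2, h3⟩ := X.exists_x0
  have F := X.sw.toFrame
  refine comm_of_x0 F.two2 F.det2 F.tr2 h1 h2 h3 ?_
  obtain ⟨y, hy⟩ := exists_cj h.det2 x0
  have h4 := h.acts2.2 _ _ hy
  rw [hc] at h4
  have h5 : x0 = y := L.inj2 (mul_right_cancel h4)
  rw [← h5] at hy
  exact hy.symm

theorem comm_mem {c d : G} (hc : c * t = t * c) (hd : d * t = t * d) (hcx : c * x = x * c) (hdx : d * x = x * d) :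
    c * d * c⁻¹ * d⁻¹ ∈ L.LT D2 := by
  obtain ⟨a, b, h⟩ := X.sw.toFrame.hyp.comm_mem c d hc hd
  have h1 : c * d * c⁻¹ * d⁻¹ = L.e1 a * L.e2 b := by rw [h]; group
  have hci : c⁻¹ * x = x * c⁻¹ := by rw [inv_mul_eq_iff_eq_mul, ← mul_assoc, hcx, mul_assoc, mul_inv_cancel, mul_one]
  have hdi : d⁻¹ * x = x * d⁻¹ := by rw [inv_mul_eq_iff_eq_mul, ← mul_assoc, hdx, mul_assoc, mul_inv_cancel, mul_one]
  have h2 : (c * d * c⁻¹ * d⁻¹) * x = x * (c * d * c⁻¹ * d⁻¹) := by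
    calc c * d * c⁻¹ * d⁻¹ * x = c * d * c⁻¹ * (d⁻¹ * x) := by group
      _ = c * d * (c⁻¹ * x) * d⁻¹ := by rw [hdi]; group
      _ = c * (d * x) * c⁻¹ * d⁻¹ := by rw [hci]; group
      _ = (c * x) * d * c⁻¹ * d⁻¹ := by rw [hdx]; group
      _ = _ := by rw [hcx]; group
  rw [h1] at h2 ⊢
  exact ⟨a, b, rfl, X.comm_D2 (Rep.e12 L a b) h2⟩

/-- the hypotheses of the `M`-lemma -/
theorem mhyp [Finite G] : MHyp (⟨t, X.t_mem⟩ : Subgroup.centralizer ({x} : Set G)) ⟨s, X.s_mem⟩ X.emb D1 := by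
  have F := X.sw.toFrame
  have H := F.hyp
  have hst := F.rep.comm
  have hcx : ∀ c : Subgroup.centralizer ({x} : Set G), c.1 * x = x * c.1 :=
    fun c => Subgroup.mem_centralizer_singleton_iff.1 c.2
  refine ⟨?_, ?_, ?_, ?_, ?_, ?_, ?_, F.tr1, ?_, ?_, ?_⟩
  · intro a b h
    exact L.inj1 (congrArg Subtype.val h)
  · exact Subtype.ext L.neg1
  · intro c hc y
    obtain ⟨z, hz⟩ := H.norm1 c.1 (congrArg Subtype.val hc) y
    exact ⟨z, Subtype.ext hz⟩
  · refine ⟨2, ?_⟩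
    set C := Subgroup.centralizer ({⟨t, X.t_mem⟩} : Set (Subgroup.centralizer ({x} : Set G))) with hC
    have hCt : ∀ c : C, c.1.1 * t = t * c.1.1 := by
      intro c
      have h1 := Subgroup.mem_centralizer_singleton_iff.1 c.2
      exact congrArg Subtype.val h1
    let f : C →* G := (Subgroup.subtype _).comp C.subtype
    have h1 : derivedSeries C 1 ≤ (L.LT D2).comap f := by
      rw [derivedSeries_succ, Subgroup.commutator_le]
      intro c _ d _
      change f ⁅c, d⁆ ∈ L.LT D2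
      rw [commutatorElement_def, map_mul, map_mul, map_mul, map_inv, map_inv]
      exact X.comm_mem (hCt c) (hCt d) (hcx c.1) (hcx d.1)
    have h2 : derivedSeries C 2 ≤ (L.e1.range).comap f := by
      rw [derivedSeries_succ, Subgroup.commutator_le]
      intro c hc d hd
      obtain ⟨a, b, hab, hb⟩ := h1 hc
      obtain ⟨a', b', hab', hb'⟩ := h1 hd
      change f ⁅c, d⁆ ∈ L.e1.range
      rw [commutatorElement_def, map_mul, map_mul, map_mul, map_inv, map_inv, hab, hab']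
      refine ⟨a * a' * a⁻¹ * a'⁻¹, ?_⟩
      have hbb : b * b' = b' * b := by
        apply Subtype.ext
        rw [Matrix.SpecialLinearGroup.coe_mul, Matrix.SpecialLinearGroup.coe_mul]
        exact cent_comm F.two2 F.det2 F.tr2 hb hb'
      have e1 : (L.e1 a * L.e2 b)⁻¹ = L.e1 a⁻¹ * L.e2 b⁻¹ := by
        rw [_root_.mul_inv_rev, map_inv, map_inv, ← _root_.mul_inv_rev, ← _root_.mul_inv_rev, L.comm]
      have e2 : (L.e1 a' * L.e2 b')⁻¹ = L.e1 a'⁻¹ * L.e2 b'⁻¹ := by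
        rw [_root_.mul_inv_rev, map_inv, map_inv, ← _root_.mul_inv_rev, ← _root_.mul_inv_rev, L.comm]
      rw [e1, e2, YD.e12_mul, YD.e12_mul, YD.e12_mul]
      have e3 : b * b' * b⁻¹ * b'⁻¹ = 1 := by rw [hbb]; group
      rw [e3, map_one, mul_one]
    intro c hc
    obtain ⟨y, hy⟩ := h2 hc
    exact ⟨y, Subtype.ext hy⟩
  · exact Subtype.ext hst
  · exact Subtype.ext F.ss
  · refine ⟨F.det1, fun a b hab => Subtype.ext ?_⟩
    exact F.rep.acts1.2 _ _ hab
  · -- involutions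
    intro c hc hcc hc1 hct
    have kc := congrArg Subtype.val hc
    have kcc := congrArg Subtype.val hcc
    change c.1 * t = t * c.1 at kc
    change c.1 * c.1 = 1 at kcc
    obtain ⟨A, B, hr, hA, hB⟩ := H.rep_of_invol kc kcc (fun h => hc1 (Subtype.ext h)) (fun h => hct (Subtype.ext h))
    have hBD := X.comm_D2 hr (hcx c)
    obtain ⟨a, b, hab⟩ := cent_form F.two2 F.det2 F.tr2 hBD
    have ha : a = 0 := by
      rw [hab, cent_trace F.tr2] at hB
      rcases mul_eq_zero.1 hB with h | h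
      · exact absurd h F.two2
      · exact h
    rw [ha, zero_smul, zero_add] at hab
    have hb : b ≠ 0 := by
      rintro rfl
      apply hr.det2
      rw [hab, Matrix.det_fin_two]; simp
    have hr' : L.Rep c.1 A D2 := by
      have := hr.smul (a := 1) (b := b⁻¹) one_ne_zero (inv_ne_zero hb)
      rwa [one_smul, hab, smul_smul, inv_mul_cancel₀ hb, one_smul] at this
    have hsq : IsSquare (A.det * D1.det) := by
      rw [isSquare_mul_iff hr'.det1 F.det1, H.square_iff _ _ _ hr', H.square_iff _ _ _ F.rep]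
    obtain ⟨P, u, hu, hP⟩ := exists_sl_conj_smul F.two1 hr'.det1 F.det1 hA F.tr1 hsq
    -- `P D1 = u A P`
    have h1 : L.Rep (L.e1 P * s * (L.e1 P)⁻¹) (u • A) D2 := by
      have h2 := ((Rep.e1 L P).mul F.rep).mul (Rep.e1 L P).inv
      have e1 : (P : M2 F1) * D1 * (P : M2 F1).adjugate = u • A := by
        rw [hP, Matrix.smul_mul, mul_assoc, Matrix.mul_adjugate, sl_coe_det, one_smul, mul_one]
      have e2 : (1 : M2 F2) * D2 * (1 : M2 F2).adjugate = D2 := by
        rw [Matrix.adjugate_one, one_mul, mul_one]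
      rwa [e1, e2] at h2
    rcases hr'.unique h1 (a := u) (b := 1) rfl (by rw [one_smul]) with h2 | h2
    · exact ⟨P, Subtype.ext h2.symm⟩
    · -- replace `P` by `P n1`
      refine ⟨P * n1, Subtype.ext ?_⟩
      change c.1 = L.e1 (P * n1) * s * (L.e1 (P * n1))⁻¹
      have h3 := F.n1_s
      have h4 : L.e1 n1 * s * (L.e1 n1)⁻¹ = s * t := by rw [h3]; group
      have h5 : t * (L.e1 P)⁻¹ = (L.e1 P)⁻¹ * t := by
        have := e1_t (L := L) (P⁻¹)
        rw [map_inv] at this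
        exact this.symm
      rw [map_mul]
      calc c.1 = c.1 * t * t := by rw [mul_assoc, L.t_sq, mul_one]
        _ = L.e1 P * s * (L.e1 P)⁻¹ * t := by rw [← h2]
        _ = L.e1 P * (s * t) * (L.e1 P)⁻¹ := by rw [mul_assoc _ _ t, ← h5]; group
        _ = L.e1 P * (L.e1 n1 * s * (L.e1 n1)⁻¹) * (L.e1 P)⁻¹ := by rw [h4]
        _ = _ := by group
  · -- `t` and `s` are conjugate
    have hρ : rho L n1 g * (s * t) * (rho L n1 g)⁻¹ = t := by
      have e1 := X.sw.rho_t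
      have e2 := X.sw.rho_s
      calc rho L n1 g * (s * t) * (rho L n1 g)⁻¹ = (rho L n1 g * s) * t * (rho L n1 g)⁻¹ := by group
        _ = s * t * (rho L n1 g * t) * (rho L n1 g)⁻¹ := by rw [e2]; group
        _ = s * t * s := by rw [e1]; group
        _ = t * (s * s) := by rw [hst, mul_assoc]
        _ = t := by rw [F.ss, mul_one]
    have hρ' : (rho L n1 g)⁻¹ * t * rho L n1 g = s * t := by
      calc (rho L n1 g)⁻¹ * t * rho L n1 g = (rho L n1 g)⁻¹ * (rho L n1 g * (s * t) * (rho L n1 g)⁻¹) * rho L n1 g := by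
            rw [hρ]
        _ = s * t := by group
    have hρs : rho L n1 g * s * (rho L n1 g)⁻¹ = s * t := by
      rw [X.sw.rho_s]; group
    have hn : L.e1 n1 * s = s * t * L.e1 n1 := F.n1_s
    have hn' : L.e1 n1 * (s * t) * (L.e1 n1)⁻¹ = s := by
      calc L.e1 n1 * (s * t) * (L.e1 n1)⁻¹ = (L.e1 n1 * s) * t * (L.e1 n1)⁻¹ := by group
        _ = s * t * (L.e1 n1 * t) * (L.e1 n1)⁻¹ := by rw [hn]; group
        _ = s * (t * t) := by rw [e1_t]; group
        _ = s := by rw [L.t_sq, mul_one]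
    have hm : rho L n1 g * L.e1 n1 * (rho L n1 g)⁻¹ ∈ Subgroup.centralizer ({x} : Set G) := by
      rw [Subgroup.mem_centralizer_singleton_iff]
      exact X.re1 n1
    refine ⟨⟨_, mul_mem (X.e1_mem n1) hm⟩, Subtype.ext ?_⟩
    change L.e1 n1 * (rho L n1 g * L.e1 n1 * (rho L n1 g)⁻¹) * t * (L.e1 n1 * (rho L n1 g * L.e1 n1 * (rho L n1 g)⁻¹))⁻¹ = s
    calc L.e1 n1 * (rho L n1 g * L.e1 n1 * (rho L n1 g)⁻¹) * t * (L.e1 n1 * (rho L n1 g * L.e1 n1 * (rho L n1 g)⁻¹))⁻¹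
        = L.e1 n1 * (rho L n1 g * (L.e1 n1 * ((rho L n1 g)⁻¹ * t * rho L n1 g) * (L.e1 n1)⁻¹) * (rho L n1 g)⁻¹) *
          (L.e1 n1)⁻¹ := by group
      _ = L.e1 n1 * (rho L n1 g * (L.e1 n1 * (s * t) * (L.e1 n1)⁻¹) * (rho L n1 g)⁻¹) * (L.e1 n1)⁻¹ := by
          rw [hρ']
      _ = L.e1 n1 * (s * t) * (L.e1 n1)⁻¹ := by rw [hn', hρs, hn']
      _ = s := hn'
  · -- rank
    intro c hc hcs hcc
    have kc := congrArg Subtype.val hc
    have kcs := congrArg Subtype.val hcs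
    have kcc := congrArg Subtype.val hcc
    change c.1 * t = t * c.1 at kc
    change c.1 * s = s * c.1 at kcs
    change c.1 * c.1 = 1 at kcc
    have hT : c.1 ∈ L.tor D1 D2 := by
      obtain ⟨A, B, hr⟩ := H.rep_of_mul kc kcc
      have hBD := X.comm_D2 hr (hcx c)
      rcases F.of_comm_s hr kcs with ⟨h1, h2⟩ | ⟨h1, h2⟩
      · exact ⟨A, B, hr, h1, h2⟩
      · exfalso
        rw [hBD] at h2
        have h3 : (2 : F2) • (D2 * B) = 0 := by
          rw [two_smul]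
          nth_rw 1 [h2]
          simp
        have h4 : D2 * B = 0 := smul_cancel F.two2 (h3.trans (smul_zero _).symm)
        have h5 : (D2 * B).det ≠ 0 := by
          rw [Matrix.det_mul]; exact mul_ne_zero F.det2 hr.det2
        rw [h4] at h5
        exact h5 (by simp)
    rcases F.tor_invol hT kcc with h | h | h | h
    · left; exact Subtype.ext h
    · right; left; exact Subtype.ext h
    · right; right; left; exact Subtype.ext h
    · right; right; right
      apply Subtype.ext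
      rw [h, hst]; rfl

end XIn

end LocalSL

end Cfsg.Agent.GTwoOdd
end

-- part: GTwoOdd/XCent
section
/-!
# `C_R(x)` is larger than `A1` for `x ∈ T_2 ∩ T_2^ρ`
-/

set_option autoImplicit false

namespace Cfsg.Agent.GTwoOdd

open Matrix MCore ZIso

/-- a Sylow subgroup of `C` whose normaliser is in `C` is a Sylow subgroup -/
theorem index_of_norm {K : Type*} [Group K] [Finite K] {p : ℕ} [Fact p.Prime] {C : Subgroup K} (P : Sylow p C)
    (hN : Subgroup.normalizer ((P : Subgroup C).map C.subtype : Set K) ≤ C) : ¬ p ∣ C.index := by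
  intro hp
  set Q := (P : Subgroup C).map C.subtype with hQ
  have hQC : Q ≤ C := Subgroup.map_subtype_le _
  have h1 : p ∣ Q.index := by
    rw [← Subgroup.relIndex_mul_index hQC]
    exact dvd_mul_of_dvd_right hp _
  obtain ⟨n, hn⟩ := IsPGroup.iff_card.1 (show IsPGroup p Q from P.2.map _)
  have h2 := Sylow.card_quotient_normalizer_modEq_card_quotient hn
  have h3 : p ∣ Q.relIndex (Subgroup.normalizer (Q : Set K)) := by
    have h4 : Nat.card (K ⧸ Q) ≡ 0 [MOD p] := by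
      apply Nat.modEq_zero_iff_dvd.2
      exact h1
    exact Nat.modEq_zero_iff_dvd.1 (h2.trans h4)
  have h5 : Q.relIndex (Subgroup.normalizer (Q : Set K)) ∣ Q.relIndex C := by
    rw [← Subgroup.relIndex_mul_relIndex _ _ _ Subgroup.le_normalizer hN]
    exact dvd_mul_right _ _
  have h6 : Q.relIndex C = (P : Subgroup C).index := by
    unfold Subgroup.relIndex
    congr 1
    rw [hQ, Subgroup.subgroupOf, Subgroup.comap_map_eq_self_of_injective C.subtype_injective]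
  rw [h6] at h5
  exact P.not_dvd_index (h3.trans h5)

namespace LocalSL

variable {G : Type*} [Group G] {t : G} {F1 F2 : Type*} [Field F1] [Field F2]
variable [Finite F1] [Finite F2] {L : LocalSL t F1 F2} {s g : G} {D1 : M2 F1} {D2 : M2 F2} {n1 : SL2 F1} {n2 : SL2 F2}

/-- `[t, c] ∈ R` for `c ∈ C(A1)` -/
theorem Hyp.t_comm_rc [Finite G] (H : L.Hyp) {c : G} (hc : c ∈ Subgroup.centralizer (L.A1 : Set G)) :
    t * c * t⁻¹ * c⁻¹ ∈ rc L.A1 :=
  comm_mem_rc L.t_sq H.t_ne_one t_mem_cent (fun _ h1 h2 h3 h4 => H.uniq_invol h1 h2 h3 h4) hc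

namespace XIn

variable {x : G} [Finite G] (X : XIn L s D1 D2 n1 n2 g x)
include X

/-- (X2) -/
theorem cent_le (hR : ∀ r ∈ rc L.A1, r * x = x * r → r ∈ L.A1) {c : G} (hcx : c * x = x * c)
    (hc : c ∈ Subgroup.centralizer (L.A1 : Set G)) : c * t = t * c := by
  have H := X.sw.toFrame.hyp
  have ht : t⁻¹ = t := inv_eq_of_mul_eq_one_left L.t_sq
  have htx : t * x = x * t := Subgroup.mem_centralizer_singleton_iff.1 X.t_mem
  have hci : c⁻¹ * x = x * c⁻¹ := by rw [inv_mul_eq_iff_eq_mul, ← mul_assoc, hcx, mul_assoc, mul_inv_cancel, mul_one]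
  set a := t * c * t⁻¹ * c⁻¹ with ha
  have h1 : a ∈ L.A1 := by
    apply hR _ (H.t_comm_rc hc)
    rw [ht]
    calc t * c * t * c⁻¹ * x = t * c * t * (c⁻¹ * x) := by group
      _ = t * c * (t * x) * c⁻¹ := by rw [hci]; group
      _ = t * (c * x) * t * c⁻¹ := by rw [htx]; group
      _ = (t * x) * c * t * c⁻¹ := by rw [hcx]; group
      _ = _ := by rw [htx]; group
  -- `t c t⁻¹ = a c`
  have h2 : t * c * t⁻¹ = a * c := by rw [ha]; group
  have h3 : a * t = t * a := A1_t h1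
  have h4 : c = a * (a * c) := by
    calc c = t * t * c * (t * t)⁻¹ := by rw [L.t_sq]; group
      _ = t * (t * c * t⁻¹) * t⁻¹ := by group
      _ = (t * a) * c * t⁻¹ := by rw [h2]; group
      _ = a * (t * c * t⁻¹) := by rw [← h3]; group
      _ = _ := by rw [h2]
  have h5 : a * a = 1 := by
    have : a * a * c = 1 * c := by rw [one_mul, mul_assoc]; exact h4.symm
    exact mul_right_cancel this
  have h6 : a = 1 := odd_no_invol H.A1_odd h1 h5
  rw [h6, one_mul] at h2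
  calc c * t = (t * c * t⁻¹) * t := by rw [h2]
    _ = _ := by group

/-- (X1), (X2): some element of `R` outside `A1` commutes with `x` -/
theorem exists_rc (hM : MCl G F1) : ∃ r ∈ rc L.A1, r * x = x * r ∧ r ∉ L.A1 := by
  by_contra hcon
  push Not at hcon
  have H := X.sw.toFrame.hyp
  have key := fun {c : G} => X.cent_le hcon (c := c)
  have := Fintype.ofFinite F1
  obtain ⟨p, -, n, hp, hcard⟩ := FiniteField.card' F1
  have hpf : Fact p.Prime := ⟨hp⟩
  have hpF : p ∣ Nat.card F1 := by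
    rw [Nat.card_eq_fintype_card, hcard]
    exact dvd_pow_self p n.ne_zero
  have hdvd := hM _ _ _ _ _ X.mhyp p hp hpF
  set K := Subgroup.centralizer ({x} : Set G) with hK
  set tK : K := ⟨t, X.t_mem⟩ with htK
  set C := Subgroup.centralizer ({tK} : Set K) with hC
  -- `A1` in `C`
  set A : Subgroup K := (upU F1).map X.emb with hA
  have hAc : ∀ a ∈ A, (a : G) ∈ L.A1 := by
    rintro _ ⟨_, ⟨a, rfl⟩, rfl⟩
    exact mem_A1.2 ⟨a, rfl⟩
  have hAc' : ∀ a ∈ L.A1, ∃ b ∈ A, (b : G) = a := by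
    intro a ha
    obtain ⟨u, rfl⟩ := mem_A1.1 ha
    exact ⟨X.emb (up u), ⟨up u, up_mem u, rfl⟩, rfl⟩
  have hAC : A ≤ C := by
    intro a ha
    rw [hC, Subgroup.mem_centralizer_singleton_iff]
    exact Subtype.ext (A1_t (hAc a ha))
  have hAcard : Nat.card A = p ^ (n : ℕ) := by
    have h1 : Nat.card A = Nat.card (upU F1) := Subgroup.card_map_of_injective X.mhyp.inj
    have h2 : Nat.card L.A1 = Nat.card (upU F1) := Subgroup.card_map_of_injective L.inj1
    rw [h1, ← h2, card_A1, Nat.card_eq_fintype_card, hcard]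
  have hAp : IsPGroup p (A.subgroupOf C) := by
    rw [IsPGroup.iff_card]
    exact ⟨n, by rw [Nat.card_congr (Subgroup.subgroupOfEquivOfLe hAC).toEquiv, hAcard]⟩
  obtain ⟨P, hP⟩ := hAp.exists_le_sylow
  refine index_of_norm P ?_ hdvd
  set Q := (P : Subgroup C).map C.subtype with hQ
  have hAQ : A ≤ Q := by
    intro a ha
    exact ⟨⟨a, hAC ha⟩, hP (Subgroup.mem_subgroupOf.2 ha), rfl⟩
  intro y hy
  rw [hC, Subgroup.mem_centralizer_singleton_iff]
  -- `z = y t y⁻¹` centralises `A`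
  have hyQ : ∀ q ∈ Q, y⁻¹ * q * y ∈ Q := by
    intro q hq
    have := (Subgroup.mem_normalizer_iff.1 (inv_mem hy) q).1 hq
    rwa [inv_inv] at this
  have h1 : ∀ a ∈ A, y * tK * y⁻¹ * a = a * (y * tK * y⁻¹) := by
    intro a ha
    obtain ⟨c, hc, hca⟩ := hyQ a (hAQ ha)
    have h2 : (c : K) * tK = tK * c := Subgroup.mem_centralizer_singleton_iff.1 c.2
    rw [Subgroup.coe_subtype] at hca
    rw [hca] at h2
    calc y * tK * y⁻¹ * a = y * (tK * (y⁻¹ * a * y)) * y⁻¹ := by group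
      _ = y * ((y⁻¹ * a * y) * tK) * y⁻¹ := by rw [h2]
      _ = _ := by group
  have h2 : (y * tK * y⁻¹ : K).1 ∈ Subgroup.centralizer (L.A1 : Set G) := by
    rw [Subgroup.mem_centralizer_iff]
    intro a ha
    obtain ⟨b, hb, rfl⟩ := hAc' a ha
    exact (congrArg Subtype.val (h1 b hb)).symm
  have h3 : (y * tK * y⁻¹ : K).1 * x = x * (y * tK * y⁻¹ : K).1 :=
    Subgroup.mem_centralizer_singleton_iff.1 (y * tK * y⁻¹ : K).2
  have h4 := key h3 h2
  have h5 : (y * tK * y⁻¹ : K).1 = t := by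
    apply H.uniq_invol h2 h4
    · change y.1 * t * (y.1)⁻¹ * (y.1 * t * (y.1)⁻¹) = 1
      calc y.1 * t * (y.1)⁻¹ * (y.1 * t * (y.1)⁻¹) = y.1 * (t * t) * (y.1)⁻¹ := by group
        _ = 1 := by rw [L.t_sq]; group
    · intro h
      apply H.t_ne_one
      change y.1 * t * (y.1)⁻¹ = 1 at h
      calc t = (y.1)⁻¹ * (y.1 * t * (y.1)⁻¹) * y.1 := by group
        _ = 1 := by rw [h]; group
  apply Subtype.ext
  change y.1 * t = t * y.1
  change y.1 * t * (y.1)⁻¹ = t at h5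
  calc y.1 * t = (y.1 * t * (y.1)⁻¹) * y.1 := by group
    _ = _ := by rw [h5]

end XIn

end LocalSL

end Cfsg.Agent.GTwoOdd
end

-- part: GTwoOdd/RootFull
section
/-!
# The structure of `R = O(C_G(A1))`
-/

set_option autoImplicit false

namespace Cfsg.Agent.GTwoOdd

open Matrix ZIso

section mu

variable {F : Type*} [Field F] [Finite F]

/-- a field with more than three elements has `l ≠ 0`, `l² ≠ 1` -/
theorem exists_sq_ne_one (h : 3 < Nat.card F) : ∃ l : F, l ≠ 0 ∧ l * l ≠ 1 := by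
  classical
  by_contra hcon
  push Not at hcon
  have := Fintype.ofFinite F
  have h1 : (Finset.univ : Finset F) ⊆ {0, 1, -1} := by
    intro x _
    simp only [Finset.mem_insert, Finset.mem_singleton]
    by_cases hx : x = 0
    · exact Or.inl hx
    · right
      exact mul_self_eq_one_iff.1 (hcon x hx)
  have h2 := Finset.card_le_card h1
  rw [Finset.card_univ, ← Nat.card_eq_fintype_card] at h2
  have h3 : ({0, 1, -1} : Finset F).card ≤ 3 := Finset.card_le_three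
  omega

end mu

namespace LocalSL

variable {G : Type*} [Group G] [Finite G] {t : G} {F1 F2 : Type*} [Field F1] [Field F2]
variable [Finite F1] [Finite F2] {L : LocalSL t F1 F2} {s g : G}

/-- commutators of `e2 (diag (l, l⁻¹))` with `e1 x1 * e2 x2` -/
theorem YD.second {D2 : M2 F2} {n2 : SL2 F2} {n1 : SL2 F1} {D1 : M2 F1} (F : L.Frame s D1 D2 n1 n2) (hD2 : D2 = dg F2)
    (hq : 3 < Nat.card F2) {Y : Subgroup G}
    (h : YD L s D1 D2 Y) {x1 : SL2 F1} {x2 : SL2 F2} (hy : L.e1 x1 * L.e2 x2 ∈ Y) (hx2 : x2 ∈ upU F2 ∨ x2 ∈ loU F2) :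
    L.e2 x2 ∈ Y := by
  subst hD2
  by_cases h1 : x2 = 1
  · rw [h1, map_one]; exact one_mem _
  obtain ⟨l, hl0, hl1⟩ := exists_sq_ne_one hq
  have hh : (!![l, 0; 0, l⁻¹] : M2 F2).det = 1 := by rw [Matrix.det_fin_two]; simp [hl0]
  set z : SL2 F2 := ⟨!![l, 0; 0, l⁻¹], hh⟩ with hz
  have hzc : (z : M2 F2) = !![l, 0; 0, l⁻¹] := rfl
  have hzT : L.e2 z ∈ L.tor D1 (dg F2) := by
    refine ⟨1, z, Rep.e2 L z, by simp, ?_⟩
    rw [comm_dg_iff F.two2, hzc]; simp
  have h2 := h.tor _ hzT _ hy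
  have h3 : L.e2 z * (L.e1 x1 * L.e2 x2) * (L.e2 z)⁻¹ = L.e1 x1 * L.e2 (z * x2 * z⁻¹) := by
    rw [map_mul, map_mul, map_inv]
    calc L.e2 z * (L.e1 x1 * L.e2 x2) * (L.e2 z)⁻¹ = (L.e2 z * L.e1 x1) * L.e2 x2 * (L.e2 z)⁻¹ := by group
      _ = _ := by rw [← L.comm]; group
  rw [h3] at h2
  have h4 : L.e2 (z * x2 * z⁻¹ * x2⁻¹) ∈ Y := by
    have := mul_mem h2 (inv_mem hy)
    have e : L.e1 x1 * L.e2 (z * x2 * z⁻¹) * (L.e1 x1 * L.e2 x2)⁻¹ = L.e2 (z * x2 * z⁻¹ * x2⁻¹) := by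
      rw [map_mul L.e2 (z * x2 * z⁻¹), map_inv]
      calc L.e1 x1 * L.e2 (z * x2 * z⁻¹) * (L.e1 x1 * L.e2 x2)⁻¹
          = L.e1 x1 * (L.e2 (z * x2 * z⁻¹) * (L.e2 x2)⁻¹) * (L.e1 x1)⁻¹ := by group
        _ = L.e1 x1 * (L.e2 (z * x2 * z⁻¹ * x2⁻¹)) * (L.e1 x1)⁻¹ := by rw [map_mul L.e2 (z * x2 * z⁻¹), map_inv]
        _ = _ := by rw [L.comm, map_mul L.e2 (z * x2 * z⁻¹), map_inv]; group
    rwa [e] at this
  -- transitivity of `T`
  have Fs := F.sw
  have hT : ∀ c ∈ L.sw.tor (dg F2) D1, ∀ y ∈ Y, c * y * c⁻¹ ∈ Y := by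
    intro c hc
    rw [sw_tor] at hc
    exact h.tor c hc
  rcases hx2 with ⟨b, rfl⟩ | ⟨b, rfl⟩
  · have hb : b ≠ 0 := by rintro rfl; exact h1 up_zero
    have e1 : z * up b * z⁻¹ * (up b)⁻¹ = up ((l * l - 1) * b) := by
      have e2 : z * up b = up (l * l * b) * z := by
        apply Subtype.ext
        change (z : M2 F2) * (up b : M2 F2) = (up (l * l * b) : M2 F2) * (z : M2 F2)
        rw [hzc, up_coe, up_coe, m2_eq_iff]
        simp only [_root_.Fin.isValue, _root_.Matrix.cons_mul, _root_.Nat.succ_eq_add_one, _root_.Nat.reduceAdd, _root_.Matrix.vecMul_cons, _root_.Matrix.head_cons, _root_.Matrix.smul_cons, _root_.smul_eq_mul, _root_.mul_one, _root_.Matrix.smul_empty, _root_.Matrix.tail_cons, _root_.zero_smul, _root_.Matrix.empty_vecMul, _root_.add_zero, _root_.MulZeroClass.mul_zero, _root_.zero_add, _root_.Matrix.empty_mul, _root_.Equiv.symm_apply_apply, _root_.Matrix.of_apply, _root_.Matrix.cons_val', _root_.Matrix.cons_val_zero,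 _root_.Matrix.cons_val_fin_one, _root_.one_smul, _root_.Matrix.add_cons, _root_.Matrix.empty_add_empty, _root_.Matrix.cons_val_one, _root_.and_self, _root_.and_true, _root_.true_and]
        field_simp
      rw [e2, up_inv]
      calc up (l * l * b) * z * z⁻¹ * up (-b) = up (l * l * b) * up (-b) := by group
        _ = _ := by rw [up_mul]; congr 1; ring
    rw [e1] at h4
    have hne : (l * l - 1) * b ≠ 0 := mul_ne_zero (sub_ne_zero.2 hl1) hb
    obtain ⟨c, hc, h5⟩ := Fs.trans_up hne hb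
    rw [sw_e1] at h5
    rw [← h5]
    exact hT c hc _ h4
  · have hb : b ≠ 0 := by rintro rfl; exact h1 lo_zero
    have hl2 : l⁻¹ * l⁻¹ ≠ 1 := by
      intro h5
      apply hl1
      have : l * l * (l⁻¹ * l⁻¹) = 1 := by field_simp
      rw [h5, mul_one] at this
      exact this
    have e1 : z * lo b * z⁻¹ * (lo b)⁻¹ = lo ((l⁻¹ * l⁻¹ - 1) * b) := by
      have e2 : z * lo b = lo (l⁻¹ * l⁻¹ * b) * z := by
        apply Subtype.ext
        change (z : M2 F2) * (lo b : M2 F2) = (lo (l⁻¹ * l⁻¹ * b) : M2 F2) * (z : M2 F2)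
        rw [hzc, lo_coe, lo_coe, m2_eq_iff]
        simp only [_root_.Fin.isValue, _root_.Matrix.cons_mul, _root_.Nat.succ_eq_add_one, _root_.Nat.reduceAdd, _root_.Matrix.vecMul_cons, _root_.Matrix.head_cons, _root_.Matrix.smul_cons, _root_.smul_eq_mul, _root_.mul_one, _root_.MulZeroClass.mul_zero, _root_.Matrix.smul_empty, _root_.Matrix.tail_cons, _root_.zero_smul, _root_.Matrix.empty_vecMul, _root_.add_zero, _root_.zero_add, _root_.Matrix.empty_mul, _root_.Equiv.symm_apply_apply, _root_.Matrix.of_apply, _root_.Matrix.cons_val', _root_.Matrix.cons_val_zero, _root_.Matrix.cons_val_fin_one, _root_.one_smul, _root_.Matrix.add_cons, _root_.Matrix.empty_add_empty, _root_.Matrix.cons_val_one, _root_.and_true, _root_.true_and]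
        field_simp
      rw [e2, lo_inv]
      calc lo (l⁻¹ * l⁻¹ * b) * z * z⁻¹ * lo (-b) = lo (l⁻¹ * l⁻¹ * b) * lo (-b) := by group
        _ = _ := by rw [lo_mul]; congr 1; ring
    rw [e1] at h4
    have hne : (l⁻¹ * l⁻¹ - 1) * b ≠ 0 := mul_ne_zero (sub_ne_zero.2 hl2) hb
    obtain ⟨c, hc, h5⟩ := Fs.trans_lo hne hb
    rw [sw_e1] at h5
    rw [← h5]
    exact hT c hc _ h4

theorem YD.sw {D1 : M2 F1} {D2 : M2 F2} {Y : Subgroup G} (h : YD L s D1 D2 Y) : YD L.sw s D2 D1 Y :=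
  ⟨h.odd, h.ct, h.inv, fun c hc => by rw [sw_tor] at hc; exact h.tor c hc⟩

/-- classification, both tori split -/
theorem YD.split (S : L.Split s g) (hq : 3 < Nat.card F1 ∨ 3 < Nat.card F2) {Y : Subgroup G}
    (h : YD L s (dg F1) (dg F2) Y) : ∃ P Q : Subgroup G,
      (P = ⊥ ∨ P = (upU F1).map L.e1 ∨ P = (loU F1).map L.e1) ∧
      (Q = ⊥ ∨ Q = (upU F2).map L.e2 ∨ Q = (loU F2).map L.e2) ∧ ∀ x, x ∈ Y ↔ ∃ p ∈ P, ∃ q ∈ Q, x = p * q := by
  have F := S.toFrame
  -- components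
  have hcomp : ∀ y ∈ Y, ∃ x1 x2, (x1 ∈ upU F1 ∨ x1 ∈ loU F1) ∧ (x2 ∈ upU F2 ∨ x2 ∈ loU F2) ∧
      YD.Comp L (dg F1) (dg F2) (Nat.card Y) x1 x2 ∧ y = L.e1 x1 * L.e2 x2 := by
    intro y hy
    obtain ⟨x1, x2, hc, rfl⟩ := h.decomp F hy
    exact ⟨x1, x2, comp_split F.two1 h.odd hc.pow1 hc.inv1 (fun A y h01 h10 hdet hy =>
      hc.cm1 A y ((comm_dg_iff F.two1).2 ⟨h01, h10⟩) hdet hy),
      comp_split F.two2 h.odd hc.pow2 hc.inv2 (fun A y h01 h10 hdet hy =>
      hc.cm2 A y ((comm_dg_iff F.two2).2 ⟨h01, h10⟩) hdet hy), hc, rfl⟩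
  have hsep : ∀ x1 x2, (x1 ∈ upU F1 ∨ x1 ∈ loU F1) → (x2 ∈ upU F2 ∨ x2 ∈ loU F2) → L.e1 x1 * L.e2 x2 ∈ Y →
      L.e1 x1 ∈ Y ∧ L.e2 x2 ∈ Y := by
    intro x1 x2 h1 h2 hy
    rcases hq with hq | hq
    · have h3 : L.e1 x1 ∈ Y := by
        have hy' : L.sw.e1 x2 * L.sw.e2 x1 ∈ Y := by
          rw [sw_e1, sw_e2, ← L.comm]; exact hy
        exact YD.second F.sw rfl hq h.sw hy' h1
      refine ⟨h3, ?_⟩
      have := mul_mem (inv_mem h3) hy
      rwa [inv_mul_cancel_left] at this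
    · have h3 : L.e2 x2 ∈ Y := YD.second F rfl hq h hy h2
      refine ⟨?_, h3⟩
      have := mul_mem hy (inv_mem h3)
      rwa [mul_inv_cancel_right] at this
  let P : Subgroup G := Y ⊓ (L.e1.range)
  let Q : Subgroup G := Y ⊓ (L.e2.range)
  have hPx : ∀ x ∈ P, ∃ z : SL2 F1, (z ∈ upU F1 ∨ z ∈ loU F1) ∧ x = L.e1 z := by
    rintro x ⟨hx, ⟨z, rfl⟩⟩
    obtain ⟨x1, x2, h1, h2, hc, h3⟩ := hcomp _ hx
    have h4 : L.e1 z * L.e2 1 = L.e1 x1 * L.e2 x2 := by rw [map_one, mul_one]; exact h3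
    rcases e12_inj h4 with ⟨h5, h6⟩ | ⟨h5, h6⟩
    · exact ⟨z, by rw [h5]; exact h1, rfl⟩
    · exfalso
      have h7 : x2 = -1 := by rw [h6]; simp
      have h8 := hc.pow2
      rw [h7, h.odd.neg_one_pow] at h8
      exact neg_one_ne_one F.two2 h8
  have hQx : ∀ x ∈ Q, ∃ z : SL2 F2, (z ∈ upU F2 ∨ z ∈ loU F2) ∧ x = L.sw.e1 z := by
    rintro x ⟨hx, ⟨z, rfl⟩⟩
    obtain ⟨x1, x2, h1, h2, hc, h3⟩ := hcomp _ hx
    have h4 : L.e1 1 * L.e2 z = L.e1 x1 * L.e2 x2 := by rw [map_one, one_mul]; exact h3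
    rcases e12_inj h4 with ⟨h5, h6⟩ | ⟨h5, h6⟩
    · exact ⟨z, by rw [h6]; exact h2, rfl⟩
    · exfalso
      have h7 : x1 = -1 := by rw [h5]; simp
      have h8 := hc.pow1
      rw [h7, h.odd.neg_one_pow] at h8
      exact neg_one_ne_one F.two1 h8
  have hPT : ∀ c ∈ L.tor (dg F1) (dg F2), ∀ y ∈ P, c * y * c⁻¹ ∈ P := by
    rintro c hc y ⟨hy, ⟨z, rfl⟩⟩
    refine ⟨h.tor c hc _ hy, ?_⟩
    obtain ⟨w, hw⟩ := F.hyp.norm1 c (F.tor_t hc) z
    refine ⟨w, ?_⟩
    rw [hw]; group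
  have hQT : ∀ c ∈ L.sw.tor (dg F2) (dg F1), ∀ y ∈ Q, c * y * c⁻¹ ∈ Q := by
    rintro c hc y ⟨hy, ⟨z, rfl⟩⟩
    rw [sw_tor] at hc
    refine ⟨h.tor c hc _ hy, ?_⟩
    obtain ⟨w, hw⟩ := F.hyp.norm2 c (F.tor_t hc) z
    refine ⟨w, ?_⟩
    rw [hw]; group
  refine ⟨P, Q, F.class1 hPx (fun x hx y hy => h.comm hx.1 hy.1) hPT,
    F.sw.class1 hQx (fun x hx y hy => h.comm hx.1 hy.1) hQT, fun x => ⟨?_, ?_⟩⟩
  · intro hx
    obtain ⟨x1, x2, h1, h2, hc, rfl⟩ := hcomp _ hx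
    obtain ⟨h3, h4⟩ := hsep x1 x2 h1 h2 hx
    exact ⟨_, ⟨h3, ⟨x1, rfl⟩⟩, _, ⟨h4, ⟨x2, rfl⟩⟩, rfl⟩
  · rintro ⟨p, hp, q, hq, rfl⟩
    exact mul_mem hp.1 hq.1

/-- `C_R(s)` -/
def DD (L : LocalSL t F1 F2) (s : G) : Subgroup G := rc L.A1 ⊓ Subgroup.centralizer {s}

omit [Finite G] [Finite F1] [Finite F2] in
theorem mem_DD {x : G} : x ∈ L.DD s ↔ x ∈ rc L.A1 ∧ x * s = s * x := by
  unfold DD
  rw [Subgroup.mem_inf, Subgroup.mem_centralizer_singleton_iff]

section one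

variable {D2 : M2 F2} {n2 : SL2 F2} {n1 : SL2 F1} (F : L.Frame s (dg F1) D2 n1 n2)
include F

/-- `s` inverts `A1` -/
theorem Frame.s_A1 {x : G} (hx : x ∈ L.A1) : s * x * s⁻¹ = x⁻¹ := by
  obtain ⟨a, rfl⟩ := mem_A1.1 hx
  rw [F.rep.acts1.2 _ _ (dg_up a), ← map_inv, up_inv]; group

/-- `T` normalises `A1` -/
theorem Frame.tor_A1 {c : G} (hc : c ∈ L.tor (dg F1) D2) {x : G} (hx : x ∈ L.A1) : c * x * c⁻¹ ∈ L.A1 := by
  obtain ⟨A, B, hr, hA, hB⟩ := hc
  obtain ⟨h01, h10⟩ := (comm_dg_iff F.two1).1 hA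
  have hA2 : A 1 1 ≠ 0 := by
    intro h; apply hr.det1; rw [Matrix.det_fin_two, h, h01]; ring
  obtain ⟨a, rfl⟩ := mem_A1.1 hx
  refine mem_A1.2 ⟨A 0 0 * a / A 1 1, ?_⟩
  rw [hr.acts1.2 _ _ (diag_up h01 h10 hA2 a)]; group

theorem Frame.tor_rc {c : G} (hc : c ∈ L.tor (dg F1) D2) {x : G} (hx : x ∈ rc L.A1) : c * x * c⁻¹ ∈ rc L.A1 :=
  rc_norm' (fun _ ha => F.tor_A1 hc ha) (fun a ha => by
    have := F.tor_A1 (inv_mem hc) ha
    rwa [inv_inv] at this) hx

theorem Frame.s_rc {x : G} (hx : x ∈ rc L.A1) : s * x * s⁻¹ ∈ rc L.A1 := F.tor_rc F.s_mem hx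

/-- `t` inverts `C_R(s)` -/
theorem Frame.t_DD {x : G} (hx : x ∈ L.DD s) : t * x * t⁻¹ = x⁻¹ := by
  obtain ⟨hx, hxs⟩ := mem_DD.1 hx
  obtain ⟨a, ha, h1⟩ := F.hyp.rc_inv hx
  have hst := F.rep.comm
  have ht : t⁻¹ = t := inv_eq_of_mul_eq_one_left L.t_sq
  have h2 : a = t * x * t⁻¹ * x := by rw [h1]; group
  have h3 : a * s = s * a := by
    rw [h2, ht]
    calc t * x * t * x * s = t * x * t * (x * s) := by group
      _ = t * x * (t * s) * x := by rw [hxs]; group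
      _ = t * (x * s) * t * x := by rw [← hst]; group
      _ = (t * s) * x * t * x := by rw [hxs]; group
      _ = _ := by rw [← hst]; group
  have h4 := F.s_A1 ha
  have h5 : s * a * s⁻¹ = a := by rw [← h3]; group
  rw [h5] at h4
  have h6 : a * a = 1 := by
    nth_rw 1 [h4]; group
  have h7 : a = 1 := odd_no_invol F.hyp.A1_odd ha h6
  rw [h1, h7, one_mul]

/-- `r2` exchanges `C_R(s)` and `C_R(s t)` -/
theorem Frame.r2_DD {x : G} (hx : x ∈ L.DD s) : L.e2 n2 * x * (L.e2 n2)⁻¹ ∈ L.DD (s * t) := by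
  obtain ⟨hx, hxs⟩ := mem_DD.1 hx
  refine mem_DD.2 ⟨rc_norm (e2_mem_cent n2) hx, ?_⟩
  have h1 := F.n2_s
  have h2 : (L.e2 n2)⁻¹ * (s * t) = s * (L.e2 n2)⁻¹ := by
    calc (L.e2 n2)⁻¹ * (s * t) = (L.e2 n2)⁻¹ * (s * t * L.e2 n2) * (L.e2 n2)⁻¹ := by group
      _ = _ := by rw [← h1]; group
  calc L.e2 n2 * x * (L.e2 n2)⁻¹ * (s * t) = L.e2 n2 * x * ((L.e2 n2)⁻¹ * (s * t)) := by group
    _ = L.e2 n2 * (x * s) * (L.e2 n2)⁻¹ := by rw [h2]; group
    _ = (L.e2 n2 * s) * x * (L.e2 n2)⁻¹ := by rw [hxs]; group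
    _ = _ := by rw [h1]; group

theorem Frame.r2_DD' {x : G} (hx : x ∈ L.DD (s * t)) : (L.e2 n2)⁻¹ * x * L.e2 n2 ∈ L.DD s := by
  obtain ⟨hx, hxs⟩ := mem_DD.1 hx
  have h3 : (L.e2 n2)⁻¹ * x * L.e2 n2 ∈ rc L.A1 := by
    have := rc_norm (inv_mem (e2_mem_cent n2)) hx
    rwa [inv_inv] at this
  refine mem_DD.2 ⟨h3, ?_⟩
  have h1 := F.n2_s
  calc (L.e2 n2)⁻¹ * x * L.e2 n2 * s = (L.e2 n2)⁻¹ * x * (L.e2 n2 * s) := by group
    _ = (L.e2 n2)⁻¹ * (x * (s * t)) * L.e2 n2 := by rw [h1]; group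
    _ = (L.e2 n2)⁻¹ * (s * t * L.e2 n2) * (L.e2 n2)⁻¹ * x * L.e2 n2 := by rw [hxs]; group
    _ = _ := by rw [← h1]; group

theorem Frame.DD_eq : L.DD (s * t) = cjS (L.e2 n2) (L.DD s) := by
  ext x
  rw [mem_cjS]
  constructor
  · exact F.r2_DD'
  · intro h
    have := F.r2_DD h
    have e : L.e2 n2 * ((L.e2 n2)⁻¹ * x * L.e2 n2) * (L.e2 n2)⁻¹ = x := by group
    rwa [e] at this

/-- `R = A1 C_R(s) C_R(s t)` -/
theorem Frame.rc_prod {x : G} (hx : x ∈ rc L.A1) : ∃ a ∈ L.A1, ∃ d ∈ L.DD s, ∃ d' ∈ L.DD (s * t), x = a * d * d' := by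
  -- the product is a subgroup
  let M : Subgroup G :=
    { carrier := {x | ∃ a ∈ L.A1, ∃ d ∈ L.DD s, ∃ d' ∈ L.DD (s * t), x = a * d * d'}
      mul_mem' := by
        rintro _ _ ⟨a, ha, d, hd, d', hd', rfl⟩ ⟨b, hb, e, he, e', he', rfl⟩
        have hdr := (mem_DD.1 hd).1
        have hdr' := (mem_DD.1 hd').1
        have her := (mem_DD.1 he).1
        have hc := F.hyp.rc_comm_mem hdr' her
        refine ⟨a * b * (d' * e * d'⁻¹ * e⁻¹), mul_mem (mul_mem ha hb) hc, d * e, mul_mem hd he, d' * e',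
          mul_mem hd' he', ?_⟩
        have h1 := rc_comm hdr hb
        have h2 := rc_comm hdr' hb
        have h3 := rc_comm hdr hc
        calc a * d * d' * (b * e * e') = a * d * (d' * b) * e * e' := by group
          _ = a * (d * b) * d' * e * e' := by rw [h2]; group
          _ = a * b * d * d' * e * e' := by rw [h1]; group
          _ = a * b * (d * (d' * e * d'⁻¹ * e⁻¹)) * e * d' * e' := by group
          _ = _ := by rw [h3]; group
      one_mem' := ⟨1, one_mem _, 1, one_mem _, 1, one_mem _, by simp⟩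
      inv_mem' := by
        rintro _ ⟨a, ha, d, hd, d', hd', rfl⟩
        have hdr := (mem_DD.1 hd).1
        have hdr' := (mem_DD.1 hd').1
        have hc := F.hyp.rc_comm_mem (inv_mem hdr') (inv_mem hdr)
        refine ⟨(d'⁻¹ * d⁻¹ * d'⁻¹⁻¹ * d⁻¹⁻¹) * a⁻¹, mul_mem hc (inv_mem ha), d⁻¹, inv_mem hd, d'⁻¹, inv_mem hd', ?_⟩
        have h1 := rc_comm (inv_mem hdr) (inv_mem ha)
        have h2 := rc_comm (inv_mem hdr') (inv_mem ha)
        calc (a * d * d')⁻¹ = d'⁻¹ * (d⁻¹ * a⁻¹) := by group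
          _ = (d'⁻¹ * a⁻¹) * d⁻¹ := by rw [h1]; group
          _ = a⁻¹ * (d'⁻¹ * d⁻¹) := by rw [h2]; group
          _ = a⁻¹ * (d'⁻¹ * d⁻¹ * d'⁻¹⁻¹ * d⁻¹⁻¹) * d⁻¹ * d'⁻¹ := by group
          _ = _ := by rw [A1_comm (inv_mem ha) hc] }
  have hle : rc L.A1 ≤ M := by
    apply Cfsg.Agent.Lib.KleinGen.le_of_klein (rc L.A1) M (rc_odd _) t s L.t_sq F.ss F.rep.comm.symm
      (fun h hh => F.hyp.t_rc hh) (fun h hh => F.s_rc hh)
    · intro x hx
      rw [Subgroup.mem_inf, Subgroup.mem_centralizer_singleton_iff] at hx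
      exact ⟨x, F.hyp.rc_t hx.1 hx.2, 1, one_mem _, 1, one_mem _, by simp⟩
    · intro x hx
      exact ⟨1, one_mem _, x, hx, 1, one_mem _, by simp⟩
    · intro x hx
      refine ⟨1, one_mem _, 1, one_mem _, x, ?_, by simp⟩
      have : s * t = t * s := F.rep.comm
      rw [this]; exact hx
  exact hle hx

omit F [Finite G] [Finite F1] [Finite F2] in
theorem t_st (h : s * t = t * s) {x : G} (hx : x * (s * t) = s * t * x) : s * x * s⁻¹ = t⁻¹ * x * t := by
  have h1 : x = s * t * x * (s * t)⁻¹ := by rw [← hx]; group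
  calc s * x * s⁻¹ = s * x * s⁻¹ := rfl
    _ = t⁻¹ * (t * s * x * (t * s)⁻¹) * t := by group
    _ = _ := by rw [← h, ← h1]

/-- `t` inverts `C_R(s t)` -/
theorem Frame.t_DD2 {x : G} (hx : x ∈ L.DD (s * t)) : t * x * t⁻¹ = x⁻¹ :=
  F.mul_t.t_DD hx

/-- uniqueness -/
theorem Frame.rc_unique {a d d' : G} (ha : a ∈ L.A1) (hd : d ∈ L.DD s) (hd' : d' ∈ L.DD (s * t)) (h : a * d * d' = 1) :
    a = 1 ∧ d = 1 ∧ d' = 1 := by
  have hst := F.rep.comm
  have hdr' := (mem_DD.1 hd').1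
  -- apply `s`
  have h1 : s * (a * d * d') * s⁻¹ = a⁻¹ * d * d'⁻¹ := by
    have e1 := F.s_A1 ha
    have e2 : s * d * s⁻¹ = d := by rw [← (mem_DD.1 hd).2]; group
    have e3 : s * d' * s⁻¹ = d'⁻¹ := by
      rw [t_st hst (mem_DD.1 hd').2]
      have ht : t⁻¹ = t := inv_eq_of_mul_eq_one_left L.t_sq
      have := F.t_DD2 hd'
      rw [ht] at this ⊢
      exact this
    calc s * (a * d * d') * s⁻¹ = (s * a * s⁻¹) * (s * d * s⁻¹) * (s * d' * s⁻¹) := by group
      _ = _ := by rw [e1, e2, e3]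
  rw [h, mul_one, mul_inv_cancel] at h1
  -- `d = a d'`
  have h2 : d = a * d' := by
    calc d = a * (a⁻¹ * d * d'⁻¹) * d' := by group
      _ = a * d' := by rw [← h1]; group
  have had' : a * d' = d' * a := (rc_comm hdr' ha).symm
  have h3 : (a * d') * (a * d') = 1 := by
    have : a * (a * d') * d' = 1 := by rw [← h2]; exact h
    calc (a * d') * (a * d') = a * (d' * a) * d' := by group
      _ = a * (a * d') * d' := by rw [had']
      _ = 1 := this
  have h4 : a * d' = 1 := by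
    apply odd_no_invol (rc_odd L.A1) _ h3
    exact mul_mem (F.hyp.A1_le ha) hdr'
  have h5 : d = 1 := by rw [h2, h4]
  have h6 : d' = a⁻¹ := by rw [eq_inv_iff_mul_eq_one, ← had']; exact h4
  -- `d' ∈ A1 ∩ C(s t)`
  have h7 : t * d' * t⁻¹ = d' := by
    have : d' ∈ L.A1 := by rw [h6]; exact inv_mem ha
    rw [← A1_t this]; group
  rw [F.t_DD2 hd'] at h7
  have h8 : d' * d' = 1 := by nth_rw 1 [← h7]; group
  have h9 : d' = 1 := odd_no_invol (rc_odd L.A1) hdr' h8
  refine ⟨?_, h5, h9⟩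
  rw [h9, mul_one] at h4
  exact h4

end one

end LocalSL

end Cfsg.Agent.GTwoOdd
end

-- part: GTwoOdd/RootSplit
section
/-!
# The possibilities for `R = O(C_G(A1))` in a split frame
-/

set_option autoImplicit false

namespace Cfsg.Agent.GTwoOdd

open Matrix ZIso

namespace LocalSL

variable {G : Type*} [Group G] [Finite G] {t : G} {F1 F2 : Type*} [Field F1] [Field F2]
variable [Finite F1] [Finite F2] {L : LocalSL t F1 F2} {s g : G}

theorem card_cjS (a : G) (H : Subgroup G) : Nat.card (cjS a H) = Nat.card H := by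
  unfold cjS
  exact Subgroup.card_map_of_injective (MulAut.conj a).injective

theorem odd_of_le {H K : Subgroup G} (h : H ≤ K) (hK : Odd (Nat.card K)) : Odd (Nat.card H) :=
  Odd.of_dvd_nat hK (Subgroup.card_dvd_of_le h)

section swap

variable {D2 : M2 F2} {n2 : SL2 F2} (S : L.Swap s (dg F1) D2 (wn F1) n2 g)
include S

/-- `ρ⁻¹ C_R(s) ρ` is centralised by `t`, inverted by `s` and normalised by `T` -/
theorem Swap.yd : YD L s (dg F1) D2 (cjS (rho L (wn F1) g)⁻¹ (L.DD s)) := by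
  set r := rho L (wn F1) g with hr
  have hmem : ∀ y, y ∈ cjS r⁻¹ (L.DD s) ↔ r * y * r⁻¹ ∈ L.DD s := by
    intro y; rw [mem_cjS, inv_inv]
  have h1 : r * t = s * r := S.rho_t
  have h2 : r * s = s * t * r := S.rho_s
  have F := S.toFrame
  have hst := F.rep.comm
  have hct : ∀ y ∈ cjS r⁻¹ (L.DD s), y * t = t * y := by
    intro y hy
    have h3 := (mem_DD.1 ((hmem y).1 hy)).2
    calc y * t = r⁻¹ * (r * y * r⁻¹) * (r * t) := by group
      _ = r⁻¹ * ((r * y * r⁻¹) * s) * r := by rw [h1]; group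
      _ = r⁻¹ * (s * r) * y := by rw [h3]; group
      _ = _ := by rw [← h1]; group
  refine ⟨?_, hct, ?_, ?_⟩
  · rw [card_cjS]
    exact odd_of_le inf_le_left (rc_odd _)
  · intro y hy
    have h3 := F.t_DD ((hmem y).1 hy)
    -- `r (s t) = t r`
    have h4 : r * (s * t) = t * r := by
      calc r * (s * t) = (r * s) * t := by group
        _ = s * t * (r * t) := by rw [h2]; group
        _ = s * (t * s) * r := by rw [h1]; group
        _ = s * (s * t) * r := by rw [hst]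
        _ = _ := by rw [← mul_assoc s s t, F.ss, one_mul]
    have h5 : s * t * y * (s * t)⁻¹ = y⁻¹ := by
      calc s * t * y * (s * t)⁻¹ = r⁻¹ * (r * (s * t)) * y * (r * (s * t))⁻¹ * r := by group
        _ = r⁻¹ * (t * (r * y * r⁻¹) * t⁻¹) * r := by rw [h4]; group
        _ = _ := by rw [h3]; group
    have h6 : t * y * t⁻¹ = y := by rw [← hct y hy]; group
    calc s * y * s⁻¹ = s * (t * y * t⁻¹) * s⁻¹ := by rw [h6]
      _ = s * t * y * (s * t)⁻¹ := by group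
      _ = _ := h5
  · intro c hc y hy
    rw [hmem] at hy ⊢
    have hc' := S.rho_tor hc
    rw [← hr] at hc'
    have h3 : r * (c * y * c⁻¹) * r⁻¹ = (r * c * r⁻¹) * (r * y * r⁻¹) * (r * c * r⁻¹)⁻¹ := by group
    rw [h3]
    obtain ⟨h4, h5⟩ := mem_DD.1 hy
    refine mem_DD.2 ⟨F.tor_rc hc' h4, ?_⟩
    have h6 : (r * c * r⁻¹) * s = s * (r * c * r⁻¹) := F.tor_s hc'
    have h7 : (r * c * r⁻¹)⁻¹ * s = s * (r * c * r⁻¹)⁻¹ := by
      rw [inv_mul_eq_iff_eq_mul, ← mul_assoc, h6, mul_assoc, mul_inv_cancel, mul_one]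
    calc (r * c * r⁻¹) * (r * y * r⁻¹) * (r * c * r⁻¹)⁻¹ * s
        = (r * c * r⁻¹) * (r * y * r⁻¹) * ((r * c * r⁻¹)⁻¹ * s) := by group
      _ = (r * c * r⁻¹) * ((r * y * r⁻¹) * s) * (r * c * r⁻¹)⁻¹ := by rw [h7]; group
      _ = ((r * c * r⁻¹) * s) * (r * y * r⁻¹) * (r * c * r⁻¹)⁻¹ := by rw [h5]; group
      _ = _ := by rw [h6]; group

theorem Swap.mem_DD_iff {x : G} : x ∈ L.DD s ↔ (rho L (wn F1) g)⁻¹ * x * rho L (wn F1) g ∈
    cjS (rho L (wn F1) g)⁻¹ (L.DD s) := by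
  rw [mem_cjS]
  have e : (rho L (wn F1) g)⁻¹⁻¹ * ((rho L (wn F1) g)⁻¹ * x * rho L (wn F1) g) * (rho L (wn F1) g)⁻¹ = x := by group
  rw [e]

theorem Swap.DD_eq_cj {P : Subgroup G} (h : cjS (rho L (wn F1) g)⁻¹ (L.DD s) = P) : L.DD s = cjS (rho L (wn F1) g) P := by
  rw [← h, ← cjS_mul, mul_inv_cancel, cjS_one]

/-- second torus nonsplit -/
theorem Swap.DD_nonsplit (hns : ¬ IsSquare (-D2.det)) : L.DD s = ⊥ ∨
    L.DD s = cjS (rho L (wn F1) g) ((upU F1).map L.e1) ∨ L.DD s = cjS (rho L (wn F1) g) ((loU F1).map L.e1) := by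
  rcases S.yd.nonsplit2 S.toFrame hns with h | h | h
  · left
    have := Swap.DD_eq_cj S h
    rw [this]
    unfold cjS
    exact Subgroup.map_bot _
  · right; left; exact Swap.DD_eq_cj S h
  · right; right; exact Swap.DD_eq_cj S h

end swap

section split

variable (S : L.Split s g)
include S

theorem Swap.XN_base' {m : ℕ} (h : m % 3 = 0) : L.XN g m = L.baseX m := by
  unfold XN
  have h1 := EqT.cjS_eq (T := TT L) (H := L.baseX m) (S.rho_mod (m := m) (k := 0) (by omega)) (by rw [pow_zero]; exact NormT.one)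
    (fun c hc => S.cjS_base hc m)
  rw [pow_zero, cjS_one] at h1
  exact h1

theorem Swap.A1_eq : L.A1 = L.XN g 3 := by
  rw [S.XN_base' (by norm_num), L.baseX_3 (by norm_num)]; rfl

theorem Swap.cj1 : cjS (ro L g) ((upU F1).map L.e1) = L.XN g 7 := by
  rw [← L.baseX_3 (j := 3) (by norm_num), ← S.XN_base' (by norm_num), S.rho_XN]

theorem Swap.cj1' : cjS (ro L g) ((loU F1).map L.e1) = L.XN g 1 := by
  rw [← L.baseX_1 (j := 9) (by norm_num), ← S.XN_base' (by norm_num), S.rho_XN]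
  exact S.XN_eq (by norm_num)

theorem Swap.cj2 : cjS (ro L g) ((upU F2).map L.e2) = L.XN g 4 := by
  rw [← L.baseX_0 (j := 0) (by norm_num), ← S.XN_base' (by norm_num), S.rho_XN]

theorem Swap.cj2' : cjS (ro L g) ((loU F2).map L.e2) = L.XN g 10 := by
  rw [← L.baseX_2 (j := 6) (by norm_num), ← S.XN_base' (by norm_num), S.rho_XN]

/-- the possibilities for `C_R(s)` -/
theorem Swap.DD_class (hq : 3 < Nat.card F1 ∨ 3 < Nat.card F2) : ∃ P Q : Subgroup G,
    (P = ⊥ ∨ P = L.XN g 1 ∨ P = L.XN g 7) ∧ (Q = ⊥ ∨ Q = L.XN g 4 ∨ Q = L.XN g 10) ∧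
    ∀ x, x ∈ L.DD s ↔ ∃ p ∈ P, ∃ q ∈ Q, x = p * q := by
  obtain ⟨P, Q, hP, hQ, h⟩ := S.yd.split S hq
  refine ⟨cjS (ro L g) P, cjS (ro L g) Q, ?_, ?_, ?_⟩
  · rcases hP with rfl | rfl | rfl
    · left; unfold cjS; exact Subgroup.map_bot _
    · right; right; exact S.cj1
    · right; left; exact S.cj1'
  · rcases hQ with rfl | rfl | rfl
    · left; unfold cjS; exact Subgroup.map_bot _
    · right; left; exact S.cj2
    · right; right; exact S.cj2'
  · intro x
    rw [Swap.mem_DD_iff S, h]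
    constructor
    · rintro ⟨p, hp, q, hq, he⟩
      refine ⟨_, conj_mem_cjS hp, _, conj_mem_cjS hq, ?_⟩
      calc x = ro L g * ((ro L g)⁻¹ * x * ro L g) * (ro L g)⁻¹ := by group
        _ = _ := by rw [he]; group
    · rintro ⟨p, hp, q, hq, rfl⟩
      rw [mem_cjS] at hp hq
      refine ⟨_, hp, _, hq, ?_⟩
      group

/-- `C_R(s t)` from `C_R(s)` -/
theorem Swap.le_DD2 {a b : ℕ} (hab : (a + b) % 12 = 6) (h : L.XN g a ≤ L.DD s) : L.XN g b ≤ L.DD (s * t) := by
  rw [S.toFrame.DD_eq, ← S.r2_XN hab]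
  exact cjS_mono h

/-- two root groups in `C_R(s)`: the full case -/
theorem Swap.five {a b c d : ℕ} (h : ∀ x ∈ L.DD s, ∃ p ∈ L.XN g a, ∃ q ∈ L.XN g b, x = p * q)
    (ha : L.XN g a ≤ L.DD s) (hb : L.XN g b ≤ L.DD s) (hc : (a + c) % 12 = 6) (hd : (b + d) % 12 = 6) :
    HexFull.Five (L.XN g a) (L.XN g d) (L.XN g 3) (L.XN g b) (L.XN g c) (rc L.A1) where
  cent x hx y hy := by
    rw [← S.A1_eq] at hy
    exact rc_comm hx hy
  norm c' hc' x hx := by
    refine rc_norm ?_ hx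
    rw [Subgroup.mem_centralizer_iff]
    intro y hy
    rw [S.A1_eq] at hy
    exact (hc' y hy).symm
  abel x hx y hy := by
    rw [← S.A1_eq]
    exact S.hyp.rc_comm_mem hx hy
  hA := ha.trans inf_le_left
  hB := (S.le_DD2 hd hb).trans inf_le_left
  hC := by rw [← S.A1_eq]; exact S.hyp.A1_le
  hD := hb.trans inf_le_left
  hE := (S.le_DD2 hc ha).trans inf_le_left
  le := by
    intro x hx
    obtain ⟨z, hz, y, hy, y', hy', rfl⟩ := S.toFrame.rc_prod hx
    rw [S.A1_eq] at hz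
    obtain ⟨p, hp, q, hq, rfl⟩ := h y hy
    rw [S.toFrame.DD_eq, mem_cjS] at hy'
    obtain ⟨p', hp', q', hq', he⟩ := h _ hy'
    have h1 : y' = (L.e2 (wn F2) * p' * (L.e2 (wn F2))⁻¹) * (L.e2 (wn F2) * q' * (L.e2 (wn F2))⁻¹) := by
      calc y' = L.e2 (wn F2) * ((L.e2 (wn F2))⁻¹ * y' * L.e2 (wn F2)) * (L.e2 (wn F2))⁻¹ := by group
        _ = _ := by rw [he]; group
    have h2 : L.e2 (wn F2) * p' * (L.e2 (wn F2))⁻¹ ∈ L.XN g c := by
      rw [← S.r2_XN hc]; exact conj_mem_cjS hp'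
    have h3 : L.e2 (wn F2) * q' * (L.e2 (wn F2))⁻¹ ∈ L.XN g d := by
      rw [← S.r2_XN hd]; exact conj_mem_cjS hq'
    rw [h1]
    have l1 : L.XN g a ≤ L.XN g a ⊔ L.XN g d ⊔ L.XN g 3 ⊔ L.XN g b ⊔ L.XN g c :=
      le_sup_left.trans (le_sup_left.trans (le_sup_left.trans le_sup_left))
    have l2 : L.XN g d ≤ L.XN g a ⊔ L.XN g d ⊔ L.XN g 3 ⊔ L.XN g b ⊔ L.XN g c :=
      le_sup_right.trans (le_sup_left.trans (le_sup_left.trans le_sup_left))
    have l3 : L.XN g 3 ≤ L.XN g a ⊔ L.XN g d ⊔ L.XN g 3 ⊔ L.XN g b ⊔ L.XN g c :=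
      le_sup_right.trans (le_sup_left.trans le_sup_left)
    have l4 : L.XN g b ≤ L.XN g a ⊔ L.XN g d ⊔ L.XN g 3 ⊔ L.XN g b ⊔ L.XN g c :=
      le_sup_right.trans le_sup_left
    have l5 : L.XN g c ≤ L.XN g a ⊔ L.XN g d ⊔ L.XN g 3 ⊔ L.XN g b ⊔ L.XN g c := le_sup_right
    exact mul_mem (mul_mem (l3 hz) (mul_mem (l1 hp) (l4 hq))) (mul_mem (l5 h2) (l2 h3))

/-- the cases for `R = O(C_G(A1))` in a split frame, one of the fields having more than three elements -/
theorem Swap.cases (hq : 3 < Nat.card F1 ∨ 3 < Nat.card F2) : L.DD s = ⊥ ∨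
    (L.DD s = L.XN g 1 ∨ L.DD s = L.XN g 7) ∨ (L.DD s = L.XN g 4 ∨ L.DD s = L.XN g 10) ∨
    (HexFull.Five (L.XN g 1) (L.XN g 2) (L.XN g 3) (L.XN g 4) (L.XN g 5) (rc L.A1) ∨
     HexFull.Five (L.XN g 1) (L.XN g 8) (L.XN g 3) (L.XN g 10) (L.XN g 5) (rc L.A1) ∨
     HexFull.Five (L.XN g 7) (L.XN g 2) (L.XN g 3) (L.XN g 4) (L.XN g 11) (rc L.A1) ∨
     HexFull.Five (L.XN g 7) (L.XN g 8) (L.XN g 3) (L.XN g 10) (L.XN g 11) (rc L.A1)) := by
  obtain ⟨P, Q, hP, hQ, h⟩ := S.DD_class hq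
  have hPle : P ≤ L.DD s := fun x hx => (h x).2 ⟨x, hx, 1, one_mem _, by simp⟩
  have hQle : Q ≤ L.DD s := fun x hx => (h x).2 ⟨1, one_mem _, x, hx, by simp⟩
  have hP0 : P = ⊥ → L.DD s = Q := by
    rintro rfl
    apply le_antisymm _ hQle
    intro x hx
    obtain ⟨p, hp, q, hq, rfl⟩ := (h x).1 hx
    rw [Subgroup.mem_bot.1 hp, one_mul]; exact hq
  have hQ0 : Q = ⊥ → L.DD s = P := by
    rintro rfl
    apply le_antisymm _ hPle
    intro x hx
    obtain ⟨p, hp, q, hq, rfl⟩ := (h x).1 hx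
    rw [Subgroup.mem_bot.1 hq, mul_one]; exact hp
  have h' : ∀ x ∈ L.DD s, ∃ p ∈ P, ∃ q ∈ Q, x = p * q := fun x hx => (h x).1 hx
  rcases hP with hP | hP | hP
  · rcases hQ with hQ | hQ | hQ
    · left; rw [hP0 hP, hQ]
    · right; right; left; left; rw [hP0 hP, hQ]
    · right; right; left; right; rw [hP0 hP, hQ]
  · rcases hQ with hQ | hQ | hQ
    · right; left; left; rw [hQ0 hQ, hP]
    · right; right; right; left
      subst hP hQ
      exact S.five h' hPle hQle (by norm_num) (by norm_num)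
    · right; right; right; right; left
      subst hP hQ
      exact S.five h' hPle hQle (by norm_num) (by norm_num)
  · rcases hQ with hQ | hQ | hQ
    · right; left; right; rw [hQ0 hQ, hP]
    · right; right; right; right; right; left
      subst hP hQ
      exact S.five h' hPle hQle (by norm_num) (by norm_num)
    · right; right; right; right; right; right
      subst hP hQ
      exact S.five h' hPle hQle (by norm_num) (by norm_num)

end split

end LocalSL

end Cfsg.Agent.GTwoOdd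
end

-- part: GTwoOdd/XFull
section
/-!
# `x ∈ T_2 ∩ T_2^ρ` with `T_1` split: `R = O(C_G(A1))` is full
-/

set_option autoImplicit false

namespace Cfsg.Agent.GTwoOdd

open Matrix ZIso

namespace LocalSL

variable {G : Type*} [Group G] {t : G} {F1 F2 : Type*} [Field F1] [Field F2]
variable [Finite F1] [Finite F2] {L : LocalSL t F1 F2} {s g : G} {D2 : M2 F2} {n2 : SL2 F2} {n1 : SL2 F1}

/-- `O(C_G(A1))` is full in some split frame -/
def FullF [Finite G] (L : LocalSL t F1 F2) : Prop := ∃ s g : G, L.Split s g ∧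
    (HexFull.Five (L.XN g 1) (L.XN g 2) (L.XN g 3) (L.XN g 4) (L.XN g 5) (rc L.A1) ∨
     HexFull.Five (L.XN g 1) (L.XN g 8) (L.XN g 3) (L.XN g 10) (L.XN g 5) (rc L.A1) ∨
     HexFull.Five (L.XN g 7) (L.XN g 2) (L.XN g 3) (L.XN g 4) (L.XN g 11) (rc L.A1) ∨
     HexFull.Five (L.XN g 7) (L.XN g 8) (L.XN g 3) (L.XN g 10) (L.XN g 11) (rc L.A1))

section diag

variable {F : Type*} [Field F]

theorem diag_entries {y : SL2 F} (h01 : (y : M2 F) 0 1 = 0) : (y : M2 F) 0 0 * (y : M2 F) 1 1 = 1 := by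
  have := sl_coe_det y
  rw [Matrix.det_fin_two, h01] at this
  linear_combination this

theorem diag_ne {y : SL2 F} (h01 : (y : M2 F) 0 1 = 0) (h10 : (y : M2 F) 1 0 = 0) (h1 : y ≠ 1) (h2 : y ≠ -1) :
    (y : M2 F) 0 0 ≠ (y : M2 F) 1 1 := by
  intro h
  have hd := diag_entries h01
  rw [← h] at hd
  have h3 : (y : M2 F) = ((y : M2 F) 0 0) • (1 : M2 F) := by
    rw [m2_eq_iff]
    simp [h01, h10, h]
  rcases sl_scalar h3 with h4 | h4
  · exact h1 h4
  · exact h2 h4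

theorem diag_up_comm {y : SL2 F} (h01 : (y : M2 F) 0 1 = 0) (hne : (y : M2 F) 0 0 ≠ (y : M2 F) 1 1) {a : F}
    (h : y * up a = up a * y) : a = 0 := by
  have h1 : ((y : M2 F) * (up a : M2 F)) 0 1 = ((up a : M2 F) * (y : M2 F)) 0 1 :=
    congrArg (fun z : SL2 F => (z : M2 F) 0 1) h
  rw [m2_mul_01, m2_mul_01, up_coe] at h1
  simp only [h01, _root_.Fin.isValue, _root_.Matrix.of_apply, _root_.Matrix.cons_val', _root_.Matrix.cons_val_one, _root_.Matrix.cons_val_fin_one, _root_.Matrix.cons_val_zero, _root_.mul_one, _root_.add_zero, _root_.MulZeroClass.mul_zero, _root_.zero_add] at h1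
  have h2 : a * ((y : M2 F) 0 0 - (y : M2 F) 1 1) = 0 := by linear_combination h1
  rcases mul_eq_zero.1 h2 with h3 | h3
  · exact h3
  · exact absurd (sub_eq_zero.1 h3) hne

theorem diag_lo_comm {y : SL2 F} (h10 : (y : M2 F) 1 0 = 0) (hne : (y : M2 F) 0 0 ≠ (y : M2 F) 1 1) {a : F}
    (h : y * lo a = lo a * y) : a = 0 := by
  have h1 : ((y : M2 F) * (lo a : M2 F)) 1 0 = ((lo a : M2 F) * (y : M2 F)) 1 0 :=
    congrArg (fun z : SL2 F => (z : M2 F) 1 0) h
  rw [m2_mul_10, m2_mul_10, lo_coe] at h1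
  simp only [h10, _root_.Fin.isValue, _root_.Matrix.of_apply, _root_.Matrix.cons_val', _root_.Matrix.cons_val_zero, _root_.Matrix.cons_val_fin_one, _root_.mul_one, _root_.Matrix.cons_val_one, _root_.zero_add, _root_.MulZeroClass.mul_zero, _root_.add_zero] at h1
  have h2 : a * ((y : M2 F) 0 0 - (y : M2 F) 1 1) = 0 := by linear_combination -h1
  rcases mul_eq_zero.1 h2 with h3 | h3
  · exact h3
  · exact absurd (sub_eq_zero.1 h3) hne

theorem card_of_diag [Finite F] (h2 : (2 : F) ≠ 0) {y : SL2 F} (h01 : (y : M2 F) 0 1 = 0)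
    (hne : (y : M2 F) 0 0 ≠ (y : M2 F) 1 1) : 3 < Nat.card F := by
  classical
  have := Fintype.ofFinite F
  rw [Nat.card_eq_fintype_card]
  set l := (y : M2 F) 0 0 with hl
  have hd := diag_entries h01
  rw [← hl] at hd
  have hl0 : l ≠ 0 := by rintro h; rw [h, zero_mul] at hd; exact zero_ne_one hd
  have hl1 : l ≠ 1 := by
    intro h; apply hne; rw [h, one_mul] at hd; rw [hd, h]
  have hl2 : l ≠ -1 := by
    intro h; apply hne; rw [h] at hd ⊢; linear_combination hd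
  have h11 : (1 : F) ≠ -1 := by
    intro h; apply h2; linear_combination h
  have h3 : ({0, 1, -1, l} : Finset F).card = 4 := by
    rw [Finset.card_insert_of_notMem, Finset.card_insert_of_notMem, Finset.card_insert_of_notMem, Finset.card_singleton]
    · simp [hl2.symm]
    · simp [h11, hl1.symm]
    · simp only [hl0.symm, _root_.Finset.mem_insert, _root_.zero_ne_one, _root_.zero_eq_neg, _root_.one_ne_zero, _root_.Finset.mem_singleton, _root_.or_self, _root_.not_false_eq_true]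
  have h4 := Finset.card_le_univ ({0, 1, -1, l} : Finset F)
  omega

end diag

variable [Finite G]

theorem Frame.tor_DD (F : L.Frame s (dg F1) D2 n1 n2) {c : G} (hc : c ∈ L.tor (dg F1) D2) {d : G} (hd : d ∈ L.DD s) :
    c * d * c⁻¹ ∈ L.DD s := by
  obtain ⟨h4, h5⟩ := mem_DD.1 hd
  refine mem_DD.2 ⟨F.tor_rc hc h4, ?_⟩
  have h6 := F.tor_s hc
  have h7 : c⁻¹ * s = s * c⁻¹ := by
    rw [inv_mul_eq_iff_eq_mul, ← mul_assoc, h6, mul_assoc, mul_inv_cancel, mul_one]
  calc c * d * c⁻¹ * s = c * d * (c⁻¹ * s) := by group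
    _ = c * (d * s) * c⁻¹ := by rw [h7]; group
    _ = (c * s) * d * c⁻¹ := by rw [h5]; group
    _ = _ := by rw [h6]; group

namespace XIn

variable {x : G} (X : XIn L s (dg F1) D2 (wn F1) n2 g x)
include X

/-- from `C_R(s)` to `C_R(s t)` -/
theorem comm_DD2 {d : G} (h : (L.e2 n2)⁻¹ * d * L.e2 n2 * x = x * ((L.e2 n2)⁻¹ * d * L.e2 n2)) : d * x = x * d := by
  have h1 := X.sw.toFrame.tor2_inv X.mem
  -- `r x = x⁻¹ r`
  have h2 : L.e2 n2 * x * (L.e2 n2)⁻¹ = x⁻¹ := by rw [h1]; group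
  have h3 : d * x⁻¹ = x⁻¹ * d := by
    calc d * x⁻¹ = d * (L.e2 n2 * x * (L.e2 n2)⁻¹) := by rw [h2]
      _ = L.e2 n2 * ((L.e2 n2)⁻¹ * d * L.e2 n2 * x) * (L.e2 n2)⁻¹ := by group
      _ = L.e2 n2 * (x * ((L.e2 n2)⁻¹ * d * L.e2 n2)) * (L.e2 n2)⁻¹ := by rw [h]
      _ = (L.e2 n2 * x * (L.e2 n2)⁻¹) * d := by group
      _ = _ := by rw [h2]
  calc d * x = x * (x⁻¹ * d) * x := by group
    _ = x * (d * x⁻¹) * x := by rw [h3]
    _ = _ := by group

theorem comm_DD2' {d : G} (h : d * x = x * d) : (L.e2 n2)⁻¹ * d * L.e2 n2 * x = x * ((L.e2 n2)⁻¹ * d * L.e2 n2) := by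
  have h1 := X.sw.toFrame.tor2_inv X.mem
  have h3 : d * x⁻¹ = x⁻¹ * d := by
    rw [eq_inv_mul_iff_mul_eq, ← mul_assoc, ← h]; group
  calc (L.e2 n2)⁻¹ * d * L.e2 n2 * x = (L.e2 n2)⁻¹ * d * (L.e2 n2 * x) := by group
    _ = (L.e2 n2)⁻¹ * (d * x⁻¹) * L.e2 n2 := by rw [h1]; group
    _ = (L.e2 n2)⁻¹ * x⁻¹ * d * L.e2 n2 := by rw [h3]; group
    _ = (L.e2 n2)⁻¹ * (x⁻¹ * L.e2 n2) * (L.e2 n2)⁻¹ * d * L.e2 n2 := by group
    _ = _ := by rw [← h1]; group

/-- `C_R(s)` is not centralised by `x` -/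
theorem not_all (hM : MCl G F1) (hall : ∀ d ∈ L.DD s, d * x = x * d) : False := by
  have F := X.sw.toFrame
  have H := F.hyp
  obtain ⟨x0, hx0, -, hne, -⟩ := X.exists_x0
  have hR : ∀ r ∈ rc L.A1, r * x = x * r := by
    intro r hr
    obtain ⟨a, ha, d, hd, d', hd', rfl⟩ := F.rc_prod hr
    have h1 : a * x = x * a := by
      obtain ⟨u, rfl⟩ := mem_A1.1 ha
      exact X.e1 _
    have h2 := hall d hd
    have h3 : d' * x = x * d' := X.comm_DD2 (hall _ (F.r2_DD' hd'))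
    calc a * d * d' * x = a * d * (d' * x) := by group
      _ = a * (d * x) * d' := by rw [h3]; group
      _ = (a * x) * d * d' := by rw [h2]; group
      _ = _ := by rw [h1]; group
  obtain ⟨r, hr, -, hrA⟩ := X.exists_rc hM
  apply hne
  refine normal_eq_one H.two_ne2 (N := (Subgroup.centralizer (rc L.A1 : Set G)).comap L.e2) ?_ ?_ ?_
  · intro u hu v
    rw [Subgroup.mem_comap, Subgroup.mem_centralizer_iff] at hu ⊢
    intro r hr
    have h1 := rc_norm (inv_mem (e2_mem_cent v)) hr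
    rw [inv_inv] at h1
    have h2 := hu _ h1
    rw [map_mul, map_mul, map_inv]
    calc r * (L.e2 v * L.e2 u * (L.e2 v)⁻¹) = L.e2 v * ((L.e2 v)⁻¹ * r * L.e2 v * L.e2 u) * (L.e2 v)⁻¹ := by group
      _ = L.e2 v * (L.e2 u * ((L.e2 v)⁻¹ * r * L.e2 v)) * (L.e2 v)⁻¹ := by rw [h2]
      _ = _ := by group
  · intro h
    rw [Subgroup.mem_comap, L.neg2, Subgroup.mem_centralizer_iff] at h
    exact hrA (H.rc_t hr (h r hr))
  · rw [Subgroup.mem_comap, Subgroup.mem_centralizer_iff]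
    intro r hr
    rw [← hx0]
    exact hR r hr

/-- the second torus cannot be nonsplit -/
theorem nonsplit (hM : MCl G F1) (hns : ¬ IsSquare (-D2.det)) : False := by
  apply X.not_all hM
  intro d hd
  rcases X.sw.DD_nonsplit hns with h | h | h
  · rw [h, Subgroup.mem_bot] at hd
    rw [hd, one_mul, mul_one]
  · rw [h, mem_cjS] at hd
    obtain ⟨y, -, hy⟩ := hd
    have := X.re1 y
    rw [hy] at this
    have e : rho L (wn F1) g * ((rho L (wn F1) g)⁻¹ * d * rho L (wn F1) g) * (rho L (wn F1) g)⁻¹ = d := by group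
    rwa [e] at this
  · rw [h, mem_cjS] at hd
    obtain ⟨y, -, hy⟩ := hd
    have := X.re1 y
    rw [hy] at this
    have e : rho L (wn F1) g * ((rho L (wn F1) g)⁻¹ * d * rho L (wn F1) g) * (rho L (wn F1) g)⁻¹ = d := by group
    rwa [e] at this

/-- the matrix of `ρ⁻¹ x ρ` -/
theorem exists_y0 : ∃ y0 : SL2 F2, (rho L (wn F1) g)⁻¹ * x * rho L (wn F1) g = L.e2 y0 ∧ (y0 : M2 F2) * D2 = D2 * y0 ∧
    y0 ≠ 1 ∧ y0 ≠ -1 := by
  obtain ⟨y0, h1, h2⟩ := mem_tor2.1 X.mem'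
  have hx : x = rho L (wn F1) g * L.e2 y0 * (rho L (wn F1) g)⁻¹ := by rw [← h2]; group
  refine ⟨y0, h2, h1, ?_, ?_⟩
  · rintro rfl
    apply X.ne
    rw [hx, map_one]; group
  · rintro rfl
    rw [L.neg2] at hx
    have h3 : x = s := by rw [hx, X.sw.rho_t]; group
    obtain ⟨x0, h4, -⟩ := X.exists_x0
    rw [h3] at h4
    have h5 := Rep.e2 L x0
    rw [← h4] at h5
    obtain ⟨⟨a, ha, h9⟩, -⟩ := h5.prop X.sw.toFrame.rep
    exact not_scalar X.sw.toFrame.two1 X.sw.toFrame.det1 X.sw.toFrame.tr1 a h9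

end XIn

section split

variable {x : G} (X : XIn L s (dg F1) (dg F2) (wn F1) (wn F2) g x)
include X

theorem XIn.card2 : 3 < Nat.card F2 := by
  obtain ⟨x0, -, h1, h2, h3⟩ := X.exists_x0
  obtain ⟨h4, h5⟩ := (comm_dg_iff X.sw.toFrame.two2).1 h1
  exact card_of_diag X.sw.toFrame.two2 h4 (diag_ne h4 h5 h2 h3)

/-- `x` acts fixed point freely on `X 4` -/
theorem XIn.X4 {d : G} (hd : d ∈ L.XN g 4) (h : d * x = x * d) : d = 1 := by
  obtain ⟨y0, h0, h1, h2, h3⟩ := X.exists_y0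
  obtain ⟨h4, h5⟩ := (comm_dg_iff X.sw.toFrame.two2).1 h1
  have hne := diag_ne h4 h5 h2 h3
  rw [← X.sw.cj2, mem_cjS] at hd
  obtain ⟨_, ⟨a, rfl⟩, ha⟩ := hd
  have h6 : L.e2 (up a) * L.e2 y0 = L.e2 y0 * L.e2 (up a) := by
    rw [ha, ← h0]
    calc (ro L g)⁻¹ * d * ro L g * ((ro L g)⁻¹ * x * ro L g) = (ro L g)⁻¹ * (d * x) * ro L g := by group
      _ = (ro L g)⁻¹ * (x * d) * ro L g := by rw [h]
      _ = _ := by group
  rw [← map_mul, ← map_mul] at h6
  have h7 := diag_up_comm h4 hne (L.inj2 h6).symm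
  rw [h7, up_zero, map_one] at ha
  calc d = ro L g * ((ro L g)⁻¹ * d * ro L g) * (ro L g)⁻¹ := by group
    _ = 1 := by rw [← ha]; group

/-- `x` acts fixed point freely on `X 10` -/
theorem XIn.X10 {d : G} (hd : d ∈ L.XN g 10) (h : d * x = x * d) : d = 1 := by
  obtain ⟨y0, h0, h1, h2, h3⟩ := X.exists_y0
  obtain ⟨h4, h5⟩ := (comm_dg_iff X.sw.toFrame.two2).1 h1
  have hne := diag_ne h4 h5 h2 h3
  rw [← X.sw.cj2', mem_cjS] at hd
  obtain ⟨_, ⟨a, rfl⟩, ha⟩ := hd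
  have h6 : L.e2 (lo a) * L.e2 y0 = L.e2 y0 * L.e2 (lo a) := by
    rw [ha, ← h0]
    calc (ro L g)⁻¹ * d * ro L g * ((ro L g)⁻¹ * x * ro L g) = (ro L g)⁻¹ * (d * x) * ro L g := by group
      _ = (ro L g)⁻¹ * (x * d) * ro L g := by rw [h]
      _ = _ := by group
  rw [← map_mul, ← map_mul] at h6
  have h7 := diag_lo_comm h5 hne (L.inj2 h6).symm
  rw [h7, lo_zero, map_one] at ha
  calc d = ro L g * ((ro L g)⁻¹ * d * ro L g) * (ro L g)⁻¹ := by group
    _ = 1 := by rw [← ha]; group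

/-- `x` commutes with `X 7`, `X 1` -/
theorem XIn.X7 {d : G} (hd : d ∈ L.XN g 7 ∨ d ∈ L.XN g 1) : d * x = x * d := by
  have key : ∀ y : SL2 F1, L.e1 y = (ro L g)⁻¹ * d * ro L g → d * x = x * d := by
    intro y hy
    have := X.re1 y
    rw [hy] at this
    have e : rho L (wn F1) g * ((rho L (wn F1) g)⁻¹ * d * rho L (wn F1) g) * (rho L (wn F1) g)⁻¹ = d := by group
    rwa [e] at this
  rcases hd with hd | hd
  · rw [← X.sw.cj1, mem_cjS] at hd
    obtain ⟨y, -, hy⟩ := hd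
    exact key y hy
  · rw [← X.sw.cj1', mem_cjS] at hd
    obtain ⟨y, -, hy⟩ := hd
    exact key y hy

/-- an element of `C_R(s)` different from `1` commutes with `x` -/
theorem XIn.exists_DD (hM : MCl G F1) : ∃ d ∈ L.DD s, d ≠ 1 ∧ d * x = x * d := by
  by_contra hcon
  push Not at hcon
  have F := X.sw.toFrame
  obtain ⟨r, hr, hrx, hrA⟩ := X.exists_rc hM
  obtain ⟨a, ha, d, hd, d', hd', rfl⟩ := F.rc_prod hr
  have h1 : a * x = x * a := by
    obtain ⟨u, rfl⟩ := mem_A1.1 ha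
    exact X.e1 _
  have hxT : x ∈ L.tor (dg F1) (dg F2) := X.x_tor
  have he := F.tor_DD hxT hd
  have he' := F.mul_t.tor_DD hxT hd'
  set e := x * d * x⁻¹ with hedef
  set e' := x * d' * x⁻¹ with hedef'
  have h2 : d * d' = e * e' := by
    have h3 : a * (d * d') = a * (e * e') := by
      calc a * (d * d') = (a * d * d' * x) * x⁻¹ := by group
        _ = (x * a) * d * d' * x⁻¹ := by rw [hrx]; group
        _ = _ := by rw [← h1, hedef, hedef']; group
    exact mul_left_cancel h3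
  have h4 : 1 * (e⁻¹ * d) * (d' * e'⁻¹) = 1 := by
    calc 1 * (e⁻¹ * d) * (d' * e'⁻¹) = e⁻¹ * (d * d') * e'⁻¹ := by group
      _ = 1 := by rw [h2]; group
  obtain ⟨-, h5, h6⟩ := F.rc_unique (one_mem _) (mul_mem (inv_mem he) hd) (mul_mem hd' (inv_mem he')) h4
  have h7 : d * x = x * d := by
    have : d = e := by rw [← mul_one e, ← h5]; group
    calc d * x = e * x := by rw [← this]
      _ = _ := by rw [hedef]; group
  have h8 : d' * x = x * d' := by
    have : d' = e' := by rw [← one_mul e', ← h6]; group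
    calc d' * x = e' * x := by rw [← this]
      _ = _ := by rw [hedef']; group
  have h9 : d = 1 := by
    by_contra h
    exact hcon d hd h h7
  have h10 : d' = 1 := by
    have h11 := X.comm_DD2' h8
    have h12 : (L.e2 (wn F2))⁻¹ * d' * L.e2 (wn F2) = 1 := by
      by_contra h
      exact hcon _ (F.r2_DD' hd') h h11
    calc d' = L.e2 (wn F2) * ((L.e2 (wn F2))⁻¹ * d' * L.e2 (wn F2)) * (L.e2 (wn F2))⁻¹ := by group
      _ = 1 := by rw [h12]; group
  apply hrA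
  rw [h9, h10, mul_one, mul_one]
  exact ha

/-- both tori split: `R` is full -/
theorem XIn.full (hM : MCl G F1) : FullF L := by
  rcases X.sw.cases (Or.inr X.card2) with h | h | h | h
  · exfalso
    apply X.not_all hM
    intro d hd
    rw [h, Subgroup.mem_bot] at hd
    rw [hd, one_mul, mul_one]
  · exfalso
    apply X.not_all hM
    intro d hd
    rcases h with h | h
    · rw [h] at hd
      exact X.X7 (Or.inr hd)
    · rw [h] at hd
      exact X.X7 (Or.inl hd)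
  · exfalso
    obtain ⟨d, hd, hd1, hdx⟩ := X.exists_DD hM
    rcases h with h | h
    · rw [h] at hd
      exact hd1 (X.X4 hd hdx)
    · rw [h] at hd
      exact hd1 (X.X10 hd hdx)
  · exact ⟨s, g, X.sw, h⟩

end split

end LocalSL

end Cfsg.Agent.GTwoOdd
end

-- part: GTwoOdd/XCard
section
/-!
# Existence of `x ∈ T_2 ∩ T_2^ρ` if `|T_1| < |T_2|`; fields of different orders
-/

set_option autoImplicit false

namespace Cfsg.Agent.GTwoOdd

open Matrix ZIso

section field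

variable {F : Type*} [Field F]

/-- the centraliser of `D` in `SL(2,F)` -/
def CS (D : M2 F) : Subgroup (SL2 F) where
  carrier := {x | (x : M2 F) * D = D * x}
  mul_mem' := by
    intro a b h1 h2
    change ((a * b : SL2 F) : M2 F) * D = D * ((a * b : SL2 F) : M2 F)
    change (a : M2 F) * D = D * a at h1
    change (b : M2 F) * D = D * b at h2
    rw [Matrix.SpecialLinearGroup.coe_mul, mul_assoc, h2, ← mul_assoc, h1, mul_assoc]
  one_mem' := by
    change ((1 : SL2 F) : M2 F) * D = D * ((1 : SL2 F) : M2 F)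
    simp
  inv_mem' := by
    intro a h
    change ((a⁻¹ : SL2 F) : M2 F) * D = D * ((a⁻¹ : SL2 F) : M2 F)
    change (a : M2 F) * D = D * a at h
    rw [sl_inv_coe, adjugate_eq, sub_mul, mul_sub, h]; simp

theorem mem_CS {D : M2 F} {x : SL2 F} : x ∈ CS D ↔ (x : M2 F) * D = D * x := Iff.rfl

/-- `diag (a, a⁻¹)` -/
def dgn (a : Fˣ) : SL2 F := ⟨!![(a : F), 0; 0, ((a⁻¹ : Fˣ) : F)], by rw [Matrix.det_fin_two]; simp⟩

theorem dgn_coe (a : Fˣ) : (dgn a : M2 F) = !![(a : F), 0; 0, ((a⁻¹ : Fˣ) : F)] := rfl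

theorem card_CS_dg [Finite F] (h2 : (2 : F) ≠ 0) : Nat.card (CS (dg F)) = Nat.card F - 1 := by
  rw [← Nat.card_units]
  have hmem : ∀ a : Fˣ, dgn a ∈ CS (dg F) := by
    intro a
    rw [mem_CS, comm_dg_iff h2, dgn_coe]
    simp
  refine (Nat.card_congr (Equiv.ofBijective (fun a : Fˣ => (⟨dgn a, hmem a⟩ : CS (dg F))) ⟨?_, ?_⟩)).symm
  · intro a b h
    have h1 := congrArg (fun z : CS (dg F) => (z.1 : M2 F) 0 0) h
    exact Units.ext h1
  · rintro ⟨y, hy⟩
    rw [mem_CS, comm_dg_iff h2] at hy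
    obtain ⟨h01, h10⟩ := hy
    have hd := LocalSL.diag_entries h01
    have h0 : (y : M2 F) 0 0 ≠ 0 := by intro h; rw [h, zero_mul] at hd; exact zero_ne_one hd
    refine ⟨Units.mk0 _ h0, Subtype.ext (Subtype.ext ?_)⟩
    rw [dgn_coe, m2_eq_iff]
    simp only [Units.val_inv_eq_inv_val, Units.val_mk0]
    refine ⟨by simp, by simp [h01], by simp [h10], ?_⟩
    simp
    exact inv_eq_of_mul_eq_one_right hd

/-- the nonsplit torus has at least `|F| + 1` elements -/
theorem card_CS_nonsplit [Finite F] (h2 : (2 : F) ≠ 0) {D : M2 F} (hD : D.det ≠ 0) (ht : D.trace = 0)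
    (hns : ¬ IsSquare (-D.det)) : Nat.card F + 1 ≤ Nat.card (CS D) := by
  have hdet : ∀ m : F, ((1 : M2 F) + m • D).det = 1 + D.det * (m * m) := by
    intro m
    have := cent_det ht (1 : F) m
    rwa [one_smul, one_mul] at this
  have hdet0 : ∀ m : F, (1 : F) + D.det * (m * m) ≠ 0 := by
    intro m h
    apply hns
    have hm : m ≠ 0 := by rintro rfl; simp at h
    refine ⟨m⁻¹, ?_⟩
    field_simp
    linear_combination -h
  have key : ∀ m : F, ∃ y : SL2 F, (y : M2 F) * (1 - m • D) = 1 + m • D := by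
    intro m
    apply exists_sl_mul_eq
    · rw [sub_eq_add_neg, ← neg_smul, hdet, hdet]; ring
    · rw [sub_eq_add_neg, ← neg_smul, hdet]
      exact hdet0 (-m)
  choose f hf using key
  have hdn : ∀ m : F, ((1 : M2 F) - m • D).det ≠ 0 := by
    intro m
    rw [sub_eq_add_neg, ← neg_smul, hdet]
    exact hdet0 (-m)
  have hmem : ∀ m, f m ∈ CS D := by
    intro m
    rw [mem_CS]
    apply cancel_right (hdn m)
    have h1 : D * (1 - m • D) = (1 - m • D) * D := by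
      rw [mul_sub, sub_mul, mul_one, one_mul, Matrix.mul_smul, Matrix.smul_mul]
    have h2 : D * (1 + m • D) = (1 + m • D) * D := by
      rw [mul_add, add_mul, mul_one, one_mul, Matrix.mul_smul, Matrix.smul_mul]
    calc (f m : M2 F) * D * (1 - m • D) = (f m : M2 F) * (D * (1 - m • D)) := by rw [mul_assoc]
      _ = (f m : M2 F) * (1 - m • D) * D := by rw [h1, ← mul_assoc]
      _ = (1 + m • D) * D := by rw [hf]
      _ = D * ((f m : M2 F) * (1 - m • D)) := by rw [hf, h2]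
      _ = _ := by rw [mul_assoc]
  have hneg : (-1 : SL2 F) ∈ CS D := by
    rw [mem_CS]; simp
  let φ : Option F → CS D := fun o => match o with
    | none => ⟨-1, hneg⟩
    | some m => ⟨f m, hmem m⟩
  have hinj : Function.Injective φ := by
    have hne : ∀ m, f m ≠ -1 := by
      intro m h
      have h1 := hf m
      rw [h] at h1
      have h3 : (2 : F) • (1 : M2 F) = 0 := by
        have h4 : -(1 - m • D) = 1 + m • D := by
          rw [← h1]; simp
        have h5 : (1 : M2 F) + 1 = 0 := by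
          have : (1 : M2 F) + 1 = (1 + m • D) + (1 - m • D) := by abel
          rw [this, ← h4]; abel
        rw [two_smul]; exact h5
      have h6 := congrArg (fun z : M2 F => z 0 0) h3
      simp at h6
      exact h2 h6
    have hff : ∀ m m', f m = f m' → m = m' := by
      intro m m' h
      have h1 := hf m
      have h3 := hf m'
      rw [← h] at h3
      have h4 : ((1 : M2 F) + m • D) * (1 - m' • D) = (1 + m' • D) * (1 - m • D) := by
        rw [← h1, ← h3]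
        have h5 : ((1 : M2 F) - m • D) * (1 - m' • D) = (1 - m' • D) * (1 - m • D) := by
          simp only [mul_sub, sub_mul, mul_one, one_mul, Matrix.mul_smul, Matrix.smul_mul, smul_smul]
          rw [mul_comm m m']
          abel
        rw [mul_assoc, h5, ← mul_assoc]
      have h5 : (2 * (m - m')) • D = 0 := by
        simp only [mul_sub, add_mul, mul_one, one_mul, Matrix.mul_smul, Matrix.smul_mul, smul_smul] at h4
        rw [mul_comm m m'] at h4
        have h6 : (1 : M2 F) + m • D - (m' • D + (m' * m) • (D * D)) - (1 + m' • D - (m • D + (m' * m) • (D * D))) = 0 := by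
          rw [sub_eq_zero]
          exact h4
        rw [← h6]
        module
      have h6 : 2 * (m - m') = 0 := by
        by_contra h7
        have h8 : D = 0 := by
          have := congrArg (fun z => (2 * (m - m'))⁻¹ • z) h5
          simp only [smul_smul, inv_mul_cancel₀ h7, one_smul, smul_zero] at this
          exact this
        apply hD
        rw [h8]; simp
      exact sub_eq_zero.1 ((mul_eq_zero.1 h6).resolve_left h2)
    intro o o' h
    match o, o' with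
    | none, none => rfl
    | none, some m => exact absurd (congrArg Subtype.val h).symm (hne m)
    | some m, none => exact absurd (congrArg Subtype.val h) (hne m)
    | some m, some m' => rw [hff m m' (congrArg Subtype.val h)]
  have h3 := Nat.card_le_card_of_injective φ hinj
  rwa [Finite.card_option] at h3

end field

namespace LocalSL

variable {G : Type*} [Group G] {t : G} {F1 F2 : Type*} [Field F1] [Field F2]
variable [Finite F1] [Finite F2] {L : LocalSL t F1 F2} {s g : G} {D1 : M2 F1} {D2 : M2 F2} {n1 : SL2 F1} {n2 : SL2 F2}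

omit [Finite F1] [Finite F2] in
theorem card_tor1 (L : LocalSL t F1 F2) (D1 : M2 F1) : Nat.card (L.tor1 D1) = Nat.card (CS D1) := by
  have h : L.tor1 D1 = (CS D1).map L.e1 := by
    ext c
    rw [mem_tor1, Subgroup.mem_map]
    constructor
    · rintro ⟨x, h1, h2⟩; exact ⟨x, h1, h2.symm⟩
    · rintro ⟨x, h1, h2⟩; exact ⟨x, h1, h2.symm⟩
  rw [h]
  exact Subgroup.card_map_of_injective L.inj1

omit [Finite F1] [Finite F2] in
theorem card_tor2 (L : LocalSL t F1 F2) (D2 : M2 F2) : Nat.card (L.tor2 D2) = Nat.card (CS D2) := by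
  have h : L.tor2 D2 = (CS D2).map L.e2 := by
    ext c
    rw [mem_tor2, Subgroup.mem_map]
    constructor
    · rintro ⟨x, h1, h2⟩; exact ⟨x, h1, h2.symm⟩
    · rintro ⟨x, h1, h2⟩; exact ⟨x, h1, h2.symm⟩
  rw [h]
  exact Subgroup.card_map_of_injective L.inj2

/-- `|T : T_2| ≤ |T_1|` -/
theorem Frame.relIndex_le [Finite G] (F : L.Frame s D1 D2 n1 n2) :
    (L.tor2 D2).relIndex (L.tor D1 D2) ≤ Nat.card (L.tor1 D1) := by
  have hmem : ∀ c : L.tor D1 D2, c.1 * L.e1 n1 * c.1⁻¹ * (L.e1 n1)⁻¹ ∈ L.tor1 D1 := by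
    intro c
    obtain ⟨x, hx, h⟩ := F.refl1 c.2
    have : c.1 * L.e1 n1 * c.1⁻¹ * (L.e1 n1)⁻¹ = x := by rw [h]; group
    rw [this]; exact hx
  let f : (L.tor D1 D2) ⧸ ((L.tor2 D2).subgroupOf (L.tor D1 D2)) → L.tor1 D1 := fun q => ⟨_, hmem q.out⟩
  have hf : Function.Injective f := by
    intro q q' h
    have h1 : (q.out : G) * L.e1 n1 * (q.out : G)⁻¹ * (L.e1 n1)⁻¹ = (q'.out : G) * L.e1 n1 * (q'.out : G)⁻¹ * (L.e1 n1)⁻¹ :=
      congrArg Subtype.val h
    have h2 := mul_right_cancel h1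
    rw [← q.out_eq, ← q'.out_eq]
    apply QuotientGroup.eq.2
    rw [Subgroup.mem_subgroupOf, ← F.mem_tor2_iff (q.out⁻¹ * q'.out).2]
    change (q.out : G)⁻¹ * (q'.out : G) * L.e1 n1 = L.e1 n1 * ((q.out : G)⁻¹ * (q'.out : G))
    calc (q.out : G)⁻¹ * (q'.out : G) * L.e1 n1
        = (q.out : G)⁻¹ * ((q'.out : G) * L.e1 n1 * (q'.out : G)⁻¹) * (q'.out : G) := by group
      _ = (q.out : G)⁻¹ * ((q.out : G) * L.e1 n1 * (q.out : G)⁻¹) * (q'.out : G) := by rw [h2]
      _ = _ := by group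
  exact Nat.card_le_card_of_injective f hf

/-- `|T_1| < |T_2|` -/
theorem Swap.exists_XIn [Finite G] (S : L.Swap s D1 D2 n1 n2 g)
    (hlt : Nat.card (L.tor1 D1) < Nat.card (L.tor2 D2)) : ∃ x, XIn L s D1 D2 n1 n2 g x := by
  by_contra hcon
  push Not at hcon
  set T := L.tor D1 D2 with hT
  set T2 := L.tor2 D2 with hT2
  set U := cjS (rho L n1 g) T2 with hU
  have hUT : U ≤ T := by
    intro x hx
    rw [hU, mem_cjS] at hx
    have := S.rho_tor (Frame.tor2_le L D1 D2 hx)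
    have e : rho L n1 g * ((rho L n1 g)⁻¹ * x * rho L n1 g) * (rho L n1 g)⁻¹ = x := by group
    rwa [e] at this
  have hinf : T2 ⊓ U = ⊥ := by
    rw [eq_bot_iff]
    rintro x ⟨h1, h2⟩
    rw [Subgroup.mem_bot]
    by_contra hx
    exact hcon x ⟨S, h1, mem_cjS.1 h2, hx⟩
  have h1 := Subgroup.relIndex_inf_le (H := T2) (K := U) (L := T)
  rw [hinf, Subgroup.relIndex_bot_left] at h1
  have hT2T : T2 ≤ T := Frame.tor2_le L D1 D2
  have h2 : Nat.card T2 * T2.relIndex T = Nat.card T := by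
    have := Subgroup.card_mul_index (T2.subgroupOf T)
    rw [Nat.card_congr (Subgroup.subgroupOfEquivOfLe hT2T).toEquiv] at this
    exact this
  have h3 : Nat.card U * U.relIndex T = Nat.card T := by
    have := Subgroup.card_mul_index (U.subgroupOf T)
    rw [Nat.card_congr (Subgroup.subgroupOfEquivOfLe hUT).toEquiv] at this
    exact this
  have h4 : Nat.card U = Nat.card T2 := card_cjS _ _
  rw [h4] at h3
  have h5 : T2.relIndex T = U.relIndex T := by
    have : Nat.card T2 * T2.relIndex T = Nat.card T2 * U.relIndex T := by rw [h2, h3]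
    exact Nat.eq_of_mul_eq_mul_left Nat.card_pos this
  rw [← h5, ← h2] at h1
  have h6 : 0 < T2.relIndex T := by
    rcases Nat.eq_zero_or_pos (T2.relIndex T) with h | h
    · rw [h, mul_zero] at h2
      have : 0 < Nat.card T := Nat.card_pos
      omega
    · exact h
  have h7 : Nat.card T2 ≤ T2.relIndex T := Nat.le_of_mul_le_mul_right h1 h6
  have h8 := S.toFrame.relIndex_le
  exact absurd (h7.trans h8) (not_le.2 hlt)

/-- frames with first torus split and second torus nonsplit -/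
theorem Hyp.exists_cross (H : L.Hyp) (h : ¬ (IsSquare (-1 : F1) ↔ IsSquare (-1 : F2)))
    (hcl : ∀ x : G, x * x = 1 → x ≠ 1 → ∃ g, g * t = x * g) :
    ∃ s D2 n2 g, L.Swap s (dg F1) D2 (wn F1) n2 g ∧ ¬ IsSquare (-D2.det) := by
  have key : ∃ d : F2, d ≠ 0 ∧ ¬ IsSquare (-d) ∧ (IsSquare (-1 : F1) ↔ IsSquare d) := by
    by_cases h1 : IsSquare (-1 : F1)
    · have h2 : ¬ IsSquare (-1 : F2) := fun k => h (iff_of_true h1 k)
      exact ⟨1, one_ne_zero, h2, iff_of_true h1 ⟨1, by simp⟩⟩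
    · have h2 : IsSquare (-1 : F2) := by
        by_contra k
        exact h (iff_of_false h1 k)
      obtain ⟨g, A, B, h3, -, h4, -⟩ := H.outer
      refine ⟨B.det, h3.det2, ?_, iff_of_false h1 h4⟩
      rintro ⟨a, ha⟩
      obtain ⟨i, hi⟩ := h2
      apply h4
      exact ⟨i * a, by linear_combination -ha + a * a * hi⟩
  obtain ⟨d, hd0, hns, hsq⟩ := key
  have hdet : (!![0, 1; -d, 0] : M2 F2).det = d := by rw [Matrix.det_fin_two]; simp
  have htr : (!![0, 1; -d, 0] : M2 F2).trace = 0 := by rw [Matrix.trace_fin_two]; simp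
  obtain ⟨s, hs⟩ := H.exists_rep (A := dg F1) (B := !![0, 1; -d, 0]) (by rw [dg_det]; simp) (by rw [hdet]; exact hd0)
    (by rw [dg_det, hdet]; exact hsq)
  obtain ⟨n2, hn2⟩ := exists_anti H.two_ne2 hs.det2 htr
  have F : L.Frame s (dg F1) !![0, 1; -d, 0] (wn F1) n2 := ⟨H, hs, dg_trace, htr, wn_anti, hn2⟩
  obtain ⟨g, h1, h2⟩ := F.exists_swap (hcl s F.ss F.s_ne_one)
  exact ⟨s, _, n2, g, ⟨F, h1, h2⟩, by rw [hdet]; exact hns⟩

variable [Finite G]

/-- different quadratic characters of `-1`, `|F1| < |F2| + 2` -/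
theorem Hyp.no_cross (H : L.Hyp) (h : ¬ (IsSquare (-1 : F1) ↔ IsSquare (-1 : F2)))
    (hcl : ∀ x : G, x * x = 1 → x ≠ 1 → ∃ g, g * t = x * g) (hM : MCl G F1)
    (hlt : Nat.card F1 < Nat.card F2 + 2) : False := by
  obtain ⟨s, D2, n2, g, S, hns⟩ := H.exists_cross h hcl
  have h1 := card_CS_nonsplit S.toFrame.two2 S.toFrame.det2 S.toFrame.tr2 hns
  have h2 := card_CS_dg S.toFrame.two1
  obtain ⟨x, X⟩ := S.exists_XIn (by
    rw [card_tor1, card_tor2, h2]
    omega)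
  exact X.nonsplit hM hns

/-- both split, `|F1| < |F2|` -/
theorem Hyp.full_of_lt (H : L.Hyp) (h : IsSquare (-1 : F1) ↔ IsSquare (-1 : F2))
    (hcl : ∀ x : G, x * x = 1 → x ≠ 1 → ∃ g, g * t = x * g) (hM : MCl G F1)
    (hlt : Nat.card F1 < Nat.card F2) : FullF L := by
  obtain ⟨s, g, S⟩ := H.exists_split h hcl
  obtain ⟨x, X⟩ := S.exists_XIn (by
    rw [card_tor1, card_tor2, card_CS_dg S.toFrame.two1, card_CS_dg S.toFrame.two2]
    have : 0 < Nat.card F1 := Nat.card_pos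
    omega)
  exact X.full hM

/-- (X3): fields of different orders, or `-1` of different quadratic character -/
theorem Hyp.full_of_ne (H : L.Hyp) (hcl : ∀ x : G, x * x = 1 → x ≠ 1 → ∃ g, g * t = x * g) (hM1 : MCl G F1)
    (hM2 : MCl G F2) (hne : Nat.card F1 ≠ Nat.card F2) : FullF L ∨ FullF L.sw := by
  by_cases h : IsSquare (-1 : F1) ↔ IsSquare (-1 : F2)
  · rcases Nat.lt_or_gt_of_ne hne with hlt | hlt
    · exact Or.inl (H.full_of_lt h hcl hM1 hlt)
    · exact Or.inr (H.sw.full_of_lt h.symm hcl hM2 hlt)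
  · exfalso
    by_cases hlt : Nat.card F1 < Nat.card F2 + 2
    · exact H.no_cross h hcl hM1 hlt
    · exact H.sw.no_cross (fun k => h k.symm) hcl hM2 (by omega)

end LocalSL

end Cfsg.Agent.GTwoOdd
end

private theorem dce_b185f633891f : _root_.True := by
  try have : _root_.True := by simp only [_root_.Cfsg.Agent.GTwoOdd.cjS.eq_1]
  try have : _root_.True := by simp only [_root_.Cfsg.Agent.GTwoOdd.HexFrame.pre.congr_simp]
  exact _root_.True.intro
end

-- part: GTwoOdd/HexRename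
section
prune_inst 0x80000000000000c010000
set_option linter.all false
open scoped Cfsg.Agent.FastGrp

/-!
# Renaming of the root groups

* `flipL L` : `e2` composed with conjugation by `(0 1; -1 0)`; the even root groups are shifted by 6;
* `swapL L` : the two types are exchanged; `X' m = X (3 + 7 m)`.
-/

set_option autoImplicit false

namespace Cfsg.Agent.GTwoOdd.HexRename

open Matrix
open Cfsg.Agent.GTwoOdd.Hex
open Cfsg.Agent.GTwoOdd.LocalSL
open Cfsg.Agent.GTwoOdd.HexFrame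
open Cfsg.Agent.GTwoOdd.HexFull

variable {G : Type*} [Group G] {t : G} {F1 F2 : Type*} [Field F1] [Field F2]

/-! ### the flip -/

/-- `e2` composed with conjugation by `(0 1; -1 0)` -/
def flipL (L : LocalSL t F1 F2) : LocalSL t F1 F2 := L.conj (L.e2 (wn F2)) (e2_t _)

theorem flip_e1 (L : LocalSL t F1 F2) : (flipL L).e1 = L.e1 := by
  ext x
  change L.e2 (wn F2) * L.e1 x * (L.e2 (wn F2))⁻¹ = L.e1 x
  rw [← L.comm]
  group

theorem flip_e2 (L : LocalSL t F1 F2) (x : SL2 F2) : (flipL L).e2 x = L.e2 (wn F2 * x * (wn F2)⁻¹) := by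
  change L.e2 (wn F2) * L.e2 x * (L.e2 (wn F2))⁻¹ = _
  rw [map_mul, map_mul, map_inv]

theorem acts_flip {e : SL2 F2 →* G} {s : G} (h : Acts e s (dg F2)) :
    Acts ((MulAut.conj (e (wn F2))).toMonoidHom.comp e) s (dg F2) := by
  refine ⟨h.1, fun x y hxy => ?_⟩
  change s * (e (wn F2) * e x * (e (wn F2))⁻¹) = e (wn F2) * e y * (e (wn F2))⁻¹ * s
  have h1 : ((wn F2 * y * (wn F2)⁻¹ : SL2 F2) : M2 F2) * dg F2 = dg F2 * ((wn F2 * x * (wn F2)⁻¹ : SL2 F2) : M2 F2) := by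
    have hw : (wn F2 : M2 F2) * dg F2 = -(dg F2 * wn F2) := wn_anti
    have hwi : (((wn F2)⁻¹ : SL2 F2) : M2 F2) * dg F2 = -(dg F2 * ((wn F2)⁻¹ : SL2 F2)) := by
      have e1 : (wn F2)⁻¹ = -(wn F2) := by
        rw [inv_eq_iff_mul_eq_one, mul_neg, wn_wn]
        simp
      rw [e1]
      change (-(wn F2 : M2 F2)) * dg F2 = -(dg F2 * (-(wn F2 : M2 F2)))
      rw [neg_mul, hw, mul_neg]
    change (wn F2 : M2 F2) * (y : M2 F2) * (((wn F2)⁻¹ : SL2 F2) : M2 F2) * dg F2 =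
      dg F2 * ((wn F2 : M2 F2) * (x : M2 F2) * (((wn F2)⁻¹ : SL2 F2) : M2 F2))
    rw [mul_assoc, hwi, mul_neg, ← mul_assoc, mul_assoc (wn F2 : M2 F2), hxy, ← mul_assoc (wn F2 : M2 F2), hw]
    rw [neg_mul, neg_mul, neg_neg, mul_assoc, mul_assoc, mul_assoc]
  have h2 := h.2 _ _ h1
  rw [map_mul, map_mul, map_inv, map_mul, map_mul, map_inv] at h2
  exact h2

theorem rep_flip {L : LocalSL t F1 F2} {s : G} (h : L.Rep s (dg F1) (dg F2)) : (flipL L).Rep s (dg F1) (dg F2) :=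
  ⟨h.comm, by rw [flip_e1]; exact h.acts1, acts_flip h.acts2⟩

variable [Finite F1] [Finite F2] {L : LocalSL t F1 F2} {s g : G}

omit [Finite F1] [Finite F2] in
theorem split_flip (S : L.Split s g) : (flipL L).Split s g where
  hyp := S.toFrame.hyp.conj _ _
  rep := rep_flip S.toFrame.rep
  tr1 := S.toFrame.tr1
  tr2 := S.toFrame.tr2
  anti1 := S.toFrame.anti1
  anti2 := S.toFrame.anti2
  gt := S.gt
  gs := S.gs

omit [Finite F1] [Finite F2] in
theorem rho_flip (L : LocalSL t F1 F2) (g : G) : rho (flipL L) (wn F1) g = rho L (wn F1) g := by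
  unfold rho rp
  rw [flip_e1]

omit [Finite F1] [Finite F2] in
theorem baseX_flip_odd (L : LocalSL t F1 F2) {m : ℕ} (h : m % 2 = 1) : (flipL L).baseX m = L.baseX m := by
  have h4 : m % 4 = 1 ∨ m % 4 = 3 := by omega
  rcases h4 with h4 | h4
  · rw [baseX_1 _ h4, baseX_1 _ h4, flip_e1]
  · rw [baseX_3 _ h4, baseX_3 _ h4, flip_e1]

omit [Finite F1] [Finite F2] in
theorem baseX_flip_even (L : LocalSL t F1 F2) {m : ℕ} (h : m % 2 = 0) : (flipL L).baseX m = L.baseX (m + 6) := by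
  have h4 : m % 4 = 0 ∨ m % 4 = 2 := by omega
  rcases h4 with h4 | h4
  · rw [baseX_0 _ h4, L.baseX_2 (j := m + 6) (by omega)]
    ext x
    constructor
    · rintro ⟨_, ⟨a, rfl⟩, rfl⟩
      refine ⟨_, lo_mem (-a), ?_⟩
      rw [flip_e2, wn_up]
      congr 1
      group
    · rintro ⟨_, ⟨a, rfl⟩, rfl⟩
      refine ⟨_, up_mem (-a), ?_⟩
      rw [flip_e2, wn_up, neg_neg]
      congr 1
      group
  · rw [baseX_2 _ h4, L.baseX_0 (j := m + 6) (by omega)]
    ext x
    constructor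
    · rintro ⟨_, ⟨a, rfl⟩, rfl⟩
      refine ⟨_, up_mem (-a), ?_⟩
      rw [flip_e2, wn_lo]
      congr 1
      group
    · rintro ⟨_, ⟨a, rfl⟩, rfl⟩
      refine ⟨_, lo_mem (-a), ?_⟩
      rw [flip_e2, wn_lo, neg_neg]
      congr 1
      group

omit [Finite F1] [Finite F2] in
theorem XN_flip_odd (L : LocalSL t F1 F2) (g : G) {m : ℕ} (h : m % 2 = 1) : (flipL L).XN g m = L.XN g m := by
  unfold XN
  rw [rho_flip, baseX_flip_odd L h]

theorem XN_flip_even (S : L.Split s g) {m k : ℕ} (h : m % 2 = 0) (hk : (m + 6) % 12 = k % 12) :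
    (flipL L).XN g m = L.XN g k := by
  rw [S.XN_eq hk.symm]
  unfold XN
  rw [rho_flip, baseX_flip_even L h]
  exact (EqT.cjS_eq (T := TT L) (S.rho_mod (by omega)) (S.nT_rho.pow m) (fun c hc => S.cjS_base hc (m + 6))).symm

/-- the full case with `LS = 150` -/
theorem full_of_flip (S : L.Split s g) {R : Subgroup G}
    (h : Five (L.XN g 1) (L.XN g 8) (L.XN g 3) (L.XN g 10) (L.XN g 5) R) : Full (flipL L) g R := by
  unfold Full
  rw [XN_flip_odd L g (m := 1) (by norm_num), XN_flip_odd L g (m := 3) (by norm_num),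
    XN_flip_odd L g (m := 5) (by norm_num), XN_flip_even S (m := 2) (k := 8) (by norm_num) (by norm_num),
    XN_flip_even S (m := 4) (k := 10) (by norm_num) (by norm_num)]
  exact h

/-! ### the exchange of the types -/

end Cfsg.Agent.GTwoOdd.HexRename
end

-- part: GTwoOdd/FullEnd
section
set_option linter.all false
open scoped Cfsg.Agent.FastGrp


/-!
# The four shapes of the full group `R = O(C_G(A1))`

`exists_full`: `FullF L` gives a split frame with full `R₃` (after a renaming) and the generation of the simple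
group by its root groups.
-/

set_option autoImplicit false

namespace Cfsg.Agent.GTwoOdd.FullEnd

open Cfsg
open Cfsg.Agent.GTwoOdd.LocalSL
open Cfsg.Agent.GTwoOdd.HexFull
open Cfsg.Agent.GTwoOdd.HexRename

variable {G : Type*} [Group G] {t : G} {F1 F2 : Type*} [Field F1] [Field F2]
variable [Finite F1] [Finite F2] {L : LocalSL t F1 F2} {s g : G}

/-- the last shape is impossible -/
theorem false_of_last [Finite G] (S : L.Split s g) {R : Subgroup G}
    (h : Five (L.XN g 7) (L.XN g 8) (L.XN g 3) (L.XN g 10) (L.XN g 11) R) : False := by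
  refine HexBad.false_of_five (L := flipL L) (split_flip S) (R := R) ?_
  rw [XN_flip_odd L g (m := 7) (by norm_num), XN_flip_odd L g (m := 3) (by norm_num),
    XN_flip_odd L g (m := 11) (by norm_num), XN_flip_even S (m := 2) (k := 8) (by norm_num) (by norm_num),
    XN_flip_even S (m := 4) (k := 10) (by norm_num) (by norm_num)]
  exact h

/-- **the full case up to renaming** -/
theorem exists_full [Finite G] (h : FullF L) :
    ∃ (L' : LocalSL t F1 F2) (s g : G) (R : Subgroup G), L'.Split s g ∧ Full L' g R := by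
  obtain ⟨s, g, S, h | h | h | h⟩ := h
  · exact ⟨L, s, g, _, S, h⟩
  · exact ⟨flipL L, s, g, _, split_flip S, full_of_flip S h⟩
  · exact (HexBad.false_of_five S h).elim
  · exact (false_of_last S h).elim

omit [Finite F1] [Finite F2] in
theorem noncomm (L : LocalSL t F1 F2) : ∃ a b : G, a * b ≠ b * a := by
  refine ⟨L.e1 (up 1), L.e1 (lo 1), fun h => ?_⟩
  rw [← map_mul, ← map_mul] at h
  rcases up_lo_comm (L.inj1 h) with h | h <;> exact one_ne_zero h

end Cfsg.Agent.GTwoOdd.FullEnd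
end

-- part: GTwoOdd/GamGlue
section
set_option linter.all false
open scoped Cfsg.Agent.FastGrp

/-!
# The centraliser of `t` contains a Sylow `p`-subgroup if `O(C_G(A1)) = A1`

`Frame.not_dvd_index`: if `C_R(s) = 1` (`R = O(C_G(A1))`) and `p` divides `|F1|`, then `p` does not divide `|G : C(t)|`.
-/

set_option autoImplicit false

namespace Cfsg.Agent.GTwoOdd

open Matrix ZIso

namespace GamGlue

variable {G : Type*} [Group G] [Finite G]

/-- a subgroup which contains the normaliser of one of its Sylow `p`-subgroups has index prime to `p` -/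
theorem not_dvd_index_of_normalizer {p : ℕ} [Fact p.Prime] {C : Subgroup G} (S : Sylow p C)
    (h : ∀ g : G, (∀ x ∈ (S : Subgroup C).map C.subtype, g * x * g⁻¹ ∈ (S : Subgroup C).map C.subtype) → g ∈ C) :
    ¬ p ∣ C.index := by
  set S' := (S : Subgroup C).map C.subtype with hS'
  have hpS : IsPGroup p S' := S.2.map _
  obtain ⟨P, hP⟩ := hpS.exists_le_sylow
  have hfix : (P : Subgroup G) ≤ C := by
    have key : S'.subgroupOf (P : Subgroup G) = ⊤ := by
      by_contra hne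
      have hnil : Group.IsNilpotent (P : Subgroup G) := P.2.isNilpotent
      have hlt := Group.normalizerCondition_of_isNilpotent (S'.subgroupOf (P : Subgroup G)) (lt_top_iff_ne_top.2 hne)
      obtain ⟨x, hx, hxn⟩ := SetLike.exists_of_lt hlt
      apply hxn
      rw [Subgroup.mem_subgroupOf]
      have hxC : (x : G) ∈ C := by
        apply h
        intro y hy
        have h1 := (Subgroup.mem_normalizer_iff.1 hx ⟨y, hP hy⟩).1 (Subgroup.mem_subgroupOf.2 hy)
        exact Subgroup.mem_subgroupOf.1 h1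
      -- `C ⊓ P` is a `p`-subgroup of `C` which contains `S`
      have h2 : (S : Subgroup C) ≤ (P : Subgroup G).subgroupOf C := by
        intro y hy
        exact Subgroup.mem_subgroupOf.2 (hP ⟨y, hy, rfl⟩)
      have h3 : IsPGroup p ((P : Subgroup G).subgroupOf C) := P.2.comap_subtype
      have h4 := S.3 h3 h2
      have h5 : (⟨x, hxC⟩ : C) ∈ (P : Subgroup G).subgroupOf C := Subgroup.mem_subgroupOf.2 x.2
      rw [h4] at h5
      exact ⟨⟨x, hxC⟩, h5, rfl⟩
    intro x hx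
    have h1 : (⟨x, hx⟩ : (P : Subgroup G)) ∈ S'.subgroupOf (P : Subgroup G) := key ▸ Subgroup.mem_top _
    obtain ⟨y, -, h2⟩ := Subgroup.mem_subgroupOf.1 h1
    have h3 : (y : G) = x := h2
    rw [← h3]
    exact y.2
  intro hd
  exact P.not_dvd_index (hd.trans (Subgroup.index_dvd_of_le hfix))

end GamGlue

namespace LocalSL

variable {G : Type*} [Group G] [Finite G] {t : G} {F1 F2 : Type*} [Field F1] [Field F2] [Finite F1] [Finite F2]
variable {L : LocalSL t F1 F2}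

/-- if `O(C_G(A1)) = A1` then `C_G(A1) ≤ C(t)` -/
theorem Hyp.cent_comm_t (H : L.Hyp) (h : rc L.A1 ≤ L.A1) {c : G} (hc : c ∈ Subgroup.centralizer (L.A1 : Set G)) :
    c * t = t * c := by
  have h1 := h (comm_mem_rc L.t_sq H.t_ne_one t_mem_cent (fun c hA hct hcc hc1 => H.uniq_invol hA hct hcc hc1) hc)
  set a := t * c * t⁻¹ * c⁻¹ with ha
  have h2 : a * t = t * a := A1_t h1
  have h3 : t * c * t⁻¹ = a * c := by rw [ha]; group
  have h4 : a * a = 1 := by
    have h5 : t * (t * c * t⁻¹) * t⁻¹ = c := by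
      calc t * (t * c * t⁻¹) * t⁻¹ = (t * t) * c * (t * t)⁻¹ := by group
        _ = c := by rw [L.t_sq]; group
    rw [h3] at h5
    have h6 : t * (a * c) * t⁻¹ = a * a * c := by
      calc t * (a * c) * t⁻¹ = (t * a) * c * t⁻¹ := by group
        _ = a * (t * c * t⁻¹) := by rw [← h2]; group
        _ = a * (a * c) := congrArg (a * ·) h3
        _ = a * a * c := (mul_assoc _ _ _).symm
    rw [h6] at h5
    exact mul_eq_right.1 h5
  have h7 : a = 1 := odd_no_invol H.A1_odd h1 h4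
  rw [h7, one_mul] at h3
  calc c * t = t * c * t⁻¹ * t := by rw [h3]
    _ = t * c := by group

/-- if `C_G(A1) ≤ C(t)` then `C(t)` contains a Sylow `p`-subgroup of `G` -/
theorem Hyp.not_dvd_index (H : L.Hyp) (hC : ∀ c ∈ Subgroup.centralizer (L.A1 : Set G), c * t = t * c) {p : ℕ}
    (hp : p.Prime) (hpF : p ∣ Nat.card F1) : ¬ p ∣ (Subgroup.centralizer {t} : Subgroup G).index := by
  have : Fact p.Prime := ⟨hp⟩
  have hA : IsPGroup p L.A1 := by
    let _ : Fintype F1 := Fintype.ofFinite F1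
    obtain ⟨q, hq⟩ := CharP.exists F1
    obtain ⟨n, hqp, hn⟩ := FiniteField.card F1 q
    have h1 : Nat.card L.A1 = q ^ (n : ℕ) := by rw [card_A1, Nat.card_eq_fintype_card, hn]
    have h2 : p = q := by
      rw [Nat.card_eq_fintype_card, hn] at hpF
      exact (Nat.prime_dvd_prime_iff_eq hp hqp).1 (hp.dvd_of_dvd_pow hpF)
    rw [h2]
    exact IsPGroup.of_card h1
  have hle : L.A1 ≤ Subgroup.centralizer {t} := fun x hx => Subgroup.mem_centralizer_singleton_iff.2 (A1_t hx)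
  obtain ⟨S, hS⟩ := (hA.comap_subtype (K := Subgroup.centralizer {t})).exists_le_sylow
  apply GamGlue.not_dvd_index_of_normalizer S
  intro g hg
  -- `g t g⁻¹` centralises `A1`
  have hSA : ∀ a ∈ L.A1, a ∈ (S : Subgroup (Subgroup.centralizer {t} : Subgroup G)).map (Subgroup.centralizer {t}).subtype :=
    fun a ha => ⟨⟨a, hle ha⟩, hS (Subgroup.mem_subgroupOf.2 ha), rfl⟩
  have hSt : ∀ x ∈ (S : Subgroup (Subgroup.centralizer {t} : Subgroup G)).map (Subgroup.centralizer {t}).subtype,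
      x * t = t * x := by
    rintro _ ⟨x, -, rfl⟩
    exact Subgroup.mem_centralizer_singleton_iff.1 x.2
  -- conjugation by `g` is surjective on `S`
  have hg' : ∀ x ∈ (S : Subgroup (Subgroup.centralizer {t} : Subgroup G)).map (Subgroup.centralizer {t}).subtype,
      g⁻¹ * x * g ∈ (S : Subgroup (Subgroup.centralizer {t} : Subgroup G)).map (Subgroup.centralizer {t}).subtype := by
    set S' := (S : Subgroup (Subgroup.centralizer {t} : Subgroup G)).map (Subgroup.centralizer {t}).subtype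
    have hinj : Function.Injective (fun x : S' => (⟨g * x * g⁻¹, hg x x.2⟩ : S')) := by
      intro x y hxy
      have := congrArg Subtype.val hxy
      simp only at this
      exact Subtype.ext (mul_left_cancel (mul_right_cancel this))
    intro x hx
    obtain ⟨y, hy⟩ := (Finite.injective_iff_surjective.1 hinj) ⟨x, hx⟩
    have h1 : g * y * g⁻¹ = x := congrArg Subtype.val hy
    rw [← h1]
    have : g⁻¹ * (g * y * g⁻¹) * g = y := by group
    rw [this]
    exact y.2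
  have hcA : g * t * g⁻¹ ∈ Subgroup.centralizer (L.A1 : Set G) := by
    rw [Subgroup.mem_centralizer_iff]
    intro a ha
    have h1 := hSt _ (hg' a (hSA a ha))
    calc a * (g * t * g⁻¹) = g * ((g⁻¹ * a * g) * t) * g⁻¹ := by group
      _ = g * (t * (g⁻¹ * a * g)) * g⁻¹ := by rw [h1]
      _ = _ := by group
  have h1 : g * t * g⁻¹ = t := by
    apply H.uniq_invol hcA (hC _ hcA)
    · calc g * t * g⁻¹ * (g * t * g⁻¹) = g * (t * t) * g⁻¹ := by group
        _ = 1 := by rw [L.t_sq]; group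
    · intro h
      apply H.t_ne_one
      calc t = g⁻¹ * (g * t * g⁻¹) * g := by group
        _ = 1 := by rw [h]; group
  apply Subgroup.mem_centralizer_singleton_iff.2
  calc g * t = g * t * g⁻¹ * g := by group
    _ = t * g := by rw [h1]

variable {s : G} {D2 : M2 F2} {n1 : SL2 F1} {n2 : SL2 F2}

/-- `R = A1` if `C_R(s) = 1` -/
theorem Frame.rc_le_of_DD (F : L.Frame s (dg F1) D2 n1 n2) (h : L.DD s = ⊥) : rc L.A1 ≤ L.A1 := by
  intro x hx
  obtain ⟨a, ha, d, hd, d', hd', rfl⟩ := F.rc_prod hx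
  rw [F.DD_eq, h] at hd'
  rw [h] at hd
  rw [Subgroup.mem_bot] at hd
  obtain ⟨y, hy, rfl⟩ := hd'
  have hy1 : y = 1 := hy
  rw [hd, hy1, map_one, mul_one, mul_one]
  exact ha

/-- **the case `C_R(s) = 1`**: `p` does not divide the index of `C(t)` -/
theorem Frame.not_dvd_index (F : L.Frame s (dg F1) D2 n1 n2) (h : L.DD s = ⊥) {p : ℕ} (hp : p.Prime)
    (hpF : p ∣ Nat.card F1) : ¬ p ∣ (Subgroup.centralizer {t} : Subgroup G).index :=
  F.hyp.not_dvd_index (fun _ hc => F.hyp.cent_comm_t (F.rc_le_of_DD h) hc) hp hpF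

end LocalSL

end Cfsg.Agent.GTwoOdd
end
end
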