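import Mathlib
set_option linter.all false

/-!
# `2 × 2` matrices over a finite field of odd order

Conjugation of `SL(2,F)` by invertible matrices, written without inverses: `y * A = A * x` says
that `y = A x A⁻¹`.
-/

set_option autoImplicit false

namespace Cfsg.Agent.GTwoOdd

open Matrix

/-- `2 × 2` matrices -/
abbrev M2 (F : Type*) := Matrix (Fin 2) (Fin 2) F

/-- `SL(2,F)` -/
abbrev SL2 (F : Type*) [Field F] := Matrix.SpecialLinearGroup (Fin 2) F

variable {F : Type*} [Field F]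

theorem sl_coe_det (x : SL2 F) : (x : M2 F).det = 1 := x.2

theorem sl_inv_mul (x : SL2 F) : ((x⁻¹ : SL2 F) : M2 F) * (x : M2 F) = 1 := by
  rw [← Matrix.SpecialLinearGroup.coe_mul, inv_mul_cancel, Matrix.SpecialLinearGroup.coe_one]

theorem sl_mul_inv (x : SL2 F) : (x : M2 F) * ((x⁻¹ : SL2 F) : M2 F) = 1 := by
  rw [← Matrix.SpecialLinearGroup.coe_mul, mul_inv_cancel, Matrix.SpecialLinearGroup.coe_one]

theorem m2_ext {A B : M2 F} (h00 : A 0 0 = B 0 0) (h01 : A 0 1 = B 0 1) (h10 : A 1 0 = B 1 0)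
    (h11 : A 1 1 = B 1 1) : A = B := by
  ext i j
  fin_cases i <;> fin_cases j <;> assumption

theorem sl2_ext {x y : SL2 F} (h00 : (x : M2 F) 0 0 = (y : M2 F) 0 0)
    (h01 : (x : M2 F) 0 1 = (y : M2 F) 0 1) (h10 : (x : M2 F) 1 0 = (y : M2 F) 1 0)
    (h11 : (x : M2 F) 1 1 = (y : M2 F) 1 1) : x = y :=
  Subtype.ext (m2_ext h00 h01 h10 h11)

/-- Cayley–Hamilton -/
theorem m2_sq (A : M2 F) : A * A = A.trace • A - A.det • (1 : M2 F) := by
  apply m2_ext <;> simp [Matrix.mul_apply, Fin.sum_univ_two, Matrix.trace, Matrix.diag, Matrix.det_fin_two] <;> ring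

theorem m2_sq_of_trace {D : M2 F} (h : D.trace = 0) : D * D = (-D.det) • (1 : M2 F) := by
  rw [m2_sq, h]
  simp

theorem det_smul2 (a : F) (A : M2 F) : (a • A).det = a * a * A.det := by
  rw [Matrix.det_smul, Fintype.card_fin, pow_two]

theorem det_one2 : (1 : M2 F).det = 1 := Matrix.det_one

theorem cancel_right {A X Y : M2 F} (hA : A.det ≠ 0) (h : X * A = Y * A) : X = Y := by
  have h1 : X * (A * A.adjugate) = Y * (A * A.adjugate) := by
    rw [← mul_assoc, ← mul_assoc, h]
  rw [Matrix.mul_adjugate] at h1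
  have h2 : A.det • X = A.det • Y := by simpa using h1
  have h3 := congrArg (fun Z => (A.det)⁻¹ • Z) h2
  simpa [smul_smul, inv_mul_cancel₀ hA] using h3

theorem cancel_left {A X Y : M2 F} (hA : A.det ≠ 0) (h : A * X = A * Y) : X = Y := by
  have h1 : (A.adjugate * A) * X = (A.adjugate * A) * Y := by
    rw [mul_assoc, mul_assoc, h]
  rw [Matrix.adjugate_mul] at h1
  have h2 : A.det • X = A.det • Y := by simpa using h1
  have h3 := congrArg (fun Z => (A.det)⁻¹ • Z) h2
  simpa [smul_smul, inv_mul_cancel₀ hA] using h3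

/-- the conjugate `A x A⁻¹` -/
theorem exists_cj {A : M2 F} (hA : A.det ≠ 0) (x : SL2 F) : ∃ y : SL2 F, (y : M2 F) * A = A * x := by
  refine ⟨⟨(A.det)⁻¹ • (A * x * A.adjugate), ?_⟩, ?_⟩
  · rw [det_smul2, Matrix.det_mul, Matrix.det_mul, Matrix.det_adjugate, sl_coe_det]
    simp
    field_simp
  · change (A.det)⁻¹ • (A * x * A.adjugate) * A = A * x
    rw [Matrix.smul_mul, mul_assoc _ A.adjugate A, Matrix.adjugate_mul]
    simp [smul_smul, inv_mul_cancel₀ hA]

/-- the conjugate `A⁻¹ y A` -/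
theorem exists_cj' {A : M2 F} (hA : A.det ≠ 0) (y : SL2 F) : ∃ x : SL2 F, (y : M2 F) * A = A * x := by
  refine ⟨⟨(A.det)⁻¹ • (A.adjugate * y * A), ?_⟩, ?_⟩
  · rw [det_smul2, Matrix.det_mul, Matrix.det_mul, Matrix.det_adjugate, sl_coe_det]
    simp
    field_simp
  · change (y : M2 F) * A = A * ((A.det)⁻¹ • (A.adjugate * y * A))
    rw [Matrix.mul_smul, ← mul_assoc, ← mul_assoc, Matrix.mul_adjugate]
    simp [smul_smul, inv_mul_cancel₀ hA]

theorem sl_eq_of_mul {A : M2 F} (hA : A.det ≠ 0) {x y : SL2 F} (h : (x : M2 F) * A = y * A) : x = y :=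
  Subtype.ext (cancel_right hA h)

theorem sl_eq_of_mul' {A : M2 F} (hA : A.det ≠ 0) {x y : SL2 F} (h : A * (x : M2 F) = A * y) : x = y :=
  Subtype.ext (cancel_left hA h)

/-- upper unipotent -/
def up (a : F) : SL2 F := ⟨!![1, a; 0, 1], by simp [Matrix.det_fin_two]⟩

/-- lower unipotent -/
def lo (a : F) : SL2 F := ⟨!![1, 0; a, 1], by simp [Matrix.det_fin_two]⟩

theorem up_coe (a : F) : (up a : M2 F) = !![1, a; 0, 1] := rfl

theorem lo_coe (a : F) : (lo a : M2 F) = !![1, 0; a, 1] := rfl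

theorem up_mul (a b : F) : up a * up b = up (a + b) := by
  apply Subtype.ext
  change (up a : M2 F) * (up b : M2 F) = up (a + b)
  rw [up_coe, up_coe, up_coe]
  apply m2_ext <;> simp [Matrix.mul_apply, Fin.sum_univ_two, add_comm]

theorem lo_mul (a b : F) : lo a * lo b = lo (a + b) := by
  apply Subtype.ext
  change (lo a : M2 F) * (lo b : M2 F) = lo (a + b)
  rw [lo_coe, lo_coe, lo_coe]
  apply m2_ext <;> simp [Matrix.mul_apply, Fin.sum_univ_two, add_comm]

theorem up_zero : up (0 : F) = 1 := by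
  apply sl2_ext <;> simp [up]

theorem lo_zero : lo (0 : F) = 1 := by
  apply sl2_ext <;> simp [lo]

theorem up_inj {a b : F} (h : up a = up b) : a = b := by
  have := congrArg (fun x : SL2 F => (x : M2 F) 0 1) h
  simpa [up] using this

/-- a matrix which commutes with `SL(2,F)` is scalar -/
theorem scalar_of_comm {A : M2 F} (h : ∀ x : SL2 F, A * (x : M2 F) = x * A) : ∃ a : F, A = a • (1 : M2 F) := by
  have h1 := h (up 1)
  have h2 := h (lo 1)
  rw [up_coe] at h1
  rw [lo_coe] at h2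
  have a1 := congrFun (congrFun h1 0) 0
  have a2 := congrFun (congrFun h1 0) 1
  have a3 := congrFun (congrFun h2 0) 0
  simp [Matrix.mul_apply, Fin.sum_univ_two] at a1 a2 a3
  refine ⟨A 0 0, m2_ext (by simp) (by simp [a3]) (by simp [a1]) ?_⟩
  simp
  linear_combination -a2

/-- a matrix which commutes with the upper unipotents -/
theorem comm_up {A : M2 F} (h : A * ((up 1 : SL2 F) : M2 F) = ((up 1 : SL2 F) : M2 F) * A) : A 1 0 = 0 ∧ A 1 1 = A 0 0 := by
  rw [up_coe] at h
  have a1 := congrFun (congrFun h 0) 0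
  have a2 := congrFun (congrFun h 0) 1
  simp [Matrix.mul_apply, Fin.sum_univ_two] at a1 a2
  exact ⟨a1, by linear_combination -a2⟩

/-- two matrices inducing the same automorphism of `SL(2,F)` are proportional -/
theorem proportional_of_cj {A B : M2 F} (hA : A.det ≠ 0)
    (h : ∀ x y : SL2 F, (y : M2 F) * A = A * x → (y : M2 F) * B = B * x) : ∃ a : F, B = a • A := by
  have key : ∀ x : SL2 F, (A.adjugate * B) * (x : M2 F) = x * (A.adjugate * B) := by
    intro x
    obtain ⟨y, hy⟩ := exists_cj hA x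
    have hB := h x y hy
    have e1 : A.adjugate * ((y : M2 F) * A) * A.adjugate = A.adjugate * (A * x) * A.adjugate := by rw [hy]
    have e2 : A.det • (A.adjugate * (y : M2 F)) = A.det • ((x : M2 F) * A.adjugate) := by
      have l1 : A.adjugate * ((y : M2 F) * A) * A.adjugate = A.det • (A.adjugate * (y : M2 F)) := by
        rw [mul_assoc, mul_assoc, Matrix.mul_adjugate]
        simp
      have l2 : A.adjugate * (A * x) * A.adjugate = A.det • ((x : M2 F) * A.adjugate) := by
        rw [← mul_assoc, Matrix.adjugate_mul]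
        simp
      rw [← l1, ← l2, e1]
    have e3 : A.adjugate * (y : M2 F) = (x : M2 F) * A.adjugate := by
      have h3 := congrArg (fun Z => (A.det)⁻¹ • Z) e2
      simpa [smul_smul, inv_mul_cancel₀ hA] using h3
    rw [mul_assoc, ← hB, ← mul_assoc, e3, mul_assoc]
  obtain ⟨a, ha⟩ := scalar_of_comm key
  refine ⟨(A.det)⁻¹ * a, ?_⟩
  have h4 : A * (A.adjugate * B) = A * (a • (1 : M2 F)) := by rw [ha]
  rw [← mul_assoc, Matrix.mul_adjugate] at h4
  have h5 : A.det • B = a • A := by simpa using h4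
  have h3 := congrArg (fun Z => (A.det)⁻¹ • Z) h5
  simpa [smul_smul, inv_mul_cancel₀ hA] using h3

/-- the matrix `A² / det A` of `SL(2,F)` -/
theorem exists_sq {A : M2 F} (hA : A.det ≠ 0) : ∃ x : SL2 F, A.det • (x : M2 F) = A * A := by
  refine ⟨⟨(A.det)⁻¹ • (A * A), ?_⟩, ?_⟩
  · rw [det_smul2, Matrix.det_mul]
    field_simp
  · change A.det • ((A.det)⁻¹ • (A * A)) = A * A
    rw [smul_smul, mul_inv_cancel₀ hA, one_smul]

/-- `A = a x` with `x` in `SL(2,F)` if `det A = a²` -/
theorem exists_sl_of_sq {A : M2 F} {a : F} (ha : a ≠ 0) (h : A.det = a * a) : ∃ x : SL2 F, A = a • (x : M2 F) := by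
  refine ⟨⟨a⁻¹ • A, ?_⟩, ?_⟩
  · rw [det_smul2, h]
    field_simp
  · change A = a • (a⁻¹ • A)
    rw [smul_smul, mul_inv_cancel₀ ha, one_smul]

theorem smul_cancel {a : F} (ha : a ≠ 0) {A B : M2 F} (h : a • A = a • B) : A = B := by
  have h3 := congrArg (fun Z => a⁻¹ • Z) h
  simpa [smul_smul, inv_mul_cancel₀ ha] using h3

section odd

variable [Finite F] (h2 : (2 : F) ≠ 0)
include h2

/-- the norm form is universal -/
theorem norm_universal {δ : F} (hδ : δ ≠ 0) (c : F) : ∃ a b : F, a * a + δ * (b * b) = c := by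
  classical
  have := Fintype.ofFinite F
  have hodd : Fintype.card F % 2 = 1 := by
    apply FiniteField.odd_card_of_char_ne_two
    intro h
    apply h2
    have := ringChar.Nat.cast_ringChar (R := F)
    rw [h] at this
    exact_mod_cast this
  obtain ⟨a, b, hab⟩ := FiniteField.exists_root_sum_quadratic (R := F)
    (f := Polynomial.X ^ 2 - Polynomial.C c) (g := Polynomial.C δ * Polynomial.X ^ 2)
    (Polynomial.degree_X_pow_sub_C (by norm_num) c)
    (by rw [Polynomial.degree_C_mul_X_pow 2 hδ]; rfl) hodd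
  refine ⟨a, b, ?_⟩
  simp at hab
  linear_combination hab

end odd

end Cfsg.Agent.GTwoOdd
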